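/-
helper93: basic tools for the geometric subgroups of GL(ι, F) of `Cfsg.Geo`
(general transvections as elements of GL, their determinant, action on vectors,
membership in subspace stabilisers, existence of separating linear functionals as coordinate vectors).
-/
import Mathlib
import Cfsg.Prelude.Def_GeometricClasses

set_option autoImplicit false
set_option linter.unusedSectionVars false

namespace Cfsg.Agent.Lib.Helper93

open Matrix Cfsg.Geo

variable {ι : Type} [Fintype ι] [DecidableEq ι] {F : Type*} [Field F]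

/-- the matrix of the map `x ↦ x + (φ ⬝ᵥ x) • v` -/
def tvMat (v φ : ι → F) : Matrix ι ι F := 1 + Matrix.vecMulVec v φ

theorem tvMat_mulVec (v φ x : ι → F) : tvMat v φ *ᵥ x = x + (φ ⬝ᵥ x) • v := by
  unfold tvMat
  rw [Matrix.add_mulVec, Matrix.one_mulVec, Matrix.vecMulVec_mulVec]
  congr 1
  funext i
  simp [mul_comm]

theorem tvMat_mul_tvMat (v φ ψ : ι → F) (h : φ ⬝ᵥ v = 0) :
    tvMat v φ * tvMat v ψ = tvMat v (φ + ψ) := by
  unfold tvMat
  rw [Matrix.add_mul, Matrix.mul_add, Matrix.mul_add, Matrix.one_mul, Matrix.mul_one, Matrix.one_mul,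
    Matrix.vecMulVec_mul_vecMulVec, h, zero_smul]
  ext i j
  simp only [Matrix.add_apply, Matrix.vecMulVec_apply, Pi.add_apply, Pi.zero_apply, mul_zero, add_zero]
  ring

theorem tvMat_zero (v : ι → F) : tvMat v (0 : ι → F) = 1 := by
  unfold tvMat
  ext i j
  simp

theorem det_tvMat (v φ : ι → F) : (tvMat v φ).det = 1 + φ ⬝ᵥ v := by
  unfold tvMat
  rw [Matrix.vecMulVec_eq Unit, Matrix.det_one_add_replicateCol_mul_replicateRow]

/-- the general transvection `x ↦ x + (φ ⬝ᵥ x) • v` (with `φ ⬝ᵥ v = 0`) as an element of `GL ι F` -/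
def tv (v φ : ι → F) (h : φ ⬝ᵥ v = 0) : GL ι F where
  val := tvMat v φ
  inv := tvMat v (-φ)
  val_inv := by
    rw [tvMat_mul_tvMat v φ (-φ) h, add_neg_cancel, tvMat_zero]
  inv_val := by
    rw [tvMat_mul_tvMat v (-φ) φ (by rw [neg_dotProduct, h, neg_zero]), neg_add_cancel, tvMat_zero]

theorem tv_val (v φ : ι → F) (h : φ ⬝ᵥ v = 0) : ((tv v φ h : GL ι F) : Matrix ι ι F) = tvMat v φ := rfl

theorem tv_mulVec (v φ : ι → F) (h : φ ⬝ᵥ v = 0) (x : ι → F) :
    ((tv v φ h : GL ι F) : Matrix ι ι F) *ᵥ x = x + (φ ⬝ᵥ x) • v := tvMat_mulVec v φ x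

theorem tv_inv (v φ : ι → F) (h : φ ⬝ᵥ v = 0) :
    (tv v φ h)⁻¹ = tv v (-φ) (by rw [neg_dotProduct, h, neg_zero]) := by
  apply Units.ext
  rfl

theorem mem_specialLinear_iff (g : GL ι F) : g ∈ specialLinear ι F ↔ (g : Matrix ι ι F).det = 1 := by
  unfold specialLinear
  rw [MonoidHom.mem_ker, Units.ext_iff]
  rfl

theorem tv_mem_specialLinear (v φ : ι → F) (h : φ ⬝ᵥ v = 0) : tv v φ h ∈ specialLinear ι F := by
  rw [mem_specialLinear_iff, tv_val, det_tvMat, h, add_zero]

theorem mem_subspaceStabilizer_iff (W : Submodule F (ι → F)) (g : GL ι F) :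
    g ∈ subspaceStabilizer W ↔ ∀ x, x ∈ W ↔ (g : Matrix ι ι F) *ᵥ x ∈ W := Iff.rfl

/-- a criterion: if `g` and `g⁻¹` both map `W` into itself then `g` stabilises `W` -/
theorem mem_subspaceStabilizer_of_maps (W : Submodule F (ι → F)) (g : GL ι F)
    (h1 : ∀ x ∈ W, (g : Matrix ι ι F) *ᵥ x ∈ W) (h2 : ∀ x ∈ W, ((g⁻¹ : GL ι F) : Matrix ι ι F) *ᵥ x ∈ W) :
    g ∈ subspaceStabilizer W := by
  rw [mem_subspaceStabilizer_iff]
  intro x
  refine ⟨h1 x, fun hx => ?_⟩
  have := h2 _ hx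
  rwa [Matrix.mulVec_mulVec, ← Units.val_mul, inv_mul_cancel, Units.val_one, Matrix.one_mulVec] at this

theorem tv_mem_subspaceStabilizer_of_mem (W : Submodule F (ι → F)) (v φ : ι → F) (h : φ ⬝ᵥ v = 0)
    (hv : v ∈ W) : tv v φ h ∈ subspaceStabilizer W := by
  apply mem_subspaceStabilizer_of_maps
  · intro x hx
    rw [tv_mulVec]
    exact W.add_mem hx (W.smul_mem _ hv)
  · intro x hx
    rw [tv_inv, tv_mulVec]
    exact W.add_mem hx (W.smul_mem _ hv)

theorem tv_mem_subspaceStabilizer_of_vanish (W : Submodule F (ι → F)) (v φ : ι → F) (h : φ ⬝ᵥ v = 0)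
    (hφ : ∀ w ∈ W, φ ⬝ᵥ w = 0) : tv v φ h ∈ subspaceStabilizer W := by
  apply mem_subspaceStabilizer_of_maps
  · intro x hx
    rw [tv_mulVec, hφ x hx, zero_smul, add_zero]
    exact hx
  · intro x hx
    rw [tv_inv, tv_mulVec, neg_dotProduct, hφ x hx, neg_zero, zero_smul, add_zero]
    exact hx

theorem not_mem_subspaceStabilizer (W : Submodule F (ι → F)) (g : GL ι F) (x : ι → F) (hx : x ∈ W)
    (hgx : (g : Matrix ι ι F) *ᵥ x ∉ W) : g ∉ subspaceStabilizer W := by
  intro hg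
  exact hgx (((mem_subspaceStabilizer_iff W g).1 hg x).1 hx)

/-- every linear functional on `ι → F` is a dot product -/
theorem exists_vec_of_dual (f : Module.Dual F (ι → F)) : ∃ φ : ι → F, ∀ x, φ ⬝ᵥ x = f x := by
  refine ⟨fun j => f (Pi.single j 1), fun x => ?_⟩
  rw [LinearMap.pi_apply_eq_sum_univ f x]
  unfold dotProduct
  apply Finset.sum_congr rfl
  intro j _
  rw [smul_eq_mul, mul_comm]
  congr 1
  show f (Pi.single j 1) = _
  congr 1
  funext k
  simp [Pi.single_apply, eq_comm]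

/-- a separating functional: vanishing on a subspace `X`, equal to `1` at a vector outside `X` -/
theorem exists_functional (X : Submodule F (ι → F)) (u : ι → F) (hu : u ∉ X) :
    ∃ φ : ι → F, (∀ x ∈ X, φ ⬝ᵥ x = 0) ∧ φ ⬝ᵥ u = 1 := by
  obtain ⟨f, hfu, hfX⟩ := Submodule.exists_dual_map_eq_bot_of_notMem hu inferInstance
  obtain ⟨φ, hφ⟩ := exists_vec_of_dual f
  refine ⟨(f u)⁻¹ • φ, fun x hx => ?_, ?_⟩
  · rw [smul_dotProduct, hφ]
    have : f x ∈ X.map f := Submodule.mem_map_of_mem hx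
    rw [hfX, Submodule.mem_bot] at this
    rw [this, smul_zero]
  · rw [smul_dotProduct, hφ, smul_eq_mul, inv_mul_cancel₀ hfu]

/-- a proper nonzero subspace is moved by some element of the special linear group -/
theorem exists_specialLinear_not_stab (W : Submodule F (ι → F)) (hW0 : W ≠ ⊥) (hW1 : W ≠ ⊤) :
    ∃ g ∈ specialLinear ι F, g ∉ subspaceStabilizer W := by
  obtain ⟨w, hwW, hw0⟩ := (Submodule.ne_bot_iff W).1 hW0
  obtain ⟨v, hv⟩ : ∃ v : ι → F, v ∉ W := by
    by_contra hcon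
    push Not at hcon
    exact hW1 (Submodule.eq_top_iff'.2 hcon)
  -- a functional vanishing at v with value 1 at w
  have hwv : w ∉ Submodule.span F {v} := by
    intro hmem
    rw [Submodule.mem_span_singleton] at hmem
    obtain ⟨c, hc⟩ := hmem
    have hc0 : c ≠ 0 := by
      rintro rfl
      rw [zero_smul] at hc
      exact hw0 hc.symm
    apply hv
    have : v = c⁻¹ • w := by rw [← hc, smul_smul, inv_mul_cancel₀ hc0, one_smul]
    rw [this]
    exact W.smul_mem _ hwW
  obtain ⟨φ, hφ0, hφ1⟩ := exists_functional (Submodule.span F {v}) w hwv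
  have hφv : φ ⬝ᵥ v = 0 := hφ0 v (Submodule.mem_span_singleton_self v)
  refine ⟨tv v φ hφv, tv_mem_specialLinear v φ hφv, ?_⟩
  apply not_mem_subspaceStabilizer W _ w hwW
  rw [tv_mulVec, hφ1, one_smul]
  intro hmem
  apply hv
  have := W.sub_mem hmem hwW
  rwa [add_sub_cancel_left] at this

/-- an element of the special linear group stabilising `W` but not `U` -/
theorem exists_stab_not_stab (W U : Submodule F (ι → F)) (v u : ι → F) (hvU : v ∉ U) (huU : u ∈ U)
    (hu : u ∉ W ⊔ Submodule.span F {v}) :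
    ∃ g ∈ specialLinear ι F, g ∈ subspaceStabilizer W ∧ g ∉ subspaceStabilizer U := by
  obtain ⟨φ, hφ0, hφ1⟩ := exists_functional (W ⊔ Submodule.span F {v}) u hu
  have hφv : φ ⬝ᵥ v = 0 :=
    hφ0 v (Submodule.mem_sup_right (Submodule.mem_span_singleton_self v))
  have hφW : ∀ w ∈ W, φ ⬝ᵥ w = 0 := fun w hw => hφ0 w (Submodule.mem_sup_left hw)
  refine ⟨tv v φ hφv, tv_mem_specialLinear v φ hφv, tv_mem_subspaceStabilizer_of_vanish W v φ hφv hφW, ?_⟩
  apply not_mem_subspaceStabilizer U _ u huU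
  rw [tv_mulVec, hφ1, one_smul]
  intro hmem
  apply hvU
  have := U.sub_mem hmem huU
  rwa [add_sub_cancel_left] at this

end Cfsg.Agent.Lib.Helper93
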