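/-
helper93: the special linear group (as the subgroup `Cfsg.Geo.specialLinear ι F` of `GL ι F`) is contained in every
subgroup containing all general transvections `tv v φ h`; conjugation formula for general transvections.
-/
import Mathlib
import Cfsg.Agent.Lib.Helper93.LinearBasics

set_option autoImplicit false
set_option linter.unusedSectionVars false

namespace Cfsg.Agent.Lib.Helper93

open Matrix Cfsg.Geo

variable {ι : Type} [Fintype ι] [DecidableEq ι] {F : Type*} [Field F]

/-- elementary transvection `x ↦ x + (x j * b) e_i` as a general transvection -/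
def elemTv (i j : ι) (hij : i ≠ j) (b : F) : GL ι F :=
  tv (Pi.single i b) (Pi.single j 1) (by rw [single_dotProduct, Pi.single_apply, if_neg hij.symm, mul_zero])

theorem elemTv_mulVec_apply (i j : ι) (hij : i ≠ j) (b : F) (x : ι → F) (k : ι) :
    (((elemTv i j hij b : GL ι F) : Matrix ι ι F) *ᵥ x) k = x k + (if k = i then x j * b else 0) := by
  unfold elemTv
  rw [tv_mulVec, single_dotProduct, one_mul]
  simp only [Pi.add_apply, Pi.smul_apply, Pi.single_apply, smul_eq_mul]
  split_ifs <;> simp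

theorem toGL_transvection (i j : ι) (hij : i ≠ j) (b : F) :
    Matrix.SpecialLinearGroup.toGL (Matrix.SpecialLinearGroup.transvection hij b) = elemTv i j hij b := by
  apply Units.ext
  rw [Matrix.ext_iff_mulVec]
  intro x
  funext k
  rw [elemTv_mulVec_apply]
  show ((Matrix.SpecialLinearGroup.transvection hij b : Matrix ι ι F) *ᵥ x) k = _
  rw [Matrix.SpecialLinearGroup.transvection_coe, Matrix.add_mulVec, Matrix.one_mulVec]
  simp only [Pi.add_apply]
  congr 1
  simp only [Matrix.mulVec, dotProduct, Matrix.single_apply]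
  by_cases hk : k = i
  · subst hk
    simp [mul_comm]
  · simp [hk, Ne.symm hk]

theorem toGL_diag2n (i j : ι) (hij : i ≠ j) (c : F) (hc : c ≠ 0) :
    Matrix.SpecialLinearGroup.toGL (Matrix.SpecialLinearGroup.diag2n hij c hc) =
      elemTv i j hij c * elemTv j i hij.symm (-c⁻¹) * elemTv i j hij c *
        (elemTv i j hij (-1) * elemTv j i hij.symm 1 * elemTv i j hij (-1)) := by
  apply Units.ext
  rw [Matrix.ext_iff_mulVec]
  intro x
  funext k
  simp only [Units.val_mul, ← Matrix.mulVec_mulVec, elemTv_mulVec_apply]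
  show ((Matrix.SpecialLinearGroup.diag2n hij c hc : Matrix ι ι F) *ᵥ x) k = _
  rw [Matrix.SpecialLinearGroup.diag2n_coe, Matrix.mulVec_diagonal]
  by_cases hki : k = i
  · subst hki
    simp only [if_true, if_neg hij, if_neg hij.symm, if_pos rfl]
    field_simp
    ring
  · by_cases hkj : k = j
    · subst hkj
      simp only [if_neg hki, if_pos rfl, if_neg hij, if_neg hij.symm, if_true]
      field_simp
      ring
    · simp only [if_neg hki, if_neg hkj, if_neg hij, if_neg hij.symm, if_pos rfl]
      ring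

/-- A subgroup of `GL ι F` containing all general transvections contains the special linear group. -/
theorem specialLinear_le_of_tv_mem [Nontrivial ι] (M : Subgroup (GL ι F))
    (hM : ∀ (v φ : ι → F) (h : φ ⬝ᵥ v = 0), tv v φ h ∈ M) : specialLinear ι F ≤ M := by
  intro g hg
  rw [mem_specialLinear_iff] at hg
  have hgs : g = Matrix.SpecialLinearGroup.toGL (⟨(g : Matrix ι ι F), hg⟩ : Matrix.SpecialLinearGroup ι F) :=
    Units.ext rfl
  rw [hgs]
  have helem : ∀ (i j : ι) (hij : i ≠ j) (b : F), elemTv i j hij b ∈ M := fun i j hij b => hM _ _ _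
  refine Matrix.SpecialLinearGroup.diagonal_transvection_induction'
    (fun A => Matrix.SpecialLinearGroup.toGL A ∈ M) _ ?_ ?_ ?_
  · intro i j hij c hc
    show Matrix.SpecialLinearGroup.toGL (Matrix.SpecialLinearGroup.diag2n hij c hc) ∈ M
    rw [toGL_diag2n]
    exact M.mul_mem (M.mul_mem (M.mul_mem (helem _ _ _ _) (helem _ _ _ _)) (helem _ _ _ _))
      (M.mul_mem (M.mul_mem (helem _ _ _ _) (helem _ _ _ _)) (helem _ _ _ _))
  · intro i j hij a
    show Matrix.SpecialLinearGroup.toGL (Matrix.SpecialLinearGroup.transvection hij a) ∈ M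
    rw [toGL_transvection]
    exact helem _ _ _ _
  · intro A B hA hB
    show Matrix.SpecialLinearGroup.toGL (A * B) ∈ M
    rw [map_mul]
    exact M.mul_mem hA hB

/-- conjugation formula for general transvections -/
theorem conj_tv (g : GL ι F) (v φ : ι → F) (h : φ ⬝ᵥ v = 0)
    (h' : (φ ᵥ* ((g⁻¹ : GL ι F) : Matrix ι ι F)) ⬝ᵥ ((g : Matrix ι ι F) *ᵥ v) = 0) :
    g * tv v φ h * g⁻¹ = tv ((g : Matrix ι ι F) *ᵥ v) (φ ᵥ* ((g⁻¹ : GL ι F) : Matrix ι ι F)) h' := by
  apply Units.ext
  simp only [Units.val_mul, tv_val]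
  unfold tvMat
  rw [Matrix.mul_add, Matrix.add_mul, Matrix.mul_one, ← Units.val_mul, mul_inv_cancel, Units.val_one,
    Matrix.mul_vecMulVec, Matrix.vecMulVec_mul]

theorem conj_tv_dot (g : GL ι F) (v φ : ι → F) (h : φ ⬝ᵥ v = 0) :
    (φ ᵥ* ((g⁻¹ : GL ι F) : Matrix ι ι F)) ⬝ᵥ ((g : Matrix ι ι F) *ᵥ v) = 0 := by
  rw [← Matrix.dotProduct_mulVec, Matrix.mulVec_mulVec, ← Units.val_mul, inv_mul_cancel, Units.val_one,
    Matrix.one_mulVec, h]

/-- two general transvections with proportional data coincide -/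
theorem tv_smul_smul (v φ : ι → F) (c : F) (hc : c ≠ 0) (h : φ ⬝ᵥ v = 0)
    (h' : (c • φ) ⬝ᵥ (c⁻¹ • v) = 0) : tv (c⁻¹ • v) (c • φ) h' = tv v φ h := by
  apply Units.ext
  simp only [tv_val]
  unfold tvMat
  congr 1
  ext a b
  simp only [Matrix.vecMulVec_apply, Pi.smul_apply, smul_eq_mul]
  field_simp

end Cfsg.Agent.Lib.Helper93
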