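/-
helper93: S1936 modules SIGF-[NC] and SIGF-[RK] (sheet of helper22, B1/B2), exact skeleton statements.
-/
import Mathlib
import Cfsg.Agent.Lib.Helper22.S1936Defs
import Cfsg.Agent.Lib.Helper93.S1936.SigB2

set_option autoImplicit false

universe u

namespace Cfsg.Agent.Lib.Helper93.S1936

open Subgroup
open Cfsg.Agent.Lib.Helper22.S1936

variable {G : Type u} [Group G] [Finite G] {p : ℕ} [Fact p.Prime]

theorem minCE_p_ne_two (hG : MinCE p G) : p ≠ 2 := by
  have := hG.hp5; omega

theorem minCE_two_dvd (hG : MinCE p G) : 2 ∣ Nat.card G := even_iff_two_dvd.mp hG.even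

/-- `2`-subgroups of a `MinCE` are commutative. -/
theorem minCE_two_group_comm (hG : MinCE p G) {T : Subgroup G} (hT : IsPGroup 2 T) :
    ∀ s ∈ T, ∀ t ∈ T, s * t = t * s := fun _ hs _ ht =>
  hp_commute hG.hp (coprime_card_of_isPGroup_two (minCE_p_ne_two hG) hT) hs ht

theorem minCE_not_normalizer_le (hG : MinCE p G) (T : Sylow 2 G) :
    ¬ normalizer ((T : Subgroup G) : Set G) ≤ centralizer ((T : Subgroup G) : Set G) := by
  haveI := hG.simple
  exact not_normalizer_le_centralizer hG.nonsolv (minCE_two_dvd hG) T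

/-- SIGF-[NC] (B1): `N(T)/C(T)` is a nontrivial `p`-group. -/
theorem normalizer_centralizer_index (hG : MinCE p G) (T : Sylow 2 G) :
    ∃ n : ℕ, 0 < n ∧
      (Subgroup.centralizer ((T : Subgroup G) : Set G)).relIndex
        (Subgroup.normalizer ((T : Subgroup G) : Set G)) = p ^ n := by
  have hp2 := minCE_p_ne_two hG
  set N := normalizer ((T : Subgroup G) : Set G) with hN
  set C := centralizer ((T : Subgroup G) : Set G) with hC
  have hPG : IsPGroup p (N ⧸ C.subgroupOf N) := by
    intro q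
    obtain ⟨⟨y, hy⟩, rfl⟩ := QuotientGroup.mk_surjective q
    obtain ⟨a, ha⟩ := exists_pow_mem_centralizer hp2 hG.hp T.2 hy
    refine ⟨a, ?_⟩
    rw [← QuotientGroup.mk_pow, QuotientGroup.eq_one_iff]
    exact ha
  obtain ⟨n, hn⟩ := IsPGroup.iff_card.mp hPG
  have hrel : C.relIndex N = p ^ n := by
    rw [Subgroup.relIndex, Subgroup.index_eq_card]; exact hn
  refine ⟨n, ?_, hrel⟩
  rcases Nat.eq_zero_or_pos n with h0 | h0
  · exfalso
    rw [h0, pow_zero, Subgroup.relIndex_eq_one] at hrel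
    exact minCE_not_normalizer_le hG T hrel
  · exact h0

/-- SIGF-[RK] (B2): `Ω₁(T)` has order at least `8`. -/
theorem card_omega1_ge (hG : MinCE p G) (T : Sylow 2 G) : 8 ≤ Nat.card ↥(omega1 (T : Subgroup G)) := by
  have hp2 := minCE_p_ne_two hG
  have hTc := minCE_two_group_comm hG T.2
  obtain ⟨x, hxN, hxC, a, hxo⟩ := exists_pElement_not_centralizing hp2 hG.hp T.2
    (minCE_not_normalizer_le hG T)
  exact eight_le_card_omega hG.hp5 T.2 hTc hxN hxC hxo (omega1 (T : Subgroup G))
    (fun t => mem_omega1 (T : Subgroup G) hTc)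

end Cfsg.Agent.Lib.Helper93.S1936
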