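/-
helper93: S1936 module SIGF-[BAL] (sheet of helper22, B4) and SIGF-[FUN], exact skeleton statements.
Uses LOC of helper39 (A4_rel + Hall existence) and EQV/PG of helper25.
-/
import Mathlib
import Cfsg.Agent.Lib.Helper22.S1936Defs
import Cfsg.Agent.Lib.Helper39.S1936Loc
import Cfsg.Agent.Lib.Helper25.S1936Theta
import Cfsg.Agent.Lib.Helper93.S1936SigF

set_option autoImplicit false

universe u

namespace Cfsg.Agent.Lib.Helper93.S1936

open Subgroup
open Cfsg.Agent.Lib.Helper22.S1936

variable {G : Type u} [Group G] [Finite G] {p : ℕ} [Fact p.Prime]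

/-- the centre of a `MinCE` is trivial: the centralizer of a nonidentity element is proper. -/
theorem minCE_centralizer_ne_top (hG : MinCE p G) {b : G} (hb : b ≠ 1) :
    centralizer ({b} : Set G) ≠ ⊤ := by
  intro htop
  haveI := hG.simple
  have hbZ : b ∈ center G := by
    rw [Subgroup.mem_center_iff]
    intro g
    have : g ∈ centralizer ({b} : Set G) := by rw [htop]; exact mem_top g
    exact (this b rfl).symm
  rcases (inferInstance : (center G).Normal).eq_bot_or_eq_top with h0 | h0
  · rw [h0, mem_bot] at hbZ; exact hb hbZ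
  · apply hG.nonsolv
    have hcomm : ∀ x y : G, x * y = y * x := by
      intro x y
      have hx : x ∈ center G := by rw [h0]; exact mem_top x
      exact ((Subgroup.mem_center_iff.mp hx) y).symm
    letI : CommGroup G := { (inferInstance : Group G) with mul_comm := hcomm }
    infer_instance

theorem minCE_hab (hG : MinCE p G) :
    ∀ L : Subgroup G, (Nat.card L).Coprime p → IsMulCommutative L := fun L hL => (hG.hp L hL).1

/-- SIGF-[BAL] (B4): balance for commuting involutions. -/
theorem theta_balance (hG : MinCE p G) {a b : G} (ha : orderOf a = 2) (hb : orderOf b = 2)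
    (hab : a * b = b * a) :
    theta p a ⊓ Subgroup.centralizer ({b} : Set G) ≤ theta p b := by
  have hp2 := minCE_p_ne_two hG
  have hb1 : b ≠ 1 := by
    rintro rfl; rw [orderOf_one] at hb; omega
  set Hs := centralizer ({b} : Set G) with hHs
  haveI : Group.IsSolvable Hs := hG.proper Hs (minCE_centralizer_ne_top hG hb1)
  have haH : a ∈ Hs := by
    rw [hHs, mem_centralizer_singleton_iff]; exact hab
  have hVH : zpowers a ≤ Hs := by rw [zpowers_le]; exact haH
  have hVc : (Nat.card (zpowers a)).Coprime p := by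
    rw [Nat.card_zpowers, ha, Nat.coprime_primes Nat.prime_two (Fact.out : p.Prime)]
    exact fun h => hp2 h.symm
  obtain ⟨K, hK, hVK⟩ := Cfsg.Agent.Lib.Helper39.S1936Loc.exists_isHallComplIn_ge p Hs
    (zpowers a) hVH hVc
  have haK : a ∈ K := hVK (mem_zpowers a)
  have hKa : K ≤ centralizer ({a} : Set G) := by
    intro k hk
    rw [mem_centralizer_singleton_iff]
    exact hp_commute hG.hp hK.2.1 hk haK
  have hXH : theta p a ⊓ Hs ≤ Hs := inf_le_right
  have hX : IsPGroup p ↥(theta p a ⊓ Hs : Subgroup G) :=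
    (Cfsg.Agent.Lib.Helper25.S1936.theta_isPGroup (p := p) a).to_le inf_le_left
  have hKX : K ≤ normalizer ((theta p a ⊓ Hs : Subgroup G) : Set G) := by
    intro k hk
    have h1 : k ∈ normalizer ((theta p a : Subgroup G) : Set G) :=
      Cfsg.Agent.Lib.Helper25.S1936.centralizer_le_normalizer_theta (p := p) a (hKa hk)
    have h2 : k ∈ normalizer ((Hs : Subgroup G) : Set G) := le_normalizer (hK.1 hk)
    rw [mem_normalizer_iff] at h1 h2 ⊢
    intro x
    rw [mem_inf, mem_inf, ← h1 x, ← h2 x]
  exact Cfsg.Agent.Lib.Helper39.S1936Loc.A4_rel p (minCE_hab hG) Hs hK hXH hX hKX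

theorem orderOf_eq_two_of_mem_omega1 (hG : MinCE p G) (T : Sylow 2 G) {a : G}
    (ha : a ∈ omega1 (T : Subgroup G)) (ha1 : a ≠ 1) : orderOf a = 2 := by
  have h2 := ((mem_omega1 (T : Subgroup G) (minCE_two_group_comm hG T.2)).mp ha).2
  exact orderOf_eq_prime h2 ha1

/-- SIGF-[FUN]: `θ` is a solvable `Ω₁(T)`-signalizer functor for the prime 2. -/
theorem theta_signalizer (hG : MinCE p G) (T : Sylow 2 G) :
    Cfsg.IsSolvableSignalizerFunctor 2 (omega1 (T : Subgroup G)) (theta p) := by
  have hp2 := minCE_p_ne_two hG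
  have hTc := minCE_two_group_comm hG T.2
  have hpodd : Odd p := (Fact.out : p.Prime).odd_of_ne_two hp2
  refine ⟨⟨?_, ?_, ?_, ?_⟩, ?_⟩
  · intro a _ _
    exact Cfsg.Agent.Lib.Helper25.S1936.theta_le_centralizer (p := p) a
  · intro a _ _ hdvd
    obtain ⟨k, hk⟩ := IsPGroup.iff_card.mp (Cfsg.Agent.Lib.Helper25.S1936.theta_isPGroup (p := p) a)
    rw [hk] at hdvd
    have : ¬ 2 ∣ p ^ k := (hpodd.pow).not_two_dvd_nat
    exact this hdvd
  · intro a ha _ b hb x hx
    have haT : a ∈ (T : Subgroup G) := omega1_le _ ha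
    have hbT : b ∈ (T : Subgroup G) := omega1_le _ hb
    have hbC : b ∈ centralizer ({a} : Set G) := by
      rw [mem_centralizer_singleton_iff]; exact hTc b hbT a haT
    have := Cfsg.Agent.Lib.Helper25.S1936.centralizer_le_normalizer_theta (p := p) a hbC
    exact (mem_normalizer_iff.mp this x).mp hx
  · intro a ha ha1 b hb hb1
    have haT : a ∈ (T : Subgroup G) := omega1_le _ ha
    have hbT : b ∈ (T : Subgroup G) := omega1_le _ hb
    exact theta_balance hG (orderOf_eq_two_of_mem_omega1 hG T ha ha1)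
      (orderOf_eq_two_of_mem_omega1 hG T hb hb1) (hTc a haT b hbT)
  · intro a _ _
    have := (Cfsg.Agent.Lib.Helper25.S1936.theta_isPGroup (p := p) a).isNilpotent
    infer_instance

end Cfsg.Agent.Lib.Helper93.S1936
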