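/-
helper93: S1936 module SIGM-[STAR] (sheet of helper22, B6 (★)) and ZJ-[CT] (E5), exact skeleton statements.
-/
import Mathlib
import Cfsg.Agent.Lib.Helper22.S1936Defs
import Cfsg.Agent.Lib.Helper39.S1936LocU
import Cfsg.Agent.Lib.Helper93.S1936Bal

set_option autoImplicit false

universe u

namespace Cfsg.Agent.Lib.Helper93.S1936

open Subgroup
open Cfsg.Agent.Lib.Helper22.S1936

variable {G : Type u} [Group G] [Finite G] {p : ℕ} [Fact p.Prime]

/-- SIGM-[STAR] (B6, (★)): `C(a) = θ(a) · (C(a) ∩ N(T))` for an involution `a ∈ T`. -/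
theorem centralizer_factor (hG : MinCE p G) (T : Sylow 2 G) {a : G} (haT : a ∈ (T : Subgroup G))
    (ha : orderOf a = 2) (c : G) (hc : c ∈ Subgroup.centralizer ({a} : Set G)) :
    ∃ r ∈ theta p a, ∃ n ∈ Subgroup.centralizer ({a} : Set G) ⊓
        Subgroup.normalizer ((T : Subgroup G) : Set G), c = r * n := by
  have hp2 := minCE_p_ne_two hG
  have hTc := minCE_two_group_comm hG T.2
  have ha1 : a ≠ 1 := by
    rintro rfl; rw [orderOf_one] at ha; omega
  have hs : Group.IsSolvable ↥(centralizer ({a} : Set G)) :=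
    hG.proper _ (minCE_centralizer_ne_top hG ha1)
  have hTH : (T : Subgroup G) ≤ centralizer ({a} : Set G) := by
    intro t ht
    rw [mem_centralizer_singleton_iff]
    exact hTc t ht a haT
  have hodd : Odd ((T : Subgroup G).relIndex (centralizer ({a} : Set G))) := by
    have h1 : ¬ 2 ∣ (T : Subgroup G).index := T.not_dvd_index
    have h2 : (T : Subgroup G).relIndex (centralizer ({a} : Set G)) ∣ (T : Subgroup G).index :=
      Subgroup.relIndex_dvd_index_of_le hTH
    rw [← Nat.not_even_iff_odd, even_iff_two_dvd]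
    exact fun h3 => h1 (h3.trans h2)
  exact Cfsg.Agent.Lib.Helper39.S1936.factor_pCoreOf_normalizer hG.hp hp2 _ hs (T : Subgroup G)
    hTH T.2 hodd c hc

/-- ZJ-[CT] (E5): `C(a) = C(T)` for `a ∈ T#`. -/
theorem centralizer_eq_centralizer_sylow (hG : MinCE p G) {T : Sylow 2 G} {M : Subgroup G}
    (hD : SEDatum T M)
    (hreg : ∀ a ∈ (T : Subgroup G), a ≠ 1 →
        Subgroup.centralizer ({a} : Set G) ⊓ Subgroup.normalizer ((T : Subgroup G) : Set G) =
          Subgroup.centralizer ((T : Subgroup G) : Set G))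
    (hcen : ∀ a ∈ (T : Subgroup G), a ≠ 1 →
        (T : Subgroup G) ≤ Subgroup.centralizer ((theta p a : Subgroup G) : Set G))
    {a : G} (haT : a ∈ (T : Subgroup G)) (ha1 : a ≠ 1) :
    Subgroup.centralizer ({a} : Set G) = Subgroup.centralizer ((T : Subgroup G) : Set G) := by
  have ha2 : orderOf a = 2 := orderOf_eq_prime (hD.elem a haT) ha1
  apply le_antisymm
  · intro c hc
    obtain ⟨r, hr, n, hn, rfl⟩ := centralizer_factor hG T haT ha2 c hc
    rw [hreg a haT ha1] at hn
    refine (centralizer ((T : Subgroup G) : Set G)).mul_mem ?_ hn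
    intro t ht
    exact ((hcen a haT ha1 ht) r hr).symm
  · intro c hc
    rw [mem_centralizer_singleton_iff]
    exact (hc a haT).symm

end Cfsg.Agent.Lib.Helper93.S1936
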