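/-
helper93: project S2281 (helper53), module S2281-[BASIS], hypothesis form: a family `w : ℤ → V` with the Gram
conditions `B(w_j, w_k) = 0` for `|j - k| < n`, `B(w_j, w_{j+n}) = 1` has `w_0, …, w_{2n-1}` a basis.
-/
import Mathlib
import Cfsg.Agent.Lib.Helper53.SpReg.Defs
import Cfsg.Agent.Lib.Helper53.SpReg.Act

set_option autoImplicit false

namespace Cfsg.Agent.Lib.Helper93.SpReg

open Matrix Cfsg.Agent.Lib.Helper53.SpReg Cfsg.Agent.Lib.Helper13

variable {n : ℕ} {F : Type*} [Field F]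

local notation "Vn" => Fin n ⊕ Fin n → F
local notation "Bf" => Cfsg.sympForm n F
local notation "Spn" => Matrix.symplecticGroup (Fin n) F

theorem form_sum_left' {ι : Type*} (s : Finset ι) (f : ι → Vn) (w : Vn) :
    Bf (∑ i ∈ s, f i) w = ∑ i ∈ s, Bf (f i) w := by
  classical
  induction s using Finset.induction_on with
  | empty => rw [Finset.sum_empty, Finset.sum_empty]; exact sympForm_zero_left w
  | insert a s ha ih => rw [Finset.sum_insert ha, Finset.sum_insert ha, sympForm_add_left, ih]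

theorem linInd_of_gram (w : ℤ → Vn)
    (hz : ∀ j k : ℤ, |j - k| < (n : ℤ) → Bf (w j) (w k) = 0)
    (ho : ∀ j : ℤ, Bf (w j) (w (j + n)) = 1) :
    LinearIndependent F (fun i : Fin (2 * n) => w ((i : ℕ) : ℤ)) := by
  rw [Fintype.linearIndependent_iff]
  intro μ hμ
  have key : ∀ m : ℕ, ∀ hm : m < 2 * n, μ ⟨m, hm⟩ = 0 := by
    intro m
    induction m using Nat.strong_induction_on with
    | _ m ih =>
      intro hm
      have h0 : Bf (∑ i : Fin (2 * n), μ i • w ((i : ℕ) : ℤ)) (w ((m : ℤ) + n)) = 0 := by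
        rw [hμ]
        exact sympForm_zero_left _
      rw [form_sum_left', Finset.sum_eq_single (⟨m, hm⟩ : Fin (2 * n))] at h0
      · rw [sympForm_smul_left, ho, mul_one] at h0
        exact h0
      · intro k _ hk
        rw [sympForm_smul_left]
        rcases lt_or_gt_of_ne (fun h => hk (Fin.ext h) : (k : ℕ) ≠ m) with hlt | hgt
        · rw [ih k hlt k.2, zero_mul]
        · rw [hz, mul_zero]
          have hk2 : (k : ℕ) < 2 * n := k.2
          rw [abs_lt]
          constructor <;> omega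
      · intro hnot
        exact absurd (Finset.mem_univ _) hnot
  intro i
  exact key i i.2

theorem span_of_gram (w : ℤ → Vn)
    (hz : ∀ j k : ℤ, |j - k| < (n : ℤ) → Bf (w j) (w k) = 0)
    (ho : ∀ j : ℤ, Bf (w j) (w (j + n)) = 1) (x : Vn) :
    ∃ p q : Fin n → F, x = ∑ i : Fin n, p i • w ((i : ℕ) : ℤ) +
      ∑ i : Fin n, q i • w ((n : ℤ) + ((i : ℕ) : ℤ)) := by
  have hli := linInd_of_gram w hz ho
  have hcard : Fintype.card (Fin (2 * n)) = Module.finrank F Vn := by
    rw [Module.finrank_fintype_fun_eq_card, Fintype.card_fin, Fintype.card_sum, Fintype.card_fin]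
    ring
  have hspan := hli.span_eq_top_of_card_eq_finrank' hcard
  have hx : x ∈ Submodule.span F (Set.range fun i : Fin (2 * n) => w ((i : ℕ) : ℤ)) := by
    rw [hspan]
    exact Submodule.mem_top
  obtain ⟨c, hc⟩ := (Submodule.mem_span_range_iff_exists_fun F).1 hx
  -- coefficients as a function on `ℕ`
  let c' : ℕ → F := fun k => if h : k < 2 * n then c ⟨k, h⟩ else 0
  have hc' : ∀ i : Fin (2 * n), c i = c' i := by
    intro i
    simp only [c', dif_pos i.2]
  refine ⟨fun i => c' i, fun i => c' (n + i), ?_⟩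
  rw [← hc]
  have h1 : ∑ i : Fin (2 * n), c i • w ((i : ℕ) : ℤ) =
      ∑ i : Fin (2 * n), (fun k : ℕ => c' k • w (k : ℤ)) i :=
    Finset.sum_congr rfl fun i _ => by rw [hc' i]
  rw [h1, Fin.sum_univ_eq_sum_range (fun k : ℕ => c' k • w (k : ℤ)) (2 * n), two_mul,
    Finset.sum_range_add, ← Fin.sum_univ_eq_sum_range (fun k : ℕ => c' k • w (k : ℤ)) n,
    ← Fin.sum_univ_eq_sum_range (fun k : ℕ => c' (n + k) • w ((n + k : ℕ) : ℤ)) n]
  simp only [Nat.cast_add]

end Cfsg.Agent.Lib.Helper93.SpReg
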