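/-
helper93: project S2281 (helper53), module S2281-[BASIS]: `a_0, …, a_{2n-1}` is a basis.
-/
import Mathlib
import Cfsg.Agent.Lib.Helper53.SpReg.Defs
import Cfsg.Agent.Lib.Helper53.SpReg.Act
import Cfsg.Agent.Lib.Helper11.SpRegGram
import Cfsg.Agent.Lib.Helper93.SpRegBasisOf

set_option autoImplicit false

namespace Cfsg.Agent.Lib.Helper93.SpReg

open Matrix Cfsg.Agent.Lib.Helper53.SpReg Cfsg.Agent.Lib.Helper13

variable {n : ℕ} {F : Type*} [Field F]

local notation "Vn" => Fin n ⊕ Fin n → F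
local notation "Bf" => Cfsg.sympForm n F
local notation "Spn" => Matrix.symplecticGroup (Fin n) F

theorem avec_linInd {u : Spn} {a : Vn} (hp : GoodPair u a) :
    LinearIndependent F (fun i : Fin (2 * n) => avec u a ((i : ℕ) : ℤ)) :=
  linInd_of_gram (avec u a) (fun j k h => Cfsg.Agent.Lib.Helper11.SpReg.gram_zero hp j k h)
    (fun j => Cfsg.Agent.Lib.Helper11.SpReg.gram_one hp j)

theorem avec_span {u : Spn} {a : Vn} (hp : GoodPair u a) (x : Vn) :
    ∃ p q : Fin n → F, x = ∑ i : Fin n, p i • avec u a ((i : ℕ) : ℤ) +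
      ∑ i : Fin n, q i • avec u a ((n : ℤ) + ((i : ℕ) : ℤ)) :=
  span_of_gram (avec u a) (fun j k h => Cfsg.Agent.Lib.Helper11.SpReg.gram_zero hp j k h)
    (fun j => Cfsg.Agent.Lib.Helper11.SpReg.gram_one hp j) x

end Cfsg.Agent.Lib.Helper93.SpReg
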