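import Mathlib
import Cfsg.Agent.Lib.Helper13.SU3GDefs
import Cfsg.Agent.Lib.Helper80.SU3GMem
import Cfsg.Agent.Lib.Helper80.SU3GMul
import Cfsg.Agent.Lib.Helper23.SU3GHilb

/-!
# S2283-[CONJ] (helper93, for helper13's SU3G project)

`conj_uS_lS`: `uS a b` and `lS c d` are conjugate in `GJ σ` when `a / c = lam² / σ lam`.
The conjugating element is `lS c₁ d₁ * w₀ * (h lam)⁻¹` with `w₀` the antidiagonal Weyl element and
`h lam = diag(lam, σ lam / lam, (σ lam)⁻¹)`.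
-/

set_option autoImplicit false

namespace Cfsg.Agent.Lib.Helper93.SU3G

open Matrix
open Cfsg.Agent.Lib.Helper13.SU3G
open Cfsg.Agent.Lib.Helper80.SU3G
open Cfsg.Agent.Lib.Helper23.SU3G

variable {F : Type*} [Field F]
local notation "SL3" => Matrix.SpecialLinearGroup (Fin 3) F

/-- the Weyl element -/
def w0M : Matrix (Fin 3) (Fin 3) F := !![0, 0, 1; 0, -1, 0; 1, 0, 0]

theorem det_w0M : (w0M : Matrix (Fin 3) (Fin 3) F).det = 1 := by
  simp [w0M, Matrix.det_fin_three]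

/-- the Weyl element in `SL₃` -/
def w0S : SL3 := ⟨w0M, det_w0M⟩

theorem coe_w0S : ((w0S : SL3) : Matrix (Fin 3) (Fin 3) F) = w0M := rfl

theorem w0S_mem (σ : F →+* F) : (w0S : SL3) ∈ GJ σ := by
  rw [mem_GJ_iff]
  intro x y
  simp only [coe_w0S, hJ, w0M, Matrix.mulVec, dotProduct, Fin.sum_univ_three]
  simp [map_neg]
  ring

theorem w0S_mul_uS (σ : F →+* F) (c d : F) : (w0S : SL3) * uS σ c d = lS σ c d * w0S := by
  apply Subtype.ext
  rw [Matrix.SpecialLinearGroup.coe_mul, Matrix.SpecialLinearGroup.coe_mul, coe_uS, coe_lS, coe_w0S]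
  ext i j
  fin_cases i <;> fin_cases j <;>
    simp [uM, lM, w0M, Matrix.mul_apply, Fin.sum_univ_three]

/-- the torus element `diag(lam, σ lam / lam, (σ lam)⁻¹)` -/
def hM (σ : F →+* F) (lam : F) : Matrix (Fin 3) (Fin 3) F :=
  !![lam, 0, 0; 0, σ lam / lam, 0; 0, 0, (σ lam)⁻¹]

theorem det_hM (σ : F →+* F) {lam : F} (hlam : lam ≠ 0) : (hM σ lam).det = 1 := by
  have hσl : σ lam ≠ 0 := (map_ne_zero σ).2 hlam
  simp [hM, Matrix.det_fin_three]
  field_simp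

/-- the torus element in `SL₃` -/
def hS (σ : F →+* F) {lam : F} (hlam : lam ≠ 0) : SL3 := ⟨hM σ lam, det_hM σ hlam⟩

theorem coe_hS (σ : F →+* F) {lam : F} (hlam : lam ≠ 0) :
    ((hS σ hlam : SL3) : Matrix (Fin 3) (Fin 3) F) = hM σ lam := rfl

theorem hS_mem (σ : F →+* F) (hσ2 : ∀ x, σ (σ x) = x) {lam : F} (hlam : lam ≠ 0) :
    hS σ hlam ∈ GJ σ := by
  have hσl : σ lam ≠ 0 := (map_ne_zero σ).2 hlam
  rw [mem_GJ_iff]
  intro x y
  simp only [coe_hS, hJ, hM, Matrix.mulVec, dotProduct, Fin.sum_univ_three]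
  simp [map_mul, map_div₀, map_inv₀, hσ2]
  field_simp

theorem hS_mul_uS (σ : F →+* F) (hσ2 : ∀ x, σ (σ x) = x) {lam : F} (hlam : lam ≠ 0) (c b0 : F) :
    hS σ hlam * uS σ c b0 = uS σ (lam ^ 2 / σ lam * c) (lam * σ lam * b0) * hS σ hlam := by
  have hσl : σ lam ≠ 0 := (map_ne_zero σ).2 hlam
  apply Subtype.ext
  rw [Matrix.SpecialLinearGroup.coe_mul, Matrix.SpecialLinearGroup.coe_mul, coe_uS, coe_uS, coe_hS]
  ext i j
  fin_cases i <;> fin_cases j <;>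
    simp [uM, hM, Matrix.mul_apply, Fin.sum_univ_three, map_mul, map_div₀, map_pow, hσ2] <;>
    field_simp

theorem lS_conj (σ : F →+* F) (c1 d1 c d' : F) :
    lS σ c1 d1 * lS σ c d' * (lS σ c1 d1)⁻¹ = lS σ c (d' + c * σ c1 - c1 * σ c) := by
  rw [lS_inv, lS_mul, lS_mul]
  congr 1
  · ring
  · simp only [map_neg]
    ring

theorem conj_uS_lS [Finite F] (σ : F →+* F) (hσ : σ ≠ RingHom.id F) (hσ2 : ∀ x, σ (σ x) = x)
    (a b c d lam : F) (hlam : lam ≠ 0) (hc : c ≠ 0) (hac : a = lam ^ 2 / σ lam * c)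
    (hab : b + σ b + a * σ a = 0) (hcd : d + σ d + c * σ c = 0) :
    ∃ g : SL3, g ∈ GJ σ ∧ g * uS σ a b * g⁻¹ = lS σ c d := by
  have hσl : σ lam ≠ 0 := (map_ne_zero σ).2 hlam
  have hσc : σ c ≠ 0 := (map_ne_zero σ).2 hc
  set b0 : F := b / (lam * σ lam) with hb0
  have hb : b = lam * σ lam * b0 := by
    rw [hb0]
    field_simp
  -- trace of `b0`
  have hσa : σ a = (σ lam) ^ 2 / lam * σ c := by
    rw [hac, map_mul, map_div₀, map_pow, hσ2]
  have hb0tr : b0 + σ b0 + c * σ c = 0 := by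
    have h1 : σ b0 = σ b / (lam * σ lam) := by
      rw [hb0, map_div₀, map_mul, hσ2, mul_comm (σ lam) lam]
    rw [h1, hb0]
    have h2 : a * σ a = lam * σ lam * (c * σ c) := by
      rw [hσa, hac]
      field_simp
    have h3 : b + σ b = -(lam * σ lam * (c * σ c)) := by
      rw [← h2]
      linear_combination hab
    have : b / (lam * σ lam) + σ b / (lam * σ lam) = (b + σ b) / (lam * σ lam) := by ring
    rw [this, h3]
    field_simp
    ring
  set t : F := d - b0 with ht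
  have httr : (-t) + σ (-t) = 0 := by
    rw [ht, map_neg, map_sub]
    linear_combination hb0tr - hcd
  obtain ⟨x, hx⟩ := exists_sub_eq σ hσ hσ2 (-t) httr
  set c1 : F := x / σ c with hc1
  have hc1eq : c * σ c1 - c1 * σ c = t := by
    rw [hc1, map_div₀, hσ2]
    field_simp
    linear_combination -hx
  have hfix : σ (-(c1 * σ c1)) = -(c1 * σ c1) := by
    rw [map_neg, map_mul, hσ2, mul_comm]
  obtain ⟨d1, hd1⟩ := exists_trace_eq σ hσ hσ2 (-(c1 * σ c1)) hfix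
  have hLmem : lS σ c1 d1 ∈ GJ σ := lS_mem σ hσ2 (by rw [hd1]; ring)
  refine ⟨lS σ c1 d1 * w0S * (hS σ hlam)⁻¹, ?_, ?_⟩
  · exact (GJ σ).mul_mem ((GJ σ).mul_mem hLmem (w0S_mem σ)) ((GJ σ).inv_mem (hS_mem σ hσ2 hlam))
  · have e1 : (hS σ hlam)⁻¹ * uS σ a b * hS σ hlam = uS σ c b0 := by
      rw [hac, hb, mul_assoc, ← hS_mul_uS σ hσ2 hlam c b0, inv_mul_cancel_left]
    have e2 : (w0S : SL3) * uS σ c b0 * (w0S : SL3)⁻¹ = lS σ c b0 := by
      rw [w0S_mul_uS]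
      group
    have e3 : lS σ c1 d1 * lS σ c b0 * (lS σ c1 d1)⁻¹ = lS σ c d := by
      rw [lS_conj]
      congr 1
      rw [ht] at hc1eq
      linear_combination hc1eq
    calc lS σ c1 d1 * w0S * (hS σ hlam)⁻¹ * uS σ a b * (lS σ c1 d1 * w0S * (hS σ hlam)⁻¹)⁻¹
        = lS σ c1 d1 * (w0S * ((hS σ hlam)⁻¹ * uS σ a b * hS σ hlam) * (w0S : SL3)⁻¹) *
            (lS σ c1 d1)⁻¹ := by group
      _ = lS σ c d := by rw [e1, e2, e3]

end Cfsg.Agent.Lib.Helper93.SU3G
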