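import Mathlib
import Cfsg.Agent.Lib.Helper13.SU3GDefs

/-!
# S2283-[INST-I] (helper93, for helper13's SU3G project)

`inst_generic`: the generic pair `u = uS (aI ε) (bI ε)`, `v = lS 1 (dI ε)`, `s = v u v`
(pure algebra in `ε` with `σ ε = ε⁻¹`).
-/

set_option autoImplicit false

namespace Cfsg.Agent.Lib.Helper93.SU3G

open Matrix
open Cfsg.Agent.Lib.Helper13.SU3G

variable {F : Type*} [Field F]
local notation "SL3" => Matrix.SpecialLinearGroup (Fin 3) F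

/-- entries of the first column of `lM 1 d * uM a b * lM 1 d` -/
theorem inst_col (σ : F →+* F) (a b d : F) :
    (lM σ 1 d * uM σ a b * lM σ 1 d) 0 0 = 1 + a + b * d ∧
    (lM σ 1 d * uM σ a b * lM σ 1 d) 1 0 = (1 + a + b * d) + (1 - σ a * d) ∧
    (lM σ 1 d * uM σ a b * lM σ 1 d) 2 0 = d * (1 + a + b * d) - (1 - σ a * d) + d := by
  refine ⟨?_, ?_, ?_⟩
  · simp [lM, uM, Matrix.mul_apply, Fin.sum_univ_three]
  · simp [lM, uM, Matrix.mul_apply, Fin.sum_univ_three]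
    ring
  · simp [lM, uM, Matrix.mul_apply, Fin.sum_univ_three]
    ring

theorem inst_generic (σ : F →+* F) (hσ2 : ∀ x, σ (σ x) = x) (ε : F) (hε : ε * σ ε = 1)
    (h1 : 1 + ε ≠ 0) :
    σ (aI ε) = aI ε ∧ aI ε ≠ 0 ∧ bI ε + σ (bI ε) + aI ε * σ (aI ε) = 0 ∧
    dI ε + σ (dI ε) + 1 * σ 1 = 0 ∧ dI ε ≠ 0 ∧
    ((lS σ 1 (dI ε) * uS σ (aI ε) (bI ε) * lS σ 1 (dI ε) : SL3) : Matrix (Fin 3) (Fin 3) F) 1 0 = 0 ∧
    ((lS σ 1 (dI ε) * uS σ (aI ε) (bI ε) * lS σ 1 (dI ε) : SL3) : Matrix (Fin 3) (Fin 3) F) 2 0 = 0 ∧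
    ((lS σ 1 (dI ε) * uS σ (aI ε) (bI ε) * lS σ 1 (dI ε) : SL3) : Matrix (Fin 3) (Fin 3) F) 0 0 = ε := by
  have _ := hσ2
  have hε0 : ε ≠ 0 := by
    intro h
    rw [h, zero_mul] at hε
    exact zero_ne_one hε
  have hσε : σ ε = ε⁻¹ := eq_inv_of_mul_eq_one_right hε
  have h1' : ε + 1 ≠ 0 := by rwa [add_comm]
  have hinv : 1 + ε⁻¹ ≠ 0 := by
    have : 1 + ε⁻¹ = (ε + 1) / ε := by field_simp
    rw [this]
    exact div_ne_zero h1' hε0
  have hσa : σ (aI ε) = aI ε := by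
    simp only [aI, map_div₀, map_neg, map_pow, map_add, map_one, hσε]
    field_simp
    ring
  have hσb : σ (bI ε) = -((1 + ε) * (ε ^ 2 + ε + 2)) / ε := by
    simp only [bI, map_div₀, map_neg, map_pow, map_add, map_mul, map_one, map_ofNat, hσε]
    field_simp
    ring
  have hσd : σ (dI ε) = -1 / (1 + ε) := by
    simp only [dI, map_div₀, map_neg, map_add, map_one, hσε]
    field_simp
    ring
  have ha0 : aI ε ≠ 0 := by
    unfold aI
    exact div_ne_zero (neg_ne_zero.2 (pow_ne_zero 2 h1)) hε0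
  have hd0 : dI ε ≠ 0 := by
    unfold dI
    exact div_ne_zero (neg_ne_zero.2 hε0) h1
  have hcoe : ((lS σ 1 (dI ε) * uS σ (aI ε) (bI ε) * lS σ 1 (dI ε) : SL3) :
      Matrix (Fin 3) (Fin 3) F) = lM σ 1 (dI ε) * uM σ (aI ε) (bI ε) * lM σ 1 (dI ε) := by
    simp only [Matrix.SpecialLinearGroup.coe_mul, coe_lS, coe_uS]
  obtain ⟨c00, c10, c20⟩ := inst_col σ (aI ε) (bI ε) (dI ε)
  have hkey : 1 + aI ε + bI ε * dI ε = ε := by
    unfold aI bI dI
    field_simp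
    ring
  have hkey2 : 1 - aI ε * dI ε = -ε := by
    unfold aI dI
    field_simp
    ring
  refine ⟨hσa, ha0, ?_, ?_, hd0, ?_, ?_, ?_⟩
  · rw [hσb, hσa]
    unfold aI bI
    field_simp
    ring
  · rw [hσd, map_one, mul_one]
    unfold dI
    field_simp
    ring
  · rw [hcoe, c10, hσa, hkey, hkey2]
    ring
  · rw [hcoe, c20, hσa, hkey, hkey2]
    unfold dI
    field_simp
    ring
  · rw [hcoe, c00, hkey]

end Cfsg.Agent.Lib.Helper93.SU3G
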