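import Mathlib
import Cfsg.Agent.Lib.Helper37.UnitaryGen
import Cfsg.Agent.Lib.Helper36.HermNorm
import Cfsg.Agent.Lib.Helper13.SU3GDefs

/-!
# S2283-[PMAT] (helper93, for helper13's SU3G project)

`exists_P`: a basis of `F³` whose Gram matrix for the standard hermitian form `hf σ` is the
antidiagonal `(1,1,1)`, i.e. a base change `P` with `hf (P x) (P y) = hJ x y`.
-/

set_option autoImplicit false

namespace Cfsg.Agent.Lib.Helper93.SU3G

open Matrix
open Cfsg.Agent.S0837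
open Cfsg.Agent.Lib.Helper37
open Cfsg.Agent.Lib.Helper13.SU3G

variable {F : Type*} [Field F]

/-- the matrix with columns `e`, `m`, `f` -/
def colMat (e m f : Fin 3 → F) : Matrix (Fin 3) (Fin 3) F := Matrix.of fun i j => ![e, m, f] j i

theorem colMat_mulVec (e m f x : Fin 3 → F) :
    colMat e m f *ᵥ x = x 0 • e + x 1 • m + x 2 • f := by
  funext i
  simp only [colMat, Matrix.mulVec, dotProduct, Fin.sum_univ_three, Matrix.of_apply, Pi.add_apply,
    Pi.smul_apply, smul_eq_mul, Matrix.cons_val_zero, Matrix.cons_val_one, Matrix.cons_val_two]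
  simp
  ring

theorem exists_P [Finite F] (σ : F →+* F) (hσ : σ ≠ RingHom.id F) (hσ2 : ∀ x, σ (σ x) = x) :
    ∃ P : GL (Fin 3) F, ∀ x y : Fin 3 → F,
      Cfsg.Agent.S0837.hf σ ((P : Matrix (Fin 3) (Fin 3) F) *ᵥ x)
        ((P : Matrix (Fin 3) (Fin 3) F) *ᵥ y) = hJ σ x y := by
  obtain ⟨e, f, hHP⟩ := exists_HP (n := 3) σ hσ hσ2 (by norm_num)
  obtain ⟨x, hxe, hxf, hxx⟩ := exists_aniso_perp σ hσ hσ2 (le_refl 3) hHP
  have hee := hHP.uu
  have hff := hHP.vv
  have hfe := hHP.vu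
  have hef := hHP.uv hσ2
  have hex : hf σ e x = 0 := by rw [hf_symm σ hσ2, hxe, map_zero]
  have hfx : hf σ f x = 0 := by rw [hf_symm σ hσ2, hxf, map_zero]
  have hr : σ (hf σ x x)⁻¹ = (hf σ x x)⁻¹ := by rw [map_inv₀, hf_self_fixed σ hσ2]
  obtain ⟨η, hη⟩ := Cfsg.Agent.Lib.Helper36.exists_mul_map_eq σ hσ hσ2 _ hr
  set m : Fin 3 → F := η • x with hm
  have hmm : hf σ m m = 1 := by
    rw [hm, hf_smul_left, hf_smul_right, ← mul_assoc, hη, inv_mul_cancel₀ hxx]
  have hme : hf σ m e = 0 := by rw [hm, hf_smul_left, hxe, mul_zero]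
  have hmf : hf σ m f = 0 := by rw [hm, hf_smul_left, hxf, mul_zero]
  have hem : hf σ e m = 0 := by rw [hm, hf_smul_right, hex, mul_zero]
  have hfm : hf σ f m = 0 := by rw [hm, hf_smul_right, hfx, mul_zero]
  have hform : ∀ v w : Fin 3 → F,
      hf σ (colMat e m f *ᵥ v) (colMat e m f *ᵥ w) = hJ σ v w := by
    intro v w
    rw [colMat_mulVec, colMat_mulVec]
    simp only [hf_add_left, hf_add_right, hf_smul_left, hf_smul_right, hee, hff, hfe, hef, hmm, hme,
      hmf, hem, hfm, hJ]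
    ring
  have hinj : Function.Injective (colMat e m f).mulVec := by
    intro v w hvw
    have h0 : colMat e m f *ᵥ (v - w) = 0 := by
      rw [Matrix.mulVec_sub]
      exact sub_eq_zero.2 hvw
    have hJ0 : ∀ y, hJ σ (v - w) y = 0 := by
      intro y
      rw [← hform, h0, hf_zero_left]
    have e0 := hJ0 ![0, 0, 1]
    have e1 := hJ0 ![0, 1, 0]
    have e2 := hJ0 ![1, 0, 0]
    simp [hJ] at e0 e1 e2
    funext i
    fin_cases i
    · exact sub_eq_zero.1 e0
    · exact sub_eq_zero.1 e1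
    · exact sub_eq_zero.1 e2
  have hunit : IsUnit (colMat e m f) := Matrix.mulVec_injective_iff_isUnit.1 hinj
  refine ⟨hunit.unit, ?_⟩
  intro v w
  rw [IsUnit.unit_spec]
  exact hform v w

end Cfsg.Agent.Lib.Helper93.SU3G
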