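/-
helper93: project GOLD (helper22, S1329), module GOLD-[NORM]: the norm map `T(w) = ∏_{a ∈ A} a w a⁻¹` on an abelian
subgroup `W` normalized by `A`.
-/
import Mathlib
import Cfsg.Agent.Lib.Helper22.GoldDefs
import Cfsg.Agent.Lib.Helper22.GoldPar

set_option autoImplicit false

namespace Cfsg.Agent.Lib.Helper93.Gold

open Subgroup
open scoped commutatorElement
open Cfsg.Agent.Lib.Helper22.Gold

variable {G : Type*} [Group G]

/-- conjugation by an element of the normalizer of `W`, as an endomorphism of `↥W` -/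
def conjHom (W : Subgroup G) (a : G) (ha : a ∈ normalizer (W : Set G)) : ↥W →* ↥W where
  toFun w := ⟨a * w * a⁻¹, conj_mem_of_mem_normalizer ha w.2⟩
  map_one' := by
    apply Subtype.ext
    simp
  map_mul' := by
    intro x y
    apply Subtype.ext
    simp

theorem conjHom_coe (W : Subgroup G) (a : G) (ha : a ∈ normalizer (W : Set G)) (w : W) :
    ((conjHom W a ha w : W) : G) = a * w * a⁻¹ := rfl

/-- [NORM] -/
theorem exists_norm [Finite G] {A W : Subgroup G} (hW : ∀ x ∈ W, ∀ y ∈ W, x * y = y * x)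
    (hAW : A ≤ normalizer (W : Set G)) :
    ∃ T : G → G, (∀ w ∈ W, T w ∈ W ⊓ centralizer (A : Set G)) ∧
      (∀ w ∈ W, ∀ w' ∈ W, T (w * w') = T w * T w') ∧
      (∀ w ∈ W, ∀ b ∈ A, T (b * w * b⁻¹) = T w) ∧
      (∀ w ∈ W ⊓ centralizer (A : Set G), T w = w ^ Nat.card A) ∧
      (∀ X : Subgroup G, X ≤ W → A ≤ normalizer (X : Set G) → ∀ w ∈ X, T w ∈ X) := by
  classical
  let _ : CommGroup ↥W :=
    { (inferInstance : Group ↥W) with mul_comm := fun x y => Subtype.ext (hW x x.2 y y.2) }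
  let _ : Fintype ↥A := Fintype.ofFinite _
  -- the norm map on `↥W`
  let T' : ↥W →* ↥W := ∏ a : ↥A, conjHom W a (hAW a.2)
  have hT' : ∀ w : W, T' w = ∏ a : ↥A, conjHom W a (hAW a.2) w := fun w =>
    MonoidHom.finsetProd_apply _ _ _
  -- invariance of the values
  have hinv : ∀ (b : ↥A) (w : W), conjHom W b (hAW b.2) (T' w) = T' w := by
    intro b w
    rw [hT', map_prod]
    rw [← Equiv.prod_comp (Equiv.mulLeft b) (fun a : ↥A => conjHom W a (hAW a.2) w)]
    refine Finset.prod_congr rfl fun a _ => ?_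
    apply Subtype.ext
    simp only [conjHom_coe, Equiv.coe_mulLeft, coe_mul, mul_inv_rev]
    group
  -- invariance in the argument
  have hinv2 : ∀ (b : ↥A) (w : W), T' (conjHom W b (hAW b.2) w) = T' w := by
    intro b w
    rw [hT', hT']
    rw [← Equiv.prod_comp (Equiv.mulRight b) (fun a : ↥A => conjHom W a (hAW a.2) w)]
    refine Finset.prod_congr rfl fun a _ => ?_
    apply Subtype.ext
    simp only [conjHom_coe, Equiv.coe_mulRight, coe_mul, mul_inv_rev]
    group
  refine ⟨fun w => if h : w ∈ W then ((T' ⟨w, h⟩ : W) : G) else 1, ?_, ?_, ?_, ?_, ?_⟩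
  · intro w hw
    simp only [dif_pos hw]
    refine Subgroup.mem_inf.2 ⟨(T' ⟨w, hw⟩).2, ?_⟩
    rw [mem_centralizer_iff]
    intro b hb
    have := congrArg (fun x : W => (x : G)) (hinv ⟨b, hb⟩ ⟨w, hw⟩)
    simp only [conjHom_coe] at this
    calc b * (T' ⟨w, hw⟩ : G) = (b * (T' ⟨w, hw⟩ : G) * b⁻¹) * b := by group
      _ = (T' ⟨w, hw⟩ : G) * b := by rw [this]
  · intro w hw w' hw'
    simp only [dif_pos hw, dif_pos hw', dif_pos (mul_mem hw hw')]
    have : (⟨w * w', mul_mem hw hw'⟩ : W) = ⟨w, hw⟩ * ⟨w', hw'⟩ := rfl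
    rw [this, map_mul]
    rfl
  · intro w hw b hb
    have hbw : b * w * b⁻¹ ∈ W := conj_mem_of_mem_normalizer (hAW hb) hw
    simp only [dif_pos hw, dif_pos hbw]
    have : (⟨b * w * b⁻¹, hbw⟩ : W) = conjHom W b (hAW hb) ⟨w, hw⟩ := rfl
    rw [this, hinv2 ⟨b, hb⟩]
  · intro w hw
    have hwW : w ∈ W := (Subgroup.mem_inf.1 hw).1
    have hwC : w ∈ centralizer (A : Set G) := (Subgroup.mem_inf.1 hw).2
    simp only [dif_pos hwW]
    rw [hT']
    have hfix : ∀ a : ↥A, conjHom W a (hAW a.2) ⟨w, hwW⟩ = ⟨w, hwW⟩ := by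
      intro a
      apply Subtype.ext
      simp only [conjHom_coe]
      have := mem_centralizer_iff.1 hwC a a.2
      rw [this, mul_inv_cancel_right]
    rw [Finset.prod_congr rfl (fun a _ => hfix a), Finset.prod_const, Finset.card_univ,
      ← Nat.card_eq_fintype_card]
    rfl
  · intro X hXW hAX w hw
    simp only [dif_pos (hXW hw)]
    rw [hT']
    have hmem : ∀ a : ↥A, conjHom W a (hAW a.2) ⟨w, hXW hw⟩ ∈ X.subgroupOf W := by
      intro a
      rw [mem_subgroupOf]
      exact conj_mem_of_mem_normalizer (hAX a.2) hw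
    have := Subgroup.prod_mem (X.subgroupOf W) (fun a (_ : a ∈ Finset.univ) => hmem a)
    rw [mem_subgroupOf] at this
    exact this

end Cfsg.Agent.Lib.Helper93.Gold
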