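/-
helper93: project GOLD (helper22, S1329), module GOLD-[ABFIX]: if `[Y,A] = Y` (`A` a 2-group normalizing the odd-order
group `Y`), then `C_Y(A) ≤ [Y,Y]`.
-/
import Mathlib
import Cfsg.Agent.Lib.Helper22.GoldDefs
import Cfsg.Agent.Lib.Helper22.GoldPar
import Cfsg.Agent.Lib.Helper93.GoldNorm

set_option autoImplicit false

namespace Cfsg.Agent.Lib.Helper93.Gold

open Subgroup
open scoped commutatorElement
open Cfsg.Agent.Lib.Helper22.Gold

variable {G : Type*} [Group G]

/-- [ABFIX] -/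
theorem fix_le_comm [Finite G] {A Y : Subgroup G} (h : Hyp A Y) (hYA : ⁅Y, A⁆ = Y) :
    Y ⊓ centralizer (A : Set G) ≤ ⁅Y, Y⁆ := by
  classical
  let _ : Fintype ↥A := Fintype.ofFinite _
  have hAY := h.norm
  -- the norm map into the abelianization of `Y`
  let Φ : ↥Y →* Abelianization ↥Y :=
    ∏ a : ↥A, (Abelianization.of : ↥Y →* Abelianization ↥Y).comp (conjHom Y a (hAY a.2))
  have hΦ : ∀ y : Y, Φ y = ∏ a : ↥A, Abelianization.of (conjHom Y a (hAY a.2) y) := fun y =>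
    MonoidHom.finsetProd_apply _ _ _
  -- invariance in the argument
  have hinv : ∀ (b : ↥A) (y : Y), Φ (conjHom Y b (hAY b.2) y) = Φ y := by
    intro b y
    rw [hΦ, hΦ]
    rw [← Equiv.prod_comp (Equiv.mulRight b)
      (fun a : ↥A => Abelianization.of (conjHom Y a (hAY a.2) y))]
    refine Finset.prod_congr rfl fun a _ => ?_
    congr 1
    apply Subtype.ext
    simp only [conjHom_coe, Equiv.coe_mulRight, coe_mul, mul_inv_rev]
    group
  -- `Φ` kills `[Y,A] = Y`
  have hker : ⁅Y, A⁆ ≤ (Φ.ker).map Y.subtype := by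
    rw [commutator_le]
    intro y hy b hb
    have hmem : ⁅y, b⁆ ∈ Y := comm_le hAY (commutator_mem_commutator hy hb)
    refine ⟨⟨⁅y, b⁆, hmem⟩, ?_, rfl⟩
    rw [SetLike.mem_coe, MonoidHom.mem_ker]
    have e : (⟨⁅y, b⁆, hmem⟩ : Y) = ⟨y, hy⟩ * conjHom Y b (hAY hb) ⟨y, hy⟩⁻¹ := by
      apply Subtype.ext
      show ⁅y, b⁆ = y * (b * y⁻¹ * b⁻¹)
      rw [commutatorElement_def]
      group
    rw [e, map_mul, hinv ⟨b, hb⟩, map_inv, mul_inv_cancel]
  have hΦ1 : ∀ y : Y, Φ y = 1 := by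
    intro y
    have hy : (y : G) ∈ (Φ.ker).map Y.subtype := hker (by rw [hYA]; exact y.2)
    obtain ⟨y', hy', hyy'⟩ := hy
    have : y' = y := Subtype.ext hyy'
    rw [← this]
    exact MonoidHom.mem_ker.1 hy'
  -- fixed points
  intro c hc
  have hcY : c ∈ Y := (Subgroup.mem_inf.1 hc).1
  have hcC : c ∈ centralizer (A : Set G) := (Subgroup.mem_inf.1 hc).2
  have hfix : ∀ a : ↥A, conjHom Y a (hAY a.2) ⟨c, hcY⟩ = ⟨c, hcY⟩ := by
    intro a
    apply Subtype.ext
    simp only [conjHom_coe]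
    have := mem_centralizer_iff.1 hcC a a.2
    rw [this, mul_inv_cancel_right]
  have hpow : (Abelianization.of (⟨c, hcY⟩ : Y)) ^ Nat.card A = 1 := by
    have h1 := hΦ1 ⟨c, hcY⟩
    rw [hΦ, Finset.prod_congr rfl (fun a _ => by rw [hfix a]), Finset.prod_const, Finset.card_univ,
      ← Nat.card_eq_fintype_card] at h1
    exact h1
  -- the order of `of c` is odd and divides a power of `2`
  have hof : Abelianization.of (⟨c, hcY⟩ : Y) = 1 := by
    obtain ⟨k, hk⟩ := IsPGroup.exists_card_eq h.two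
    rw [hk] at hpow
    have hdvd1 : orderOf (Abelianization.of (⟨c, hcY⟩ : Y)) ∣ 2 ^ k := orderOf_dvd_of_pow_eq_one hpow
    have hdvd2 : orderOf (Abelianization.of (⟨c, hcY⟩ : Y)) ∣ Nat.card Y := by
      have h3 : orderOf (Abelianization.of (⟨c, hcY⟩ : Y)) ∣ Nat.card (Abelianization ↥Y) :=
        orderOf_dvd_natCard _
      exact h3.trans (Subgroup.card_quotient_dvd_card (commutator ↥Y))
    have hodd : Odd (orderOf (Abelianization.of (⟨c, hcY⟩ : Y))) := by
      obtain ⟨m, hm⟩ := hdvd2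
      have := h.odd
      rw [hm] at this
      exact (Nat.odd_mul.1 this).1
    have hone : orderOf (Abelianization.of (⟨c, hcY⟩ : Y)) = 1 := by
      have hcop : Nat.Coprime (orderOf (Abelianization.of (⟨c, hcY⟩ : Y))) (2 ^ k) :=
        Nat.Coprime.pow_right k (Nat.coprime_two_right.2 hodd)
      exact Nat.Coprime.eq_one_of_dvd hcop hdvd1
    exact orderOf_eq_one_iff.1 hone
  have hcomm : (⟨c, hcY⟩ : Y) ∈ commutator ↥Y := by
    rw [← Abelianization.ker_of, MonoidHom.mem_ker]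
    exact hof
  rw [← map_subtype_commutator]
  exact ⟨⟨c, hcY⟩, hcomm, rfl⟩

end Cfsg.Agent.Lib.Helper93.Gold
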