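import Mathlib

/-!
# PF sec.10 T side, module [TS-PCONJ] (helper60's sheet)

Frobenius complement conjugacy without Frobenius theory: if `A` normalizes `V` and every
nontrivial element of `A` acts fixed-point-freely on `V`, every element of `VA` outside `V`
is conjugate (by an element of `V`) to a nontrivial element of `A`.

Proof: `s = v a` with `a ≠ 1`; the map `w ↦ w a w⁻¹ a⁻¹` of `V` to itself is injective by
fixed-point-freeness, hence surjective, so `v = w a w⁻¹ a⁻¹` and `s = w a w⁻¹`.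
-/

set_option autoImplicit false

namespace Cfsg.Agent.Lib.Helper93.PFTenT

/-- elements of `V ⊔ A` are products `v * a` when `A` normalizes `V`. -/
theorem pconj_mem_sup_of_normalizes {G : Type*} [Group G] (V A : Subgroup G)
    (hAV : A ≤ Subgroup.normalizer (V : Set G)) (s : G) (hs : s ∈ V ⊔ A) :
    ∃ v ∈ V, ∃ a ∈ A, s = v * a := by
  classical
  let T : Subgroup G :=
    { carrier := {g | ∃ v ∈ V, ∃ a ∈ A, g = v * a}
      one_mem' := ⟨1, V.one_mem, 1, A.one_mem, by simp⟩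
      mul_mem' := by
        rintro x y ⟨v, hv, a, ha, rfl⟩ ⟨v', hv', a', ha', rfl⟩
        refine ⟨v * (a * v' * a⁻¹), V.mul_mem hv ?_, a * a', A.mul_mem ha ha', by group⟩
        exact (Subgroup.mem_normalizer_iff.mp (hAV ha) v').mp hv'
      inv_mem' := by
        rintro x ⟨v, hv, a, ha, rfl⟩
        refine ⟨a⁻¹ * v⁻¹ * a⁻¹⁻¹, ?_, a⁻¹, A.inv_mem ha, by group⟩
        exact (Subgroup.mem_normalizer_iff.mp (hAV (A.inv_mem ha)) v⁻¹).mp (V.inv_mem hv) }
  have hle : V ⊔ A ≤ T := by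
    refine sup_le ?_ ?_
    · intro v hv
      exact ⟨v, hv, 1, A.one_mem, by simp⟩
    · intro a ha
      exact ⟨1, V.one_mem, a, ha, by simp⟩
  exact hle hs

/-- MODULE [TS-PCONJ] -/
theorem exists_conj_mem_compl {G : Type*} [Group G] [Finite G] (V A : Subgroup G)
    (hA : (Nat.card A).Prime) (hAV : A ≤ Subgroup.normalizer (V : Set G))
    (hcop : (Nat.card V).Coprime (Nat.card A))
    (hfpf : ∀ a ∈ A, a ≠ 1 → ∀ v ∈ V, a * v = v * a → v = 1)
    (s : G) (hs : s ∈ V ⊔ A) (hsV : s ∉ V) :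
    ∃ k ∈ V ⊔ A, ∃ a ∈ A, a ≠ 1 ∧ s = k * a * k⁻¹ := by
  classical
  obtain ⟨v, hv, a, ha, rfl⟩ := pconj_mem_sup_of_normalizes V A hAV s hs
  have ha1 : a ≠ 1 := by
    rintro rfl
    exact hsV (by simpa using hv)
  -- the commutator map on `V`
  have hmem : ∀ w : V, (w : G) * a * (w : G)⁻¹ * a⁻¹ ∈ V := by
    intro w
    have h1 : a * (w : G)⁻¹ * a⁻¹ ∈ V :=
      (Subgroup.mem_normalizer_iff.mp (hAV ha) _).mp (V.inv_mem w.2)
    have : (w : G) * a * (w : G)⁻¹ * a⁻¹ = (w : G) * (a * (w : G)⁻¹ * a⁻¹) := by group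
    rw [this]
    exact V.mul_mem w.2 h1
  let f : V → V := fun w => ⟨(w : G) * a * (w : G)⁻¹ * a⁻¹, hmem w⟩
  have hinj : Function.Injective f := by
    intro w w' hww
    have h0 : (w : G) * a * (w : G)⁻¹ * a⁻¹ = (w' : G) * a * (w' : G)⁻¹ * a⁻¹ :=
      congrArg Subtype.val hww
    have h1 : (w : G) * a * (w : G)⁻¹ = (w' : G) * a * (w' : G)⁻¹ := mul_right_cancel h0
    have h2 : a * ((w' : G)⁻¹ * (w : G)) = ((w' : G)⁻¹ * (w : G)) * a := by
      have h3 : (w' : G)⁻¹ * ((w : G) * a * (w : G)⁻¹) * (w : G) =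
          (w' : G)⁻¹ * ((w' : G) * a * (w' : G)⁻¹) * (w : G) := by rw [h1]
      have h4 : (w' : G)⁻¹ * ((w : G) * a * (w : G)⁻¹) * (w : G) = (w' : G)⁻¹ * (w : G) * a := by
        group
      have h5 : (w' : G)⁻¹ * ((w' : G) * a * (w' : G)⁻¹) * (w : G) = a * ((w' : G)⁻¹ * (w : G)) := by
        group
      rw [h4, h5] at h3
      exact h3.symm
    have h6 : (w' : G)⁻¹ * (w : G) = 1 :=
      hfpf a ha ha1 _ (V.mul_mem (V.inv_mem w'.2) w.2) h2
    have h7 : (w : G) = (w' : G) := by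
      have := congrArg (fun x => (w' : G) * x) h6
      simpa using this
    exact Subtype.ext h7
  have hsurj : Function.Surjective f := Finite.surjective_of_injective hinj
  obtain ⟨w, hw⟩ := hsurj ⟨v, hv⟩
  have hw' : (w : G) * a * (w : G)⁻¹ * a⁻¹ = v := congrArg Subtype.val hw
  refine ⟨(w : G), (le_sup_left : V ≤ V ⊔ A) w.2, a, ha, ha1, ?_⟩
  rw [← hw']
  group

end Cfsg.Agent.Lib.Helper93.PFTenT
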