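import Mathlib

/-!
# PF sec.10 T side, module [TS-SING] (helper60's sheet)

`Q` a normal Hall subgroup of `T`, `Q ≤ F`, and `T` controls `G`-fusion of nontrivial elements
of `F` in the strong sense `hTI`.  Then every element of `G` whose order is not prime to `|Q|`
is conjugate into `T`.
-/

set_option autoImplicit false

namespace Cfsg.Agent.Lib.Helper93.PFTenT

/-- MODULE [TS-SING] -/
theorem exists_conj_mem_of_singular {G : Type*} [Group G] [Finite G] (T Q F : Subgroup G)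
    (hQT : Q ≤ T) (hQF : Q ≤ F)
    (hQn : T ≤ Subgroup.normalizer (Q : Set G))
    (hHall : (Nat.card Q).Coprime (Q.relIndex T))
    (hTI : ∀ g : G, g ∉ T → ∀ x ∈ F, g * x * g⁻¹ ∈ F → x = 1)
    (g : G) (hg : ¬ (orderOf g).Coprime (Nat.card Q)) : ∃ x : G, x * g * x⁻¹ ∈ T := by
  classical
  obtain ⟨s, hs, hsg, hsQ⟩ := Nat.Prime.not_coprime_iff_dvd.mp hg
  have : Fact s.Prime := ⟨hs⟩
  -- `s` does not divide `|T : Q|`
  have hsidx : ¬ s ∣ Q.relIndex T := by
    intro h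
    have h1 : s ∣ Nat.gcd (Nat.card Q) (Q.relIndex T) := Nat.dvd_gcd hsQ h
    rw [Nat.Coprime.gcd_eq_one hHall] at h1
    exact hs.one_lt.ne' (Nat.dvd_one.mp h1)
  -- a Sylow `s`-subgroup of `T`
  obtain ⟨PT⟩ : Nonempty (Sylow s ↥T) := inferInstance
  have hQnorm : (Q.subgroupOf T).Normal :=
    (Subgroup.normal_subgroupOf_iff_le_normalizer hQT).mpr hQn
  -- it lies in `Q`
  have hPTQ : (PT : Subgroup ↥T) ≤ Q.subgroupOf T := by
    intro x hx
    have hx1 : orderOf (QuotientGroup.mk' (Q.subgroupOf T) x) ∣ orderOf x :=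
      orderOf_map_dvd _ x
    obtain ⟨k, hk⟩ := PT.isPGroup' ⟨x, hx⟩
    have hk' : x ^ s ^ k = 1 := by
      have := congrArg Subtype.val hk
      simpa using this
    have hx2 : orderOf x ∣ s ^ k := orderOf_dvd_of_pow_eq_one hk'
    have hx3 : orderOf (QuotientGroup.mk' (Q.subgroupOf T) x) ∣ Q.relIndex T := by
      have : orderOf (QuotientGroup.mk' (Q.subgroupOf T) x) ∣
          Nat.card (↥T ⧸ Q.subgroupOf T) := orderOf_dvd_natCard _
      rwa [← Subgroup.index_eq_card] at this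
    have hcop : Nat.Coprime (s ^ k) (Q.relIndex T) :=
      Nat.Coprime.pow_left k ((Nat.Prime.coprime_iff_not_dvd hs).mpr hsidx)
    have hx4 : orderOf (QuotientGroup.mk' (Q.subgroupOf T) x) = 1 :=
      Nat.eq_one_of_dvd_coprimes hcop (hx1.trans hx2) hx3
    have hx5 : QuotientGroup.mk' (Q.subgroupOf T) x = 1 := orderOf_eq_one_iff.mp hx4
    exact (QuotientGroup.eq_one_iff x).mp hx5
  set P0 : Subgroup G := (PT : Subgroup ↥T).map T.subtype with hP0
  have hP0T : P0 ≤ T := by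
    rintro x ⟨t, -, rfl⟩
    exact t.2
  have hP0Q : P0 ≤ Q := by
    rintro x ⟨t, ht, rfl⟩
    exact Subgroup.mem_subgroupOf.mp (hPTQ ht)
  have hP0p : IsPGroup s P0 := PT.isPGroup'.map T.subtype
  -- a nontrivial element of `P0`
  have hsT : s ∣ Nat.card ↥T := hsQ.trans (Subgroup.card_dvd_of_le hQT)
  have hPTne : (PT : Subgroup ↥T) ≠ ⊥ := PT.ne_bot_of_dvd_card hsT
  obtain ⟨y0, hy0P0, hy01⟩ : ∃ y0 : G, y0 ∈ P0 ∧ y0 ≠ 1 := by
    by_contra hcon
    push Not at hcon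
    apply hPTne
    rw [Subgroup.eq_bot_iff_forall]
    intro t ht
    have : (t : G) = 1 := hcon _ ⟨t, ht, rfl⟩
    exact Subtype.ext this
  -- a Sylow `s`-subgroup of `G` over `P0`
  obtain ⟨P, hP0P⟩ := hP0p.exists_le_sylow
  -- `P ⊓ T ≤ P0`
  have hPT : (P : Subgroup G) ⊓ T ≤ P0 := by
    have hR : IsPGroup s (((P : Subgroup G) ⊓ T).subgroupOf T) :=
      (P.isPGroup'.to_le inf_le_left).comap_subtype
    have hle : (PT : Subgroup ↥T) ≤ ((P : Subgroup G) ⊓ T).subgroupOf T := by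
      intro t ht
      rw [Subgroup.mem_subgroupOf]
      exact ⟨hP0P ⟨t, ht, rfl⟩, t.2⟩
    have hEq := PT.is_maximal' hR hle
    intro x hx
    have hx' : (⟨x, hx.2⟩ : ↥T) ∈ ((P : Subgroup G) ⊓ T).subgroupOf T := by
      rw [Subgroup.mem_subgroupOf]
      exact hx
    rw [hEq] at hx'
    exact ⟨⟨x, hx.2⟩, hx', rfl⟩
  -- `P ≤ T` by the normalizer condition
  have hPleT : (P : Subgroup G) ≤ T := by
    by_contra hcon
    have hnil : Group.IsNilpotent ↥(P : Subgroup G) := P.isPGroup'.isNilpotent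
    have hnc : NormalizerCondition ↥(P : Subgroup G) := Group.normalizerCondition_of_isNilpotent
    set H : Subgroup ↥(P : Subgroup G) := T.subgroupOf (P : Subgroup G) with hH
    have hHlt : H < ⊤ := by
      rw [lt_top_iff_ne_top]
      intro htop
      apply hcon
      intro x hx
      have : (⟨x, hx⟩ : ↥(P : Subgroup G)) ∈ H := by rw [htop]; exact Subgroup.mem_top _
      exact Subgroup.mem_subgroupOf.mp this
    obtain ⟨n, hnN, hnH⟩ := SetLike.exists_of_lt (hnc H hHlt)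
    have hnT : (n : G) ∉ T := fun h => hnH (Subgroup.mem_subgroupOf.mpr h)
    have hy0P : y0 ∈ (P : Subgroup G) := hP0P hy0P0
    have hy0H : (⟨y0, hy0P⟩ : ↥(P : Subgroup G)) ∈ H :=
      Subgroup.mem_subgroupOf.mpr (hP0T hy0P0)
    have hconj : n * ⟨y0, hy0P⟩ * n⁻¹ ∈ H := (Subgroup.mem_normalizer_iff.mp hnN _).mp hy0H
    have hconjT : (n : G) * y0 * (n : G)⁻¹ ∈ T := by
      have := Subgroup.mem_subgroupOf.mp hconj
      simpa using this
    have hconjP : (n : G) * y0 * (n : G)⁻¹ ∈ (P : Subgroup G) :=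
      (P : Subgroup G).mul_mem ((P : Subgroup G).mul_mem n.2 hy0P) ((P : Subgroup G).inv_mem n.2)
    have hconjF : (n : G) * y0 * (n : G)⁻¹ ∈ F := hQF (hP0Q (hPT ⟨hconjP, hconjT⟩))
    exact hy01 (hTI (n : G) hnT y0 (hQF (hP0Q hy0P0)) hconjF)
  have hPF : (P : Subgroup G) ≤ F := fun x hx => hQF (hP0Q (hPT ⟨hx, hPleT hx⟩))
  -- the element of order `s`
  have hog : orderOf g ≠ 0 := (orderOf_pos g).ne'
  set y : G := g ^ (orderOf g / s) with hy
  have hoy : orderOf y = s := orderOf_pow_orderOf_div hog hsg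
  have hy1 : y ≠ 1 := by
    intro h
    rw [h, orderOf_one] at hoy
    exact hs.one_lt.ne' hoy.symm
  have hzp : IsPGroup s (Subgroup.zpowers y) := by
    refine IsPGroup.of_card (n := 1) ?_
    rw [Nat.card_zpowers, hoy, pow_one]
  obtain ⟨P', hP'⟩ := hzp.exists_le_sylow
  obtain ⟨x, hx⟩ := MulAction.exists_smul_eq G P' P
  have hyP' : y ∈ (P' : Subgroup G) := hP' (Subgroup.mem_zpowers y)
  have hxy : x * y * x⁻¹ ∈ (P : Subgroup G) := by
    rw [← hx, Sylow.smul_def, Sylow.pointwise_smul_def]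
    have := Subgroup.smul_mem_pointwise_smul y (MulAut.conj x) (P' : Subgroup G) hyP'
    simpa [MulAut.smul_def, MulAut.conj_apply] using this
  refine ⟨x, ?_⟩
  by_contra hc
  have hcomm : g * y * g⁻¹ = y := by
    have h1 : Commute g y := (Commute.refl g).pow_right _
    rw [h1.eq, mul_inv_cancel_right]
  have hfix : (x * g * x⁻¹) * (x * y * x⁻¹) * (x * g * x⁻¹)⁻¹ = x * y * x⁻¹ := by
    have h2 : (x * g * x⁻¹) * (x * y * x⁻¹) * (x * g * x⁻¹)⁻¹ = x * (g * y * g⁻¹) * x⁻¹ := by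
      group
    rw [h2, hcomm]
  have hyF : x * y * x⁻¹ ∈ F := hPF hxy
  have h1 : x * y * x⁻¹ = 1 := hTI _ hc _ hyF (by rw [hfix]; exact hyF)
  apply hy1
  have h3 : x⁻¹ * (x * y * x⁻¹) * x = y := by group
  rw [← h3, h1]
  group

end Cfsg.Agent.Lib.Helper93.PFTenT
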