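/-
helper93: project GOLD (helper22, S1329), modules GOLD-[SYL] (an `A`-invariant Sylow `r`-subgroup of `Y`) and
GOLD-[MINN] (a minimal nontrivial subgroup of `Y` normalized by `Y` and `A`; it is abelian when `Y` is solvable).
-/
import Mathlib
import Cfsg.Agent.Lib.Helper22.GoldDefs
import Cfsg.Agent.Lib.Helper22.GoldPar
import Cfsg.Agent.Lib.Helper54.Coprime

set_option autoImplicit false

namespace Cfsg.Agent.Lib.Helper93.Gold

open Subgroup
open scoped commutatorElement
open Cfsg.Agent.Lib.Helper22.Gold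

variable {G : Type*} [Group G]

/-- [SYL] -/
theorem exists_inv_sylow [Finite G] {A Y : Subgroup G} (h : Hyp A Y) (r : ℕ) [Fact r.Prime] :
    ∃ S : Subgroup G, S ≤ Y ∧ A ≤ normalizer (S : Set G) ∧ IsPGroup r S ∧ ¬ r ∣ S.relIndex Y ∧
      ∀ T : Subgroup G, T ≤ Y → IsPGroup r T → Y ≤ normalizer (T : Set G) → T ≤ S := by
  have : Fact (Nat.Prime 2) := ⟨Nat.prime_two⟩
  have hcop : (Nat.card A).Coprime (Nat.card Y) := by
    obtain ⟨k, hk⟩ := IsPGroup.exists_card_eq h.two
    rw [hk]
    exact Nat.Coprime.pow_left k (Nat.coprime_two_left.2 h.odd)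
  have hsolvA : Group.IsSolvable A := by
    have := IsPGroup.isNilpotent h.two
    infer_instance
  obtain ⟨P, hP⟩ := Cfsg.Agent.Lib.Helper54.exists_invariant_sylow A Y h.norm hcop (Or.inl hsolvA) r
  refine ⟨(P : Subgroup Y).map Y.subtype, map_subtype_le _, hP, P.isPGroup'.map _, ?_, ?_⟩
  · have e : ((P : Subgroup Y).map Y.subtype).relIndex Y = (P : Subgroup Y).index := by
      rw [relIndex, subgroupOf, comap_map_eq_self_of_injective Y.subtype_injective]
    rw [e]
    exact P.not_dvd_index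
  · intro T hTY hT hYT
    have : (T.subgroupOf Y).Normal := by
      constructor
      intro n hn g
      rw [mem_subgroupOf] at hn ⊢
      have := conj_mem_of_mem_normalizer (hYT g.2) hn
      simpa using this
    have hTp : IsPGroup r (T.subgroupOf Y) := hT.comap_subtype
    have hle : T.subgroupOf Y ≤ (P : Subgroup Y) := hTp.le_sylow_of_normal P
    intro t ht
    exact ⟨⟨t, hTY ht⟩, hle (by rw [mem_subgroupOf]; exact ht), rfl⟩

/-- [MINN] -/
theorem exists_min_normal [Finite G] {A Y : Subgroup G} (h : Hyp A Y) (hs : Group.IsSolvable Y) (hY : Y ≠ ⊥) :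
    ∃ N : Subgroup G, N ≤ Y ∧ N ≠ ⊥ ∧ Y ≤ normalizer (N : Set G) ∧ A ≤ normalizer (N : Set G) ∧
      (∀ x ∈ N, ∀ y ∈ N, x * y = y * x) ∧
      ∀ M : Subgroup G, M ≤ N → M ≠ ⊥ → Y ≤ normalizer (M : Set G) → A ≤ normalizer (M : Set G) → M = N := by
  let 𝒮 : Set (Subgroup G) :=
    {N | N ≤ Y ∧ N ≠ ⊥ ∧ Y ≤ normalizer (N : Set G) ∧ A ≤ normalizer (N : Set G)}
  have h𝒮 : 𝒮.Nonempty := ⟨Y, le_rfl, hY, le_normalizer, h.norm⟩
  obtain ⟨N, ⟨hNY, hN1, hYN, hAN⟩, hmin⟩ := Set.Finite.exists_minimal (Set.toFinite 𝒮) h𝒮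
  have hminimal : ∀ M : Subgroup G, M ≤ N → M ≠ ⊥ → Y ≤ normalizer (M : Set G) →
      A ≤ normalizer (M : Set G) → M = N := by
    intro M hMN hM1 hYM hAM
    exact le_antisymm hMN (hmin ⟨hMN.trans hNY, hM1, hYM, hAM⟩ hMN)
  refine ⟨N, hNY, hN1, hYN, hAN, ?_, hminimal⟩
  -- `[N,N]` is normalized by `Y` and `A`, and is proper in `N`
  have hcomm : ⁅N, N⁆ = ⊥ := by
    by_contra hne
    have hYc : Y ≤ normalizer ((⁅N, N⁆ : Subgroup G) : Set G) := fun y hy =>
      mem_normalizer_commutator (hYN hy) (hYN hy)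
    have hAc : A ≤ normalizer ((⁅N, N⁆ : Subgroup G) : Set G) := fun a ha =>
      mem_normalizer_commutator (hAN ha) (hAN ha)
    have heq := hminimal ⁅N, N⁆ (commutator_le_self N) hne hYc hAc
    have : Group.IsSolvable N := by
      have := hs
      exact Group.isSolvable_of_isSolvable_injective (f := Subgroup.inclusion hNY) (Subgroup.inclusion_injective hNY)
    have : Nontrivial N := (Subgroup.nontrivial_iff_ne_bot N).2 hN1
    have hlt := Group.IsSolvable.commutator_lt_top_of_nontrivial N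
    apply hlt.ne
    have h1 : (commutator N).map N.subtype = (⊤ : Subgroup N).map N.subtype := by
      rw [map_subtype_commutator, heq, ← MonoidHom.range_eq_map, Subgroup.range_subtype]
    exact Subgroup.map_injective N.subtype_injective h1
  intro x hx y hy
  have hle := commutator_eq_bot_iff_le_centralizer.1 hcomm
  exact (mem_centralizer_iff.1 (hle hx) y hy).symm

end Cfsg.Agent.Lib.Helper93.Gold
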