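import Mathlib
import Cfsg.Prelude.Def_GeometricClasses
import Cfsg.Agent.Lib.Helper99.AschDefs

/-!
# ASCH-[EXPR] (helper93, for helper99's Aschbacher project)

`exists_prime_exponent`: if `N` is a minimal `H`-normalised non-scalar subgroup containing the scalars
`Z`, with `N/Z` abelian (`CommScalar N`), then `N/Z` has prime exponent: there is a prime `r` with
`x ^ r ∈ Z` for all `x ∈ N`.
-/

set_option autoImplicit false

namespace Cfsg.Agent.Lib.Helper93.AschExpr

open Cfsg Cfsg.Geo Cfsg.Agent.Lib.Helper99.Asch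
open scoped MatrixGroups Matrix Kronecker

variable {n : ℕ} {F : Type*} [Field F]

/-- in a subgroup with scalar commutators, `u ↦ u ^ r` is multiplicative modulo scalars -/
theorem mul_pow_mem_scalars {N : Subgroup (GL (Fin n) F)} (hab : CommScalar N) {u v : GL (Fin n) F}
    (hu : u ∈ N) (hv : v ∈ N) (r : ℕ) (hur : u ^ r ∈ scalars (Fin n) F)
    (hvr : v ^ r ∈ scalars (Fin n) F) : (u * v) ^ r ∈ scalars (Fin n) F := by
  rw [← QuotientGroup.eq_one_iff] at hur hvr ⊢
  have hcomm : Commute ((u : GL (Fin n) F) : GL (Fin n) F ⧸ scalars (Fin n) F)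
      ((v : GL (Fin n) F) : GL (Fin n) F ⧸ scalars (Fin n) F) := by
    have h1 : ((u * v * u⁻¹ * v⁻¹ : GL (Fin n) F) : GL (Fin n) F ⧸ scalars (Fin n) F) = 1 :=
      (QuotientGroup.eq_one_iff _).2 (hab u hu v hv)
    rw [QuotientGroup.mk_mul, QuotientGroup.mk_mul, QuotientGroup.mk_mul, QuotientGroup.mk_inv,
      QuotientGroup.mk_inv] at h1
    show _ * _ = _ * _
    have := mul_inv_eq_one.1 h1
    exact mul_inv_eq_iff_eq_mul.1 this
  rw [QuotientGroup.mk_pow, QuotientGroup.mk_mul, hcomm.mul_pow, ← QuotientGroup.mk_pow,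
    ← QuotientGroup.mk_pow, hur, hvr, one_mul]

/-- the subgroup `{u ∈ N | u ^ r ∈ Z}` -/
def powSub (N : Subgroup (GL (Fin n) F)) (hab : CommScalar N) (r : ℕ) : Subgroup (GL (Fin n) F) where
  carrier := {u | u ∈ N ∧ u ^ r ∈ scalars (Fin n) F}
  one_mem' := ⟨N.one_mem, by rw [one_pow]; exact Subgroup.one_mem _⟩
  mul_mem' := by
    rintro u v ⟨hu, hur⟩ ⟨hv, hvr⟩
    exact ⟨N.mul_mem hu hv, mul_pow_mem_scalars hab hu hv r hur hvr⟩
  inv_mem' := by
    rintro u ⟨hu, hur⟩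
    refine ⟨N.inv_mem hu, ?_⟩
    rw [inv_pow]
    exact Subgroup.inv_mem _ hur

theorem mem_powSub {N : Subgroup (GL (Fin n) F)} {hab : CommScalar N} {r : ℕ} {u : GL (Fin n) F} :
    u ∈ powSub N hab r ↔ u ∈ N ∧ u ^ r ∈ scalars (Fin n) F := Iff.rfl

end Cfsg.Agent.Lib.Helper93.AschExpr

namespace Cfsg.Agent.Lib.Helper99.Asch

open Cfsg Cfsg.Geo Cfsg.Agent.Lib.Helper93.AschExpr
open scoped MatrixGroups Matrix Kronecker

variable {n : ℕ} {F : Type*} [Field F] [Fintype F]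

theorem exists_prime_exponent (hn : 2 ≤ n) (H N : Subgroup (GL (Fin n) F)) (hN : IsMinNrm H N)
    (hab : CommScalar N) : ∃ r : ℕ, r.Prime ∧ ∀ x ∈ N, x ^ r ∈ scalars (Fin n) F := by
  classical
  have _ := hn
  -- a non-scalar element of `N`
  obtain ⟨x, hxN, hxZ⟩ : ∃ x ∈ N, x ∉ scalars (Fin n) F := by
    by_contra hcon
    apply hN.not_le
    intro x hx
    by_contra h
    exact hcon ⟨x, hx, h⟩
  have hex : ∃ k : ℕ, 0 < k ∧ x ^ k ∈ scalars (Fin n) F :=
    ⟨orderOf x, orderOf_pos x, by rw [pow_orderOf_eq_one]; exact Subgroup.one_mem _⟩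
  set k := Nat.find hex with hk
  obtain ⟨hk0, hkZ⟩ := Nat.find_spec hex
  have hk1 : k ≠ 1 := by
    intro h1
    rw [← hk, h1, pow_one] at hkZ
    exact hxZ hkZ
  obtain ⟨r, hr, hrk⟩ := Nat.exists_prime_and_dvd hk1
  refine ⟨r, hr, ?_⟩
  obtain ⟨m, hm⟩ := hrk
  have hm0 : 0 < m := by
    rcases Nat.eq_zero_or_pos m with h | h
    · rw [h, mul_zero] at hm
      rw [← hk] at hk0
      omega
    · exact h
  have hmk : m < k := by
    rw [hm]
    have := hr.two_le
    nlinarith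
  -- `y = x ^ m` is in `M \ Z`
  have hyZ : x ^ m ∉ scalars (Fin n) F := fun h => Nat.find_min hex hmk ⟨hm0, h⟩
  have hyM : x ^ m ∈ powSub N hab r := by
    refine ⟨N.pow_mem hxN m, ?_⟩
    rw [← pow_mul, mul_comm, ← hm]
    exact hkZ
  have hZM : scalars (Fin n) F ≤ powSub N hab r := by
    intro s hs
    exact ⟨hN.scalars_le hs, Subgroup.pow_mem _ hs r⟩
  have hMN : powSub N hab r ≤ N := fun u hu => hu.1
  have hnrm : Nrm H (powSub N hab r) := by
    intro h hh u hu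
    refine ⟨hN.nrm h hh u hu.1, ?_⟩
    rw [conj_pow]
    exact (scalars_normal (ι := Fin n) (F := F)).conj_mem _ hu.2 h
  rcases hN.minimal _ hZM hMN hnrm with h | h
  · exfalso
    apply hyZ
    rw [← h]
    exact hyM
  · intro u hu
    rw [← h] at hu
    exact hu.2

end Cfsg.Agent.Lib.Helper99.Asch
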