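import Mathlib
import Cfsg.Prelude.Def_GeometricClasses
import Cfsg.Agent.Lib.Helper99.AschDefs

/-!
# ASCH-[TRACES] (helper93, for helper99's Aschbacher project)

`trace_mem_of_sympOut`: the traces of the elements of a symplectic-type group `R` (output `SympOut`)
lie in every subfield containing the `z`-th roots of unity: a scalar `c • 1 ∈ R` has `c ^ z = 1`, and
a non-scalar element is conjugate in `R` to a proper scalar multiple of itself, hence has trace `0`.
-/

set_option autoImplicit false

namespace Cfsg.Agent.Lib.Helper99.Asch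

open Cfsg Cfsg.Geo
open scoped MatrixGroups Matrix Kronecker

variable {n : ℕ} {F : Type*} [Field F] [Fintype F]

theorem trace_mem_of_sympOut (H R : Subgroup (GL (Fin n) F)) (r z : ℕ) (hR : SympOut H R r z)
    (F₀ : Subfield F) (hF₀ : ∀ c : F, c ^ z = 1 → c ∈ F₀) :
    ∀ x ∈ R, Matrix.trace (x : Matrix (Fin n) (Fin n) F) ∈ F₀ := by
  intro x hx
  by_cases hxs : x ∈ scalars (Fin n) F
  · obtain ⟨c, hc⟩ := (mem_scalars_iff x).1 hxs
    rw [hc, Matrix.trace_smul, Matrix.trace_one, Fintype.card_fin, smul_eq_mul]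
    by_cases hn : n = 0
    · rw [hn, Nat.cast_zero, mul_zero]
      exact F₀.zero_mem
    · have hpow : x ^ z = 1 := hR.scalar_pow x hx hxs
      have hm : ((x ^ z : GL (Fin n) F) : Matrix (Fin n) (Fin n) F) = 1 := by
        rw [hpow, Units.val_one]
      rw [Units.val_pow_eq_pow_val, hc, smul_pow, one_pow] at hm
      have i0 : Fin n := ⟨0, Nat.pos_of_ne_zero hn⟩
      have h00 := congrFun (congrFun hm i0) i0
      rw [Matrix.smul_apply, Matrix.one_apply_eq, smul_eq_mul, mul_one] at h00
      exact F₀.mul_mem (hF₀ _ h00) (natCast_mem F₀ n)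
  · -- `x` does not commute with all of `R`
    have hnc : ¬ ∀ s ∈ matrixSet R, (x : Matrix (Fin n) (Fin n) F) * s = s * (x : Matrix (Fin n) (Fin n) F) := by
      intro hall
      obtain ⟨c, hc⟩ := hR.absIrred.2 _ hall
      apply hxs
      rw [mem_scalars_iff]
      have hc0 : c ≠ 0 := by
        intro h0
        rw [h0, zero_smul] at hc
        by_cases hn : n = 0
        · -- then `x = 1` is scalar
          apply hxs
          rw [mem_scalars_iff]
          refine ⟨1, ?_⟩
          subst hn
          ext i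
          exact i.elim0
        · have hu : IsUnit (x : Matrix (Fin n) (Fin n) F) := x.isUnit
          rw [hc] at hu
          have : (0 : Matrix (Fin n) (Fin n) F) ≠ 0 := by
            have i0 : Fin n := ⟨0, Nat.pos_of_ne_zero hn⟩
            have : Nonempty (Fin n) := ⟨i0⟩
            exact hu.ne_zero
          exact this rfl
      exact ⟨Units.mk0 c hc0, by rw [hc]; rfl⟩
    have hex : ∃ y ∈ R, (x : Matrix (Fin n) (Fin n) F) * (y : Matrix (Fin n) (Fin n) F) ≠
        (y : Matrix (Fin n) (Fin n) F) * (x : Matrix (Fin n) (Fin n) F) := by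
      by_contra hcon
      apply hnc
      rintro s ⟨y, hy, rfl⟩
      by_contra h
      exact hcon ⟨y, hy, h⟩
    obtain ⟨y, hy, hxy⟩ := hex
    have hcs := hR.commScalar y⁻¹ (R.inv_mem hy) x hx
    obtain ⟨c, hc⟩ := (mem_scalars_iff _).1 hcs
    -- `y⁻¹ x y = c • x`
    have hconj : ((y⁻¹ : GL (Fin n) F) : Matrix (Fin n) (Fin n) F) * (x : Matrix (Fin n) (Fin n) F) *
        (y : Matrix (Fin n) (Fin n) F) = (c : F) • (x : Matrix (Fin n) (Fin n) F) := by
      have h1 : y⁻¹ * x * y = (y⁻¹ * x * y⁻¹⁻¹ * x⁻¹) * x := by group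
      have h2 : ((y⁻¹ * x * y : GL (Fin n) F) : Matrix (Fin n) (Fin n) F) =
          ((y⁻¹ * x * y⁻¹⁻¹ * x⁻¹ : GL (Fin n) F) : Matrix (Fin n) (Fin n) F) *
            (x : Matrix (Fin n) (Fin n) F) := by
        rw [← Units.val_mul, ← h1]
      rw [hc] at h2
      rw [← Units.val_mul, ← Units.val_mul, h2, Matrix.smul_mul, Matrix.one_mul]
    have htr : Matrix.trace (x : Matrix (Fin n) (Fin n) F) =
        (c : F) * Matrix.trace (x : Matrix (Fin n) (Fin n) F) := by
      have h3 : Matrix.trace (((y⁻¹ : GL (Fin n) F) : Matrix (Fin n) (Fin n) F) *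
          (x : Matrix (Fin n) (Fin n) F) * (y : Matrix (Fin n) (Fin n) F)) =
          Matrix.trace (x : Matrix (Fin n) (Fin n) F) := by
        rw [Matrix.trace_mul_cycle, ← Units.val_mul, mul_inv_cancel, Units.val_one, Matrix.one_mul]
      rw [hconj, Matrix.trace_smul, smul_eq_mul] at h3
      exact h3.symm
    have hc1 : (c : F) ≠ 1 := by
      intro h1
      apply hxy
      rw [h1, one_smul] at hconj
      have : (y : Matrix (Fin n) (Fin n) F) * (((y⁻¹ : GL (Fin n) F) : Matrix (Fin n) (Fin n) F) *
          (x : Matrix (Fin n) (Fin n) F) * (y : Matrix (Fin n) (Fin n) F)) =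
          (y : Matrix (Fin n) (Fin n) F) * (x : Matrix (Fin n) (Fin n) F) := by rw [hconj]
      rw [← Matrix.mul_assoc, ← Matrix.mul_assoc, ← Units.val_mul, mul_inv_cancel, Units.val_one,
        Matrix.one_mul] at this
      exact this
    have h0 : Matrix.trace (x : Matrix (Fin n) (Fin n) F) = 0 := by
      have : (1 - (c : F)) * Matrix.trace (x : Matrix (Fin n) (Fin n) F) = 0 := by
        linear_combination htr
      rcases mul_eq_zero.1 this with h | h
      · exact absurd (sub_eq_zero.1 h).symm hc1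
      · exact h
    rw [h0]
    exact F₀.zero_mem

end Cfsg.Agent.Lib.Helper99.Asch
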