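/-
helper93: abstract theory of extended binary Golay codes.

`IsGolayLike C` : `C` is a self-orthogonal binary code of dimension 12 on 24 coordinates (any Fintype `α` with
`Fintype.card α = 24`) with minimum weight at least 8.  Main results:
* `IsGolayLike.coset_structure` : the words of weight ≤ 4 in a coset of `C` are a single word of weight ≤ 3 or six words
  of weight 4 with pairwise disjoint supports (a sextet);
* `IsGolayLike.sextet_of_tetrad`, `IsGolayLike.exists_octad`, `IsGolayLike.octad_unique`, `IsGolayLike.steiner` :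
  the weight-8 words form a Steiner system S(5,8,24);
* `IsGolayLike.span_octads` : `C` is spanned by its weight-8 words;
* `IsGolayLike.doubly_even` : all weights are divisible by 4.
-/
import Mathlib

set_option autoImplicit false
set_option linter.unusedSectionVars false

namespace Cfsg.Agent.Lib.Helper93


open Finset

section Basic

variable {α : Type*} [Fintype α] [DecidableEq α]

/-- support of a binary word -/
def supp (u : α → ZMod 2) : Finset α := univ.filter fun i => u i ≠ 0

/-- indicator word of a finite set of coordinates -/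
def ind (s : Finset α) : α → ZMod 2 := fun i => if i ∈ s then 1 else 0

theorem zmod2_ne_zero_iff (x : ZMod 2) : x ≠ 0 ↔ x = 1 := by revert x; decide

theorem zmod2_eq_zero_or_one (x : ZMod 2) : x = 0 ∨ x = 1 := by revert x; decide

theorem mem_supp {u : α → ZMod 2} {i : α} : i ∈ supp u ↔ u i = 1 := by
  simp [supp, zmod2_ne_zero_iff]

theorem not_mem_supp {u : α → ZMod 2} {i : α} : i ∉ supp u ↔ u i = 0 := by
  rw [mem_supp]; rcases zmod2_eq_zero_or_one (u i) with h | h <;> simp [h]

theorem hammingNorm_eq_card_supp (u : α → ZMod 2) : hammingNorm u = (supp u).card := by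
  unfold hammingNorm supp
  congr

theorem supp_ind (s : Finset α) : supp (ind s) = s := by
  ext i; simp [mem_supp, ind]

theorem ind_supp (u : α → ZMod 2) : ind (supp u) = u := by
  funext i
  by_cases h : i ∈ supp u
  · simp [ind, h, mem_supp.1 h]
  · simp [ind, h, not_mem_supp.1 h]

theorem supp_injective : Function.Injective (supp : (α → ZMod 2) → Finset α) := by
  intro u v h
  rw [← ind_supp u, ← ind_supp v, h]

theorem supp_zero : supp (0 : α → ZMod 2) = ∅ := by
  ext i; simp [mem_supp]

theorem supp_eq_empty {u : α → ZMod 2} : supp u = ∅ ↔ u = 0 := by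
  constructor
  · intro h; apply supp_injective; rw [h, supp_zero]
  · rintro rfl; exact supp_zero

theorem supp_add (u v : α → ZMod 2) : supp (u + v) = symmDiff (supp u) (supp v) := by
  ext i
  simp only [mem_supp, Finset.mem_symmDiff, Pi.add_apply]
  rcases zmod2_eq_zero_or_one (u i) with h | h <;> rcases zmod2_eq_zero_or_one (v i) with h' | h' <;>
    simp [h, h'] <;> decide

theorem sub_eq_add_zmod2 (u v : α → ZMod 2) : u - v = u + v := by
  funext i
  simp only [Pi.sub_apply, Pi.add_apply]
  generalize u i = a; generalize v i = b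
  revert a b; decide

theorem neg_eq_self_zmod2 (u : α → ZMod 2) : -u = u := by
  funext i
  simp only [Pi.neg_apply]
  generalize u i = a
  revert a; decide

theorem add_self_zmod2 (u : α → ZMod 2) : u + u = 0 := by
  funext i
  simp only [Pi.add_apply, Pi.zero_apply]
  generalize u i = a
  revert a; decide

theorem card_symmDiff_add (s t : Finset α) :
    (symmDiff s t).card + 2 * (s ∩ t).card = s.card + t.card := by
  have h1 : (symmDiff s t) = (s \ t) ∪ (t \ s) := rfl
  have h2 : Disjoint (s \ t) (t \ s) := by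
    rw [Finset.disjoint_left]; intro x hx hx'
    simp only [Finset.mem_sdiff] at hx hx'; exact hx.2 hx'.1
  rw [h1, Finset.card_union_of_disjoint h2]
  have h3 := Finset.card_sdiff_add_card_inter s t
  have h4 := Finset.card_sdiff_add_card_inter t s
  rw [Finset.inter_comm t s] at h4
  omega

theorem card_supp_add (u v : α → ZMod 2) :
    (supp (u + v)).card + 2 * (supp u ∩ supp v).card = (supp u).card + (supp v).card := by
  rw [supp_add]; exact card_symmDiff_add _ _

theorem hammingNorm_add_eq (u v : α → ZMod 2) :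
    hammingNorm (u + v) + 2 * (supp u ∩ supp v).card = hammingNorm u + hammingNorm v := by
  simp only [hammingNorm_eq_card_supp]; exact card_supp_add u v

/-- dot product in terms of supports -/
theorem dot_eq_card_inter (u v : α → ZMod 2) :
    ∑ i, u i * v i = ((supp u ∩ supp v).card : ZMod 2) := by
  have : ∀ i, u i * v i = if i ∈ supp u ∩ supp v then 1 else 0 := by
    intro i
    simp only [Finset.mem_inter, mem_supp]
    rcases zmod2_eq_zero_or_one (u i) with h | h <;> rcases zmod2_eq_zero_or_one (v i) with h' | h' <;>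
      simp [h, h']
  simp only [this]
  rw [Finset.sum_ite_mem, Finset.univ_inter]
  simp

theorem even_card_inter_of_dot_eq_zero {u v : α → ZMod 2} (h : ∑ i, u i * v i = 0) :
    Even (supp u ∩ supp v).card := by
  rw [dot_eq_card_inter] at h
  exact (ZMod.natCast_eq_zero_iff_even).1 h

end Basic



open Finset

section Golay

variable {α : Type*} [Fintype α] [DecidableEq α]

/-- An abstract extended binary Golay code: a self-orthogonal `[24,12]` binary code with minimum weight at least 8. -/
structure IsGolayLike (C : Submodule (ZMod 2) (α → ZMod 2)) : Prop where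
  card_pts : Fintype.card α = 24
  finrank_eq : Module.finrank (ZMod 2) C = 12
  orth : ∀ v ∈ C, ∀ w ∈ C, ∑ i, v i * w i = 0
  minwt : ∀ w ∈ C, w ≠ 0 → 8 ≤ hammingNorm w

variable {C : Submodule (ZMod 2) (α → ZMod 2)}

theorem IsGolayLike.card_quotient (h : IsGolayLike C) : Nat.card ((α → ZMod 2) ⧸ C) = 4096 := by
  have h1 := Submodule.card_eq_card_quotient_mul_card C
  have h2 : Nat.card (α → ZMod 2) = 2 ^ 24 := by
    rw [Module.natCard_eq_pow_finrank (K := ZMod 2), Module.finrank_fintype_fun_eq_card, h.card_pts,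
      Nat.card_zmod]
  have h3 : Nat.card C = 2 ^ 12 := by
    rw [Module.natCard_eq_pow_finrank (K := ZMod 2) (V := C), h.finrank_eq, Nat.card_zmod]
  rw [h2, h3] at h1
  omega

theorem IsGolayLike.light_pair (h : IsGolayLike C) {u u' : α → ZMod 2} (hne : u ≠ u')
    (hC : u - u' ∈ C) (hu : hammingNorm u ≤ 4) (hu' : hammingNorm u' ≤ 4) :
    hammingNorm u = 4 ∧ hammingNorm u' = 4 ∧ Disjoint (supp u) (supp u') := by
  have h8 : 8 ≤ hammingNorm (u + u') := by
    have := h.minwt (u - u') hC (sub_ne_zero.2 hne)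
    rwa [sub_eq_add_zmod2] at this
  have hadd := hammingNorm_add_eq u u'
  have h0 : (supp u ∩ supp u').card = 0 := by omega
  refine ⟨by omega, by omega, ?_⟩
  rw [Finset.disjoint_iff_inter_eq_empty]; exact Finset.card_eq_zero.1 h0

/-- weight function used in the coset count -/
def cwt (m : ℕ) : ℕ := if m ≤ 3 then 6 else if m = 4 then 1 else 0

/-- the equivalence between binary words and their supports -/
def suppEquiv : (α → ZMod 2) ≃ Finset α := ⟨supp, ind, ind_supp, supp_ind⟩

theorem sum_cwt_total (hα : Fintype.card α = 24) :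
    ∑ u : α → ZMod 2, cwt (hammingNorm u) = 24576 := by
  have h1 : ∑ u : α → ZMod 2, cwt (hammingNorm u) = ∑ s : Finset α, cwt s.card := by
    apply Fintype.sum_equiv suppEquiv
    intro u
    rw [hammingNorm_eq_card_supp]; rfl
  rw [h1, ← Finset.powerset_univ, Finset.sum_powerset_apply_card, Finset.card_univ, hα]
  decide

/-- structure of a set of light words in one coset -/
theorem IsGolayLike.coset_cases (h : IsGolayLike C) (A : Finset (α → ZMod 2))
    (hA : ∀ u ∈ A, ∀ u' ∈ A, u - u' ∈ C) (hl : ∀ u ∈ A, hammingNorm u ≤ 4) :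
    (∃ u, A = {u} ∧ hammingNorm u ≤ 3) ∨
    ((∀ u ∈ A, hammingNorm u = 4) ∧ (∀ u ∈ A, ∀ u' ∈ A, u ≠ u' → Disjoint (supp u) (supp u')) ∧
      A.card ≤ 6) := by
  by_cases hex : ∃ u ∈ A, hammingNorm u ≤ 3
  · obtain ⟨u, huA, hu3⟩ := hex
    left
    refine ⟨u, ?_, hu3⟩
    rw [Finset.eq_singleton_iff_unique_mem]
    refine ⟨huA, fun x hx => ?_⟩
    by_contra hne
    have := h.light_pair (Ne.symm hne) (hA u huA x hx) (by omega) (hl x hx)
    omega
  · right
    simp only [not_exists, not_and, not_le] at hex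
    have h4 : ∀ u ∈ A, hammingNorm u = 4 := fun u hu => by
      have := hex u hu; have := hl u hu; omega
    have hdisj : ∀ u ∈ A, ∀ u' ∈ A, u ≠ u' → Disjoint (supp u) (supp u') := fun u hu u' hu' hne =>
      (h.light_pair hne (hA u hu u' hu') (hl u hu) (hl u' hu')).2.2
    refine ⟨h4, hdisj, ?_⟩
    have hpd : (A : Set (α → ZMod 2)).PairwiseDisjoint supp := by
      intro u hu u' hu' hne
      exact hdisj u hu u' hu' hne
    have hcard := Finset.card_biUnion hpd
    have hle : (A.biUnion supp).card ≤ 24 := by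
      rw [← h.card_pts, ← Finset.card_univ]; exact Finset.card_le_card (Finset.subset_univ _)
    have hsum : ∑ u ∈ A, (supp u).card = 4 * A.card := by
      rw [Finset.sum_congr rfl (fun u hu => by rw [← hammingNorm_eq_card_supp, h4 u hu])]
      rw [Finset.sum_const, smul_eq_mul, mul_comm]
    omega

theorem IsGolayLike.coset_sum_le (h : IsGolayLike C) (A : Finset (α → ZMod 2))
    (hA : ∀ u ∈ A, ∀ u' ∈ A, u - u' ∈ C) : ∑ u ∈ A, cwt (hammingNorm u) ≤ 6 := by
  classical
  have hfil : ∑ u ∈ A, cwt (hammingNorm u) = ∑ u ∈ A.filter (fun u => hammingNorm u ≤ 4), cwt (hammingNorm u) := by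
    rw [Finset.sum_filter]
    apply Finset.sum_congr rfl
    intro u _
    split_ifs with h4
    · rfl
    · unfold cwt; rw [if_neg (by omega), if_neg (by omega)]
  rw [hfil]
  set L := A.filter (fun u => hammingNorm u ≤ 4) with hL
  have hLA : ∀ u ∈ L, u ∈ A := fun u hu => (Finset.mem_filter.1 hu).1
  have hLl : ∀ u ∈ L, hammingNorm u ≤ 4 := fun u hu => (Finset.mem_filter.1 hu).2
  rcases h.coset_cases L (fun u hu u' hu' => hA u (hLA u hu) u' (hLA u' hu')) hLl with
    ⟨u, hu, hu3⟩ | ⟨h4, _, hc⟩
  · rw [hu, Finset.sum_singleton]; unfold cwt; rw [if_pos hu3]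
  · rw [Finset.sum_congr rfl (fun u hu => by rw [h4 u hu])]
    rw [Finset.sum_const, smul_eq_mul]
    have : cwt 4 = 1 := by decide
    rw [this]; omega


theorem IsGolayLike.coset_sum_eq (h : IsGolayLike C) (A : Finset (α → ZMod 2)) (w : α → ZMod 2)
    (hA : ∀ u, u ∈ A ↔ u - w ∈ C) : ∑ u ∈ A, cwt (hammingNorm u) = 6 := by
  let _ : DecidableEq ((α → ZMod 2) ⧸ C) := Classical.decEq _
  have : Fintype ((α → ZMod 2) ⧸ C) := Fintype.ofFinite _
  have hcardQ : Fintype.card ((α → ZMod 2) ⧸ C) = 4096 := by
    rw [← Nat.card_eq_fintype_card]; exact h.card_quotient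
  let F : (α → ZMod 2) ⧸ C → ℕ := fun q =>
    ∑ u ∈ (univ : Finset (α → ZMod 2)) with (Submodule.Quotient.mk u : (α → ZMod 2) ⧸ C) = q,
      cwt (hammingNorm u)
  have hle : ∀ q ∈ (univ : Finset ((α → ZMod 2) ⧸ C)), F q ≤ 6 := by
    intro q _
    apply h.coset_sum_le
    intro u hu u' hu'
    rw [Finset.mem_filter] at hu hu'
    rw [← Submodule.Quotient.eq, hu.2, hu'.2]
  have htot : ∑ q, F q = ∑ _q : (α → ZMod 2) ⧸ C, 6 := by
    simp only [F]
    rw [Finset.sum_fiberwise, sum_cwt_total h.card_pts, Finset.sum_const, Finset.card_univ, hcardQ]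
    rfl
  have hall := (Finset.sum_eq_sum_iff_of_le hle).1 htot
  have hq := hall (Submodule.Quotient.mk w) (Finset.mem_univ _)
  have hAeq : A = (univ : Finset (α → ZMod 2)).filter
      (fun u => (Submodule.Quotient.mk u : (α → ZMod 2) ⧸ C) = Submodule.Quotient.mk w) := by
    ext u
    rw [hA, Finset.mem_filter, Submodule.Quotient.eq]
    simp
  rw [hAeq]
  exact hq

/-- **Coset structure of an abstract Golay code**: the words of weight at most 4 in a coset are either a
single word of weight at most 3, or six words of weight 4 with pairwise disjoint supports. -/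
theorem IsGolayLike.coset_structure (h : IsGolayLike C) (w : α → ZMod 2) (A : Finset (α → ZMod 2))
    (hA : ∀ u, u ∈ A ↔ u - w ∈ C ∧ hammingNorm u ≤ 4) :
    (∃ u, A = {u} ∧ hammingNorm u ≤ 3) ∨
    (A.card = 6 ∧ (∀ u ∈ A, hammingNorm u = 4) ∧
      ∀ u ∈ A, ∀ u' ∈ A, u ≠ u' → Disjoint (supp u) (supp u')) := by
  classical
  have hAC : ∀ u ∈ A, ∀ u' ∈ A, u - u' ∈ C := by
    intro u hu u' hu'
    have h1 := ((hA u).1 hu).1
    have h2 := ((hA u').1 hu').1
    have : u - u' = (u - w) - (u' - w) := by abel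
    rw [this]; exact C.sub_mem h1 h2
  rcases h.coset_cases A hAC (fun u hu => ((hA u).1 hu).2) with h1 | ⟨h4, hd, hc⟩
  · exact Or.inl h1
  · right
    refine ⟨?_, h4, hd⟩
    -- the full coset
    obtain ⟨B, hB⟩ : ∃ B : Finset (α → ZMod 2), ∀ u, u ∈ B ↔ u - w ∈ C :=
      ⟨(univ : Finset (α → ZMod 2)).filter (fun u => u - w ∈ C), fun u => by simp⟩
    have hBsum := h.coset_sum_eq B w hB
    have hAB : A ⊆ B := fun u hu => (hB u).2 ((hA u).1 hu).1
    have hfil : ∑ u ∈ B, cwt (hammingNorm u) = ∑ u ∈ A, cwt (hammingNorm u) := by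
      symm
      apply Finset.sum_subset hAB
      intro u huB huA
      have : ¬ hammingNorm u ≤ 4 := fun h4 => huA ((hA u).2 ⟨(hB u).1 huB, h4⟩)
      unfold cwt; rw [if_neg (by omega), if_neg (by omega)]
    rw [hfil, Finset.sum_congr rfl (fun u hu => by rw [h4 u hu])] at hBsum
    rw [Finset.sum_const, smul_eq_mul] at hBsum
    have : cwt 4 = 1 := by decide
    rw [this] at hBsum; omega

end Golay



open Finset

section Golay2

variable {α : Type*} [Fintype α] [DecidableEq α] {C : Submodule (ZMod 2) (α → ZMod 2)}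

/-- Every 4-set is a tetrad of a sextet: the light words of its coset are six weight-4 words with pairwise
disjoint supports, one of which is the indicator of the 4-set. -/
theorem IsGolayLike.sextet_of_tetrad (h : IsGolayLike C) (T : Finset α) (hT : T.card = 4)
    (A : Finset (α → ZMod 2)) (hA : ∀ u, u ∈ A ↔ u - ind T ∈ C ∧ hammingNorm u ≤ 4) :
    ind T ∈ A ∧ A.card = 6 ∧ (∀ u ∈ A, hammingNorm u = 4) ∧
      (∀ u ∈ A, ∀ u' ∈ A, u ≠ u' → Disjoint (supp u) (supp u')) ∧ A.biUnion supp = univ := by
  have hwT : hammingNorm (ind T) = 4 := by rw [hammingNorm_eq_card_supp, supp_ind, hT]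
  have hmem : ind T ∈ A := by
    rw [hA]; refine ⟨by rw [sub_self]; exact C.zero_mem, by omega⟩
  rcases h.coset_structure (ind T) A hA with ⟨u, hu, hu3⟩ | ⟨h6, h4, hd⟩
  · exfalso
    rw [hu, Finset.mem_singleton] at hmem
    rw [hmem] at hwT; omega
  · refine ⟨hmem, h6, h4, hd, ?_⟩
    apply Finset.eq_univ_of_card
    have hpd : (A : Set (α → ZMod 2)).PairwiseDisjoint supp := by
      intro u hu u' hu' hne
      exact hd u hu u' hu' hne
    rw [Finset.card_biUnion hpd, h.card_pts]
    rw [Finset.sum_congr rfl (fun u hu => by rw [← hammingNorm_eq_card_supp, h4 u hu])]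
    rw [Finset.sum_const, smul_eq_mul, h6]

/-- existence part of the Steiner system property -/
theorem IsGolayLike.exists_octad (h : IsGolayLike C) (s : Finset α) (hs : s.card = 5) :
    ∃ c ∈ C, hammingNorm c = 8 ∧ s ⊆ supp c := by
  classical
  have hne : s.Nonempty := by rw [← Finset.card_pos]; omega
  obtain ⟨p, hp⟩ := hne
  set T := s.erase p with hTdef
  have hT : T.card = 4 := by rw [hTdef, Finset.card_erase_of_mem hp, hs]
  obtain ⟨A, hA⟩ : ∃ A : Finset (α → ZMod 2), ∀ u, u ∈ A ↔ u - ind T ∈ C ∧ hammingNorm u ≤ 4 :=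
    ⟨(univ : Finset (α → ZMod 2)).filter (fun u => u - ind T ∈ C ∧ hammingNorm u ≤ 4), fun u => by simp⟩
  obtain ⟨hmem, h6, h4, hd, hun⟩ := h.sextet_of_tetrad T hT A hA
  have hpU : p ∈ A.biUnion supp := by rw [hun]; exact Finset.mem_univ p
  rw [Finset.mem_biUnion] at hpU
  obtain ⟨u', hu', hpu'⟩ := hpU
  have hpT : p ∉ T := by rw [hTdef]; exact Finset.notMem_erase p s
  have hne' : u' ≠ ind T := by
    intro heq; rw [heq, supp_ind] at hpu'; exact hpT hpu'
  have hdisj : Disjoint (supp u') (supp (ind T)) := hd u' hu' (ind T) hmem hne'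
  refine ⟨u' + ind T, ?_, ?_, ?_⟩
  · have := ((hA u').1 hu').1
    rwa [sub_eq_add_zmod2] at this
  · have hadd := hammingNorm_add_eq u' (ind T)
    rw [Finset.disjoint_iff_inter_eq_empty.1 hdisj, Finset.card_empty, h4 u' hu', h4 _ hmem] at hadd
    omega
  · rw [supp_add, hdisj.symmDiff_eq_sup, supp_ind]
    intro x hx
    rw [Finset.sup_eq_union, Finset.mem_union]
    by_cases hxp : x = p
    · left; rw [hxp]; exact hpu'
    · right; rw [hTdef]; exact Finset.mem_erase.2 ⟨hxp, hx⟩

/-- uniqueness part of the Steiner system property -/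
theorem IsGolayLike.octad_unique (h : IsGolayLike C) {c c' : α → ZMod 2} (hc : c ∈ C) (hc' : c' ∈ C)
    (h8 : hammingNorm c = 8) (h8' : hammingNorm c' = 8) (s : Finset α) (hs : s.card = 5)
    (hsc : s ⊆ supp c) (hsc' : s ⊆ supp c') : c = c' := by
  by_contra hne
  have hmin := h.minwt (c - c') (C.sub_mem hc hc') (sub_ne_zero.2 hne)
  rw [sub_eq_add_zmod2] at hmin
  have hadd := hammingNorm_add_eq c c'
  have h5 : 5 ≤ (supp c ∩ supp c').card := by
    rw [← hs]; exact Finset.card_le_card (Finset.subset_inter hsc hsc')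
  omega

/-- **Steiner system S(5,8,24)** from an abstract Golay code. -/
theorem IsGolayLike.steiner (h : IsGolayLike C) (s : Finset α) (hs : s.card = 5) :
    ∃! b : Finset α, (∃ c ∈ C, supp c = b ∧ b.card = 8) ∧ s ⊆ b := by
  obtain ⟨c, hc, h8, hsc⟩ := h.exists_octad s hs
  refine ⟨supp c, ⟨⟨c, hc, rfl, by rw [← hammingNorm_eq_card_supp]; exact h8⟩, hsc⟩, ?_⟩
  rintro b ⟨⟨c', hc', rfl, h8'⟩, hsb⟩
  rw [← hammingNorm_eq_card_supp] at h8'
  rw [h.octad_unique hc' hc h8' h8 s hs hsb hsc]

/-- every word is congruent, modulo the span of the weight-8 codewords, to a word of weight at most 4 -/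
theorem IsGolayLike.reduce_mod_octads (h : IsGolayLike C) :
    ∀ n : ℕ, ∀ v : α → ZMod 2, hammingNorm v ≤ n →
      ∃ u : α → ZMod 2, hammingNorm u ≤ 4 ∧
        v + u ∈ Submodule.span (ZMod 2) {w : α → ZMod 2 | w ∈ C ∧ hammingNorm w = 8} := by
  intro n
  induction n with
  | zero =>
    intro v hv
    exact ⟨v, by omega, by rw [add_self_zmod2]; exact Submodule.zero_mem _⟩
  | succ n ih =>
    intro v hv
    by_cases h4 : hammingNorm v ≤ 4
    · exact ⟨v, h4, by rw [add_self_zmod2]; exact Submodule.zero_mem _⟩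
    · have h5 : 5 ≤ (supp v).card := by rw [← hammingNorm_eq_card_supp]; omega
      obtain ⟨s, hsv, hs⟩ := Finset.exists_subset_card_eq h5
      obtain ⟨c, hc, h8, hsc⟩ := h.exists_octad s hs
      have hadd := hammingNorm_add_eq v c
      have h5' : 5 ≤ (supp v ∩ supp c).card := by
        rw [← hs]; exact Finset.card_le_card (Finset.subset_inter hsv hsc)
      obtain ⟨u, hu4, hu⟩ := ih (v + c) (by omega)
      refine ⟨u, hu4, ?_⟩
      have hcs : c ∈ Submodule.span (ZMod 2) {w : α → ZMod 2 | w ∈ C ∧ hammingNorm w = 8} :=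
        Submodule.subset_span ⟨hc, h8⟩
      have := Submodule.add_mem _ hu hcs
      have heq : v + c + u + c = v + u := by
        have : v + c + u + c = (v + u) + (c + c) := by abel
        rw [this, add_self_zmod2, add_zero]
      rwa [heq] at this

/-- **An abstract Golay code is spanned by its weight-8 words.** -/
theorem IsGolayLike.span_octads (h : IsGolayLike C) :
    Submodule.span (ZMod 2) {w : α → ZMod 2 | w ∈ C ∧ hammingNorm w = 8} = C := by
  apply le_antisymm
  · rw [Submodule.span_le]; intro w hw; exact hw.1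
  · intro v hv
    obtain ⟨u, hu4, hu⟩ := h.reduce_mod_octads (hammingNorm v) v le_rfl
    have hsub : Submodule.span (ZMod 2) {w : α → ZMod 2 | w ∈ C ∧ hammingNorm w = 8} ≤ C := by
      rw [Submodule.span_le]; intro w hw; exact hw.1
    have huC : u ∈ C := by
      have := C.sub_mem (hsub hu) hv
      have heq : v + u - v = u := by abel
      rwa [heq] at this
    have hu0 : u = 0 := by
      by_contra hne
      have := h.minwt u huC hne
      omega
    rwa [hu0, add_zero] at hu

/-- **An abstract Golay code is doubly even.** -/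
theorem IsGolayLike.doubly_even (h : IsGolayLike C) : ∀ w ∈ C, 4 ∣ hammingNorm w := by
  intro w hw
  rw [← h.span_octads] at hw
  have key : w ∈ C ∧ 4 ∣ hammingNorm w := by
    induction hw using Submodule.span_induction with
    | mem x hx => exact ⟨hx.1, by rw [hx.2]; norm_num⟩
    | zero => exact ⟨C.zero_mem, by rw [hammingNorm_zero]; exact dvd_zero 4⟩
    | add x y _ _ hx hy =>
      refine ⟨C.add_mem hx.1 hy.1, ?_⟩
      have hadd := hammingNorm_add_eq x y
      have hev := even_card_inter_of_dot_eq_zero (h.orth x hx.1 y hy.1)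
      obtain ⟨k, hk⟩ := hev
      obtain ⟨a, ha⟩ := hx.2
      obtain ⟨b, hb⟩ := hy.2
      omega
    | smul a x _ hx =>
      rcases zmod2_eq_zero_or_one a with ha | ha
      · rw [ha, zero_smul]; exact ⟨C.zero_mem, by rw [hammingNorm_zero]; exact dvd_zero 4⟩
      · rw [ha, one_smul]; exact hx
  exact key.2

end Golay2


end Cfsg.Agent.Lib.Helper93
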