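import Mathlib
import Cfsg.Prelude.Def_Spor_Mathieu
import Cfsg.Agent.Lib.Helper7.M24Trans

/-!
# Extra tools for the group `M24` of the length-24 code (helper93)

List form of 5-transitivity, permutations and finite sets, elements fixing almost all points.
-/

set_option autoImplicit false

namespace Cfsg.Agent.Lib.Helper93

open Cfsg Cfsg.Agent.Lib.Helper7
open scoped Pointwise

/-- A permutation mapping a finite set into itself stabilizes it. -/
theorem perm_smul_eq_of_forall_mem {α : Type*} [DecidableEq α] {σ : Equiv.Perm α} {s : Finset α}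
    (h : ∀ p ∈ s, σ p ∈ s) : σ • s = s := by
  apply Finset.eq_of_subset_of_card_le
  · intro q hq
    rw [Finset.mem_smul_finset] at hq
    obtain ⟨p, hp, rfl⟩ := hq
    exact h p hp
  · rw [Finset.card_smul_finset]

theorem perm_apply_mem_of_smul_eq {α : Type*} [DecidableEq α] {σ : Equiv.Perm α} {s : Finset α}
    (h : σ • s = s) {p : α} (hp : p ∈ s) : σ p ∈ s := by
  rw [← h]
  exact (apply_mem_perm_smul_finset σ s p).mpr hp

/-- Stabilizing a set is the same as stabilizing its complement. -/
theorem perm_smul_compl_eq_iff {α : Type*} [DecidableEq α] [Fintype α] (σ : Equiv.Perm α)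
    (s : Finset α) : σ • (Finset.univ \ s) = Finset.univ \ s ↔ σ • s = s := by
  have key : ∀ t : Finset α, σ • t = t → σ • (Finset.univ \ t) = Finset.univ \ t := by
    intro t ht
    rw [Finset.smul_finset_sdiff, Finset.smul_finset_univ, ht]
  constructor
  · intro h
    have := key _ h
    simpa using this
  · exact key s

/-- List form of the 5-transitivity of `M24`. -/
theorem exists_M24_map_list (l l' : List GolayPt) (hl : l.Nodup) (hl' : l'.Nodup)
    (hlen : l.length = l'.length) (h5 : l.length ≤ 5) :
    ∃ g ∈ M24, ∀ i, i < l.length → g (l.getD i none) = l'.getD i none := by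
  have inj : ∀ (m : List GolayPt), m.Nodup → ∀ a < m.length, ∀ b < m.length,
      m.getD a none = m.getD b none → a = b := by
    intro m hm a ha b hb hab
    rw [List.getD_eq_getElem _ _ ha, List.getD_eq_getElem _ _ hb] at hab
    exact (hm.getElem_inj_iff).mp hab
  obtain ⟨g1, hg1, h1⟩ := exists_map_to_base l.length h5 (fun j => l.getD j none) (inj l hl)
  obtain ⟨g2, hg2, h2⟩ := exists_map_to_base l'.length (hlen ▸ h5) (fun j => l'.getD j none)
    (inj l' hl')
  refine ⟨g2⁻¹ * g1, M24.mul_mem (M24.inv_mem hg2) hg1, fun i hi => ?_⟩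
  rw [Equiv.Perm.mul_apply, h1 i hi, ← h2 i (hlen ▸ hi)]
  simp

/-- An element of `M24` fixing every point outside a set of at most five points is trivial. -/
theorem eq_one_of_fixes_compl {g : Equiv.Perm GolayPt} (hg : g ∈ M24) (l : List GolayPt)
    (hl : l.Nodup) (h5 : l.length ≤ 5) (hfix : ∀ p, p ∉ l → g p = p) : g = 1 := by
  set l' : List GolayPt := ([6, 7, 8, 9, 10].map pt).take l.length with hl'def
  have hl'nodup : l'.Nodup := by
    apply List.Nodup.sublist (List.take_sublist _ _)
    decide
  have hlen : l.length = l'.length := by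
    rw [hl'def, List.length_take, List.length_map]
    simp only [List.length_cons, List.length_nil]
    omega
  obtain ⟨z, hz, hzl⟩ := exists_M24_map_list l l' hl hl'nodup hlen h5
  have hconj : z * g * z⁻¹ = 1 := by
    apply eq_one_of_fixes_base (M24.mul_mem (M24.mul_mem hz hg) (M24.inv_mem hz))
    intro j hj
    have hnot : z⁻¹ (bp j) ∉ l := by
      intro hmem
      obtain ⟨i, hi, hli⟩ := List.getElem_of_mem hmem
      have h1 := hzl i hi
      rw [List.getD_eq_getElem _ _ hi, hli] at h1
      have h2 : z (z⁻¹ (bp j)) = bp j := by simp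
      rw [h2] at h1
      have h3 : l'.getD i none ∈ ([6, 7, 8, 9, 10].map pt) := by
        rw [List.getD_eq_getElem _ _ (hlen ▸ hi)]
        exact List.mem_of_mem_take (List.getElem_mem _)
      rw [← h1] at h3
      revert h3
      have : ∀ j < 7, bp j ∉ ([6, 7, 8, 9, 10].map pt) := by decide
      exact this j hj
    have := hfix _ hnot
    rw [Equiv.Perm.mul_apply, Equiv.Perm.mul_apply, this]
    simp
  calc g = z⁻¹ * (z * g * z⁻¹) * z := by group
    _ = 1 := by rw [hconj]; group

theorem mem_M22_iff (x : Equiv.Perm GolayPt) :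
    x ∈ Cfsg.Spor.M22 ↔ x ∈ M24 ∧ x none = none ∧ x (some 0) = some 0 := by
  show x ∈ (M24 ⊓ MulAction.stabilizer (Equiv.Perm GolayPt) (none : GolayPt)) ⊓
    MulAction.stabilizer (Equiv.Perm GolayPt) (some 0 : GolayPt) ↔ _
  rw [Subgroup.mem_inf, Subgroup.mem_inf]
  constructor
  · rintro ⟨⟨a, b⟩, c⟩
    exact ⟨a, MulAction.mem_stabilizer_iff.mp b, MulAction.mem_stabilizer_iff.mp c⟩
  · rintro ⟨a, b, c⟩
    exact ⟨⟨a, MulAction.mem_stabilizer_iff.mpr b⟩, MulAction.mem_stabilizer_iff.mpr c⟩

end Cfsg.Agent.Lib.Helper93
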