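import Mathlib
import Cfsg.Agent.Lib.Helper76.Gag.Defs

/-! # GAG-[ZEQ] (helper76's sheet, S4561): `center_eq_of_star` (helper93) -/

set_option autoImplicit false

namespace Cfsg.Agent.Lib.Helper76.Gag

open scoped commutatorElement

/-! ## GAG-[ZEQ] -/

theorem center_eq_of_star {H : Type*} [Group H] (Z : Subgroup H) (hZ : Z ≤ Subgroup.center H)
    (h : ∀ x : H, x ∉ Z → ∃ g : H, ⁅x, g⁆ ∈ Z ∧ ⁅x, g⁆ ≠ 1) : Z = Subgroup.center H ∧ StarC H := by
  refine ⟨le_antisymm hZ ?_, ?_⟩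
  · intro x hx
    by_contra hxZ
    obtain ⟨g, -, hne⟩ := h x hxZ
    apply hne
    rw [commutatorElement_def]
    have hcomm : g * x = x * g := (Subgroup.mem_center_iff.mp hx) g
    calc x * g * x⁻¹ * g⁻¹ = (g * x) * x⁻¹ * g⁻¹ := by rw [hcomm]
      _ = 1 := by group
  · intro x hx
    have hxZ : x ∉ Z := fun hxZ => hx (hZ hxZ)
    obtain ⟨g, hg, hne⟩ := h x hxZ
    exact ⟨g, hZ hg, hne⟩

end Cfsg.Agent.Lib.Helper76.Gag
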