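import Mathlib
import Cfsg.Agent.Lib.Helper36.Tri.StarDefs
import Cfsg.Agent.Lib.Helper36.AutO.Transfer2

set_option autoImplicit false
set_option linter.unusedSimpArgs false
set_option linter.unusedVariables false
set_option linter.unusedSectionVars false

/-!
# TRI8 module [U-F] (helper36's sheet #4305)

An automorphism of `Γ ⧸ Z(Γ)` of *point type* (it permutes the radicals `Ub r`) is induced by a
semisimilarity: copy of `OModel.exists_normalize`, `OModel.main` and `gammaPOmega_eq_top` with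
`exists_Ub_map` replaced by the hypothesis `PointType M α` (no `Regime`).
-/

namespace Cfsg.Agent.Lib.Helper93.TriUF

open Cfsg.Agent.Lib.Helper13 hiding isoGroup mem_isoGroup
open Cfsg.Agent.Lib.Helper36 Cfsg.Agent.Lib.Helper44 Cfsg.Agent.Lib.Helper36.AutO
  Cfsg.Agent.Lib.Helper36.Tri Module

section
variable {F V : Type*} [Field F] [AddCommGroup V] [Module F V]

local notation "pol" => QuadraticMap.polar

variable {Q : QuadraticForm F V} {Γ : Type*} [Group Γ] (M : OModel Q Γ)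

/-- point type is stable under composing with an inner automorphism. -/
theorem pointType_conj_mul (k : Γ) (α : MulAut (Γ ⧸ Subgroup.center Γ)) (hα : PointType M α) :
    PointType M (MulAut.conj (prj Γ k) * α) := by
  intro r hr0 hr
  obtain ⟨r', hr'0, hr', h⟩ := hα r hr0 hr
  refine ⟨M.ρ k r', ?_, ?_, ?_⟩
  · intro h0
    apply hr'0
    have : M.ρ k r' = M.ρ k 0 := by rw [h0, map_zero]
    exact (M.ρ k).injective this
  · rw [M.isom, hr']
  · rw [← OModel.map_mul_aut, h, M.Ub_conj k r' hr']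

variable [Finite F] [FiniteDimensional F V] (hQ : (QuadraticMap.polarBilin Q).Nondegenerate)
  (ch : ℕ) [hch : Fact ch.Prime] [hchar : CharP F ch]

include M hQ ch hch hchar

/-- **Normalisation** for automorphisms of point type. -/
theorem exists_normalize_of_pointType [Finite Γ] (h7 : 7 ≤ finrank F V)
    (α : MulAut (Γ ⧸ Subgroup.center Γ)) (hα : PointType M α) (e f : V)
    (he : Q e = 0) (hf : Q f = 0) (hef : pol (⇑Q) e f = 1) :
    ∃ g : Γ, (M.Ub e).map (MulAut.conj (prj Γ g) * α).toMonoidHom = M.Ub e ∧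
      (M.Ub f).map (MulAut.conj (prj Γ g) * α).toMonoidHom = M.Ub f := by
  have hfe : pol (⇑Q) f e = 1 := by rw [QuadraticMap.polar_comm]; exact hef
  have he0 : e ≠ 0 := by
    intro h0
    rw [h0, QuadraticMap.polar_zero_left] at hef
    exact zero_ne_one hef
  have hf0 : f ≠ 0 := by
    intro h0
    rw [h0, QuadraticMap.polar_zero_right] at hef
    exact zero_ne_one hef
  -- first step: fix `U e`
  obtain ⟨r', hr'0, hr', hαe⟩ := hα e he0 he
  obtain ⟨k, c, hc0, hk⟩ := M.exists_map_smul hQ (by omega) r' e hr'0 he0 hr' he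
  set α₁ : MulAut (Γ ⧸ Subgroup.center Γ) := MulAut.conj (prj Γ k) * α with hα₁
  have hα₁e : (M.Ub e).map α₁.toMonoidHom = M.Ub e := by
    rw [hα₁, ← OModel.map_mul_aut, hαe, M.Ub_conj k r' hr', hk, M.Ub_smul e c hc0 he]
  -- second step
  obtain ⟨f'', hf''0, hf'', hα₁f⟩ := pointType_conj_mul M k α hα f hf0 hf
  have hef'' : pol (⇑Q) e f'' ≠ 0 := by
    intro h0
    obtain ⟨y, hy1, hye, hyf⟩ := M.exists_ne_one_mem_Ub_inf hQ h7 ch e f'' he0 hf''0 he hf'' h0
    rw [← hα₁e] at hye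
    rw [← hα₁f] at hyf
    obtain ⟨z, hz, rfl⟩ := hye
    obtain ⟨z', hz', hzz'⟩ := hyf
    have : z' = z := α₁.injective hzz'
    rw [this] at hz'
    have := M.Ub_inf_Ub hQ h7 ch e f he hf hef z hz hz'
    apply hy1
    rw [this]
    exact map_one _
  set d := pol (⇑Q) e f'' with hd
  set f₃ := d⁻¹ • f'' with hf₃
  have hQf₃ : Q f₃ = 0 := by rw [hf₃, QuadraticMap.map_smul, hf'', smul_zero]
  have hef₃ : pol (⇑Q) e f₃ = 1 := by
    rw [hf₃, QuadraticMap.polar_smul_right, smul_eq_mul, inv_mul_cancel₀ hef'']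
  have hUf₃ : M.Ub f₃ = M.Ub f'' := M.Ub_smul f'' d⁻¹ (inv_ne_zero hef'') hf''
  have hu : pol (⇑Q) e (f₃ - f) = 0 := by
    rw [QuadraticMap.polar_sub_right, hef₃, hef, sub_self]
  set k' := M.E e (f₃ - f) with hk'
  have hk'f : M.ρ k' f₃ = f := by
    rw [hk', M.E_apply e _ he hu]
    exact eich_trans_opp Q e f₃ f hQf₃ hf hef₃ hef
  have hk'e : M.ρ k' e = e := by
    rw [hk', M.E_apply e _ he hu]
    exact siegelLin_fix_left Q e _ he hu
  refine ⟨k' * k, ?_, ?_⟩
  · have e1 : MulAut.conj (prj Γ (k' * k)) * α = MulAut.conj (prj Γ k') * α₁ := by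
      rw [hα₁, map_mul, map_mul, mul_assoc]
    rw [e1, ← OModel.map_mul_aut, hα₁e, M.Ub_conj k' e he, hk'e]
  · have e1 : MulAut.conj (prj Γ (k' * k)) * α = MulAut.conj (prj Γ k') * α₁ := by
      rw [hα₁, map_mul, map_mul, mul_assoc]
    rw [e1, ← OModel.map_mul_aut, hα₁f, ← hUf₃, M.Ub_conj k' f₃ hQf₃, hk'f]

/-- MODULE [U-F] (1): an automorphism of point type is induced by a semisimilarity. -/
theorem main_of_pointType [Finite Γ] (h7 : 7 ≤ finrank F V) (α : MulAut (Γ ⧸ Subgroup.center Γ))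
    (hα : PointType M α) :
    ∃ (σ : F →+* F) (g : V → V) (c : F), c ≠ 0 ∧ (∀ x y, g (x + y) = g x + g y) ∧
      (∀ (k : F) (x : V), g (k • x) = σ k • g x) ∧ Function.Bijective g ∧
      (∀ x, Q (g x) = c * σ (Q x)) ∧
      ∀ s s' : Γ, (∀ x, M.ρ s' (g x) = g (M.ρ s x)) → α (prj Γ s) = prj Γ s' := by
  obtain ⟨e, f, -, he, hf, hef, -, -, -⟩ := peel Q hQ (by omega)
  obtain ⟨g₀, h1, h2⟩ := exists_normalize_of_pointType M hQ ch h7 α hα e f he hf hef
  obtain ⟨σ, g, c, hc, hadd, hsm, hinj, hQg, hall⟩ :=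
    M.main_normalized hQ h7 ch (MulAut.conj (prj Γ g₀) * α) e f he hf hef h1 h2
  have hfin : Finite V := Module.finite_of_finite F
  have hinj' : Function.Injective (fun x => M.ρ g₀⁻¹ (g x)) :=
    (M.ρ g₀⁻¹).injective.comp hinj
  have hbij : Function.Bijective (fun x => M.ρ g₀⁻¹ (g x)) :=
    ⟨hinj', Finite.injective_iff_surjective.1 hinj'⟩
  refine ⟨σ, fun x => M.ρ g₀⁻¹ (g x), c, hc, ?_, ?_, hbij, ?_, ?_⟩
  · intro x y
    show M.ρ g₀⁻¹ (g (x + y)) = M.ρ g₀⁻¹ (g x) + M.ρ g₀⁻¹ (g y)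
    rw [hadd, map_add]
  · intro k x
    show M.ρ g₀⁻¹ (g (k • x)) = σ k • M.ρ g₀⁻¹ (g x)
    rw [hsm, map_smul]
  · intro x
    show Q (M.ρ g₀⁻¹ (g x)) = c * σ (Q x)
    rw [M.isom, hQg]
  · intro s s' h
    obtain ⟨s'', hs'', hβ⟩ := hall s
    have hs' : s' = g₀⁻¹ * s'' * g₀ := by
      apply M.ext_apply
      intro z
      obtain ⟨x, rfl⟩ := hbij.2 z
      show M.ρ s' (M.ρ g₀⁻¹ (g x)) = M.ρ (g₀⁻¹ * s'' * g₀) (M.ρ g₀⁻¹ (g x))
      rw [h x, M.mul_apply, M.mul_apply, M.inv_apply, hs'']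
    have h3 : α (prj Γ s) = (prj Γ g₀)⁻¹ * prj Γ s'' * prj Γ g₀ := by
      rw [← hβ]
      simp only [MulAut.mul_apply, MulAut.conj_apply]
      group
    rw [h3, hs', map_mul, map_mul, map_inv]

end

section mat
variable {ι : Type} [Fintype ι] [DecidableEq ι] {F : Type*} [Field F]

/-- MODULE [U-F] (2): an automorphism of `PΩ(Q)` of point type lies in `PΓO(Q)`. -/
theorem mem_gamma_of_pointType [Fintype F]
    (Q : QuadraticForm F (ι → F)) (hQ : (QuadraticMap.polarBilin Q).Nondegenerate)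
    (h7 : 7 ≤ finrank F (ι → F)) (β : MulAut (Cfsg.POmega F (⇑Q)))
    (hβ : PointType (omegaModel Q hQ h7) β) : β ∈ Cfsg.gammaPOmega F (⇑Q) := by
  rw [mem_gammaPOmega_iff]
  obtain ⟨ch, hch⟩ := CharP.exists F
  have := hch
  have hp : ch.Prime := CharP.char_is_prime F ch
  have : Fact ch.Prime := ⟨hp⟩
  obtain ⟨σ, g, c, hc, hadd, hsm, hbij, hQg, hind⟩ :=
    main_of_pointType (omegaModel Q hQ h7) hQ ch h7 β hβ
  set σ' : F ≃+* F :=
    RingEquiv.ofBijective σ ⟨σ.injective, Finite.injective_iff_surjective.1 σ.injective⟩ with hσ'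
  have hσσ : ∀ a, σ' a = σ a := fun a => rfl
  let L : (ι → F) →ₗ[F] (ι → F) :=
    { toFun := fun v => g (fun i => σ'.symm (v i))
      map_add' := by
        intro v w
        rw [← hadd]
        congr 1
        funext i
        exact map_add σ'.symm (v i) (w i)
      map_smul' := by
        intro k v
        have : (fun i => σ'.symm ((k • v) i)) = σ'.symm k • (fun i => σ'.symm (v i)) := by
          funext i
          exact map_mul σ'.symm k (v i)
        rw [this, hsm, ← hσσ, σ'.apply_symm_apply]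
        rfl }
  have hLapp : ∀ v, L v = g (fun i => σ'.symm (v i)) := fun v => rfl
  have hLbij : Function.Bijective L := by
    have h2 : Function.Bijective (fun v : ι → F => (fun i => σ'.symm (v i))) := by
      constructor
      · intro v w h
        funext i
        exact σ'.symm.injective (congrFun h i)
      · intro w
        exact ⟨fun i => σ' (w i), by funext i; exact σ'.symm_apply_apply (w i)⟩
    exact hbij.comp h2
  set G : GL ι F := (glLinEquiv ι F).symm (LinearEquiv.ofBijective L hLbij) with hG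
  have hGapp : ∀ w : ι → F, (G : Matrix ι ι F).mulVec w = g (fun i => σ'.symm (w i)) := by
    intro w
    rw [← glLinEquiv_apply, hG, MulEquiv.apply_symm_apply]
    rfl
  have hGσ : ∀ v : ι → F, (G : Matrix ι ι F).mulVec (fun i => σ' (v i)) = g v := by
    intro v
    rw [hGapp]
    congr 1
    funext i
    exact σ'.symm_apply_apply (v i)
  refine ⟨G, σ', ⟨Units.mk0 c hc, fun v => ?_⟩, ?_⟩
  · rw [hGσ, hQg]
    rfl
  · intro s s' hss'
    apply hind s s'
    intro x
    rw [omegaModel_apply, omegaModel_apply, ← hGσ x, ← hGσ, Matrix.mulVec_mulVec, hss',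
      Matrix.mul_assoc _ ((G⁻¹ : GL ι F) : Matrix ι ι F) (G : Matrix ι ι F), ← Units.val_mul,
      inv_mul_cancel, Units.val_one, Matrix.mul_one, ← Matrix.mulVec_mulVec]
    congr 1
    exact map_mulVec_vmap σ' _ x

end mat

end Cfsg.Agent.Lib.Helper93.TriUF
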