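/-
helper93: project B2ISO (helper37, S1083), module B2ISO-[R-HOM]: `rhoM` is multiplicative on isometries.
-/
import Mathlib
import Cfsg.Agent.Lib.Helper37.B2Iso.Defs
import Cfsg.Agent.Lib.Helper73.B2IsoRAct
import Cfsg.Agent.Lib.Helper73.B2IsoRBasis
import Cfsg.Agent.Lib.Helper93.B2IsoRHomOf

set_option autoImplicit false

namespace Cfsg.Agent.Lib.Helper93.B2Iso

open Matrix Cfsg.Lie Cfsg.Agent.Lib.Helper37.B2Iso

section ring
variable {R : Type*} [CommRing R]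

theorem rhoM_one : rhoM (1 : Matrix I5 I5 R) = 1 :=
  rhoM_one_of Cfsg.Agent.Lib.Helper73.B2Iso.coordT_bT

theorem rhoM_mul (g h : Matrix I5 I5 R) (hg : IsIsom g) (hh : IsIsom h) :
    rhoM (g * h) = rhoM g * rhoM h :=
  rhoM_mul_of Cfsg.Agent.Lib.Helper73.B2Iso.actT_sym Cfsg.Agent.Lib.Helper73.B2Iso.InL_actT
    Cfsg.Agent.Lib.Helper73.B2Iso.InL_bT Cfsg.Agent.Lib.Helper73.B2Iso.expand g h hg hh

end ring

end Cfsg.Agent.Lib.Helper93.B2Iso
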