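/-
helper93: project B2ISO (helper37, S1083), module B2ISO-[R-KER2]: an isometry acting trivially on the tensor model `L`
is scalar, and the scalars `c` with `c * c = 1` act trivially.
-/
import Mathlib
import Cfsg.Agent.Lib.Helper37.B2Iso.Defs
import Cfsg.Agent.Lib.Helper73.B2IsoRAct
import Cfsg.Agent.Lib.Helper73.B2IsoRBasis
import Cfsg.Agent.Lib.Helper93.B2IsoRKer2Of

set_option autoImplicit false

namespace Cfsg.Agent.Lib.Helper93.B2Iso

open Matrix Cfsg.Lie Cfsg.Agent.Lib.Helper37.B2Iso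

variable {F : Type*} [Field F]

/-- an isometry acting trivially on `L` is scalar -/
theorem scalar_of_rhoM_eq_one (g : Matrix I5 I5 F) (hg : IsIsom g) (h : rhoM g = 1) :
    ∃ c : F, g = c • (1 : Matrix I5 I5 F) :=
  scalar_of_rhoM_eq_one_of Cfsg.Agent.Lib.Helper73.B2Iso.InL_actT Cfsg.Agent.Lib.Helper73.B2Iso.InL_bT
    Cfsg.Agent.Lib.Helper73.B2Iso.expand g hg h

theorem rhoM_scalar (c : F) (hc : c * c = 1) :
    rhoM (c • (1 : Matrix I5 I5 F)) = 1 :=
  rhoM_scalar_of Cfsg.Agent.Lib.Helper73.B2Iso.coordT_bT c hc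

end Cfsg.Agent.Lib.Helper93.B2Iso
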