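/-
helper93, project BHRSU5 (helper37's sheet), module BHRSU5-[C-X66]:
the 66-vector set `X66` is invariant under `Zc`, `Pc`, `Sc`, not under `Tc`; membership criterion for `stabX`.
-/
import Mathlib
import Cfsg.Prelude.Def_GeometricClasses
import Cfsg.Prelude.Def_ClassicalGeometry
import Cfsg.Agent.Lib.Helper56.F4
import Cfsg.Agent.Lib.Helper37.BHRSU.Defs
import Cfsg.Agent.Lib.Helper37.BHRSU5.Defs

set_option autoImplicit false

namespace Cfsg.Agent.Lib.Helper37.BHRSU5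

open Cfsg Cfsg.Geo Cfsg.Agent.Lib.Helper37.BHRSU
open Cfsg.Agent.Lib.Helper56.F4 (w v)
open scoped MatrixGroups Matrix

set_option maxRecDepth 100000 in
theorem X66_maps_Zc : ∀ x ∈ X66, Zc *ᵥ x ∈ X66 := by decide +kernel

set_option maxRecDepth 100000 in
theorem X66_maps_Pc : ∀ x ∈ X66, Pc *ᵥ x ∈ X66 := by decide +kernel

set_option maxRecDepth 100000 in
theorem X66_maps_Sc : ∀ x ∈ X66, Sc *ᵥ x ∈ X66 := by decide +kernel

/-- BHRSU5-[C-X66]: `X66` is invariant under `Zc, Pc, Sc`. -/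
theorem X66_maps : (∀ x ∈ X66, Zc *ᵥ x ∈ X66) ∧ (∀ x ∈ X66, Pc *ᵥ x ∈ X66) ∧ (∀ x ∈ X66, Sc *ᵥ x ∈ X66) :=
  ⟨X66_maps_Zc, X66_maps_Pc, X66_maps_Sc⟩

set_option maxRecDepth 100000 in
/-- BHRSU5-[C-X66]: `X66` is not invariant under `Tc`. -/
theorem X66_Tc : ∃ x ∈ X66, Tc *ᵥ x ∉ X66 := by decide +kernel

/-- an invertible matrix mapping `X66` into itself permutes it (injective on a finite set) -/
theorem mem_stabX_of_maps (g : GL (Fin 5) F4c) (h : ∀ x ∈ X66, (g : M5) *ᵥ x ∈ X66) : g ∈ stabX := by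
  have hinj : Function.Injective (fun x : Fin 5 → F4c => (g : M5) *ᵥ x) := by
    intro x y hxy
    have h2 : ((g⁻¹ : GL (Fin 5) F4c) : M5) *ᵥ ((g : M5) *ᵥ x) = ((g⁻¹ : GL (Fin 5) F4c) : M5) *ᵥ ((g : M5) *ᵥ y) :=
      congrArg _ hxy
    rwa [Matrix.mulVec_mulVec, Matrix.mulVec_mulVec, ← Units.val_mul, inv_mul_cancel, Units.val_one,
      Matrix.one_mulVec, Matrix.one_mulVec] at h2
  have himg : X66.image (fun x : Fin 5 → F4c => (g : M5) *ᵥ x) = X66 := by
    apply Finset.eq_of_subset_of_card_le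
    · intro y hy
      obtain ⟨x, hx, rfl⟩ := Finset.mem_image.mp hy
      exact h x hx
    · rw [Finset.card_image_of_injective _ hinj]
  intro x
  constructor
  · intro hx
    rw [← himg] at hx
    obtain ⟨y, hy, hyx⟩ := Finset.mem_image.mp hx
    have : y = x := hinj hyx
    exact this ▸ hy
  · exact h x

theorem ZG_mem_stabX : ZG ∈ stabX := mem_stabX_of_maps ZG X66_maps.1
theorem PG_mem_stabX : PG ∈ stabX := mem_stabX_of_maps PG X66_maps.2.1
theorem SG_mem_stabX : SG ∈ stabX := mem_stabX_of_maps SG X66_maps.2.2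
theorem TG_not_mem_stabX : TG ∉ stabX := by
  intro hT
  obtain ⟨x, hx, hTx⟩ := X66_Tc
  exact hTx ((hT x).mpr hx)

end Cfsg.Agent.Lib.Helper37.BHRSU5
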