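/-
helper93: S2286 modules [WSQ], [CENTER], [PSLCHAR2] (sheet of helper53).
-/
import Mathlib
import Cfsg.Agent.Lib.Helper53.SL2Pres.Defs

set_option autoImplicit false

namespace Cfsg.Agent.Lib.Helper93.SL2Pres

open Cfsg.Agent.Lib.Helper53 Cfsg.Agent.Lib.Helper53.Steinberg Cfsg.Agent.Lib.Helper53.SL2Pres

variable {G : Type*} [Group G] {K : Type*} [Field K]

theorem W_sq_val {a : K} (ha : a ≠ 0) :
    (W (xM : K → _) yM a * W xM yM a).1 = !![-1, 0; 0, -1] := by
  simp only [Matrix.SpecialLinearGroup.coe_mul, wM_val ha, Matrix.mul_fin_two]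
  ext i j
  fin_cases i <;> fin_cases j <;> simp [ha]

/-- MODULE S2286-[WSQ] -/
theorem W_sq_mem_center {a : K} (ha : a ≠ 0) :
    W (xM : K → _) yM a * W xM yM a ∈ Subgroup.center (Matrix.SpecialLinearGroup (Fin 2) K) := by
  rw [Matrix.SpecialLinearGroup.mem_center_iff]
  refine ⟨-1, by simp, ?_⟩
  rw [W_sq_val ha]
  ext i j
  fin_cases i <;> fin_cases j <;> simp [Matrix.scalar_apply]

/-- a central element of `SL₂(K)` is `1` or `w(1)²`. -/
theorem eq_one_or_eq_W_sq_of_mem_center {z : Matrix.SpecialLinearGroup (Fin 2) K}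
    (hz : z ∈ Subgroup.center (Matrix.SpecialLinearGroup (Fin 2) K)) :
    z = 1 ∨ z = W (xM : K → _) yM 1 * W xM yM 1 := by
  rw [Matrix.SpecialLinearGroup.mem_center_iff] at hz
  obtain ⟨r, hr, hrz⟩ := hz
  have hr2 : r ^ 2 = 1 := by simpa using hr
  have h1 : (r - 1) * (r + 1) = 0 := by ring_nf; rw [hr2]; ring
  rcases mul_eq_zero.mp h1 with h | h
  · left
    have hr1 : r = 1 := sub_eq_zero.mp h
    apply Subtype.ext
    rw [← hrz, hr1]
    simp
  · right
    have hr1 : r = -1 := eq_neg_of_add_eq_zero_left h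
    apply Subtype.ext
    rw [← hrz, hr1, W_sq_val one_ne_zero]
    ext i j
    fin_cases i <;> fin_cases j <;> simp [Matrix.scalar_apply]

/-- MODULE S2286-[CENTER] -/
theorem center_le_ker {Γ : Type*} [Group Γ] {X Y : K → Γ}
    (Φ : Matrix.SpecialLinearGroup (Fin 2) K →* Γ) (hX : ∀ a, Φ (xM a) = X a)
    (hY : ∀ a, Φ (yM a) = Y a) (hw : W X Y 1 * W X Y 1 = 1) :
    Subgroup.center (Matrix.SpecialLinearGroup (Fin 2) K) ≤ Φ.ker := by
  intro z hz
  rw [MonoidHom.mem_ker]
  rcases eq_one_or_eq_W_sq_of_mem_center hz with h | h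
  · rw [h, map_one]
  · have hW : Φ (W (xM : K → _) yM 1) = W X Y 1 := by
      unfold W
      rw [map_mul, map_mul, hX, hY]
    rw [h, map_mul, hW, hw]

/-- MODULE S2286-[PSLCHAR2] -/
theorem psl_equiv_sl_of_char_two [CharP K 2] :
    Nonempty (Matrix.ProjectiveSpecialLinearGroup (Fin 2) K ≃* Matrix.SpecialLinearGroup (Fin 2) K) := by
  have hbot : Subgroup.center (Matrix.SpecialLinearGroup (Fin 2) K) = ⊥ := by
    rw [eq_bot_iff]
    intro z hz
    rw [Subgroup.mem_bot]
    rw [Matrix.SpecialLinearGroup.mem_center_iff] at hz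
    obtain ⟨r, hr, hrz⟩ := hz
    have hr2 : r ^ 2 = 1 := by simpa using hr
    have h2 : (2 : K) = 0 := by
      have := CharP.cast_eq_zero K 2
      simpa using this
    have h1 : (r - 1) ^ 2 = 0 := by
      have : (r - 1) ^ 2 = r ^ 2 - 2 * r + 1 := by ring
      rw [this, hr2, h2]; ring_nf
      rw [h2]
    have hr1 : r = 1 := sub_eq_zero.mp ((pow_eq_zero_iff (two_ne_zero)).mp h1)
    apply Subtype.ext
    rw [← hrz, hr1]
    simp
  exact ⟨(QuotientGroup.quotientMulEquivOfEq hbot).trans (QuotientGroup.quotientBot)⟩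

end Cfsg.Agent.Lib.Helper93.SL2Pres
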