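/-
helper93: S2286 module [MATPP] (sheet of helper53).
-/
import Mathlib
import Cfsg.Agent.Lib.Helper53.SL2Pres.Defs

set_option autoImplicit false

namespace Cfsg.Agent.Lib.Helper93.SL2Pres

open Cfsg.Agent.Lib.Helper53 Cfsg.Agent.Lib.Helper53.Steinberg Cfsg.Agent.Lib.Helper53.SL2Pres

variable {G : Type*} [Group G] {K : Type*} [Field K]

/-- the torus element `w(lam) w(1)⁻¹ = diag(lam, lam⁻¹)`. -/
theorem hM_val {lam : K} (hlam : lam ≠ 0) :
    (W xM yM lam * (W (xM : K → _) yM 1)⁻¹).1 = !![lam, 0; 0, lam⁻¹] := by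
  rw [dataM.W_inv]
  have h1 : (-1 : K) ≠ 0 := neg_ne_zero.mpr one_ne_zero
  simp only [Matrix.SpecialLinearGroup.coe_mul, wM_val hlam, wM_val h1, Matrix.mul_fin_two]
  ext i j
  fin_cases i <;> fin_cases j <;> simp

theorem hM_conj {lam : K} (hlam : lam ≠ 0) (a : K) :
    (W xM yM lam * (W (xM : K → _) yM 1)⁻¹) * xM a * (W xM yM lam * (W (xM : K → _) yM 1)⁻¹)⁻¹ =
      xM (lam ^ 2 * a) := by
  rw [mul_inv_eq_iff_eq_mul]
  apply sl2ext <;>
    simp [Matrix.SpecialLinearGroup.coe_mul, hM_val hlam, xM_val]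
  field_simp

theorem uc_hM {lam : K} (hlam : lam ≠ 0) (i : ℕ) :
    uc (W xM yM lam * (W (xM : K → _) yM 1)⁻¹) (xM 1) i = xM ((lam ^ 2) ^ i) := by
  induction i with
  | zero => rw [uc_zero, pow_zero]
  | succ n ih =>
    rw [uc_succ, ih, hM_conj hlam]
    congr 1
    ring

theorem xM_pow (a : K) (n : ℕ) : (xM a) ^ n = xM ((n : K) * a) := by
  induction n with
  | zero =>
    rw [pow_zero, Nat.cast_zero, zero_mul]
    exact (dataM (K := K)).X_zero.symm
  | succ n ih =>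
    rw [pow_succ, ih, dataM.addX]
    congr 1
    push_cast
    ring

theorem prod_ofFn_xM : ∀ (e : ℕ) (f : Fin e → K),
    (List.ofFn fun i => xM (f i)).prod = xM (∑ i, f i) := by
  intro e
  induction e with
  | zero =>
    intro f
    simp only [List.ofFn_zero, List.prod_nil, Finset.univ_eq_empty, Finset.sum_empty]
    exact (dataM (K := K)).X_zero.symm
  | succ n ih =>
    intro f
    rw [List.ofFn_succ, List.prod_cons, ih, dataM.addX, Fin.sum_univ_succ]

/-- MODULE S2286-[MATPP] -/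
theorem mat_pp (D : FieldData K) (d : Fin D.e → ℕ) :
    pp (W xM yM D.lam * (W (xM : K → _) yM 1)⁻¹) (xM 1) d =
      xM (∑ i, (d i : K) * (D.lam ^ 2) ^ (i : ℕ)) := by
  unfold pp
  have : (fun i : Fin D.e => uc (W xM yM D.lam * (W (xM : K → _) yM 1)⁻¹) (xM 1) (i : ℕ) ^ d i) =
      fun i : Fin D.e => xM ((d i : K) * (D.lam ^ 2) ^ (i : ℕ)) := by
    funext i
    rw [uc_hM D.hlam, xM_pow]
  rw [this, prod_ofFn_xM]

end Cfsg.Agent.Lib.Helper93.SL2Pres
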