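/-
helper93: S2286 module [T2-ODD] (sheet of helper53).
-/
import Mathlib
import Cfsg.Agent.Lib.Helper53.SL2Pres.Defs
import Cfsg.Agent.Lib.Helper93.SL2PresMatPP

set_option autoImplicit false

namespace Cfsg.Agent.Lib.Helper93.SL2Pres

open Cfsg.Agent.Lib.Helper53 Cfsg.Agent.Lib.Helper53.Steinberg Cfsg.Agent.Lib.Helper53.SL2Pres

variable {G : Type*} [Group G] {K : Type*} [Field K]

theorem xM_add (a b : K) : xM a * xM b = xM (a + b) := (dataM (K := K)).addX a b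

theorem xM_inv (a : K) : (xM a)⁻¹ = xM (-a) := (dataM (K := K)).X_inv a

theorem xM_zero : xM (0 : K) = 1 := (dataM (K := K)).X_zero

/-- `u ^ p = 1` -/
theorem mat_rel_pow (D : FieldData K) : (xM (1 : K)) ^ D.p = 1 := by
  haveI := D.hchar
  rw [xM_pow, CharP.cast_eq_zero, zero_mul, xM_zero]

/-- the polynomial relator -/
theorem mat_rel_poly (D : FieldData K) :
    uc (W xM yM D.lam * (W (xM : K → _) yM 1)⁻¹) (xM 1) D.e *
      (pp (W xM yM D.lam * (W (xM : K → _) yM 1)⁻¹) (xM 1) D.b)⁻¹ = 1 := by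
  rw [mul_inv_eq_one, uc_hM D.hlam, mat_pp, D.hb]

/-- `t u t⁻¹ = y(-1)` -/
theorem mat_conj_one : W (xM : K → _) yM 1 * xM 1 * (W (xM : K → _) yM 1)⁻¹ = yM (-1) := by
  have := (dataM (K := K)).relX 1 1 one_ne_zero
  rw [MulAut.conj_apply] at this
  rw [this]
  congr 1
  simp

/-- `w(1) = t` -/
theorem mat_rel_w1 :
    xM (1 : K) * (W (xM : K → _) yM 1 * xM 1 * (W (xM : K → _) yM 1)⁻¹) * xM 1 *
      (W (xM : K → _) yM 1)⁻¹ = 1 := by
  rw [mul_inv_eq_one, mat_conj_one]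
  unfold W
  simp

theorem mat_Xl (D : FieldData K) :
    pp (W xM yM D.lam * (W (xM : K → _) yM 1)⁻¹) (xM 1) D.c = xM D.lam := by
  rw [mat_pp, ← D.hc]

theorem mat_conj_lam {lam : K} (hlam : lam ≠ 0) :
    W (xM : K → _) yM lam * xM lam * (W (xM : K → _) yM lam)⁻¹ = yM (-lam⁻¹) := by
  have := (dataM (K := K)).relX lam lam hlam
  rw [MulAut.conj_apply] at this
  rw [this]
  congr 1
  field_simp

/-- `w(lam) = s` -/
theorem mat_rel_wl (D : FieldData K) :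
    pp (W xM yM D.lam * (W (xM : K → _) yM 1)⁻¹) (xM 1) D.c *
      (W xM yM D.lam * pp (W xM yM D.lam * (W (xM : K → _) yM 1)⁻¹) (xM 1) D.c *
        (W xM yM D.lam)⁻¹) *
      pp (W xM yM D.lam * (W (xM : K → _) yM 1)⁻¹) (xM 1) D.c * (W xM yM D.lam)⁻¹ = 1 := by
  rw [mul_inv_eq_one, mat_Xl, mat_conj_lam D.hlam]
  rfl

theorem mat_rel_comm {lam : K} (hlam : lam ≠ 0) (i : ℕ) :
    xM (1 : K) * uc (W xM yM lam * (W (xM : K → _) yM 1)⁻¹) (xM 1) i * (xM (1 : K))⁻¹ *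
      (uc (W xM yM lam * (W (xM : K → _) yM 1)⁻¹) (xM 1) i)⁻¹ = 1 := by
  rw [uc_hM hlam, xM_inv, xM_inv, xM_add, xM_add, xM_add]
  rw [← xM_zero]
  congr 1
  ring

theorem mat_rel_k_odd (D : FieldData K) (hp : D.p ≠ 2) (he2 : 2 ≤ D.e) :
    xM (1 : K) * uc (W xM yM D.lam * (W (xM : K → _) yM 1)⁻¹) (xM 1) 1 ^ 2 *
      uc (W xM yM D.lam * (W (xM : K → _) yM 1)⁻¹) (xM 1) 2 *
      (uc (W xM yM D.lam * (W (xM : K → _) yM 1)⁻¹) (xM 1) D.k)⁻¹ = 1 := by
  rw [uc_hM D.hlam, uc_hM D.hlam, uc_hM D.hlam, xM_pow, xM_inv, xM_add, xM_add, xM_add,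
    D.hk_odd hp he2]
  rw [← xM_zero]
  congr 1
  push_cast
  ring

/-- MODULE S2286-[T2-ODD] -/
theorem mat_relsOddCommon (D : FieldData K) (hp : D.p ≠ 2) :
    AllOne (relsOddCommon D (xM (1 : K)) (W xM yM 1) (W xM yM D.lam)) := by
  unfold relsOddCommon
  rw [allOne_append]
  constructor
  · intro g hg
    simp only [List.mem_cons, List.not_mem_nil, or_false] at hg
    rcases hg with rfl | rfl | rfl | rfl
    · exact mat_rel_pow D
    · exact mat_rel_poly D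
    · exact mat_rel_w1
    · exact mat_rel_wl D
  · by_cases he2 : 2 ≤ D.e
    · rw [if_pos he2]
      intro g hg
      simp only [List.mem_cons, List.not_mem_nil, or_false] at hg
      rcases hg with rfl | rfl | rfl
      · exact mat_rel_comm D.hlam 1
      · exact mat_rel_comm D.hlam 2
      · exact mat_rel_k_odd D hp he2
    · rw [if_neg he2]
      intro g hg
      simp at hg

end Cfsg.Agent.Lib.Helper93.SL2Pres
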