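/-
helper93: S2286 module [T2-SL] (sheet of helper53).
-/
import Mathlib
import Cfsg.Agent.Lib.Helper53.SL2Pres.Defs
import Cfsg.Agent.Lib.Helper93.SL2PresMatPP
import Cfsg.Agent.Lib.Helper93.SL2PresCenter
import Cfsg.Agent.Lib.Helper93.SL2PresT2Odd

set_option autoImplicit false

namespace Cfsg.Agent.Lib.Helper93.SL2Pres

open Cfsg.Agent.Lib.Helper53 Cfsg.Agent.Lib.Helper53.Steinberg Cfsg.Agent.Lib.Helper53.SL2Pres

variable {G : Type*} [Group G] {K : Type*} [Field K]

/-- `(t u t⁻¹) u (t u t⁻¹) = t` -/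
theorem mat_rel_w1' :
    (W (xM : K → _) yM 1 * xM 1 * (W (xM : K → _) yM 1)⁻¹) * xM 1 *
      (W (xM : K → _) yM 1 * xM 1 * (W (xM : K → _) yM 1)⁻¹) * (W (xM : K → _) yM 1)⁻¹ = 1 := by
  rw [mul_inv_eq_one, mat_conj_one]
  have h1 : (-1 : K) ≠ 0 := neg_ne_zero.mpr one_ne_zero
  have := (dataM (K := K)).W'_eq h1
  have h2 : W (xM : K → _) yM (-(-1 : K)⁻¹) = W xM yM 1 := by
    congr 1
    simp
  rw [h2] at this
  rw [← this]
  unfold W
  congr 2
  congr 1
  simp

/-- `s² = t²` -/
theorem mat_rel_sq {lam : K} (hlam : lam ≠ 0) :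
    W (xM : K → _) yM lam * W xM yM lam * (W (xM : K → _) yM 1 * W xM yM 1)⁻¹ = 1 := by
  rw [mul_inv_eq_one]
  apply Subtype.ext
  rw [W_sq_val hlam, W_sq_val one_ne_zero]

section CharTwo

variable [CharP K 2]

theorem mat_braid_char_two {a : K} (ha : a ≠ 0) :
    xM a * W (xM : K → _) yM a * xM a = W xM yM a * xM a * W xM yM a := by
  apply sl2ext <;>
    simp [Matrix.SpecialLinearGroup.coe_mul, wM_val ha, xM_val, ha,
      CharTwo.neg_eq, CharTwo.add_self_eq_zero]

end CharTwo

/-- MODULE S2286-[T2-SL] -/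
theorem mat_relsSL (D : FieldData K) :
    AllOne (relsSL D (xM (1 : K)) (W xM yM 1) (W xM yM D.lam)) := by
  unfold relsSL
  by_cases hp : D.p = 2
  · rw [if_pos hp]
    haveI : CharP K 2 := hp ▸ D.hchar
    unfold relsEven
    rw [allOne_append]
    constructor
    · intro g hg
      simp only [List.mem_cons, List.not_mem_nil, or_false] at hg
      rcases hg with rfl | rfl | rfl | rfl
      · rw [xM_add, ← xM_zero]
        congr 1
        exact CharTwo.add_self_eq_zero 1
      · rw [mul_inv_eq_one]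
        exact mat_braid_char_two one_ne_zero
      · rw [mul_inv_eq_one, mat_Xl]
        exact mat_braid_char_two D.hlam
      · exact mat_rel_poly D
    · by_cases he2 : 2 ≤ D.e
      · rw [if_pos he2]
        intro g hg
        simp only [List.mem_cons, List.not_mem_nil, or_false] at hg
        subst hg
        rw [uc_hM D.hlam, uc_hM D.hlam, xM_inv, xM_add, xM_add, D.hk_even hp he2, ← xM_zero]
        congr 1
        ring
      · rw [if_neg he2]
        intro g hg
        simp at hg
  · rw [if_neg hp]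
    unfold relsOddSL
    rw [allOne_append]
    refine ⟨mat_relsOddCommon D hp, ?_⟩
    intro g hg
    simp only [List.mem_cons, List.not_mem_nil, or_false] at hg
    rcases hg with rfl | rfl
    · exact mat_rel_w1'
    · exact mat_rel_sq D.hlam

end Cfsg.Agent.Lib.Helper93.SL2Pres
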