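/-
helper93: project S2281 (helper53, `Sp_2n(F)` generated by three conjugate regular unipotents), module S2281-[CALC-SUM]:
root elements of sums and the span lemma.
-/
import Mathlib
import Cfsg.Agent.Lib.Helper53.SpReg.Defs
import Cfsg.Agent.Lib.Helper53.SpReg.Act

set_option autoImplicit false

namespace Cfsg.Agent.Lib.Helper93.SpReg

open Matrix Cfsg.Agent.Lib.Helper53.SpReg Cfsg.Agent.Lib.Helper13

variable {n : ℕ} {F : Type*} [Field F]

local notation "Vn" => Fin n ⊕ Fin n → F
local notation "Bf" => Cfsg.sympForm n F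
local notation "Spn" => Matrix.symplecticGroup (Fin n) F

theorem tauE_add_vec (x y : Vn) (hxy : Bf x y = 0) (t : F) :
    (tauE (x + y) t : Spn) = tauE x t * tauE y t * sigE x y t := by
  have hyx : Bf y x = 0 := by rw [sympForm_swap, hxy, neg_zero]
  apply sp_ext
  intro v
  simp only [mul_mulVec, tauE_mulVec, sigE_mulVec hxy, sympForm_add_left, sympForm_add_right,
    sympForm_smul_left, sympForm_self, hxy, hyx]
  module

theorem tauE_smul_vec (l : F) (x : Vn) (t : F) : (tauE (l • x) t : Spn) = tauE x (l ^ 2 * t) := by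
  apply sp_ext
  intro v
  simp only [tauE_mulVec, sympForm_smul_right]
  module

theorem sigE_add_vec (x x' y : Vn) (hxy : Bf x y = 0) (hx'y : Bf x' y = 0) (hxx' : Bf x x' = 0)
    (t : F) : (sigE (x + x') y t : Spn) = sigE x y t * sigE x' y t := by
  have hyx : Bf y x = 0 := by rw [sympForm_swap, hxy, neg_zero]
  have hyx' : Bf y x' = 0 := by rw [sympForm_swap, hx'y, neg_zero]
  have hx'x : Bf x' x = 0 := by rw [sympForm_swap, hxx', neg_zero]
  have hsum : Bf (x + x') y = 0 := by rw [sympForm_add_left, hxy, hx'y, add_zero]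
  apply sp_ext
  intro v
  simp only [mul_mulVec, sigE_mulVec hsum, sigE_mulVec hxy, sigE_mulVec hx'y, sympForm_add_left,
    sympForm_add_right, sympForm_smul_left, sympForm_self, hyx, hx'y, hx'x]
  module

theorem tauE_zero_vec (t : F) : (tauE (0 : Vn) t : Spn) = 1 := by
  apply sp_ext
  intro v
  simp only [tauE_mulVec, one_mulVec', smul_zero, add_zero]

theorem sigE_zero_vec (y : Vn) (t : F) : (sigE (0 : Vn) y t : Spn) = 1 := by
  have h0 : Bf (0 : Vn) y = 0 := sympForm_zero_left y
  apply sp_ext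
  intro v
  simp only [sigE_mulVec h0, one_mulVec', sympForm_zero_right, smul_zero, zero_smul, add_zero]

theorem sigE_smul_vec (l : F) (x y : Vn) (t : F) : (sigE (l • x) y t : Spn) = sigE x y (l * t) := by
  by_cases hxy : Bf x y = 0
  · have hl : Bf (l • x) y = 0 := by rw [sympForm_smul_left, hxy, mul_zero]
    apply sp_ext
    intro v
    simp only [sigE_mulVec hl, sigE_mulVec hxy, sympForm_smul_right]
    module
  · rw [sigE_of_ne hxy]
    by_cases hl0 : l = 0
    · rw [hl0, zero_smul, sigE_zero_vec]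
    · have hl : Bf (l • x) y ≠ 0 := by
        rw [sympForm_smul_left]
        exact mul_ne_zero hl0 hxy
      rw [sigE_of_ne hl]

/-- local copy of the symmetry of `sigE` (module [CALC-COMM] has the official one) -/
theorem sigE_symm' (x y : Vn) (s : F) : (sigE x y s : Spn) = sigE y x s := by
  by_cases hxy : Bf x y = 0
  · have hyx : Bf y x = 0 := by rw [sympForm_swap, hxy, neg_zero]
    apply sp_ext
    intro v
    simp only [sigE_mulVec hxy, sigE_mulVec hyx]
    module
  · have hyx : Bf y x ≠ 0 := by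
      intro h
      apply hxy
      rw [sympForm_swap, h, neg_zero]
    rw [sigE_of_ne hxy, sigE_of_ne hyx]

theorem form_sum_left {ι : Type*} [DecidableEq ι] (b : ι → Vn) (s : Finset ι) (p : ι → F) (w : Vn)
    (h : ∀ i ∈ s, Bf (b i) w = 0) : Bf (∑ i ∈ s, p i • b i) w = 0 := by
  induction s using Finset.induction_on with
  | empty => rw [Finset.sum_empty]; exact sympForm_zero_left w
  | insert a s ha ih =>
    rw [Finset.sum_insert ha, sympForm_add_left, sympForm_smul_left, h a (Finset.mem_insert_self a s),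
      mul_zero, zero_add]
    exact ih fun i hi => h i (Finset.mem_insert_of_mem hi)

theorem tauE_sum_mem (H : Subgroup Spn) {ι : Type*} [DecidableEq ι] (b : ι → Vn)
    (horth : ∀ i j, Bf (b i) (b j) = 0) (hT : ∀ i t, tauE (b i) t ∈ H)
    (hS : ∀ i j, i ≠ j → ∀ t, sigE (b i) (b j) t ∈ H) (s : Finset ι) (p : ι → F) (t : F) :
    tauE (∑ i ∈ s, p i • b i) t ∈ H := by
  suffices hstrong : (∀ t, tauE (∑ i ∈ s, p i • b i) t ∈ H) ∧
      ∀ j, j ∉ s → ∀ t, sigE (∑ i ∈ s, p i • b i) (b j) t ∈ H from hstrong.1 t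
  induction s using Finset.induction_on with
  | empty =>
    refine ⟨fun t => ?_, fun j _ t => ?_⟩
    · rw [Finset.sum_empty, tauE_zero_vec]
      exact H.one_mem
    · rw [Finset.sum_empty, sigE_zero_vec]
      exact H.one_mem
  | insert a s ha ih =>
    obtain ⟨ih1, ih2⟩ := ih
    have hy : ∀ w : ι, Bf (∑ i ∈ s, p i • b i) (b w) = 0 := fun w =>
      form_sum_left b s p (b w) fun i _ => horth i w
    have hxy : Bf (p a • b a) (∑ i ∈ s, p i • b i) = 0 := by
      rw [sympForm_smul_left, sympForm_swap, hy a, neg_zero, mul_zero]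
    refine ⟨fun t => ?_, fun j hj t => ?_⟩
    · rw [Finset.sum_insert ha, tauE_add_vec _ _ hxy, tauE_smul_vec, sigE_smul_vec, sigE_symm']
      exact H.mul_mem (H.mul_mem (hT a _) (ih1 t)) (ih2 a ha _)
    · have hja : j ≠ a := fun h => hj (h ▸ Finset.mem_insert_self a s)
      have hjs : j ∉ s := fun h => hj (Finset.mem_insert_of_mem h)
      have h1 : Bf (p a • b a) (b j) = 0 := by rw [sympForm_smul_left, horth, mul_zero]
      rw [Finset.sum_insert ha, sigE_add_vec _ _ _ h1 (hy j) hxy, sigE_smul_vec]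
      exact H.mul_mem (hS a j (Ne.symm hja) _) (ih2 j hjs t)

end Cfsg.Agent.Lib.Helper93.SpReg
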