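import Cfsg.Agent.Lib.Helper93.J3Center

/-! # The centre of `3·J₃` has order 3 -/

set_option autoImplicit false

namespace Cfsg.Agent.Lib.Helper93.J3

open Cfsg.Spor Matrix

section sem
variable {F : Type*} [Field F] [CharP F 2] (ω : F) (hω : ω ^ 2 + ω + 1 = 0)
include hω

/-- A central element of `3·J₃` is a scalar matrix. -/
theorem center_scalar (z : ↥(threeJ3 F ω)) (hz : z ∈ Subgroup.center ↥(threeJ3 F ω)) :
    ((z : GL F9 F) : Matrix F9 F9 F) =
      (((z : GL F9 F) : Matrix F9 F9 F) 0 0) • (1 : Matrix F9 F9 F) := by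
  rw [Subgroup.mem_center_iff] at hz
  have hcomm : ∀ k (hk : k < 43), ((z : GL F9 F) : Matrix F9 F9 F) * decM ω (gen k) =
      decM ω (gen k) * ((z : GL F9 F) : Matrix F9 F9 F) := by
    intro k hk
    have h := hz ⟨genU ω hω k hk, genU_mem ω hω k hk⟩
    have h2 := congrArg (fun x : ↥(threeJ3 F ω) => ((x : GL F9 F) : Matrix F9 F9 F)) h
    simp only [Subgroup.coe_mul, Units.val_mul] at h2
    exact h2.symm
  apply central_scalar ω hω
  · intro Z
    rw [j3A_eq ω hω Z]
    exact hcomm _ (by have := ix_lt Z; omega)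
  · intro Z
    rw [j3D_eq ω hω Z]
    exact hcomm _ (by have := ix_lt Z; omega)

omit [CharP F 2] hω in
theorem scalar_central (g : ↥(threeJ3 F ω)) (μ : F)
    (hg : ((g : GL F9 F) : Matrix F9 F9 F) = μ • (1 : Matrix F9 F9 F)) :
    g ∈ Subgroup.center ↥(threeJ3 F ω) := by
  rw [Subgroup.mem_center_iff]
  intro h
  apply Subtype.ext
  apply Units.ext
  simp only [Subgroup.coe_mul, Units.val_mul, hg, Matrix.smul_mul, Matrix.mul_smul, one_mul, mul_one]

theorem center_card [Fintype F] (hF : Fintype.card F = 4) :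
    Nat.card ↥(Subgroup.center ↥(threeJ3 F ω)) = 3 := by
  classical
  let f : ↥(Subgroup.center ↥(threeJ3 F ω)) → F :=
    fun z => (((z : ↥(threeJ3 F ω)) : GL F9 F) : Matrix F9 F9 F) 0 0
  have hsc : ∀ z : ↥(Subgroup.center ↥(threeJ3 F ω)),
      (((z : ↥(threeJ3 F ω)) : GL F9 F) : Matrix F9 F9 F) = f z • (1 : Matrix F9 F9 F) :=
    fun z => center_scalar ω hω z.1 z.2
  have hinj : Function.Injective f := by
    intro a b hab
    apply Subtype.ext
    apply Subtype.ext
    apply Units.ext
    rw [hsc a, hsc b, hab]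
  have h0 := omega_ne_zero ω hω
  have h1 := omega_ne_one ω hω
  have hsq : ω * ω = 1 + ω := by rw [← omega_sq ω hω, sq]
  have hrange : Set.range f = (({1, ω, ω * ω} : Finset F) : Set F) := by
    ext μ
    simp only [Set.mem_range, Finset.coe_insert, Finset.coe_singleton, Set.mem_insert_iff,
      Set.mem_singleton_iff]
    constructor
    · rintro ⟨z, rfl⟩
      rcases scalar_cases ω hω hF (f z) with h | h | h | h
      · exfalso
        have hz := hsc z
        rw [h, zero_smul] at hz
        have hu := (((z : ↥(threeJ3 F ω)) : GL F9 F)).val_inv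
        rw [hz, zero_mul] at hu
        exact zero_ne_one hu
      · exact Or.inl h
      · exact Or.inr (Or.inl h)
      · exact Or.inr (Or.inr h)
    · intro hμ
      have hmem : μ • (1 : Matrix F9 F9 F) ∈ MG ω := by
        rcases hμ with h | h | h
        · rw [h, one_smul]; exact MG_one ω
        · rw [h]; exact scalar_mem_MG ω hω
        · rw [h]
          have := MG_mul ω (scalar_mem_MG ω hω) (scalar_mem_MG ω hω)
          rwa [Matrix.smul_mul, Matrix.mul_smul, one_mul, smul_smul] at this
      obtain ⟨g, hg, hgv⟩ := hmem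
      refine ⟨⟨⟨g, hg⟩, scalar_central ω ⟨g, hg⟩ μ hgv⟩, ?_⟩
      simp only [f]
      rw [hgv, Matrix.smul_apply, Matrix.one_apply_eq, smul_eq_mul, mul_one]
  have hcard : ({1, ω, ω * ω} : Finset F).card = 3 := by
    rw [Finset.card_insert_of_notMem, Finset.card_insert_of_notMem, Finset.card_singleton]
    · simp only [Finset.mem_singleton]
      rw [hsq]; intro h; simp at h
    · simp only [Finset.mem_insert, Finset.mem_singleton, not_or]
      refine ⟨Ne.symm h1, ?_⟩
      rw [hsq]; intro h; exact h0 (by simp at h; exact h)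
  rw [← Nat.card_range_of_injective hinj, Nat.card_coe_set_eq, hrange, Set.ncard_coe_finset, hcard]

end sem

end Cfsg.Agent.Lib.Helper93.J3
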