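import Cfsg.Agent.Lib.Helper93.J3Schreier

/-! # Counting the elements of `3·J₃` from a Schreier certificate -/

set_option autoImplicit false

namespace Cfsg.Agent.Lib.Helper93.J3

open Cfsg.Spor Matrix

section sem
variable {F : Type*} [Field F] [CharP F 2] (ω : F) (hω : ω ^ 2 + ω + 1 = 0)
include hω

/-- Two members of the first orbit on the same line are equal. -/
theorem line_inj1 [Fintype F] (hF : Fintype.card F = 4) (c c' : ℕ) (hc : mem1 c = true)
    (hc' : mem1 c' = true) (a : F) (ha : a ≠ 0) (h : decV ω c = a • decV ω c') : c = c' := by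
  have hcl := mem1_lt c hc
  have hcl' := mem1_lt c' hc'
  rcases scalar_cases ω hω hF a with h0 | h0 | h0 | h0
  · exact absurd h0 ha
  · rw [h0, one_smul] at h
    exact decV_injective ω hω c c' hcl hcl' h
  · rw [h0, ← decV_mulw ω hω] at h
    have : c = mulw c' := decV_injective ω hω _ _ hcl (mulw_lt _) h
    have h2 := (chk1_of_mem c' hc').2.2.1
    rw [← this, hc] at h2
    exact absurd h2 (by simp)
  · rw [h0, ← smul_smul, ← decV_mulw ω hω, ← decV_mulw ω hω] at h
    have : c = mulw (mulw c') := decV_injective ω hω _ _ hcl (mulw_lt _) h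
    have h2 := (chk1_of_mem c' hc').2.2.2
    rw [← this, hc] at h2
    exact absurd h2 (by simp)

theorem decV_of_norm (x c : ℕ) (h : norm x = c) : ∃ l : F, l ≠ 0 ∧ decV ω x = l • decV ω c := by
  obtain ⟨m, hm, e⟩ := decV_norm ω hω x
  refine ⟨m⁻¹, inv_ne_zero hm, ?_⟩
  rw [← h, e, smul_smul, inv_mul_cancel₀ hm, one_smul]

variable (D : SchTables) (hD : D.Valid)
include hD

theorem T_line (c : ℕ) (hc : mem1 c = true) :
    ∃ l : F, l ≠ 0 ∧ decM ω (D.T c) *ᵥ decV ω 1 = l • decV ω c := by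
  obtain ⟨l, hl, e⟩ := decV_of_norm ω hω _ _ (T_col D hD c hc)
  exact ⟨l, hl, by rw [← decV_mv ω hω, mv_one, e]⟩

theorem Hs_line (j : ℕ) (hj : j < D.nH) :
    ∃ l : F, l ≠ 0 ∧ decM ω (D.Hs j) *ᵥ decV ω 1 = l • decV ω 1 := by
  obtain ⟨l, hl, e⟩ := decV_of_norm ω hω _ _ (Hs_facts D hD j hj).1
  exact ⟨l, hl, by rw [← decV_mv ω hω, mv_one, e]⟩

omit [CharP F 2] hω in
theorem Hs_strict (i j : ℕ) (hij : i < j) (hj : j < D.nH) :
    pmPack (D.Hs i) < pmPack (D.Hs j) := by
  induction j with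
  | zero => omega
  | succ j ih =>
    have hstep : pmPack (D.Hs j) < pmPack (D.Hs (j + 1)) := by
      have := hD.vO j hj
      exact Nat.blt_eq.mp this
    rcases Nat.lt_succ_iff_lt_or_eq.mp hij with h | h
    · exact lt_trans (ih h (by omega)) hstep
    · rw [h]; exact hstep

omit [CharP F 2] hω in
theorem Hs_inj (i j : ℕ) (hi : i < D.nH) (hj : j < D.nH) (h : D.Hs i = D.Hs j) : i = j := by
  rcases Nat.lt_trichotomy i j with h1 | h1 | h1
  · have := Hs_strict D hD i j h1 hj
    rw [h] at this; exact absurd this (lt_irrefl _)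
  · exact h1
  · have := Hs_strict D hD j i h1 hi
    rw [h] at this; exact absurd this (lt_irrefl _)

set_option linter.constructorNameAsVariable false in
/-- The order of `3·J₃` is the number of lines in the orbit times the order of the stabiliser. -/
theorem card_threeJ3 [Fintype F] (hF : Fintype.card F = 4) :
    Nat.card ↥(threeJ3 F ω) = 23256 * D.nH := by
  classical
  have hfin : Finite F := Finite.of_fintype F
  -- the matrices of the group
  let Φ : ↥(threeJ3 F ω) → Matrix F9 F9 F := fun g => ((g : GL F9 F) : Matrix F9 F9 F)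
  have hΦ : Function.Injective Φ := by
    intro a b h
    exact Subtype.ext (Units.ext h)
  have hrange : Set.range Φ = XS ω D := by
    rw [← MG_eq_XS ω hω D hD]
    ext M
    constructor
    · rintro ⟨g, rfl⟩; exact ⟨g.1, g.2, rfl⟩
    · rintro ⟨g, hg, rfl⟩; exact ⟨⟨g, hg⟩, rfl⟩
  -- the parametrisation
  set O : Finset ℕ := (Finset.range (2 ^ 18)).filter (fun c => mem1 c = true) with hO
  have hmemO : ∀ c, c ∈ O ↔ mem1 c = true := by
    intro c
    rw [hO, Finset.mem_filter, Finset.mem_range]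
    exact ⟨fun h => h.2, fun h => ⟨mem1_lt c h, h⟩⟩
  let φ : ℕ × ℕ → Matrix F9 F9 F := fun p => decM ω (D.T p.1) * decM ω (D.Hs p.2)
  have hXS : XS ω D = φ '' ((O ×ˢ Finset.range D.nH : Finset (ℕ × ℕ)) : Set (ℕ × ℕ)) := by
    ext M
    simp only [mem_XS, Set.mem_image, Finset.mem_coe, Finset.mem_product, Finset.mem_range,
      Prod.exists]
    constructor
    · rintro ⟨c, j, hc, hj, rfl⟩
      exact ⟨c, j, ⟨(hmemO c).mpr hc, hj⟩, rfl⟩
    · rintro ⟨c, j, ⟨hc, hj⟩, rfl⟩
      exact ⟨c, j, (hmemO c).mp hc, hj, rfl⟩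
  have hinj : Set.InjOn φ ((O ×ˢ Finset.range D.nH : Finset (ℕ × ℕ)) : Set (ℕ × ℕ)) := by
    rintro ⟨c, j⟩ hp ⟨c', j'⟩ hp' heq
    simp only [Finset.mem_coe, Finset.mem_product, Finset.mem_range] at hp hp'
    obtain ⟨hc, hj⟩ := hp
    obtain ⟨hc', hj'⟩ := hp'
    have hc := (hmemO c).mp hc
    have hc' := (hmemO c').mp hc'
    simp only [φ] at heq
    -- apply to the first basis vector
    obtain ⟨l1, hl1, e1⟩ := Hs_line ω hω D hD j hj
    obtain ⟨l2, hl2, e2⟩ := Hs_line ω hω D hD j' hj'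
    obtain ⟨m1, hm1, f1⟩ := T_line ω hω D hD c hc
    obtain ⟨m2, hm2, f2⟩ := T_line ω hω D hD c' hc'
    have hv := congrArg (fun M => M *ᵥ decV ω 1) heq
    simp only [← Matrix.mulVec_mulVec, e1, e2, Matrix.mulVec_smul, f1, f2, smul_smul] at hv
    have hcc : c = c' := by
      apply line_inj1 ω hω hF c c' hc hc' ((l1 * m1)⁻¹ * (l2 * m2))
        (mul_ne_zero (inv_ne_zero (mul_ne_zero hl1 hm1)) (mul_ne_zero hl2 hm2))
      rw [← smul_smul, ← hv, smul_smul, inv_mul_cancel₀ (mul_ne_zero hl1 hm1), one_smul]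
    subst hcc
    obtain ⟨g, _, hgv⟩ := T_mem ω hω D hD c hc
    have hHs : decM ω (D.Hs j) = decM ω (D.Hs j') := by
      have h2 := congrArg (fun M => ((g⁻¹ : GL F9 F) : Matrix F9 F9 F) * M) heq
      simp only [← mul_assoc, ← hgv, ← Units.val_mul, inv_mul_cancel, Units.val_one, one_mul] at h2
      exact h2
    have := decM_injective ω hω _ _ (hD.vSmall j) (hD.vSmall j') hHs
    rw [Hs_inj D hD j j' hj hj' this]
  have hcard : (XS ω D).ncard = 23256 * D.nH := by
    rw [hXS, Set.InjOn.ncard_image hinj, Set.ncard_coe_finset, Finset.card_product, Finset.card_range,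
      card_mem1]
  rw [← hcard, ← hrange, ← Nat.card_coe_set_eq, Nat.card_range_of_injective hΦ]

end sem

end Cfsg.Agent.Lib.Helper93.J3
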