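import Cfsg.Agent.Lib.Helper93.J3Orbit

/-! # Splitting a range check into consecutive blocks -/

set_option autoImplicit false

namespace Cfsg.Agent.Lib.Helper93.J3

/-- Consecutive blocks of the same length. -/
theorem allRange_blocks (f : ℕ → Bool) (a n k : ℕ)
    (h : ∀ j < k, allRange (a + j * n) n f = true) :
    ∀ c, a ≤ c → c < a + k * n → f c = true := by
  intro c hc1 hc2
  obtain ⟨d, rfl⟩ := Nat.exists_eq_add_of_le hc1
  have hd : d < k * n := by omega
  have hn : 0 < n := by
    rcases Nat.eq_zero_or_pos n with h0 | h0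
    · subst h0; simp at hd
    · exact h0
  have hj : d / n < k := Nat.div_lt_of_lt_mul (by rwa [Nat.mul_comm] at hd)
  have h1 := Nat.div_add_mod d n
  have h2 := Nat.mod_lt d hn
  have h3 : d / n * n = n * (d / n) := Nat.mul_comm _ _
  exact allRange_spec _ _ f (h _ hj) (a + d) (by omega) (by omega)

end Cfsg.Agent.Lib.Helper93.J3
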