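import Cfsg.Agent.Lib.Helper93.J3SchH
import Cfsg.Agent.Lib.Helper93.J3Range

/-! # Kernel evaluation of the Schreier certificate of `3·J₃`: the stabiliser table -/

set_option autoImplicit false

namespace Cfsg.Agent.Lib.Helper93.J3

set_option maxRecDepth 100000 in
theorem schkH_0 : allRange (0 + 0 * 432) 432 schD.chkH = true := by decide +kernel

set_option maxRecDepth 100000 in
theorem schkH_1 : allRange (0 + 1 * 432) 432 schD.chkH = true := by decide +kernel

set_option maxRecDepth 100000 in
theorem schkH_2 : allRange (0 + 2 * 432) 432 schD.chkH = true := by decide +kernel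

set_option maxRecDepth 100000 in
theorem schkH_3 : allRange (0 + 3 * 432) 432 schD.chkH = true := by decide +kernel

set_option maxRecDepth 100000 in
theorem schkH_4 : allRange (0 + 4 * 432) 432 schD.chkH = true := by decide +kernel

set_option maxRecDepth 100000 in
theorem schkH_5 : allRange (0 + 5 * 432) 432 schD.chkH = true := by decide +kernel

set_option maxRecDepth 100000 in
theorem schkH_6 : allRange (0 + 6 * 432) 432 schD.chkH = true := by decide +kernel

set_option maxRecDepth 100000 in
theorem schkH_7 : allRange (0 + 7 * 432) 432 schD.chkH = true := by decide +kernel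

set_option maxRecDepth 100000 in
theorem schkH_8 : allRange (0 + 8 * 432) 432 schD.chkH = true := by decide +kernel

set_option maxRecDepth 100000 in
theorem schkH_9 : allRange (0 + 9 * 432) 432 schD.chkH = true := by decide +kernel

set_option maxRecDepth 100000 in
theorem schkH_10 : allRange (0 + 10 * 432) 432 schD.chkH = true := by decide +kernel

set_option maxRecDepth 100000 in
theorem schkH_11 : allRange (0 + 11 * 432) 432 schD.chkH = true := by decide +kernel

set_option maxRecDepth 100000 in
theorem schkH_12 : allRange (0 + 12 * 432) 432 schD.chkH = true := by decide +kernel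

set_option maxRecDepth 100000 in
theorem schkH_13 : allRange (0 + 13 * 432) 432 schD.chkH = true := by decide +kernel

set_option maxRecDepth 100000 in
theorem schkH_14 : allRange (0 + 14 * 432) 432 schD.chkH = true := by decide +kernel

theorem schkH_all : ∀ j, 0 ≤ j → j < 0 + 15 * 432 → schD.chkH j = true := by
  apply allRange_blocks
  intro j hj
  interval_cases j
  · exact schkH_0
  · exact schkH_1
  · exact schkH_2
  · exact schkH_3
  · exact schkH_4
  · exact schkH_5
  · exact schkH_6
  · exact schkH_7
  · exact schkH_8
  · exact schkH_9
  · exact schkH_10
  · exact schkH_11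
  · exact schkH_12
  · exact schkH_13
  · exact schkH_14

set_option maxRecDepth 100000 in
theorem schkOrd_all : allRange 0 6479 schD.chkOrd = true := by decide +kernel

theorem schkG_all : (schD.chkG 0 && schD.chkG 1) = true := by decide +kernel

theorem schkW_all : allBelow 43 schD.chkW = true := by decide +kernel

end Cfsg.Agent.Lib.Helper93.J3
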