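import Cfsg.Agent.Lib.Helper93.J3SchH
import Cfsg.Agent.Lib.Helper93.J3Range

/-! # Kernel evaluation of the Schreier certificate of `3·J₃`: Schreier generators of the generator 37, quarter 3 -/

set_option autoImplicit false

namespace Cfsg.Agent.Lib.Helper93.J3

set_option maxRecDepth 100000 in
theorem schkS37_q3_0 : allRange (196608 + 0 * 4096) 4096 (fun c => !mem1 c || schD.chkS 37 c) = true := by
  decide +kernel

set_option maxRecDepth 100000 in
theorem schkS37_q3_1 : allRange (196608 + 1 * 4096) 4096 (fun c => !mem1 c || schD.chkS 37 c) = true := by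
  decide +kernel

set_option maxRecDepth 100000 in
theorem schkS37_q3_2 : allRange (196608 + 2 * 4096) 4096 (fun c => !mem1 c || schD.chkS 37 c) = true := by
  decide +kernel

set_option maxRecDepth 100000 in
theorem schkS37_q3_3 : allRange (196608 + 3 * 4096) 4096 (fun c => !mem1 c || schD.chkS 37 c) = true := by
  decide +kernel

set_option maxRecDepth 100000 in
theorem schkS37_q3_4 : allRange (196608 + 4 * 4096) 4096 (fun c => !mem1 c || schD.chkS 37 c) = true := by
  decide +kernel

set_option maxRecDepth 100000 in
theorem schkS37_q3_5 : allRange (196608 + 5 * 4096) 4096 (fun c => !mem1 c || schD.chkS 37 c) = true := by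
  decide +kernel

set_option maxRecDepth 100000 in
theorem schkS37_q3_6 : allRange (196608 + 6 * 4096) 4096 (fun c => !mem1 c || schD.chkS 37 c) = true := by
  decide +kernel

set_option maxRecDepth 100000 in
theorem schkS37_q3_7 : allRange (196608 + 7 * 4096) 4096 (fun c => !mem1 c || schD.chkS 37 c) = true := by
  decide +kernel

set_option maxRecDepth 100000 in
theorem schkS37_q3_8 : allRange (196608 + 8 * 4096) 4096 (fun c => !mem1 c || schD.chkS 37 c) = true := by
  decide +kernel

set_option maxRecDepth 100000 in
theorem schkS37_q3_9 : allRange (196608 + 9 * 4096) 4096 (fun c => !mem1 c || schD.chkS 37 c) = true := by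
  decide +kernel

set_option maxRecDepth 100000 in
theorem schkS37_q3_10 : allRange (196608 + 10 * 4096) 4096 (fun c => !mem1 c || schD.chkS 37 c) = true := by
  decide +kernel

set_option maxRecDepth 100000 in
theorem schkS37_q3_11 : allRange (196608 + 11 * 4096) 4096 (fun c => !mem1 c || schD.chkS 37 c) = true := by
  decide +kernel

set_option maxRecDepth 100000 in
theorem schkS37_q3_12 : allRange (196608 + 12 * 4096) 4096 (fun c => !mem1 c || schD.chkS 37 c) = true := by
  decide +kernel

set_option maxRecDepth 100000 in
theorem schkS37_q3_13 : allRange (196608 + 13 * 4096) 4096 (fun c => !mem1 c || schD.chkS 37 c) = true := by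
  decide +kernel

set_option maxRecDepth 100000 in
theorem schkS37_q3_14 : allRange (196608 + 14 * 4096) 4096 (fun c => !mem1 c || schD.chkS 37 c) = true := by
  decide +kernel

set_option maxRecDepth 100000 in
theorem schkS37_q3_15 : allRange (196608 + 15 * 4096) 4096 (fun c => !mem1 c || schD.chkS 37 c) = true := by
  decide +kernel

theorem schkS37_quarter_3 : ∀ c, 196608 ≤ c → c < 196608 + 16 * 4096 →
    (fun c => !mem1 c || schD.chkS 37 c) c = true := by
  apply allRange_blocks
  intro j hj
  interval_cases j
  · exact schkS37_q3_0
  · exact schkS37_q3_1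
  · exact schkS37_q3_2
  · exact schkS37_q3_3
  · exact schkS37_q3_4
  · exact schkS37_q3_5
  · exact schkS37_q3_6
  · exact schkS37_q3_7
  · exact schkS37_q3_8
  · exact schkS37_q3_9
  · exact schkS37_q3_10
  · exact schkS37_q3_11
  · exact schkS37_q3_12
  · exact schkS37_q3_13
  · exact schkS37_q3_14
  · exact schkS37_q3_15

end Cfsg.Agent.Lib.Helper93.J3
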