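import Cfsg.Agent.Lib.Helper93.J3SchH
import Cfsg.Agent.Lib.Helper93.J3Range

/-! # Kernel evaluation of the Schreier certificate of `3·J₃`: Schreier generators of the generator 9, quarter 1 -/

set_option autoImplicit false

namespace Cfsg.Agent.Lib.Helper93.J3

set_option maxRecDepth 100000 in
theorem schkS9_q1_0 : allRange (65536 + 0 * 4096) 4096 (fun c => !mem1 c || schD.chkS 9 c) = true := by
  decide +kernel

set_option maxRecDepth 100000 in
theorem schkS9_q1_1 : allRange (65536 + 1 * 4096) 4096 (fun c => !mem1 c || schD.chkS 9 c) = true := by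
  decide +kernel

set_option maxRecDepth 100000 in
theorem schkS9_q1_2 : allRange (65536 + 2 * 4096) 4096 (fun c => !mem1 c || schD.chkS 9 c) = true := by
  decide +kernel

set_option maxRecDepth 100000 in
theorem schkS9_q1_3 : allRange (65536 + 3 * 4096) 4096 (fun c => !mem1 c || schD.chkS 9 c) = true := by
  decide +kernel

set_option maxRecDepth 100000 in
theorem schkS9_q1_4 : allRange (65536 + 4 * 4096) 4096 (fun c => !mem1 c || schD.chkS 9 c) = true := by
  decide +kernel

set_option maxRecDepth 100000 in
theorem schkS9_q1_5 : allRange (65536 + 5 * 4096) 4096 (fun c => !mem1 c || schD.chkS 9 c) = true := by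
  decide +kernel

set_option maxRecDepth 100000 in
theorem schkS9_q1_6 : allRange (65536 + 6 * 4096) 4096 (fun c => !mem1 c || schD.chkS 9 c) = true := by
  decide +kernel

set_option maxRecDepth 100000 in
theorem schkS9_q1_7 : allRange (65536 + 7 * 4096) 4096 (fun c => !mem1 c || schD.chkS 9 c) = true := by
  decide +kernel

set_option maxRecDepth 100000 in
theorem schkS9_q1_8 : allRange (65536 + 8 * 4096) 4096 (fun c => !mem1 c || schD.chkS 9 c) = true := by
  decide +kernel

set_option maxRecDepth 100000 in
theorem schkS9_q1_9 : allRange (65536 + 9 * 4096) 4096 (fun c => !mem1 c || schD.chkS 9 c) = true := by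
  decide +kernel

set_option maxRecDepth 100000 in
theorem schkS9_q1_10 : allRange (65536 + 10 * 4096) 4096 (fun c => !mem1 c || schD.chkS 9 c) = true := by
  decide +kernel

set_option maxRecDepth 100000 in
theorem schkS9_q1_11 : allRange (65536 + 11 * 4096) 4096 (fun c => !mem1 c || schD.chkS 9 c) = true := by
  decide +kernel

set_option maxRecDepth 100000 in
theorem schkS9_q1_12 : allRange (65536 + 12 * 4096) 4096 (fun c => !mem1 c || schD.chkS 9 c) = true := by
  decide +kernel

set_option maxRecDepth 100000 in
theorem schkS9_q1_13 : allRange (65536 + 13 * 4096) 4096 (fun c => !mem1 c || schD.chkS 9 c) = true := by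
  decide +kernel

set_option maxRecDepth 100000 in
theorem schkS9_q1_14 : allRange (65536 + 14 * 4096) 4096 (fun c => !mem1 c || schD.chkS 9 c) = true := by
  decide +kernel

set_option maxRecDepth 100000 in
theorem schkS9_q1_15 : allRange (65536 + 15 * 4096) 4096 (fun c => !mem1 c || schD.chkS 9 c) = true := by
  decide +kernel

theorem schkS9_quarter_1 : ∀ c, 65536 ≤ c → c < 65536 + 16 * 4096 →
    (fun c => !mem1 c || schD.chkS 9 c) c = true := by
  apply allRange_blocks
  intro j hj
  interval_cases j
  · exact schkS9_q1_0
  · exact schkS9_q1_1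
  · exact schkS9_q1_2
  · exact schkS9_q1_3
  · exact schkS9_q1_4
  · exact schkS9_q1_5
  · exact schkS9_q1_6
  · exact schkS9_q1_7
  · exact schkS9_q1_8
  · exact schkS9_q1_9
  · exact schkS9_q1_10
  · exact schkS9_q1_11
  · exact schkS9_q1_12
  · exact schkS9_q1_13
  · exact schkS9_q1_14
  · exact schkS9_q1_15

end Cfsg.Agent.Lib.Helper93.J3
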