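import Cfsg.Agent.Lib.Helper93.J3SchkT0
import Cfsg.Agent.Lib.Helper93.J3SchkT1
import Cfsg.Agent.Lib.Helper93.J3SchkT2
import Cfsg.Agent.Lib.Helper93.J3SchkT3
import Cfsg.Agent.Lib.Helper93.J3SchkS9q0
import Cfsg.Agent.Lib.Helper93.J3SchkS9q1
import Cfsg.Agent.Lib.Helper93.J3SchkS9q2
import Cfsg.Agent.Lib.Helper93.J3SchkS9q3
import Cfsg.Agent.Lib.Helper93.J3SchkS21q0
import Cfsg.Agent.Lib.Helper93.J3SchkS21q1
import Cfsg.Agent.Lib.Helper93.J3SchkS21q2
import Cfsg.Agent.Lib.Helper93.J3SchkS21q3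
import Cfsg.Agent.Lib.Helper93.J3SchkS30q0
import Cfsg.Agent.Lib.Helper93.J3SchkS30q1
import Cfsg.Agent.Lib.Helper93.J3SchkS30q2
import Cfsg.Agent.Lib.Helper93.J3SchkS30q3
import Cfsg.Agent.Lib.Helper93.J3SchkS37q0
import Cfsg.Agent.Lib.Helper93.J3SchkS37q1
import Cfsg.Agent.Lib.Helper93.J3SchkS37q2
import Cfsg.Agent.Lib.Helper93.J3SchkS37q3
import Cfsg.Agent.Lib.Helper93.J3SchkH
import Cfsg.Agent.Lib.Helper93.J3SchCard

/-! # The order of `3·J₃` -/

set_option autoImplicit false

namespace Cfsg.Agent.Lib.Helper93.J3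

open Cfsg.Spor Matrix

theorem quarter_cases (c : ℕ) (hc : c < 262144) :
    (0 ≤ c ∧ c < 65536) ∨ (65536 ≤ c ∧ c < 131072) ∨ (131072 ≤ c ∧ c < 196608) ∨
      (196608 ≤ c ∧ c < 262144) := by omega

theorem of_quarters (f : ℕ → Bool)
    (h0 : ∀ c, 0 ≤ c → c < 0 + 16 * 4096 → (fun c => !mem1 c || f c) c = true)
    (h1 : ∀ c, 65536 ≤ c → c < 65536 + 16 * 4096 → (fun c => !mem1 c || f c) c = true)
    (h2 : ∀ c, 131072 ≤ c → c < 131072 + 16 * 4096 → (fun c => !mem1 c || f c) c = true)
    (h3 : ∀ c, 196608 ≤ c → c < 196608 + 16 * 4096 → (fun c => !mem1 c || f c) c = true) :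
    ∀ c, mem1 c = true → f c = true := by
  intro c hc
  have hlt : c < 262144 := mem1_lt c hc
  have key : (!mem1 c || f c) = true := by
    rcases quarter_cases c hlt with h | h | h | h
    · exact h0 c h.1 (by omega)
    · exact h1 c h.1 (by omega)
    · exact h2 c h.1 (by omega)
    · exact h3 c h.1 (by omega)
  rw [hc] at key
  simpa using key

theorem schD_valid : schD.Valid where
  vT := of_quarters _ schkT_quarter_0 schkT_quarter_1 schkT_quarter_2 schkT_quarter_3
  vH := fun j hj => schkH_all j (Nat.zero_le j) (by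
    have : schD.nH = 6480 := rfl
    omega)
  vO := fun j hj => allRange_spec 0 6479 _ schkOrd_all j (Nat.zero_le j) (by
    have : schD.nH = 6480 := rfl
    omega)
  vS := by
    intro s hs
    simp only [spList, List.mem_cons, List.not_mem_nil, or_false] at hs
    rcases hs with rfl | rfl | rfl | rfl
    · exact of_quarters _ schkS9_quarter_0 schkS9_quarter_1 schkS9_quarter_2 schkS9_quarter_3
    · exact of_quarters _ schkS21_quarter_0 schkS21_quarter_1 schkS21_quarter_2 schkS21_quarter_3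
    · exact of_quarters _ schkS30_quarter_0 schkS30_quarter_1 schkS30_quarter_2 schkS30_quarter_3
    · exact of_quarters _ schkS37_quarter_0 schkS37_quarter_1 schkS37_quarter_2 schkS37_quarter_3
  vG := by
    intro a ha
    have h := schkG_all
    rw [Bool.and_eq_true] at h
    interval_cases a
    · exact h.1
    · exact h.2
  vW := fun k hk => allBelow_spec 43 _ schkW_all k hk
  vj1 := by decide
  vSmall := fun j => unpackM_small _

/-- The order of `3·J₃`. -/
theorem card_threeJ3_eq {F : Type*} [Field F] [Fintype F] (hF : Fintype.card F = 4) (ω : F)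
    (hω : ω ^ 2 + ω + 1 = 0) : Nat.card ↥(threeJ3 F ω) = 150698880 := by
  have := charP_two_of_card hF
  have h := card_threeJ3 ω hω schD schD_valid hF
  have hn : schD.nH = 6480 := rfl
  rw [h, hn]

end Cfsg.Agent.Lib.Helper93.J3
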