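import Cfsg.Agent.Lib.Helper93.J3CenSem
import Cfsg.Agent.Lib.Helper73.ES32
import Cfsg.Agent.Lib.Helper73.ES32Split

/-! # The centraliser of an involution of `J₃` has shape `2^{1+4}_-:A₅` -/

set_option autoImplicit false

namespace Cfsg.Agent.Lib.Helper93.J3

open Cfsg.Spor Matrix

theorem qCA_lt (i : ℕ) : qCA i < 32 := by
  unfold qCA
  rw [nat_land_eq]
  exact lt_of_le_of_lt Nat.and_le_right (by norm_num)

theorem qCB_lt (i : ℕ) : qCB i < 32 := by
  unfold qCB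
  rw [nat_land_eq]
  exact lt_of_le_of_lt Nat.and_le_right (by norm_num)

section sem
variable {F : Type*} [Field F] [CharP F 2] (ω : F) (hω : ω ^ 2 + ω + 1 = 0)
include hω

theorem decM_cA_mem : decM ω cA ∈ MG ω := by
  obtain ⟨_, _, _, _, _, _, _, _, _, ⟨f1, f2, f3⟩, _⟩ := qMisc_facts
  rw [f3, decM_mmul ω hω]
  exact MG_mul ω (T_mem ω hω schD schD_valid _ f1) (Hs_mem ω hω schD schD_valid _ f2)

theorem decM_cB_mem : decM ω cB ∈ MG ω := by
  obtain ⟨_, _, _, _, _, _, _, _, _, _, ⟨f1, f2, f3⟩⟩ := qMisc_facts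
  rw [f3, decM_mmul ω hω]
  exact MG_mul ω (T_mem ω hω schD schD_valid _ f1) (Hs_mem ω hω schD schD_valid _ f2)

/-- The element of order 3 of the centraliser. -/
noncomputable def aHat : ↥(threeJ3 F ω) := (exists_of_MG ω (decM_cA_mem ω hω)).choose

/-- The element of order 5 of the centraliser. -/
noncomputable def bHat : ↥(threeJ3 F ω) := (exists_of_MG ω (decM_cB_mem ω hω)).choose

theorem mat_aHat : mat ω (aHat ω hω) = decM ω cA :=
  (exists_of_MG ω (decM_cA_mem ω hω)).choose_spec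

theorem mat_bHat : mat ω (bHat ω hω) = decM ω cB :=
  (exists_of_MG ω (decM_cB_mem ω hω)).choose_spec

theorem aHat_cube : aHat ω hω * (aHat ω hω * aHat ω hω) = 1 := by
  apply mat_injective
  rw [mat_mul, mat_mul, mat_aHat, ← decM_mmul ω hω, qMisc_facts.2.2.1, ← decM_mmul ω hω,
    qMisc_facts.2.2.2.1, decM_pmI, mat_one]

theorem aHat_inv : (aHat ω hω)⁻¹ = aHat ω hω * aHat ω hω :=
  inv_eq_of_mul_eq_one_right (aHat_cube ω hω)

theorem mat_aHat_inv : mat ω (aHat ω hω)⁻¹ = decM ω cA2 := by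
  rw [aHat_inv, mat_mul, mat_aHat, ← decM_mmul ω hω, qMisc_facts.2.2.1]

theorem aHat_pow : aHat ω hω ^ 3 = 1 := by
  rw [pow_succ', pow_two]
  exact aHat_cube ω hω

theorem bHat_five : bHat ω hω * ((bHat ω hω * bHat ω hω) * (bHat ω hω * bHat ω hω)) = 1 := by
  apply mat_injective
  rw [mat_mul, mat_mul, mat_mul, mat_bHat, ← decM_mmul ω hω, ← decM_mmul ω hω,
    qMisc_facts.2.2.2.2.1, ← decM_mmul ω hω, qMisc_facts.2.2.2.2.2.1, decM_pmI, mat_one]

theorem bHat_inv : (bHat ω hω)⁻¹ = (bHat ω hω * bHat ω hω) * (bHat ω hω * bHat ω hω) :=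
  inv_eq_of_mul_eq_one_right (bHat_five ω hω)

theorem mat_bHat_inv : mat ω (bHat ω hω)⁻¹ = decM ω cB4 := by
  rw [bHat_inv, mat_mul, mat_mul, mat_bHat, ← decM_mmul ω hω, ← decM_mmul ω hω,
    qMisc_facts.2.2.2.2.1]

theorem bHat_pow : bHat ω hω ^ 5 = 1 := by
  have h : bHat ω hω ^ 5 =
      bHat ω hω * ((bHat ω hω * bHat ω hω) * (bHat ω hω * bHat ω hω)) := by
    simp only [pow_succ, pow_zero, one_mul, mul_assoc]
  rw [h]
  exact bHat_five ω hω

theorem abHat_sq : (aHat ω hω * bHat ω hω) ^ 2 = 1 := by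
  rw [pow_two]
  apply mat_injective
  rw [mat_mul, mat_mul, mat_aHat, mat_bHat, ← decM_mmul ω hω, ← decM_mmul ω hω,
    qMisc_facts.2.2.2.2.2.2.1, decM_pmI, mat_one]

theorem aHat_comm_t : aHat ω hω * tHat ω hω = tHat ω hω * aHat ω hω := by
  apply mat_injective
  rw [mat_mul, mat_mul, mat_aHat, mat_tHat, ← decM_mmul ω hω, ← decM_mmul ω hω,
    qMisc_facts.2.2.2.2.2.2.2.1]

theorem bHat_comm_t : bHat ω hω * tHat ω hω = tHat ω hω * bHat ω hω := by
  apply mat_injective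
  rw [mat_mul, mat_mul, mat_bHat, mat_tHat, ← decM_mmul ω hω, ← decM_mmul ω hω,
    qMisc_facts.2.2.2.2.2.2.2.2.1]

theorem aHat_conj (x : ↥(threeJ3 F ω)) (hx : x ∈ qSub ω hω) :
    aHat ω hω * x * (aHat ω hω)⁻¹ ∈ qSub ω hω := by
  obtain ⟨i, hi, ex⟩ := hx
  refine ⟨qCA i, qCA_lt i, ?_⟩
  rw [mat_mul, mat_mul, mat_aHat, mat_aHat_inv, ex, ← decM_mmul ω hω, ← decM_mmul ω hω,
    (q_facts i hi).2.2.2.1]

theorem bHat_conj (x : ↥(threeJ3 F ω)) (hx : x ∈ qSub ω hω) :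
    bHat ω hω * x * (bHat ω hω)⁻¹ ∈ qSub ω hω := by
  obtain ⟨i, hi, ex⟩ := hx
  refine ⟨qCB i, qCB_lt i, ?_⟩
  rw [mat_mul, mat_mul, mat_bHat, mat_bHat_inv, ex, ← decM_mmul ω hω, ← decM_mmul ω hω,
    (q_facts i hi).2.2.2.2]

theorem aHat_not_center [Fintype F] (hF : Fintype.card F = 4) :
    aHat ω hω ∉ Subgroup.center ↥(threeJ3 F ω) := by
  intro h
  have := (center_test ω hω hF (aHat ω hω) cA cA_small (mat_aHat ω hω)).mp h
  rw [cA_not_scalar] at this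
  exact Bool.noConfusion this

/-- Every involution of `J₃` is conjugate to `t`. -/
theorem involution_conj_tJ [Fintype F] (hF : Fintype.card F = 4) (x : J3 F ω)
    (hx : orderOf x = 2) : IsConj x (tJ ω hω) := by
  have hx2 : x ^ 2 = 1 := by rw [← hx]; exact pow_orderOf_eq_one x
  have hx1 : x ≠ 1 := by
    intro h
    rw [h, orderOf_one] at hx
    exact absurd hx (by norm_num)
  obtain ⟨xh, hxh, hxh2⟩ := lift_involution (Subgroup.center ↥(threeJ3 F ω))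
    (center_cube ω hω hF) x hx2
  have hxh1 : xh ≠ 1 := by
    intro h
    apply hx1
    rw [← hxh, h]
    rfl
  obtain ⟨g, hg⟩ := inv_conj_t ω hω hF xh hxh2 hxh1
  rw [isConj_iff]
  refine ⟨QuotientGroup.mk' (Subgroup.center ↥(threeJ3 F ω)) g, ?_⟩
  rw [← hxh]
  show QuotientGroup.mk' (Subgroup.center ↥(threeJ3 F ω)) g *
    QuotientGroup.mk' (Subgroup.center ↥(threeJ3 F ω)) xh *
    (QuotientGroup.mk' (Subgroup.center ↥(threeJ3 F ω)) g)⁻¹ =
    QuotientGroup.mk' (Subgroup.center ↥(threeJ3 F ω)) (tHat ω hω)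
  rw [← hg, map_mul, map_mul, map_inv]

theorem orderOf_tJ [Fintype F] (hF : Fintype.card F = 4) : orderOf (tJ ω hω) = 2 := by
  have : Fact (Nat.Prime 2) := ⟨Nat.prime_two⟩
  apply orderOf_eq_prime
  · show (QuotientGroup.mk' (Subgroup.center ↥(threeJ3 F ω)) (tHat ω hω)) ^ 2 = 1
    rw [← map_pow, pow_two, tHat_sq, map_one]
  · intro h
    apply tHat_not_center ω hω hF
    exact (QuotientGroup.eq_one_iff _).mp h

/-- The centraliser of `t` in `J₃` has shape `2^{1+4}_-:A₅`. -/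
theorem centralizer_shape [Fintype F] (hF : Fintype.card F = 4) :
    ∃ (Q : Subgroup ↥(Subgroup.centralizer ({tJ ω hω} : Set (J3 F ω)))) (_ : Q.Normal),
      Cfsg.IsExtraspecial 2 Q ∧ Nat.card Q = 32 ∧
      (∀ E : Subgroup Q, Cfsg.IsElementaryAbelian 2 E → Nat.card E ≤ 2 ^ 2) ∧
      (∃ H : Subgroup ↥(Subgroup.centralizer ({tJ ω hω} : Set (J3 F ω))), Q.IsComplement' H) ∧
      Nonempty (↥(Subgroup.centralizer ({tJ ω hω} : Set (J3 F ω))) ⧸ Q ≃*
        ↥(alternatingGroup (Fin 5))) := by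
  classical
  have hcard := card_J3 hF ω hω
  have hfinJ : Finite (J3 F ω) := Nat.finite_of_card_ne_zero (by rw [hcard]; norm_num)
  let π := QuotientGroup.mk' (Subgroup.center ↥(threeJ3 F ω))
  let C := Subgroup.centralizer ({tJ ω hω} : Set (J3 F ω))
  have hmemC : ∀ x : ↥(threeJ3 F ω), x * tHat ω hω = tHat ω hω * x → π x ∈ C := by
    intro x hx
    rw [Subgroup.mem_centralizer_singleton_iff]
    show π x * π (tHat ω hω) = π (tHat ω hω) * π x
    rw [← map_mul, ← map_mul, hx]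
  let QJ : Subgroup (J3 F ω) := (qSub ω hω).map π
  let Q : Subgroup ↥C := QJ.subgroupOf C
  let f0 : ↥(qSub ω hω) →* J3 F ω := π.comp (qSub ω hω).subtype
  have hf0C : ∀ x, f0 x ∈ C := fun x => hmemC x.1 (qSub_comm_t ω hω x.1 x.2)
  let f1 : ↥(qSub ω hω) →* ↥C := f0.codRestrict C hf0C
  have hf1Q : ∀ x, f1 x ∈ Q := by
    intro x
    rw [Subgroup.mem_subgroupOf]
    exact Subgroup.mem_map_of_mem π x.2
  let f2 : ↥(qSub ω hω) →* ↥Q := f1.codRestrict Q hf1Q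
  have hinj : Function.Injective f2 := by
    rw [injective_iff_map_eq_one]
    intro x hx
    have h1 : π x.1 = 1 := congrArg (fun q : ↥Q => ((q : ↥C) : J3 F ω)) hx
    have h2 : x.1 ∈ Subgroup.center ↥(threeJ3 F ω) := (QuotientGroup.eq_one_iff _).mp h1
    exact Subtype.ext (qSub_center ω hω hF x.1 x.2 h2)
  have hsurj : Function.Surjective f2 := by
    rintro ⟨⟨q, hqC⟩, hqQ⟩
    have hqQ' : q ∈ QJ := Subgroup.mem_subgroupOf.mp hqQ
    obtain ⟨y, hy, hyq⟩ := Subgroup.mem_map.mp hqQ'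
    exact ⟨⟨y, hy⟩, Subtype.ext (Subtype.ext hyq)⟩
  let e : ↥(qSub ω hω) ≃* ↥Q := MulEquiv.ofBijective f2 ⟨hinj, hsurj⟩
  obtain ⟨hQcard, z, hz1, hz2, hzc, hcen, hcomm, hnc, hsq, htri⟩ :=
    es_hyps_of_index (A := ↥Q) (fun x => qIdx ω hω (e.symm x)) qMul qI1 qIz
      (fun x => qIdx_lt ω hω _)
      (fun x y h => e.symm.injective (qIdx_injective ω hω h))
      (fun x y => by
        show qIdx ω hω (e.symm (x * y)) = _
        rw [map_mul, qIdx_mul])
      (by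
        show qIdx ω hω (e.symm 1) = _
        rw [map_one, qIdx_one])
      (fun i hi => by
        obtain ⟨y, hy⟩ := qIdx_surj ω hω i hi
        refine ⟨e y, ?_⟩
        show qIdx ω hω (e.symm (e y)) = i
        rw [MulEquiv.symm_apply_apply, hy])
      (by decide) qIz_ne qMul_zz
      (fun i hi => (qI_facts i hi).2.2.2.1)
      (fun i hi => (qI_facts i hi).2.1)
      qComm_fact qNc_fact
      (fun i hi => (qI_facts i hi).2.2.1)
      (fun a b c ha hb hc h1 h2 h3 h4 h5 h6 => qTri_fact a b c ha hb hc h1 h2 h3 h4 h5 h6)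
  obtain ⟨hES, hE⟩ := Cfsg.Agent.Lib.Helper73.ES32.extraspecial_of_table hQcard z hz1 hz2 hzc hcen
    hcomm hnc hsq htri
  let a : ↥C := ⟨π (aHat ω hω), hmemC _ (aHat_comm_t ω hω)⟩
  let b : ↥C := ⟨π (bHat ω hω), hmemC _ (bHat_comm_t ω hω)⟩
  have ha : a ^ 3 = 1 := by
    apply Subtype.ext
    rw [Subgroup.coe_pow]
    show (π (aHat ω hω)) ^ 3 = 1
    rw [← map_pow, aHat_pow, map_one]
  have hb : b ^ 5 = 1 := by
    apply Subtype.ext
    rw [Subgroup.coe_pow]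
    show (π (bHat ω hω)) ^ 5 = 1
    rw [← map_pow, bHat_pow, map_one]
  have hab : (a * b) ^ 2 = 1 := by
    apply Subtype.ext
    rw [Subgroup.coe_pow]
    show (π (aHat ω hω) * π (bHat ω hω)) ^ 2 = 1
    rw [← map_mul, ← map_pow, abHat_sq, map_one]
  have ha1 : a ≠ 1 := by
    intro h
    have h1 : π (aHat ω hω) = 1 := congrArg Subtype.val h
    exact aHat_not_center ω hω hF ((QuotientGroup.eq_one_iff _).mp h1)
  have hna : ∀ q ∈ Q, a * q * a⁻¹ ∈ Q := by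
    intro q hq
    have hq' : (q : J3 F ω) ∈ QJ := Subgroup.mem_subgroupOf.mp hq
    obtain ⟨y, hy, hyq⟩ := Subgroup.mem_map.mp hq'
    apply Subgroup.mem_subgroupOf.mpr
    refine Subgroup.mem_map.mpr ⟨aHat ω hω * y * (aHat ω hω)⁻¹, aHat_conj ω hω y hy, ?_⟩
    rw [map_mul, map_mul, map_inv, hyq]
    rfl
  have hnb : ∀ q ∈ Q, b * q * b⁻¹ ∈ Q := by
    intro q hq
    have hq' : (q : J3 F ω) ∈ QJ := Subgroup.mem_subgroupOf.mp hq
    obtain ⟨y, hy, hyq⟩ := Subgroup.mem_map.mp hq'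
    apply Subgroup.mem_subgroupOf.mpr
    refine Subgroup.mem_map.mpr ⟨bHat ω hω * y * (bHat ω hω)⁻¹, bHat_conj ω hω y hy, ?_⟩
    rw [map_mul, map_mul, map_inv, hyq]
    rfl
  obtain ⟨hN, hH, hiso⟩ := Cfsg.Agent.Lib.Helper73.ES32.split_shape_A5
    (card_centralizer_tJ ω hω hF) Q hQcard a b ha hb hab ha1 hna hnb
  exact ⟨Q, hN, hES, hQcard, hE, hH, hiso⟩

end sem

end Cfsg.Agent.Lib.Helper93.J3
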