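import Cfsg.Agent.Lib.Helper69.Aut.OutDefs
import Cfsg.Agent.Lib.Helper69.Aut.Diag
import Cfsg.Agent.Lib.Helper18.TorusHom
import Cfsg.Agent.Lib.Helper18.NConj
import Cfsg.Agent.Lib.Helper18.Order1
import Cfsg.Agent.S1080

/-!
# project OUT (helper69's sheet #4529): modules [NF-UNIQ], [NF-INJ], [NF-SURJ]

The normal form `NF hD θ π c τ` of an automorphism determines `(π, c, τ)`, determines `θ`, and every
triple with `π` realised by a graph automorphism occurs.
-/

set_option autoImplicit false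

namespace Cfsg.Agent.Lib.Helper93.Aut

open Cfsg Cfsg.Lie Cfsg.Agent.Lib.Helper18 Cfsg.Agent.Lib.Helper91.ChevGen Cfsg.Agent.Lib.Helper69.Aut

universe u

variable {F : Type u} [Field F] {D : ChevalleyDatum}

/-- the fundamental roots are pairwise distinct. -/
theorem simple_inj' (D : ChevalleyDatum)
    (hD : D ∈ [chevG2, chevB2, chevD4, chevF4, chevE6, chevE7, chevE8]) (i k : ℕ) (hi : i < D.rank)
    (hk : k < D.rank) (h : D.simple i = D.simple k) : i = k := by
  simp only [List.mem_cons, List.not_mem_nil, or_false] at hD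
  rcases hD with rfl | rfl | rfl | rfl | rfl | rfl | rfl
  · have : ∀ i < chevG2.rank, ∀ k < chevG2.rank, chevG2.simple i = chevG2.simple k → i = k := by
      decide
    exact this i hi k hk h
  · have : ∀ i < chevB2.rank, ∀ k < chevB2.rank, chevB2.simple i = chevB2.simple k → i = k := by
      decide
    exact this i hi k hk h
  · have : ∀ i < chevD4.rank, ∀ k < chevD4.rank, chevD4.simple i = chevD4.simple k → i = k := by
      decide
    exact this i hi k hk h
  · have : ∀ i < chevF4.rank, ∀ k < chevF4.rank, chevF4.simple i = chevF4.simple k → i = k := by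
      decide
    exact this i hi k hk h
  · have : ∀ i < chevE6.rank, ∀ k < chevE6.rank, chevE6.simple i = chevE6.simple k → i = k := by
      decide
    exact this i hi k hk h
  · have : ∀ i < chevE7.rank, ∀ k < chevE7.rank, chevE7.simple i = chevE7.simple k → i = k := by
      decide
    exact this i hi k hk h
  · have : ∀ i < chevE8.rank, ∀ k < chevE8.rank, chevE8.simple i = chevE8.simple k → i = k := by
      decide
    exact this i hi k hk h

theorem rank_pos' (D : ChevalleyDatum)
    (hD : D ∈ [chevG2, chevB2, chevD4, chevF4, chevE6, chevE7, chevE8]) : 0 < D.rank := by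
  simp only [List.mem_cons, List.not_mem_nil, or_false] at hD
  rcases hD with rfl | rfl | rfl | rfl | rfl | rfl | rfl <;> decide

/-- MODULE OUT-[NF-INJ] -/
theorem eq_of_nf (hD : D ∈ [chevG2, chevB2, chevD4, chevF4, chevE6, chevE7, chevE8])
    (θ θ' : ↥(D.group F) ≃* ↥(D.group F)) (π : Equiv.Perm (Fin D.rank)) (c : Fin D.rank → Fˣ)
    (τ : F ≃+* F) (h : NF hD θ π c τ) (h' : NF hD θ' π c τ) : θ = θ' := by
  have key : θ.toMonoidHom = θ'.toMonoidHom := by
    refine hom_ext_fund hD θ.toMonoidHom θ'.toMonoidHom ?_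
    intro y i t hi hy
    show θ y = θ' y
    rcases hy with hy | hy
    · rw [eq_xS hD y _ t hy]
      exact ((h ⟨i, hi⟩ t).1).trans ((h' ⟨i, hi⟩ t).1).symm
    · rw [eq_xS hD y _ t hy]
      exact ((h ⟨i, hi⟩ t).2).trans ((h' ⟨i, hi⟩ t).2).symm
  exact MulEquiv.toMonoidHom_injective key

/-- MODULE OUT-[NF-UNIQ] -/
theorem nf_unique [Finite F] (hD : D ∈ [chevG2, chevB2, chevD4, chevF4, chevE6, chevE7, chevE8])
    (θ : ↥(D.group F) ≃* ↥(D.group F)) (π π' : Equiv.Perm (Fin D.rank)) (c c' : Fin D.rank → Fˣ)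
    (τ τ' : F ≃+* F) (h : NF hD θ π c τ) (h' : NF hD θ π' c' τ') : π = π' ∧ c = c' ∧ τ = τ' := by
  have hlt : ∀ j : Fin D.rank, D.simple j < D.nroots := fun j => simple_lt' D hD j j.2
  -- the two right hand sides agree
  have hE : ∀ (i : Fin D.rank) (t : F),
      xS hD (D.simple (π i)) ((c (π i) : F) * (τ t) ^ D.graphExp (ringChar F) i (π i)) =
      xS hD (D.simple (π' i)) ((c' (π' i) : F) * (τ' t) ^ D.graphExp (ringChar F) i (π' i)) :=
    fun i t => ((h i t).1).symm.trans (h' i t).1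
  have hπ : ∀ i, π i = π' i := by
    intro i
    have h1 := hE i 1
    simp only [map_one, one_pow, mul_one] at h1
    have h2 : xG hD (D.simple (π i)) ((c (π i) : F)) = xG hD (D.simple (π' i)) ((c' (π' i) : F)) :=
      congrArg Subtype.val h1
    have h3 := xG_inj_root hD _ _ (hlt (π i)) (hlt (π' i)) _ _ (Units.ne_zero _) h2
    exact Fin.ext (simple_inj' D hD _ _ (π i).2 (π' i).2 h3.symm)
  have hππ : π = π' := Equiv.ext hπ
  subst hππ
  have hc : c = c' := by
    funext j
    obtain ⟨i, rfl⟩ := π.surjective j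
    have h1 := hE i 1
    simp only [map_one, one_pow, mul_one] at h1
    exact Units.ext (xS_injective hD _ (hlt (π i)) h1)
  subst hc
  refine ⟨rfl, rfl, ?_⟩
  apply RingEquiv.ext
  intro t
  let i : Fin D.rank := ⟨0, rank_pos' D hD⟩
  have h1 := xS_injective hD _ (hlt (π i)) (hE i t)
  have h2 : (τ t) ^ D.graphExp (ringChar F) i (π i) = (τ' t) ^ D.graphExp (ringChar F) i (π i) :=
    mul_left_cancel₀ (Units.ne_zero _) h1
  unfold ChevalleyDatum.graphExp at h2
  split_ifs at h2 with hlong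
  · have hp : (ringChar F).Prime := CharP.char_is_prime F (ringChar F)
    have : ExpChar F (ringChar F) := ExpChar.prime hp
    exact frobenius_inj F (ringChar F) h2
  · simpa using h2

/-- MODULE OUT-[NF-SURJ] -/
theorem exists_of_nf (hD : D ∈ [chevG2, chevB2, chevD4, chevF4, chevE6, chevE7, chevE8])
    (π : Equiv.Perm (Fin D.rank)) (hπ : π ∈ RealSym hD F) (c : Fin D.rank → Fˣ) (τ : F ≃+* F) :
    ∃ θ : ↥(D.group F) ≃* ↥(D.group F), NF hD θ π c τ := by
  obtain ⟨g, -, hg⟩ := hπ
  obtain ⟨d, -, hd⟩ := exists_diagonalAut hD c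
  obtain ⟨φ, hφ⟩ := Cfsg.Agent.S1080.result D hD τ
  have hlt : ∀ j : Fin D.rank, D.simple j < D.nroots := fun j => simple_lt' D hD j j.2
  have hφ' : ∀ (r : ℕ) (t : F), r < D.nroots → φ (xS hD r t) = xS hD r (τ t) := by
    intro r t hr
    refine eq_xS hD _ r (τ t) (hφ (xS hD r t) r t hr ?_)
    rw [coe_xS, coe_xG]
  refine ⟨φ.trans (g.trans d), fun i t => ⟨?_, ?_⟩⟩
  · show d (g (φ (xS hD (D.simple i) t))) = _
    rw [hφ' _ t (hlt i), (hg i (τ t)).1, (hd (π i) _).1]
  · show d (g (φ (xS hD (D.neg (D.simple i)) t))) = _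
    rw [hφ' _ t (neg_lt_nroots D hD _ (hlt i)), (hg i (τ t)).2, (hd (π i) _).2]

end Cfsg.Agent.Lib.Helper93.Aut
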