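import Cfsg.Agent.Lib.Helper93.SteinerExt
import Cfsg.Agent.S0352

/-!
# Extension step for `S(5,8,24)`

If the derived design at a point of a Steiner system `S(5,8,24)` is isomorphic to the derived
design of the octads at a point, the system is isomorphic to the octads.
-/

set_option autoImplicit false

namespace Cfsg.Agent.Lib.Helper93.S24Unique
open Finset Cfsg Cfsg.Agent.Lib.Helper6 Cfsg.Agent.Lib.Helper7 Cfsg.Agent.Lib.Helper93.S22Unique
  Cfsg.Agent.Lib.Helper93.SteinerExt Cfsg.Agent.Lib.Helper93.OctadComplete

universe u
variable {α : Type u} [Fintype α] [DecidableEq α] {D : Set (Finset α)}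

theorem ncard_blocks24 (hα : Fintype.card α = 24) (hD : IsSteinerSystem 5 8 D) :
    D.ncard = 759 := by
  have := Cfsg.Agent.S0350.result hD
  rw [hα] at this
  have h1 : (8 : ℕ).choose 5 = 56 := by decide
  have h2 : (24 : ℕ).choose 5 = 42504 := by decide
  rw [h1, h2] at this
  omega

theorem ncard_octads' : octads.ncard = 759 := by
  have h24 : Fintype.card GolayPt = 24 := by decide
  exact ncard_blocks24 h24 octads_steiner

theorem iso_octads_of_derived (hα : Fintype.card α = 24) (hD : IsSteinerSystem 5 8 D) (p : α)
    (x : GolayPt) (e : {a : α // a ≠ p} ≃ {a : GolayPt // a ≠ x})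
    (he : (fun b : Finset {a : α // a ≠ p} => b.image e) '' dLines D p = dLines octads x) :
    SetSystemIso D octads := by
  classical
  refine ⟨extend p x e, ?_⟩
  have hsub : (fun b : Finset α => b.image (extend p x e)) '' D ⊆ octads := by
    rintro _ ⟨b, hb, rfl⟩
    show b.image (extend p x e) ∈ octads
    by_cases hpb : p ∈ b
    · have hl : res p b ∈ dLines D p := ⟨b, hb, hpb, rfl⟩
      have hl' : (res p b).image e ∈ dLines octads x := by
        rw [← he]
        exact ⟨res p b, hl, rfl⟩
      obtain ⟨o, ho, hxo, hoeq⟩ := hl'
      have : b.image (extend p x e) = o := by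
        apply eq_of_res_eq
        · rw [res_image_extend, hoeq]
        · rw [mem_image_extend_self]
          exact ⟨fun _ => hxo, fun _ => hpb⟩
      rw [this]
      exact ho
    · set h : Finset {a : GolayPt // a ≠ x} := (res p b).image e with hh
      have h8 : (lift h).card = 8 := by
        rw [card_lift, hh, Finset.card_image_of_injective _ e.injective,
          card_res_of_not_mem hpb, hD.1 b hb]
      have hoct : lift h ∈ octads := by
        apply complete_octad_one h8 x
        intro o ho hxo
        have hn : res x o ∈ dLines octads x := ⟨o, ho, hxo, rfl⟩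
        rw [← he] at hn
        obtain ⟨l, ⟨c, hc, hpc, rfl⟩, hleq⟩ := hn
        have hleq' : (res p c).image e = res x o := hleq
        rw [card_lift_inter, ← hleq', hh, card_image_res_inter e hpb]
        have hbc : b ≠ c := fun h' => hpb (h' ▸ hpc)
        rcases Cfsg.Agent.S0352.result hα hD hb hc hbc with h0 | h0 | h0 <;> rw [h0] <;> decide
      have : b.image (extend p x e) = lift h := by
        apply eq_of_res_eq
        · rw [res_image_extend, res_lift]
        · rw [mem_image_extend_self]
          exact ⟨fun h' => absurd h' hpb, fun h' => absurd h' (not_mem_lift h)⟩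
      rw [this]
      exact hoct
  apply Set.eq_of_subset_of_ncard_le hsub ?_ (Set.toFinite _)
  rw [Set.ncard_image_of_injective _ (Finset.image_injective (extend p x e).injective),
    ncard_blocks24 hα hD, ncard_octads']

end Cfsg.Agent.Lib.Helper93.S24Unique
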