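import Cfsg.Agent.Lib.Helper93.S23Unique
import Cfsg.Agent.Lib.Helper93.S24Unique
import Cfsg.Agent.Lib.Helper7.SteinerEnc

/-!
# Uniqueness of `S(4,7,23)` and `S(5,8,24)`
-/

set_option autoImplicit false

namespace Cfsg.Agent.Lib.Helper93.SteinerMain
open Finset Cfsg Cfsg.Agent.Lib.Helper6 Cfsg.Agent.Lib.Helper7 Cfsg.Agent.Lib.Helper93.S22Unique
  Cfsg.Agent.Lib.Helper93.S23Unique Cfsg.Agent.Lib.Helper93.S24Unique

universe u v

/-- Any Steiner system `S(4,7,23)` is isomorphic to the derived design of the octads at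
`none`. -/
theorem iso_C23_none {α : Type u} [Fintype α] [DecidableEq α] {D : Set (Finset α)}
    (hα : Fintype.card α = 23) (hD : IsSteinerSystem 4 7 D) : SetSystemIso D (C23 none) := by
  obtain ⟨x, hx⟩ := exists_iso_C23 hα hD
  exact setSystemIso_trans hx (C23_iso x none)

/-- Any two Steiner systems `S(4,7,23)` are isomorphic. -/
theorem steiner_4_7_23_unique {α : Type u} {β : Type v} [Fintype α] [DecidableEq α] [Fintype β]
    [DecidableEq β] {D : Set (Finset α)} {D' : Set (Finset β)} (hα : Fintype.card α = 23)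
    (hβ : Fintype.card β = 23) (hD : IsSteinerSystem 4 7 D) (hD' : IsSteinerSystem 4 7 D') :
    SetSystemIso D D' :=
  setSystemIso_trans (iso_C23_none hα hD) (setSystemIso_symm (iso_C23_none hβ hD'))

/-- Any Steiner system `S(5,8,24)` is isomorphic to the octads. -/
theorem iso_octads {α : Type u} [Fintype α] [DecidableEq α] {D : Set (Finset α)}
    (hα : Fintype.card α = 24) (hD : IsSteinerSystem 5 8 D) : SetSystemIso D octads := by
  have hne : Nonempty α := Fintype.card_pos_iff.mp (by rw [hα]; norm_num)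
  obtain ⟨p⟩ := hne
  have hE : IsSteinerSystem 4 7 (dLines D p) :=
    Cfsg.Agent.S0351.result (t := 4) (k := 7) hD p
  have h23 : Fintype.card {a : α // a ≠ p} = 23 := by
    rw [Fintype.card_subtype_compl (fun a : α => a = p), Fintype.card_subtype_eq, hα]
  obtain ⟨e, he⟩ := iso_C23_none h23 hE
  exact iso_octads_of_derived hα hD p none e he

/-- Any two Steiner systems `S(5,8,24)` are isomorphic. -/
theorem steiner_5_8_24_unique {α : Type u} {β : Type v} [Fintype α] [DecidableEq α] [Fintype β]
    [DecidableEq β] {D : Set (Finset α)} {D' : Set (Finset β)} (hα : Fintype.card α = 24)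
    (hβ : Fintype.card β = 24) (hD : IsSteinerSystem 5 8 D) (hD' : IsSteinerSystem 5 8 D') :
    SetSystemIso D D' :=
  setSystemIso_trans (iso_octads hα hD) (setSystemIso_symm (iso_octads hβ hD'))

end Cfsg.Agent.Lib.Helper93.SteinerMain
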