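import Mathlib

/-!
# Sign-reversing "toggle" involutions on finsets, and chains in a lattice

Generic tools for the two combinatorial modules [COMB-N], [COMB-U] of S4651
(Knörr–Robinson alternating sums over chains of `p`-subgroups).
-/

set_option autoImplicit false

namespace Cfsg.Agent.Lib.Helper93.S4651

section Toggle

variable {β : Type*} [DecidableEq β]

/-- toggle the membership of `P` in `s`. -/
def toggle (P : β) (s : Finset β) : Finset β := if P ∈ s then s.erase P else insert P s

theorem toggle_of_mem {P : β} {s : Finset β} (h : P ∈ s) : toggle P s = s.erase P := if_pos h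

theorem toggle_of_notMem {P : β} {s : Finset β} (h : P ∉ s) : toggle P s = insert P s := if_neg h

theorem toggle_toggle (P : β) (s : Finset β) : toggle P (toggle P s) = s := by
  by_cases h : P ∈ s
  · rw [toggle_of_mem h, toggle_of_notMem (Finset.notMem_erase P s), Finset.insert_erase h]
  · rw [toggle_of_notMem h, toggle_of_mem (Finset.mem_insert_self P s), Finset.erase_insert h]

theorem neg_one_pow_card_toggle (P : β) (s : Finset β) :
    (-1 : ℤ) ^ (toggle P s).card = - (-1 : ℤ) ^ s.card := by
  by_cases h : P ∈ s
  · rw [toggle_of_mem h]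
    have : s.card = (s.erase P).card + 1 := (Finset.card_erase_add_one h).symm
    rw [this, pow_succ]; ring
  · rw [toggle_of_notMem h, Finset.card_insert_of_notMem h, pow_succ]; ring

theorem toggle_ne (P : β) (s : Finset β) : toggle P s ≠ s := by
  by_cases h : P ∈ s
  · rw [toggle_of_mem h]
    intro he
    have h2 : P ∈ s.erase P := by rw [he]; exact h
    exact Finset.notMem_erase P s h2
  · rw [toggle_of_notMem h]
    intro he
    have h2 : P ∈ insert P s := Finset.mem_insert_self P s
    rw [he] at h2
    exact h h2

theorem filter_toggle {q : β → Prop} [DecidablePred q] {P : β} (hq : ¬ q P) (s : Finset β) :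
    (toggle P s).filter q = s.filter q := by
  by_cases h : P ∈ s
  · rw [toggle_of_mem h, Finset.filter_erase, Finset.erase_eq_of_notMem]
    simp [hq]
  · rw [toggle_of_notMem h, Finset.filter_insert, if_neg hq]

/-- the generic sign-reversing involution. -/
theorem sum_toggle_eq_zero (S : Finset (Finset β)) (piv : Finset β → β) (F : Finset β → ℤ)
    (hmem : ∀ s ∈ S, toggle (piv s) s ∈ S)
    (hpiv : ∀ s ∈ S, piv (toggle (piv s) s) = piv s)
    (hF : ∀ s ∈ S, F (toggle (piv s) s) = F s) :
    ∑ s ∈ S, (-1 : ℤ) ^ s.card * F s = 0 := by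
  refine Finset.sum_involution (fun s _ => toggle (piv s) s) ?_ ?_ ?_ ?_
  · intro s hs
    rw [neg_one_pow_card_toggle, hF s hs]; ring
  · intro s hs _
    exact toggle_ne _ _
  · intro s hs
    exact hmem s hs
  · intro s hs
    rw [hpiv s hs, toggle_toggle]

end Toggle

section Chain

theorem sup_mem_of_chain {α : Type*} [Lattice α] [OrderBot α] [DecidableEq α] (c : Finset α)
    (hc : ∀ a ∈ c, ∀ b ∈ c, a ≤ b ∨ b ≤ a) (hne : c.Nonempty) : c.sup id ∈ c := by
  induction c using Finset.induction_on with
  | empty => exact absurd hne (by simp)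
  | insert a c ha ih =>
    rw [Finset.sup_insert, id]
    by_cases hce : c.Nonempty
    · have hm := ih (fun x hx y hy => hc x (Finset.mem_insert_of_mem hx) y
        (Finset.mem_insert_of_mem hy)) hce
      rcases hc a (Finset.mem_insert_self a c) _ (Finset.mem_insert_of_mem hm) with h | h
      · rw [sup_eq_right.mpr h]; exact Finset.mem_insert_of_mem hm
      · rw [sup_eq_left.mpr h]; exact Finset.mem_insert_self _ _
    · rw [Finset.not_nonempty_iff_eq_empty] at hce
      subst hce
      simp

theorem inf_mem_of_chain {α : Type*} [Lattice α] [OrderTop α] [DecidableEq α] (c : Finset α)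
    (hc : ∀ a ∈ c, ∀ b ∈ c, a ≤ b ∨ b ≤ a) (hne : c.Nonempty) : c.inf id ∈ c := by
  induction c using Finset.induction_on with
  | empty => exact absurd hne (by simp)
  | insert a c ha ih =>
    rw [Finset.inf_insert, id]
    by_cases hce : c.Nonempty
    · have hm := ih (fun x hx y hy => hc x (Finset.mem_insert_of_mem hx) y
        (Finset.mem_insert_of_mem hy)) hce
      rcases hc a (Finset.mem_insert_self a c) _ (Finset.mem_insert_of_mem hm) with h | h
      · rw [inf_eq_left.mpr h]; exact Finset.mem_insert_self _ _
      · rw [inf_eq_right.mpr h]; exact Finset.mem_insert_of_mem hm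
    · rw [Finset.not_nonempty_iff_eq_empty] at hce
      subst hce
      simp

end Chain

section Normalizer

variable {G : Type*} [Group G]

theorem normalizer_inf_le_normalizer_sup (H K : Subgroup G) :
    Subgroup.normalizer (H : Set G) ⊓ Subgroup.normalizer (K : Set G) ≤
      Subgroup.normalizer ((H ⊔ K : Subgroup G) : Set G) := by
  have key : ∀ g : G, g ∈ Subgroup.normalizer (H : Set G) → g ∈ Subgroup.normalizer (K : Set G) →
      ∀ x ∈ H ⊔ K, g * x * g⁻¹ ∈ H ⊔ K := by
    intro g hgH hgK x hx
    have hle : H ⊔ K ≤ (H ⊔ K).comap (MulAut.conj g).toMonoidHom := by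
      refine sup_le ?_ ?_
      · intro h hh
        rw [Subgroup.mem_comap]
        simp only [MulEquiv.coe_toMonoidHom, MulAut.conj_apply]
        exact (le_sup_left : H ≤ H ⊔ K) ((Subgroup.mem_normalizer_iff.mp hgH h).mp hh)
      · intro h hh
        rw [Subgroup.mem_comap]
        simp only [MulEquiv.coe_toMonoidHom, MulAut.conj_apply]
        exact (le_sup_right : K ≤ H ⊔ K) ((Subgroup.mem_normalizer_iff.mp hgK h).mp hh)
    have := hle hx
    simpa using this
  intro g hg
  rw [Subgroup.mem_normalizer_iff]
  intro x
  constructor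
  · exact key g hg.1 hg.2 x
  · intro hx
    have := key g⁻¹ (Subgroup.inv_mem _ hg.1) (Subgroup.inv_mem _ hg.2) _ hx
    have h2 : g⁻¹ * (g * x * g⁻¹) * g⁻¹⁻¹ = x := by group
    rwa [h2] at this

end Normalizer

end Cfsg.Agent.Lib.Helper93.S4651
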