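import Mathlib
import Cfsg.Agent.Lib.Helper82.ChainDefs
import Cfsg.Agent.Lib.Helper93.S4651Toggle

/-!
# S4651 module [COMB-N] (helper82's sheet)

The alternating sum over nonempty non-normal chains of nontrivial `p`-subgroups of
`(-1)^|s| f(N(s))` vanishes: sign-reversing involution `s ↦ s Δ {Q⁻ ⊔ Z(Q*)}`, `Q*` the least
nonabelian member of `s`.
-/

set_option autoImplicit false

open Cfsg Cfsg.Agent.Lib.Helper82

namespace Cfsg.Agent.Lib.Helper93.S4651

open scoped Classical

variable {G : Type*} [Group G]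

/-- abelian subgroup. -/
def IsAb (Q : Subgroup G) : Prop := Q ≤ Subgroup.centralizer (Q : Set G)

/-- the centre of a subgroup, as a subgroup of `G`. -/
def zen (Q : Subgroup G) : Subgroup G := Q ⊓ Subgroup.centralizer (Q : Set G)

theorem isAb_bot : IsAb (⊥ : Subgroup G) := by
  intro x hx
  rw [Subgroup.mem_bot] at hx
  subst hx
  exact Subgroup.one_mem _

theorem IsAb.mono {Q R : Subgroup G} (h : IsAb R) (hQR : Q ≤ R) : IsAb Q :=
  fun _ hx => Subgroup.centralizer_le (SetLike.coe_subset_coe.mpr hQR) (h (hQR hx))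

theorem zen_le (Q : Subgroup G) : zen Q ≤ Q := inf_le_left

theorem zen_le_centralizer (Q : Subgroup G) : zen Q ≤ Subgroup.centralizer (Q : Set G) :=
  inf_le_right

theorem isAb_zen (Q : Subgroup G) : IsAb (zen Q) := by
  intro x hx
  rw [Subgroup.mem_centralizer_iff]
  intro h hh
  exact (Subgroup.mem_centralizer_iff.mp hx.2) h hh.1

theorem normalizer_le_normalizer_zen (Q : Subgroup G) :
    Subgroup.normalizer (Q : Set G) ≤ Subgroup.normalizer ((zen Q : Subgroup G) : Set G) := by
  have key : ∀ g ∈ Subgroup.normalizer (Q : Set G), ∀ z ∈ zen Q, g * z * g⁻¹ ∈ zen Q := by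
    intro g hg z hz
    have hz' := Subgroup.mem_inf.mp hz
    refine Subgroup.mem_inf.mpr ⟨(Subgroup.mem_normalizer_iff.mp hg z).mp hz'.1, ?_⟩
    rw [Subgroup.mem_centralizer_iff]
    intro y hy
    have hy' : g⁻¹ * y * g ∈ Q := (Subgroup.mem_normalizer_iff''.mp hg y).mp hy
    have hc : (g⁻¹ * y * g) * z = z * (g⁻¹ * y * g) :=
      (Subgroup.mem_centralizer_iff.mp hz'.2) _ hy'
    calc y * (g * z * g⁻¹) = g * ((g⁻¹ * y * g) * z) * g⁻¹ := by group
      _ = g * (z * (g⁻¹ * y * g)) * g⁻¹ := by rw [hc]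
      _ = g * z * g⁻¹ * y := by group
  intro g hg
  rw [Subgroup.mem_normalizer_iff]
  intro z
  constructor
  · exact key g hg z
  · intro hz
    have := key g⁻¹ (Subgroup.inv_mem _ hg) _ hz
    have h2 : g⁻¹ * (g * z * g⁻¹) * g⁻¹⁻¹ = z := by group
    rwa [h2] at this

theorem zen_ne_bot [Finite G] (p : ℕ) [Fact p.Prime] (Q : Subgroup G) (hQ : IsPGroup p Q)
    (hne : Q ≠ ⊥) : zen Q ≠ ⊥ := by
  have : Nontrivial ↥Q := (Subgroup.nontrivial_iff_ne_bot Q).mpr hne
  have : Nontrivial (Subgroup.center ↥Q) := hQ.center_nontrivial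
  obtain ⟨z, hz⟩ := exists_ne (1 : Subgroup.center ↥Q)
  intro hbot
  apply hz
  have hzmem : ((z : ↥Q) : G) ∈ zen Q := by
    refine Subgroup.mem_inf.mpr ⟨(z : ↥Q).2, ?_⟩
    rw [Subgroup.mem_centralizer_iff]
    intro y hy
    have := (Subgroup.mem_center_iff.mp z.2) ⟨y, hy⟩
    exact congrArg Subtype.val this
  rw [hbot, Subgroup.mem_bot] at hzmem
  apply Subtype.ext
  apply Subtype.ext
  simpa using hzmem

/-- the least nonabelian member of `s` (`⊤` if there is none). -/
noncomputable def qStar (s : Finset (Subgroup G)) : Subgroup G :=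
  (s.filter (fun Q => ¬ IsAb Q)).inf id

/-- the centre of the least nonabelian member. -/
noncomputable def aSub (s : Finset (Subgroup G)) : Subgroup G := zen (qStar s)

/-- the largest member not containing `aSub s` (`⊥` if there is none). -/
noncomputable def qMinus (s : Finset (Subgroup G)) : Subgroup G :=
  (s.filter (fun Q => ¬ aSub s ≤ Q)).sup id

/-- the pivot of the involution. -/
noncomputable def pivot (s : Finset (Subgroup G)) : Subgroup G := qMinus s ⊔ aSub s

theorem aSub_le_pivot (s : Finset (Subgroup G)) : aSub s ≤ pivot s := le_sup_right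

theorem normalizer_le_normalizer_pivot (s : Finset (Subgroup G)) :
    Subgroup.normalizer ((qStar s : Subgroup G) : Set G) ⊓
      Subgroup.normalizer ((qMinus s : Subgroup G) : Set G) ≤
      Subgroup.normalizer ((pivot s : Subgroup G) : Set G) := by
  refine le_trans ?_ (normalizer_inf_le_normalizer_sup (qMinus s) (aSub s))
  refine le_inf inf_le_right (le_trans inf_le_left (normalizer_le_normalizer_zen _))

/-- the pivot only depends on the filters, which do not see an abelian pivot. -/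
theorem pivot_toggle (s : Finset (Subgroup G)) (hab : IsAb (pivot s)) :
    pivot (toggle (pivot s) s) = pivot s := by
  have h1 : qStar (toggle (pivot s) s) = qStar s := by
    unfold qStar
    rw [filter_toggle (q := fun Q => ¬ IsAb Q) (not_not.mpr hab)]
  have h2 : aSub (toggle (pivot s) s) = aSub s := by
    unfold aSub
    rw [h1]
  have h3 : qMinus (toggle (pivot s) s) = qMinus s := by
    unfold qMinus
    rw [h2, filter_toggle (q := fun Q => ¬ aSub s ≤ Q) (not_not.mpr (aSub_le_pivot s))]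
  show qMinus (toggle (pivot s) s) ⊔ aSub (toggle (pivot s) s) = qMinus s ⊔ aSub s
  rw [h3, h2]

/-- a nonempty chain of abelian subgroups is a normal chain. -/
theorem isNormalChain_of_forall_isAb (s : Finset (Subgroup G))
    (hc : ∀ Q ∈ s, ∀ R ∈ s, Q ≤ R ∨ R ≤ Q) (hne : s.Nonempty) (hab : ∀ Q ∈ s, IsAb Q) :
    IsNormalChain s := by
  have hT : s.sup id ∈ s := sup_mem_of_chain s hc hne
  refine ⟨s.sup id, hT, fun Q hQ => ?_⟩
  have hQT : Q ≤ s.sup id := Finset.le_sup (f := id) hQ
  refine ⟨hQT, ?_⟩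
  intro x hx
  rw [Subgroup.mem_normalizer_iff]
  intro q
  have hxc := hab _ hT hx
  constructor
  · intro hq
    have : q * x = x * q := (Subgroup.mem_centralizer_iff.mp hxc) q (hQT hq)
    have h2 : x * q * x⁻¹ = q := by rw [← this]; group
    rw [h2]; exact hq
  · intro hq
    have : (x * q * x⁻¹) * x = x * (x * q * x⁻¹) :=
      (Subgroup.mem_centralizer_iff.mp hxc) _ (hQT hq)
    have h2 : q = x * q * x⁻¹ := by
      have h3 : x * q = x * (x * q * x⁻¹) := by rw [← this]; group
      exact mul_left_cancel h3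
    rw [h2]; exact hq

/-- All the facts about the pivot of a `p`-chain having a nonabelian member. -/
theorem pivot_facts [Finite G] (p : ℕ) [Fact p.Prime] (s : Finset (Subgroup G))
    (hs : IsPChain p s) (hna : ∃ Q ∈ s, ¬ IsAb Q) :
    (qStar s ∈ s ∧ ¬ IsAb (qStar s)) ∧
    ((qMinus s ∈ s ∧ ¬ aSub s ≤ qMinus s) ∨ qMinus s = ⊥) ∧
    pivot s ≤ qStar s ∧ IsAb (pivot s) ∧ pivot s ≠ ⊥ ∧
    (∀ Q ∈ s, Q ≤ pivot s ∨ pivot s ≤ Q) := by
  obtain ⟨hc, hp⟩ := hs
  -- `qStar`
  have hfne : (s.filter (fun Q => ¬ IsAb Q)).Nonempty := by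
    obtain ⟨Q, hQ, hQab⟩ := hna
    exact ⟨Q, Finset.mem_filter.mpr ⟨hQ, hQab⟩⟩
  have hfc : ∀ a ∈ s.filter (fun Q => ¬ IsAb Q), ∀ b ∈ s.filter (fun Q => ¬ IsAb Q),
      a ≤ b ∨ b ≤ a := fun a ha b hb =>
    hc a (Finset.mem_filter.mp ha).1 b (Finset.mem_filter.mp hb).1
  have hqs : qStar s ∈ s.filter (fun Q => ¬ IsAb Q) := inf_mem_of_chain _ hfc hfne
  obtain ⟨hqs1, hqs2⟩ := Finset.mem_filter.mp hqs
  have hqsmin : ∀ Q ∈ s, ¬ IsAb Q → qStar s ≤ Q := fun Q hQ hQab =>
    Finset.inf_le (f := id) (Finset.mem_filter.mpr ⟨hQ, hQab⟩)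
  have hA_le : aSub s ≤ qStar s := zen_le _
  have hA_ne : aSub s ≠ ⊥ := zen_ne_bot p _ (hp _ hqs1).2 (hp _ hqs1).1
  -- `qMinus`
  have hlc : ∀ a ∈ s.filter (fun Q => ¬ aSub s ≤ Q), ∀ b ∈ s.filter (fun Q => ¬ aSub s ≤ Q),
      a ≤ b ∨ b ≤ a := fun a ha b hb =>
    hc a (Finset.mem_filter.mp ha).1 b (Finset.mem_filter.mp hb).1
  have hqm : (qMinus s ∈ s ∧ ¬ aSub s ≤ qMinus s) ∨ qMinus s = ⊥ := by
    by_cases hlne : (s.filter (fun Q => ¬ aSub s ≤ Q)).Nonempty
    · left
      have : qMinus s ∈ s.filter (fun Q => ¬ aSub s ≤ Q) := sup_mem_of_chain _ hlc hlne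
      exact Finset.mem_filter.mp this
    · right
      rw [Finset.not_nonempty_iff_eq_empty] at hlne
      unfold qMinus
      rw [hlne, Finset.sup_empty]
  have hqm_max : ∀ Q ∈ s, ¬ aSub s ≤ Q → Q ≤ qMinus s := fun Q hQ hQA =>
    Finset.le_sup (f := id) (Finset.mem_filter.mpr ⟨hQ, hQA⟩)
  -- `qMinus ≤ qStar`, `qMinus` abelian
  have hqm_le : qMinus s ≤ qStar s := by
    rcases hqm with ⟨h1, h2⟩ | h
    · rcases hc _ h1 _ hqs1 with h | h
      · exact h
      · exact absurd (hA_le.trans h) h2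
    · rw [h]; exact bot_le
  have hqm_ab : IsAb (qMinus s) := by
    rcases hqm with ⟨h1, h2⟩ | h
    · by_contra hnab
      exact h2 (hA_le.trans (hqsmin _ h1 hnab))
    · rw [h]; exact isAb_bot
  have hA_cent : aSub s ≤ Subgroup.centralizer ((qMinus s : Subgroup G) : Set G) :=
    (zen_le_centralizer _).trans (Subgroup.centralizer_le (SetLike.coe_subset_coe.mpr hqm_le))
  have hP_le : pivot s ≤ qStar s := sup_le hqm_le hA_le
  have hP_ab : IsAb (pivot s) := by
    unfold IsAb pivot
    refine sup_le ?_ ?_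
    · rw [Subgroup.le_centralizer_iff]
      exact sup_le hqm_ab hA_cent
    · rw [Subgroup.le_centralizer_iff]
      refine sup_le ?_ (isAb_zen _)
      rw [Subgroup.le_centralizer_iff]
      exact hA_cent
  have hP_ne : pivot s ≠ ⊥ := by
    intro h
    apply hA_ne
    rw [eq_bot_iff, ← h]
    exact aSub_le_pivot s
  refine ⟨⟨hqs1, hqs2⟩, hqm, hP_le, hP_ab, hP_ne, ?_⟩
  intro Q hQ
  by_cases hAQ : aSub s ≤ Q
  · right
    rcases hqm with ⟨h1, h2⟩ | h
    · rcases hc _ hQ _ h1 with h | h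
      · exact absurd (hAQ.trans h) h2
      · exact sup_le h hAQ
    · unfold pivot
      rw [h, bot_sup_eq]
      exact hAQ
  · left
    exact (hqm_max Q hQ hAQ).trans le_sup_left

theorem chainStab_insert (P : Subgroup G) (t : Finset (Subgroup G)) :
    chainStab (insert P t) = Subgroup.normalizer ((P : Subgroup G) : Set G) ⊓ chainStab t := by
  unfold chainStab
  rw [Finset.iInf_insert]

theorem chainStab_le_of_mem {Q : Subgroup G} {t : Finset (Subgroup G)} (hQ : Q ∈ t) :
    chainStab t ≤ Subgroup.normalizer ((Q : Subgroup G) : Set G) := by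
  unfold chainStab
  exact iInf₂_le Q hQ

theorem normalizer_bot_eq_top : Subgroup.normalizer (((⊥ : Subgroup G) : Subgroup G) : Set G) = ⊤ := by
  rw [eq_top_iff]
  intro g _
  rw [Subgroup.mem_normalizer_iff]
  intro h
  simp only [Subgroup.mem_bot]
  constructor
  · rintro rfl; group
  · intro hh
    have : g⁻¹ * (g * h * g⁻¹) * g = h := by group
    rw [← this, hh]; group

/-- inserting a pivot-like subgroup changes neither the stabilizer nor normality. -/
theorem insert_invariant (t : Finset (Subgroup G)) (P Qs Qm : Subgroup G) (hQs : Qs ∈ t)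
    (hQm : Qm ∈ t ∨ Qm = ⊥) (hPle : P ≤ Qs) (hPne : P ≠ Qs)
    (hN : Subgroup.normalizer ((Qs : Subgroup G) : Set G) ⊓
      Subgroup.normalizer ((Qm : Subgroup G) : Set G) ≤
      Subgroup.normalizer ((P : Subgroup G) : Set G)) :
    chainStab (insert P t) = chainStab t ∧ (IsNormalChain (insert P t) ↔ IsNormalChain t) := by
  have hQmN : ∀ K : Subgroup G, (∀ Q ∈ t, K ≤ Subgroup.normalizer ((Q : Subgroup G) : Set G)) →
      K ≤ Subgroup.normalizer ((Qm : Subgroup G) : Set G) := by
    intro K hK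
    rcases hQm with h | h
    · exact hK _ h
    · rw [h, normalizer_bot_eq_top]; exact le_top
  constructor
  · rw [chainStab_insert]
    refine inf_eq_right.mpr ?_
    refine le_trans (le_inf (chainStab_le_of_mem hQs) ?_) hN
    exact hQmN _ (fun Q hQ => chainStab_le_of_mem hQ)
  · constructor
    · rintro ⟨T, hT, hTall⟩
      rcases Finset.mem_insert.mp hT with rfl | hTt
      · exact absurd (le_antisymm hPle (hTall Qs (Finset.mem_insert_of_mem hQs)).1) hPne
      · exact ⟨T, hTt, fun Q hQ => hTall Q (Finset.mem_insert_of_mem hQ)⟩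
    · rintro ⟨T, hT, hTall⟩
      refine ⟨T, Finset.mem_insert_of_mem hT, fun Q hQ => ?_⟩
      rcases Finset.mem_insert.mp hQ with rfl | hQt
      · refine ⟨hPle.trans (hTall Qs hQs).1, ?_⟩
        refine le_trans (le_inf (hTall Qs hQs).2 ?_) hN
        exact hQmN T (fun Q hQ => (hTall Q hQ).2)
      · exact hTall Q hQt

/-- MODULE [COMB-N] -/
theorem sum_nonnormal_chains_eq_zero {G : Type*} [Group G] [Finite G] (p : ℕ) [Fact p.Prime]
    (f : Subgroup G → ℤ) :
    ∑ᶠ s ∈ {s : Finset (Subgroup G) | IsPChain p s ∧ s.Nonempty ∧ ¬ IsNormalChain s},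
      (-1 : ℤ) ^ s.card * f (chainStab s) = 0 := by
  have hfin : {s : Finset (Subgroup G) | IsPChain p s ∧ s.Nonempty ∧ ¬ IsNormalChain s}.Finite :=
    Set.toFinite _
  rw [finsum_mem_eq_finite_toFinset_sum _ hfin]
  -- the facts for members of the index set
  have hfacts : ∀ s : Finset (Subgroup G), IsPChain p s → s.Nonempty → ¬ IsNormalChain s →
      (IsPChain p (toggle (pivot s) s) ∧ (toggle (pivot s) s).Nonempty ∧
        ¬ IsNormalChain (toggle (pivot s) s)) ∧
      pivot (toggle (pivot s) s) = pivot s ∧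
      chainStab (toggle (pivot s) s) = chainStab s := by
    intro s hs hne hnn
    have hna : ∃ Q ∈ s, ¬ IsAb Q := by
      by_contra hcon
      push Not at hcon
      exact hnn (isNormalChain_of_forall_isAb s hs.1 hne hcon)
    obtain ⟨⟨hqs1, hqs2⟩, hqm, hP_le, hP_ab, hP_ne, hcomp⟩ := pivot_facts p s hs hna
    have hPQs : pivot s ≠ qStar s := fun h => hqs2 (h ▸ hP_ab)
    have hN := normalizer_le_normalizer_pivot s
    by_cases hmem : pivot s ∈ s
    · -- erase
      rw [toggle_of_mem hmem]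
      have hQs' : qStar s ∈ s.erase (pivot s) := Finset.mem_erase.mpr ⟨fun h => hPQs h.symm, hqs1⟩
      have hQm' : qMinus s ∈ s.erase (pivot s) ∨ qMinus s = ⊥ := by
        rcases hqm with ⟨h1, h2⟩ | h
        · left
          refine Finset.mem_erase.mpr ⟨fun h => h2 ?_, h1⟩
          rw [h]; exact aSub_le_pivot s
        · right; exact h
      obtain ⟨hst, hnc⟩ := insert_invariant (s.erase (pivot s)) (pivot s) (qStar s) (qMinus s)
        hQs' hQm' hP_le hPQs hN
      rw [Finset.insert_erase hmem] at hst hnc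
      refine ⟨⟨⟨fun Q hQ R hR => hs.1 Q (Finset.mem_of_mem_erase hQ) R (Finset.mem_of_mem_erase hR),
        fun Q hQ => hs.2 Q (Finset.mem_of_mem_erase hQ)⟩, ⟨_, hQs'⟩, fun h => hnn (hnc.mpr h)⟩, ?_,
        hst.symm⟩
      have := pivot_toggle s hP_ab
      rwa [toggle_of_mem hmem] at this
    · -- insert
      rw [toggle_of_notMem hmem]
      obtain ⟨hst, hnc⟩ := insert_invariant s (pivot s) (qStar s) (qMinus s) hqs1
        (hqm.imp (fun h => h.1) id) hP_le hPQs hN
      refine ⟨⟨⟨?_, ?_⟩, ⟨_, Finset.mem_insert_self _ _⟩, fun h => hnn (hnc.mp h)⟩, ?_, hst⟩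
      · intro Q hQ R hR
        rcases Finset.mem_insert.mp hQ with rfl | hQ
        · rcases Finset.mem_insert.mp hR with rfl | hR
          · exact Or.inl le_rfl
          · exact (hcomp R hR).symm
        · rcases Finset.mem_insert.mp hR with rfl | hR
          · exact hcomp Q hQ
          · exact hs.1 Q hQ R hR
      · intro Q hQ
        rcases Finset.mem_insert.mp hQ with rfl | hQ
        · exact ⟨hP_ne, (hs.2 _ hqs1).2.to_le hP_le⟩
        · exact hs.2 Q hQ
      · have := pivot_toggle s hP_ab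
        rwa [toggle_of_notMem hmem] at this
  refine sum_toggle_eq_zero hfin.toFinset pivot (fun s => f (chainStab s)) ?_ ?_ ?_
  · intro s hs
    rw [Set.Finite.mem_toFinset] at hs ⊢
    exact (hfacts s hs.1 hs.2.1 hs.2.2).1
  · intro s hs
    rw [Set.Finite.mem_toFinset] at hs
    exact (hfacts s hs.1 hs.2.1 hs.2.2).2.1
  · intro s hs
    rw [Set.Finite.mem_toFinset] at hs
    rw [(hfacts s hs.1 hs.2.1 hs.2.2).2.2]

end Cfsg.Agent.Lib.Helper93.S4651
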