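import Mathlib
import Cfsg.Prelude.Def_GeometricClasses
import Cfsg.Agent.Lib.Helper99.AschDefs

/-!
# ASCH-[SETUP] (helper93, for helper99's Aschbacher project)

`exists_isMinNrm`: if every `H`-normalised subgroup of `GL_n(F)` (`n ≥ 2`, `F` finite) is scalar or
absolutely irreducible, then `H` is not scalar and there is a minimal `H`-normalised non-scalar
subgroup between the scalars and `H · scalars`.
-/

set_option autoImplicit false

namespace Cfsg.Agent.Lib.Helper93.AschSetup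

open Cfsg Cfsg.Geo Cfsg.Agent.Lib.Helper99.Asch
open scoped MatrixGroups Matrix Kronecker

variable {n : ℕ} {F : Type*} [Field F]

/-- scalar matrices are central in `GL` -/
theorem scalar_comm {g : GL (Fin n) F} (hg : g ∈ scalars (Fin n) F) (x : GL (Fin n) F) :
    g * x = x * g := by
  obtain ⟨c, hc⟩ := (mem_scalars_iff g).1 hg
  apply Units.ext
  rw [Units.val_mul, Units.val_mul, hc, Matrix.smul_mul, Matrix.mul_smul, Matrix.one_mul,
    Matrix.mul_one]

/-- a transvection in `GL_n`, `n ≥ 2` -/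
noncomputable def tr01 (hn : 2 ≤ n) : GL (Fin n) F :=
  Matrix.GeneralLinearGroup.mkOfDetNeZero
    (Matrix.transvection (⟨0, by omega⟩ : Fin n) (⟨1, by omega⟩ : Fin n) (1 : F)) (by
      rw [Matrix.det_transvection_of_ne _ _ (by intro h; simp [Fin.ext_iff] at h)]
      exact one_ne_zero)

theorem tr01_apply (hn : 2 ≤ n) :
    ((tr01 hn : GL (Fin n) F) : Matrix (Fin n) (Fin n) F) (⟨0, by omega⟩ : Fin n) (⟨1, by omega⟩ : Fin n) = 1 := by
  have h01 : (⟨0, by omega⟩ : Fin n) ≠ (⟨1, by omega⟩ : Fin n) := by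
    intro h; simp [Fin.ext_iff] at h
  show (Matrix.transvection (⟨0, by omega⟩ : Fin n) (⟨1, by omega⟩ : Fin n) (1 : F)) _ _ = 1
  rw [Matrix.transvection, Matrix.add_apply, Matrix.one_apply_ne h01, zero_add,
    Matrix.single_apply_same]

theorem tr01_not_scalar (hn : 2 ≤ n) : (tr01 hn : GL (Fin n) F) ∉ scalars (Fin n) F := by
  intro h
  obtain ⟨c, hc⟩ := (mem_scalars_iff _).1 h
  have h01 : (⟨0, by omega⟩ : Fin n) ≠ (⟨1, by omega⟩ : Fin n) := by
    intro h; simp [Fin.ext_iff] at h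
  have h1 := tr01_apply (F := F) hn
  rw [hc, Matrix.smul_apply, Matrix.one_apply_ne h01, smul_zero] at h1
  exact zero_ne_one h1

/-- `H` is not scalar when `NAI H` and `n ≥ 2` -/
theorem not_le_scalars (hn : 2 ≤ n) (H : Subgroup (GL (Fin n) F)) (hNAI : NAI H) :
    ¬ H ≤ scalars (Fin n) F := by
  intro hH
  set T : Subgroup (GL (Fin n) F) := Subgroup.zpowers (tr01 hn) with hT
  have hnrm : Nrm H T := by
    intro h hh x hx
    have : h * x * h⁻¹ = x := by
      rw [scalar_comm (hH hh) x, mul_inv_cancel_right]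
    rw [this]
    exact hx
  rcases hNAI T hnrm with h1 | h2
  · exact tr01_not_scalar hn (h1 (Subgroup.mem_zpowers _))
  · obtain ⟨c, hc⟩ := h2.2 ((tr01 hn : GL (Fin n) F) : Matrix (Fin n) (Fin n) F) (by
      rintro s ⟨y, hy, rfl⟩
      obtain ⟨k, rfl⟩ := Subgroup.mem_zpowers_iff.1 hy
      show ((tr01 hn : GL (Fin n) F) : Matrix (Fin n) (Fin n) F) * ((tr01 hn ^ k : GL (Fin n) F) : Matrix (Fin n) (Fin n) F) = _
      rw [← Units.val_mul, ← Units.val_mul]
      congr 1
      exact (Commute.self_zpow (tr01 hn) k).eq)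
    have h01 : (⟨0, by omega⟩ : Fin n) ≠ (⟨1, by omega⟩ : Fin n) := by
      intro h; simp [Fin.ext_iff] at h
    have h1 := tr01_apply (F := F) hn
    rw [hc, Matrix.smul_apply, Matrix.one_apply_ne h01, smul_zero] at h1
    exact zero_ne_one h1

end Cfsg.Agent.Lib.Helper93.AschSetup

namespace Cfsg.Agent.Lib.Helper99.Asch

open Cfsg Cfsg.Geo
open scoped MatrixGroups Matrix Kronecker

variable {n : ℕ} {F : Type*} [Field F] [Fintype F]

theorem exists_isMinNrm (hn : 2 ≤ n) (H : Subgroup (GL (Fin n) F)) (hNAI : NAI H) :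
    ∃ N : Subgroup (GL (Fin n) F), IsMinNrm H N := by
  classical
  have hH : ¬ H ≤ scalars (Fin n) F := Cfsg.Agent.Lib.Helper93.AschSetup.not_le_scalars hn H hNAI
  set C : Set (Subgroup (GL (Fin n) F)) :=
    {M | scalars (Fin n) F ≤ M ∧ M ≤ H ⊔ scalars (Fin n) F ∧ Nrm H M ∧ ¬ M ≤ scalars (Fin n) F} with hC
  have hne : C.Nonempty := by
    refine ⟨H ⊔ scalars (Fin n) F, le_sup_right, le_refl _, ?_, ?_⟩
    · intro h hh x hx
      have hh' : h ∈ H ⊔ scalars (Fin n) F := (le_sup_left : H ≤ H ⊔ scalars (Fin n) F) hh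
      exact Subgroup.mul_mem _ (Subgroup.mul_mem _ hh' hx) (Subgroup.inv_mem _ hh')
    · intro hle
      exact hH (le_trans le_sup_left hle)
  obtain ⟨N, hN, hmin⟩ := Set.exists_min_image C (fun M => Nat.card M) (Set.toFinite C) hne
  obtain ⟨h1, h2, h3, h4⟩ := hN
  refine ⟨N, ⟨h1, h4, h2, h3, ?_⟩⟩
  intro M hZM hMN hnrm
  by_cases hMZ : M ≤ scalars (Fin n) F
  · exact Or.inl (le_antisymm hMZ hZM)
  · right
    have hMC : M ∈ C := ⟨hZM, le_trans hMN h2, hnrm, hMZ⟩
    exact Subgroup.eq_of_le_of_card_ge hMN (hmin M hMC)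

end Cfsg.Agent.Lib.Helper99.Asch
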