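/-
# ASCH-[RODD] (helper93, hedge; for helper99's Aschbacher project)

`sympOut_odd`: the symplectic-type analysis for an odd prime `r`: in a minimal `H`-normalised
non-scalar `N ≥ Z` with scalar commutators and `x ^ r ∈ Z`, the subgroup `R = {x ∈ N | x ^ r = 1}`
is an absolutely irreducible `r`-group of symplectic type, exponent `r`, centre `μ_r`, order `r n²`.
-/
import Mathlib
import Cfsg.Prelude.Def_GeometricClasses
import Cfsg.Agent.Lib.Helper99.AschDefs
import Cfsg.Agent.Lib.Helper47.AschBasis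
import Cfsg.Agent.Lib.Helper39.AschBurnside
import Cfsg.Agent.Lib.Helper93.AschSetup

set_option autoImplicit false

namespace Cfsg.Agent.Lib.Helper93.AschROdd

open Cfsg Cfsg.Geo Cfsg.Agent.Lib.Helper99.Asch Cfsg.Agent.Lib.Helper93.AschSetup
open scoped MatrixGroups Matrix Kronecker

section alg
variable {K A : Type*} [CommRing K] [Ring A] [Algebra K A]

/-- `Y X = δ X Y` implies `Y X^k = δ^k X^k Y` -/
theorem mul_pow_twist {X Y : A} {δ : K} (h : Y * X = δ • (X * Y)) (k : ℕ) :
    Y * X ^ k = δ ^ k • (X ^ k * Y) := by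
  induction k with
  | zero => simp
  | succ k ih =>
    rw [pow_succ, ← mul_assoc, ih, smul_mul_assoc, mul_assoc, h, mul_smul_comm, smul_smul,
      ← mul_assoc, ← pow_succ]

/-- `Y X = δ X Y` implies `Y^k X = δ^k X Y^k` -/
theorem pow_mul_twist {X Y : A} {δ : K} (h : Y * X = δ • (X * Y)) (k : ℕ) :
    Y ^ k * X = δ ^ k • (X * Y ^ k) := by
  induction k with
  | zero => simp
  | succ k ih =>
    rw [pow_succ', mul_assoc, ih, mul_smul_comm, ← mul_assoc, h, smul_mul_assoc, smul_smul,
      mul_assoc, ← pow_succ', mul_comm (δ ^ k) δ, ← pow_succ']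

/-- `Y X = δ X Y` implies `(X Y)^k = δ^(0+1+…+(k-1)) X^k Y^k` -/
theorem mul_pow_twist_sum {X Y : A} {δ : K} (h : Y * X = δ • (X * Y)) (k : ℕ) :
    (X * Y) ^ k = δ ^ (∑ i ∈ Finset.range k, i) • (X ^ k * Y ^ k) := by
  induction k with
  | zero => simp
  | succ k ih =>
    rw [pow_succ, ih, Finset.sum_range_succ, smul_mul_assoc]
    have h1 : X ^ k * Y ^ k * (X * Y) = X ^ k * (Y ^ k * X) * Y := by
      simp only [mul_assoc]
    rw [h1, pow_mul_twist h k, mul_smul_comm, smul_mul_assoc, smul_smul, ← pow_add]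
    congr 1
    rw [← mul_assoc, ← pow_succ, mul_assoc, ← pow_succ]

end alg

theorem sum_range_odd {r : ℕ} (hodd : Odd r) : ∃ m, ∑ i ∈ Finset.range r, i = r * m := by
  obtain ⟨m, hm⟩ := hodd
  refine ⟨m, ?_⟩
  have h2 := Finset.sum_range_id_mul_two r
  have : r - 1 = 2 * m := by omega
  rw [this] at h2
  have : (∑ i ∈ Finset.range r, i) * 2 = (r * m) * 2 := by rw [h2]; ring
  exact Nat.eq_of_mul_eq_mul_right (by norm_num) this

variable {n : ℕ} {F : Type*} [Field F]

/-- in a group with scalar commutators any two elements commute up to a scalar -/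
theorem comm_rel {N : Subgroup (GL (Fin n) F)} (hab : CommScalar N) {x y : GL (Fin n) F}
    (hx : x ∈ N) (hy : y ∈ N) : ∃ δ : Fˣ, (y : Matrix (Fin n) (Fin n) F) * (x : Matrix (Fin n) (Fin n) F) =
      (δ : F) • ((x : Matrix (Fin n) (Fin n) F) * (y : Matrix (Fin n) (Fin n) F)) := by
  obtain ⟨δ, hδ⟩ := (mem_scalars_iff _).1 (hab y hy x hx)
  refine ⟨δ, ?_⟩
  have h1 : y * x = (y * x * y⁻¹ * x⁻¹) * (x * y) := by group
  have h2 : ((y * x : GL (Fin n) F) : Matrix (Fin n) (Fin n) F) =
      ((y * x * y⁻¹ * x⁻¹ : GL (Fin n) F) : Matrix (Fin n) (Fin n) F) *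
        ((x * y : GL (Fin n) F) : Matrix (Fin n) (Fin n) F) := by
    rw [← Units.val_mul, ← h1]
  rw [hδ, Matrix.smul_mul, Matrix.one_mul, Units.val_mul, Units.val_mul] at h2
  exact h2

/-- the twisting scalar has `r`-th power `1` when `x ^ r` is scalar -/
theorem twist_pow_eq_one (hn : 0 < n) {x y : GL (Fin n) F} {δ : F} {r : ℕ}
    (h : (y : Matrix (Fin n) (Fin n) F) * (x : Matrix (Fin n) (Fin n) F) =
      δ • ((x : Matrix (Fin n) (Fin n) F) * (y : Matrix (Fin n) (Fin n) F)))
    (hxr : x ^ r ∈ scalars (Fin n) F) : δ ^ r = 1 := by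
  obtain ⟨l, hl⟩ := (mem_scalars_iff _).1 hxr
  rw [Units.val_pow_eq_pow_val] at hl
  have h1 := mul_pow_twist h r
  rw [hl, Matrix.mul_smul, Matrix.mul_one, Matrix.smul_mul, Matrix.one_mul, smul_smul] at h1
  -- l • Y = (δ^r * l) • Y
  have hY : (y : Matrix (Fin n) (Fin n) F) ≠ 0 := Cfsg.Agent.Lib.Helper47.AschBasis.val_ne_zero hn y
  have h2 : ((l : F) - δ ^ r * (l : F)) • (y : Matrix (Fin n) (Fin n) F) = 0 := by
    rw [sub_smul, ← h1, sub_self]
  rcases smul_eq_zero.1 h2 with h3 | h3
  · have hl0 : (l : F) ≠ 0 := l.ne_zero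
    have : (1 - δ ^ r) * (l : F) = 0 := by linear_combination h3
    rcases mul_eq_zero.1 this with h4 | h4
    · exact (sub_eq_zero.1 h4).symm
    · exact absurd h4 hl0
  · exact absurd h3 hY

/-- `(x y)^r = x^r y^r` in a group with scalar commutators and `r`-th powers scalar, `r` odd -/
theorem mul_pow_of_commScalar (hn : 0 < n) {N : Subgroup (GL (Fin n) F)} (hab : CommScalar N) {r : ℕ}
    (hodd : Odd r) (hexp : ∀ x ∈ N, x ^ r ∈ scalars (Fin n) F) {x y : GL (Fin n) F}
    (hx : x ∈ N) (hy : y ∈ N) : (x * y) ^ r = x ^ r * y ^ r := by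
  obtain ⟨δ, hδ⟩ := comm_rel hab hx hy
  have hδr : (δ : F) ^ r = 1 := twist_pow_eq_one hn hδ (hexp x hx)
  obtain ⟨m, hm⟩ := sum_range_odd hodd
  apply Units.ext
  rw [Units.val_pow_eq_pow_val, Units.val_mul, Units.val_mul, Units.val_pow_eq_pow_val,
    Units.val_pow_eq_pow_val, mul_pow_twist_sum hδ r, hm, pow_mul, hδr, one_pow, one_smul]

/-- the subgroup `{x ∈ N | x ^ r = 1}` -/
def omegaSub (hn : 0 < n) (N : Subgroup (GL (Fin n) F)) (hab : CommScalar N) (r : ℕ) (hodd : Odd r)
    (hexp : ∀ x ∈ N, x ^ r ∈ scalars (Fin n) F) : Subgroup (GL (Fin n) F) where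
  carrier := {x | x ∈ N ∧ x ^ r = 1}
  one_mem' := ⟨N.one_mem, one_pow r⟩
  mul_mem' := by
    rintro x y ⟨hx, hxr⟩ ⟨hy, hyr⟩
    refine ⟨N.mul_mem hx hy, ?_⟩
    rw [mul_pow_of_commScalar hn hab hodd hexp hx hy, hxr, hyr, one_mul]
  inv_mem' := by
    rintro x ⟨hx, hxr⟩
    exact ⟨N.inv_mem hx, by rw [inv_pow, hxr, inv_one]⟩


theorem mem_omegaSub {hn : 0 < n} {N : Subgroup (GL (Fin n) F)} {hab : CommScalar N} {r : ℕ}
    {hodd : Odd r} {hexp : ∀ x ∈ N, x ^ r ∈ scalars (Fin n) F} {x : GL (Fin n) F} :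
    x ∈ omegaSub hn N hab r hodd hexp ↔ x ∈ N ∧ x ^ r = 1 := Iff.rfl

/-- the scalars form a cyclic group (finite field) -/
theorem isCyclic_scalars [Finite F] : IsCyclic ↥(scalars (Fin n) F) := by
  have h : scalars (Fin n) F =
      (Units.map (Matrix.scalar (Fin n) : F →+* Matrix (Fin n) (Fin n) F).toMonoidHom).range := rfl
  rw [h]
  exact isCyclic_of_surjective _ (MonoidHom.rangeRestrict_surjective _)

/-- a subgroup of `GL` contained in the scalars is cyclic (finite field) -/
theorem isCyclic_of_le_scalars [Finite F] {K : Subgroup (GL (Fin n) F)}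
    (hK : K ≤ scalars (Fin n) F) : IsCyclic ↥K := by
  have := isCyclic_scalars (n := n) (F := F)
  exact isCyclic_of_injective (Subgroup.inclusion hK) (Subgroup.inclusion_injective hK)

/-- a nontrivial subgroup of the scalars of exponent dividing the prime `r` has order `r` -/
theorem card_eq_prime_of_le_scalars [Finite F] {K : Subgroup (GL (Fin n) F)}
    (hK : K ≤ scalars (Fin n) F) {r : ℕ} (hr : r.Prime) (hpow : ∀ x ∈ K, x ^ r = 1)
    {c : GL (Fin n) F} (hc : c ∈ K) (hc1 : c ≠ 1) : Nat.card K = r := by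
  have := isCyclic_of_le_scalars hK
  obtain ⟨k₀, hk₀⟩ := IsCyclic.exists_generator (α := ↥K)
  have hord : orderOf k₀ = Nat.card K := orderOf_eq_card_of_forall_mem_zpowers hk₀
  have hdvd : orderOf k₀ ∣ r := by
    apply orderOf_dvd_of_pow_eq_one
    apply Subtype.ext
    rw [Subgroup.coe_pow, Subgroup.coe_one]
    exact hpow _ k₀.2
  rw [hord] at hdvd
  rcases (Nat.dvd_prime hr).1 hdvd with h | h
  · exfalso
    have hsub : Subsingleton ↥K := (Nat.card_eq_one_iff_unique.1 h).1
    have : (⟨c, hc⟩ : ↥K) = 1 := Subsingleton.elim _ _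
    exact hc1 (congrArg Subtype.val this)
  · exact h

end Cfsg.Agent.Lib.Helper93.AschROdd

namespace Cfsg.Agent.Lib.Helper99.Asch

open Cfsg Cfsg.Geo Cfsg.Agent.Lib.Helper93.AschSetup Cfsg.Agent.Lib.Helper93.AschROdd
open scoped MatrixGroups Matrix Kronecker

variable {n : ℕ} {F : Type*} [Field F] [Fintype F]

theorem sympOut_odd (hn : 3 ≤ n) (H N : Subgroup (GL (Fin n) F)) (hNAI : NAI H)
    (hN : IsMinNrm H N) (hab : CommScalar N) (r : ℕ) (hr : r.Prime) (hodd : Odd r)
    (hexp : ∀ x ∈ N, x ^ r ∈ scalars (Fin n) F) :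
    ∃ R : Subgroup (GL (Fin n) F), SympOut H R r r := by
  classical
  have hn0 : 0 < n := by omega
  -- `N` is absolutely irreducible
  have hNabs : ActsAbsolutelyIrreducibly (matrixSet N) := by
    rcases hNAI N hN.nrm with h | h
    · exact absurd h hN.not_le
    · exact h
  -- a non-commuting pair
  obtain ⟨u, huN, huZ⟩ : ∃ u ∈ N, u ∉ scalars (Fin n) F := by
    by_contra hcon
    apply hN.not_le
    intro x hx
    by_contra h
    exact hcon ⟨x, hx, h⟩
  obtain ⟨g, hgN, hgu⟩ := Cfsg.Agent.Lib.Helper47.AschBasis.exists_not_commute hn0 N hNabs u huZ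
  -- the subgroup `R`
  set R : Subgroup (GL (Fin n) F) := omegaSub hn0 N hab r hodd hexp with hRdef
  have hRN : R ≤ N := fun x hx => hx.1
  have hRpow : ∀ x ∈ R, x ^ r = 1 := fun x hx => hx.2
  -- `R` is normalised by `H`
  have hRnrm : Nrm H R := by
    intro h hh x hx
    refine ⟨hN.nrm h hh x hx.1, ?_⟩
    rw [conj_pow, hx.2, mul_one, mul_inv_cancel]
  -- `R` is not scalar
  have hRZ : ¬ R ≤ scalars (Fin n) F := by
    intro hle
    have hcyc := isCyclic_scalars (n := n) (F := F)
    let φ : ↥N →* ↥(scalars (Fin n) F) :=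
      { toFun := fun x => ⟨(x : GL (Fin n) F) ^ r, hexp x x.2⟩
        map_one' := by
          apply Subtype.ext
          show ((1 : ↥N) : GL (Fin n) F) ^ r = 1
          rw [Subgroup.coe_one, one_pow]
        map_mul' := by
          intro x y
          apply Subtype.ext
          show ((x * y : ↥N) : GL (Fin n) F) ^ r = (x : GL (Fin n) F) ^ r * (y : GL (Fin n) F) ^ r
          rw [Subgroup.coe_mul]
          exact mul_pow_of_commScalar hn0 hab hodd hexp x.2 y.2 }
    have hker : φ.ker ≤ Subgroup.center ↥N := by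
      intro x hx
      rw [MonoidHom.mem_ker] at hx
      have hx1 : (x : GL (Fin n) F) ^ r = 1 := congrArg Subtype.val hx
      have hxZ : (x : GL (Fin n) F) ∈ scalars (Fin n) F := hle ⟨x.2, hx1⟩
      rw [Subgroup.mem_center_iff]
      intro y
      apply Subtype.ext
      rw [Subgroup.coe_mul, Subgroup.coe_mul]
      exact (scalar_comm hxZ (y : GL (Fin n) F)).symm
    have hcomm := isMulCommutative_iff.1
      (MonoidHom.isMulCommutative_of_isCyclic_of_ker_le_center φ hker) ⟨g, hgN⟩ ⟨u, huN⟩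
    exact hgu (congrArg Subtype.val hcomm)
  -- `R` is absolutely irreducible
  have hRabs : ActsAbsolutelyIrreducibly (matrixSet R) := by
    rcases hNAI R hRnrm with h | h
    · exact absurd h hRZ
    · exact h
  have hRcomm : CommScalar R := fun x hx y hy => hab x (hRN hx) y (hRN hy)
  -- a non-commuting pair in `R`, and its commutator
  obtain ⟨u', hu'R, hu'Z⟩ : ∃ u ∈ R, u ∉ scalars (Fin n) F := by
    by_contra hcon
    apply hRZ
    intro x hx
    by_contra h
    exact hcon ⟨x, hx, h⟩
  obtain ⟨g', hg'R, hg'u'⟩ := Cfsg.Agent.Lib.Helper47.AschBasis.exists_not_commute hn0 R hRabs u' hu'Z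
  set c : GL (Fin n) F := g' * u' * g'⁻¹ * u'⁻¹ with hc
  have hcR : c ∈ R := R.mul_mem (R.mul_mem (R.mul_mem hg'R hu'R) (R.inv_mem hg'R)) (R.inv_mem hu'R)
  have hcZ : c ∈ scalars (Fin n) F := hRcomm g' hg'R u' hu'R
  have hc1 : c ≠ 1 := by
    intro h1
    apply hg'u'
    have : g' * u' = c * (u' * g') := by rw [hc]; group
    rw [this, h1, one_mul]
  -- the scalar part of `R`
  have hKcard : Nat.card (R ⊓ scalars (Fin n) F : Subgroup (GL (Fin n) F)) = r :=
    card_eq_prime_of_le_scalars inf_le_right hr (fun x hx => hRpow x hx.1) ⟨hcR, hcZ⟩ hc1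
  -- the field element
  obtain ⟨γ, hγ⟩ := (mem_scalars_iff c).1 hcZ
  have hγ1 : γ ≠ 1 := by
    intro h1
    apply hc1
    apply Units.ext
    rw [hγ, h1, Units.val_one, one_smul, Units.val_one]
  have hγr : γ ^ r = 1 := by
    have h1 : ((c ^ r : GL (Fin n) F) : Matrix (Fin n) (Fin n) F) = 1 := by
      rw [hRpow c hcR, Units.val_one]
    rw [Units.val_pow_eq_pow_val, hγ, smul_pow, one_pow] at h1
    have h00 := congrFun (congrFun h1 ⟨0, hn0⟩) ⟨0, hn0⟩
    rw [Matrix.smul_apply, Matrix.one_apply_eq, smul_eq_mul, mul_one] at h00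
    apply Units.ext
    rw [Units.val_pow_eq_pow_val, Units.val_one]
    exact h00
  have hordγ : orderOf γ = r := by
    rcases (Nat.dvd_prime hr).1 (orderOf_dvd_of_pow_eq_one hγr) with h | h
    · exact absurd (orderOf_eq_one_iff.1 h) hγ1
    · exact h
  have hdvd : r ∣ Fintype.card F - 1 := by
    rw [← Fintype.card_units, ← hordγ]
    exact orderOf_dvd_card
  have hcop : ¬ r ∣ Fintype.card F := by
    intro h
    have hpos : 0 < Fintype.card F := Fintype.card_pos
    have h1 : r ∣ Fintype.card F - (Fintype.card F - 1) := Nat.dvd_sub h hdvd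
    have h2 : Fintype.card F - (Fintype.card F - 1) = 1 := by omega
    rw [h2] at h1
    exact hr.one_lt.ne' (Nat.dvd_one.1 h1)
  -- the order of `R`
  have hcardR : Nat.card R = r * Fintype.card (Fin n) ^ 2 := by
    rw [Fintype.card_fin, ← hKcard]
    exact Cfsg.Agent.Lib.Helper47.AschBasis.card_eq_of_commScalar_of_span hn0 R hRabs hRcomm
      (span_eq_top_of_absIrred R hRabs)
  -- the centre of `R`
  have hcenter : ∀ x : ↥R, x ∈ Subgroup.center ↥R ↔ (x : GL (Fin n) F) ∈ scalars (Fin n) F := by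
    intro x
    rw [Subgroup.mem_center_iff]
    constructor
    · intro hx
      by_contra hxZ
      obtain ⟨y, hyR, hyx⟩ :=
        Cfsg.Agent.Lib.Helper47.AschBasis.exists_not_commute hn0 R hRabs (x : GL (Fin n) F) hxZ
      exact hyx (congrArg Subtype.val (hx ⟨y, hyR⟩))
    · intro hxZ y
      apply Subtype.ext
      rw [Subgroup.coe_mul, Subgroup.coe_mul]
      exact (scalar_comm hxZ (y : GL (Fin n) F)).symm
  have hcardC : Nat.card (Subgroup.center ↥R) = r := by
    rw [← hKcard]
    refine Nat.card_congr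
      { toFun := fun x => ⟨(x.1 : GL (Fin n) F), ⟨x.1.2, (hcenter x.1).1 x.2⟩⟩
        invFun := fun y => ⟨⟨y.1, y.2.1⟩, (hcenter ⟨y.1, y.2.1⟩).2 y.2.2⟩
        left_inv := fun x => rfl
        right_inv := fun y => rfl }
  -- symplectic type
  have hsymp : IsSymplecticTypeGroup r R := by
    refine ⟨hr, ?_, ?_, ?_⟩
    · intro x
      refine ⟨1, ?_⟩
      apply Subtype.ext
      rw [pow_one, Subgroup.coe_pow, Subgroup.coe_one]
      exact hRpow _ x.2
    · -- characteristic abelian subgroups are cyclic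
      intro A hAchar hAcomm
      set A' : Subgroup (GL (Fin n) F) := A.map R.subtype with hA'
      have hA'R : A' ≤ R := by
        rintro _ ⟨x, -, rfl⟩
        exact x.2
      have hA'mem : ∀ x : ↥R, x ∈ A → (x : GL (Fin n) F) ∈ A' := fun x hx => ⟨x, hx, rfl⟩
      -- `H` normalises `A'`
      have hA'nrm : Nrm H A' := by
        rintro h hh _ ⟨x, hxA, rfl⟩
        let ϕ : ↥R ≃* ↥R :=
          { toFun := fun y => ⟨h * (y : GL (Fin n) F) * h⁻¹, hRnrm h hh y y.2⟩
            invFun := fun y => ⟨h⁻¹ * (y : GL (Fin n) F) * h⁻¹⁻¹, hRnrm h⁻¹ (H.inv_mem hh) y y.2⟩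
            left_inv := by
              intro y
              apply Subtype.ext
              show h⁻¹ * (h * (y : GL (Fin n) F) * h⁻¹) * h⁻¹⁻¹ = y
              group
            right_inv := by
              intro y
              apply Subtype.ext
              show h * (h⁻¹ * (y : GL (Fin n) F) * h⁻¹⁻¹) * h⁻¹ = y
              group
            map_mul' := by
              intro y y'
              apply Subtype.ext
              show h * ((y * y' : ↥R) : GL (Fin n) F) * h⁻¹ =
                (h * (y : GL (Fin n) F) * h⁻¹) * (h * (y' : GL (Fin n) F) * h⁻¹)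
              rw [Subgroup.coe_mul]
              group }
        have hfix := hAchar.fixed ϕ
        have hϕx : ϕ x ∈ A := by
          have : x ∈ A.comap ϕ.toMonoidHom := by rw [hfix]; exact hxA
          exact this
        exact ⟨ϕ x, hϕx, rfl⟩
      -- the candidate `A' ⊔ Z`
      have hZM : scalars (Fin n) F ≤ A' ⊔ scalars (Fin n) F := le_sup_right
      have hMN : A' ⊔ scalars (Fin n) F ≤ N := sup_le (le_trans hA'R hRN) hN.scalars_le
      have hMnrm : Nrm H (A' ⊔ scalars (Fin n) F) := by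
        intro h hh m hm
        have hle : A' ⊔ scalars (Fin n) F ≤
            (A' ⊔ scalars (Fin n) F).comap (MulAut.conj h).toMonoidHom := by
          apply sup_le
          · intro a ha
            exact (le_sup_left : A' ≤ A' ⊔ scalars (Fin n) F) (hA'nrm h hh a ha)
          · intro z hz
            exact (le_sup_right : scalars (Fin n) F ≤ A' ⊔ scalars (Fin n) F)
              ((scalars_normal (ι := Fin n) (F := F)).conj_mem z hz h)
        exact hle hm
      rcases hN.minimal _ hZM hMN hMnrm with hM | hM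
      · -- `A' ≤ Z`: cyclic
        have hA'Z : A' ≤ scalars (Fin n) F := by
          rw [← hM]
          exact le_sup_left
        have hcyc := isCyclic_scalars (n := n) (F := F)
        let f : ↥A →* ↥(scalars (Fin n) F) :=
          { toFun := fun x => ⟨((x : ↥R) : GL (Fin n) F), hA'Z (hA'mem x.1 x.2)⟩
            map_one' := rfl
            map_mul' := fun x y => rfl }
        have hf : Function.Injective f := by
          intro x y hxy
          apply Subtype.ext
          apply Subtype.ext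
          exact congrArg (fun t : ↥(scalars (Fin n) F) => (t : GL (Fin n) F)) hxy
        exact isCyclic_of_injective f hf
      · -- `A' Z = N` is abelian: impossible
        exfalso
        have hgM : g ∈ (↑(A' ⊔ scalars (Fin n) F) : Set (GL (Fin n) F)) := by
          rw [hM]; exact hgN
        have huM : u ∈ (↑(A' ⊔ scalars (Fin n) F) : Set (GL (Fin n) F)) := by
          rw [hM]; exact huN
        rw [Subgroup.mul_normal] at hgM huM
        obtain ⟨a, ⟨xa, hxa, rfl⟩, z, hz, rfl⟩ := hgM
        obtain ⟨a', ⟨xa', hxa', rfl⟩, z', hz', rfl⟩ := huM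
        apply hgu
        have hcomm : (xa : GL (Fin n) F) * (xa' : GL (Fin n) F) =
            (xa' : GL (Fin n) F) * (xa : GL (Fin n) F) := by
          have h1 : (⟨xa, hxa⟩ : ↥A) * ⟨xa', hxa'⟩ = ⟨xa', hxa'⟩ * ⟨xa, hxa⟩ :=
            (isMulCommutative_iff.1 hAcomm) _ _
          have h2 := congrArg (fun t : ↥A => ((t : ↥R) : GL (Fin n) F)) h1
          exact h2
        have hz1 : ∀ w : GL (Fin n) F, z * w = w * z := fun w => scalar_comm hz w
        have hz2 : ∀ w : GL (Fin n) F, z' * w = w * z' := fun w => scalar_comm hz' w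
        show R.subtype xa * z * (R.subtype xa' * z') = R.subtype xa' * z' * (R.subtype xa * z)
        simp only [Subgroup.coe_subtype]
        calc (xa : GL (Fin n) F) * z * ((xa' : GL (Fin n) F) * z')
            = (xa : GL (Fin n) F) * (z * (xa' : GL (Fin n) F)) * z' := by group
          _ = (xa : GL (Fin n) F) * ((xa' : GL (Fin n) F) * z) * z' := by rw [hz1]
          _ = ((xa : GL (Fin n) F) * (xa' : GL (Fin n) F)) * (z * z') := by group
          _ = ((xa' : GL (Fin n) F) * (xa : GL (Fin n) F)) * (z' * z) := by rw [hcomm, hz1 z']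
          _ = (xa' : GL (Fin n) F) * ((xa : GL (Fin n) F) * z') * z := by group
          _ = (xa' : GL (Fin n) F) * (z' * (xa : GL (Fin n) F)) * z := by rw [hz2]
          _ = (xa' : GL (Fin n) F) * z' * ((xa : GL (Fin n) F) * z) := by group
    · -- the exponent
      have hgcd : Nat.gcd 2 r = 1 := Nat.coprime_two_left.2 hodd
      rw [hgcd, mul_one]
      have hdvd' : Monoid.exponent ↥R ∣ r := by
        apply Monoid.exponent_dvd_of_forall_pow_eq_one
        intro x
        apply Subtype.ext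
        rw [Subgroup.coe_pow, Subgroup.coe_one]
        exact hRpow _ x.2
      rcases (Nat.dvd_prime hr).1 hdvd' with h | h
      · exfalso
        have h1 : (⟨c, hcR⟩ : ↥R) ^ Monoid.exponent ↥R = 1 := Monoid.pow_exponent_eq_one _
        rw [h, pow_one] at h1
        exact hc1 (congrArg Subtype.val h1)
      · exact h
  exact ⟨R, ⟨hr, hcop, hRnrm, hRabs, hRcomm, hsymp, hcardC, hdvd, fun x hx _ => hRpow x hx, hcardR⟩⟩

end Cfsg.Agent.Lib.Helper99.Asch
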