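/-
helper93: transport of the automorphism group of a set system along an isomorphism of set systems
(`SetSystemIso`): group isomorphism, cardinality, simplicity, multiple transitivity.
-/
import Mathlib
import Cfsg.Prelude.Def_Sporadic_a

set_option autoImplicit false

namespace Cfsg.Agent.Lib.Helper93.AutTransport
open Cfsg
open scoped Pointwise

universe u v

section
variable {α : Type u} {β : Type v} [DecidableEq α] [DecidableEq β]

/-- Membership in the automorphism group in terms of images of blocks. -/
theorem mem_aut_iff {B : Set (Finset α)} (g : Equiv.Perm α) :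
    g ∈ setSystemAut B ↔ (fun b : Finset α => b.image g) '' B = B := by
  rw [MulAction.mem_stabilizer_iff]
  have : g • B = (fun b : Finset α => b.image g) '' B := by
    ext b
    simp only [Set.mem_smul_set, Set.mem_image]
    constructor
    · rintro ⟨c, hc, rfl⟩
      exact ⟨c, hc, rfl⟩
    · rintro ⟨c, hc, rfl⟩
      exact ⟨c, hc, rfl⟩
  rw [this]

theorem image_symm_image {B : Set (Finset α)} {B' : Set (Finset β)} (e : α ≃ β)
    (he : (fun b : Finset α => b.image e) '' B = B') :
    (fun b : Finset β => b.image e.symm) '' B' = B := by
  rw [← he, Set.image_image]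
  have : (fun b : Finset α => (b.image e).image e.symm) = id := by
    funext b
    rw [Finset.image_image]
    simp
  rw [this, Set.image_id]

/-- conjugating an automorphism by an isomorphism of set systems gives an automorphism -/
theorem permCongr_mem {B : Set (Finset α)} {B' : Set (Finset β)} (e : α ≃ β)
    (he : (fun b : Finset α => b.image e) '' B = B') {g : Equiv.Perm α}
    (hg : g ∈ setSystemAut B) : e.permCongr g ∈ setSystemAut B' := by
  rw [mem_aut_iff] at hg ⊢
  have h1 : (fun b : Finset β => b.image (e.permCongr g)) '' B'
      = (fun b : Finset α => b.image e) '' ((fun b : Finset α => b.image g) '' B) := by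
    rw [← he, Set.image_image, Set.image_image]
    congr 1
    funext b
    rw [Finset.image_image, Finset.image_image]
    congr 1
    funext x
    simp [Equiv.permCongr_apply]
  rw [h1, hg, he]

/-- The automorphism groups of isomorphic set systems are isomorphic. -/
noncomputable def autCongr {B : Set (Finset α)} {B' : Set (Finset β)} (e : α ≃ β)
    (he : (fun b : Finset α => b.image e) '' B = B') : setSystemAut B ≃* setSystemAut B' where
  toFun g := ⟨e.permCongr g.1, permCongr_mem e he g.2⟩
  invFun g := ⟨e.symm.permCongr g.1, permCongr_mem e.symm (image_symm_image e he) g.2⟩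
  left_inv g := by
    apply Subtype.ext
    apply Equiv.ext
    intro x
    simp [Equiv.permCongr_apply]
  right_inv g := by
    apply Subtype.ext
    apply Equiv.ext
    intro x
    simp [Equiv.permCongr_apply]
  map_mul' g h := by
    apply Subtype.ext
    apply Equiv.ext
    intro x
    simp [Equiv.permCongr_apply]

theorem autCongr_apply {B : Set (Finset α)} {B' : Set (Finset β)} (e : α ≃ β)
    (he : (fun b : Finset α => b.image e) '' B = B') (g : setSystemAut B) (y : β) :
    ((autCongr e he g : setSystemAut B') : Equiv.Perm β) y = e (g.1 (e.symm y)) := by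
  simp [autCongr, Equiv.permCongr_apply]

theorem autCongr_symm_apply {B : Set (Finset α)} {B' : Set (Finset β)} (e : α ≃ β)
    (he : (fun b : Finset α => b.image e) '' B = B') (g : setSystemAut B') (x : α) :
    (((autCongr e he).symm g : setSystemAut B) : Equiv.Perm α) x = e.symm (g.1 (e x)) := by
  simp [autCongr, Equiv.permCongr_apply]

theorem card_aut_eq {B : Set (Finset α)} {B' : Set (Finset β)} (e : α ≃ β)
    (he : (fun b : Finset α => b.image e) '' B = B') :
    Nat.card (setSystemAut B) = Nat.card (setSystemAut B') :=
  Nat.card_congr (autCongr e he).toEquiv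

theorem isSimpleGroup_aut {B : Set (Finset α)} {B' : Set (Finset β)} (e : α ≃ β)
    (he : (fun b : Finset α => b.image e) '' B = B') (h : IsSimpleGroup (setSystemAut B')) :
    IsSimpleGroup (setSystemAut B) :=
  (autCongr e he).isSimpleGroup

/-- Multiple transitivity of the automorphism group transports along an isomorphism. -/
theorem isMultiplyPretransitive_aut {B : Set (Finset α)} {B' : Set (Finset β)} (e : α ≃ β)
    (he : (fun b : Finset α => b.image e) '' B = B') (n : ℕ)
    (h : MulAction.IsMultiplyPretransitive (setSystemAut B') β n) :
    MulAction.IsMultiplyPretransitive (setSystemAut B) α n := by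
  rw [MulAction.isMultiplyPretransitive_iff] at h ⊢
  intro x y
  obtain ⟨g, hg⟩ := h (x.trans e.toEmbedding) (y.trans e.toEmbedding)
  refine ⟨(autCongr e he).symm g, Function.Embedding.ext fun i => ?_⟩
  have h1 := DFunLike.congr_fun hg i
  rw [Function.Embedding.smul_apply] at h1 ⊢
  have h2 : g.1 (e (x i)) = e (y i) := h1
  change (((autCongr e he).symm g : setSystemAut B) : Equiv.Perm α) (x i) = y i
  rw [autCongr_symm_apply, h2]
  simp

end

end Cfsg.Agent.Lib.Helper93.AutTransport
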