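/-
helper93: automorphisms of a set system restricted to a subtype.

Let `𝓑` be a family of finsets of `α`, all containing every point outside the predicate `P`, and let
`resFam P 𝓑` be the family of restrictions to `Subtype P`.  A subgroup `K` of `Perm α` consisting
exactly of the permutations preserving `𝓑` and fixing the points outside `P` is isomorphic, via
restriction, to the full automorphism group of `resFam P 𝓑`.
-/
import Mathlib
import Cfsg.Agent.Lib.Helper93.AutTransport

set_option autoImplicit false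
set_option linter.unusedSectionVars false

namespace Cfsg.Agent.Lib.Helper93.AutRestrict
open Cfsg Cfsg.Agent.Lib.Helper93.AutTransport
open scoped Pointwise

universe u

section
variable {α : Type u} [DecidableEq α] (P : α → Prop) [DecidablePred P]

/-- The restrictions of the members of a family to the subtype. -/
def resFam (𝓑 : Set (Finset α)) : Set (Finset (Subtype P)) := (Finset.subtype P) '' 𝓑

variable {P}

theorem mem_resFam {𝓑 : Set (Finset α)} {b' : Finset (Subtype P)} :
    b' ∈ resFam P 𝓑 ↔ ∃ b ∈ 𝓑, Finset.subtype P b = b' := Iff.rfl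

/-- A permutation mapping the family into itself in both directions is an automorphism. -/
theorem mem_aut_of_maps {β : Type u} [DecidableEq β] {B : Set (Finset β)} (g : Equiv.Perm β)
    (h1 : ∀ b ∈ B, b.image g ∈ B) (h2 : ∀ b ∈ B, b.image g.symm ∈ B) : g ∈ setSystemAut B := by
  rw [mem_aut_iff]
  apply Set.Subset.antisymm
  · rintro _ ⟨b, hb, rfl⟩
    exact h1 b hb
  · intro b hb
    refine ⟨b.image g.symm, h2 b hb, ?_⟩
    show (b.image g.symm).image g = b
    rw [Finset.image_image]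
    have : (g : β → β) ∘ (g.symm : β → β) = id := by funext x; simp
    rw [this, Finset.image_id]

theorem image_mem_of_mem_aut {β : Type u} [DecidableEq β] {B : Set (Finset β)}
    {g : Equiv.Perm β} (hg : g ∈ setSystemAut B) {b : Finset β} (hb : b ∈ B) : b.image g ∈ B := by
  rw [mem_aut_iff] at hg
  rw [← hg]
  exact ⟨b, hb, rfl⟩

theorem image_symm_mem_of_mem_aut {β : Type u} [DecidableEq β] {B : Set (Finset β)}
    {g : Equiv.Perm β} (hg : g ∈ setSystemAut B) {b : Finset β} (hb : b ∈ B) :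
    b.image g.symm ∈ B :=
  image_mem_of_mem_aut (g := g⁻¹) ((setSystemAut B).inv_mem hg) hb

/-- restriction of the image under an extended permutation -/
theorem subtype_image_ofSubtype (σ : Equiv.Perm (Subtype P)) (b : Finset α) :
    Finset.subtype P (b.image (Equiv.Perm.ofSubtype σ)) = (Finset.subtype P b).image σ := by
  ext x
  rw [Finset.mem_subtype, Finset.mem_image, Finset.mem_image]
  constructor
  · rintro ⟨a, ha, hax⟩
    by_cases hP : P a
    · refine ⟨⟨a, hP⟩, Finset.mem_subtype.mpr ha, ?_⟩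
      apply Subtype.ext
      rw [← hax, Equiv.Perm.ofSubtype_apply_of_mem σ hP]
    · rw [Equiv.Perm.ofSubtype_apply_of_not_mem σ hP] at hax
      exact absurd (hax ▸ x.2) hP
  · rintro ⟨y, hy, hyx⟩
    refine ⟨(y : α), Finset.mem_subtype.mp hy, ?_⟩
    rw [Equiv.Perm.ofSubtype_apply_coe, hyx]

theorem mem_image_ofSubtype_of_not (σ : Equiv.Perm (Subtype P)) (b : Finset α) {a : α}
    (ha : ¬ P a) : a ∈ b.image (Equiv.Perm.ofSubtype σ) ↔ a ∈ b := by
  rw [Finset.mem_image]
  constructor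
  · rintro ⟨c, hc, hca⟩
    by_cases hP : P c
    · have := (Equiv.Perm.ofSubtype_apply_mem_iff_mem σ c).mpr hP
      rw [hca] at this
      exact absurd this ha
    · rw [Equiv.Perm.ofSubtype_apply_of_not_mem σ hP] at hca
      exact hca ▸ hc
  · intro h
    exact ⟨a, h, Equiv.Perm.ofSubtype_apply_of_not_mem σ ha⟩

/-- a finset is determined by its restriction and its points outside `P` -/
theorem eq_of_subtype_eq {b c : Finset α} (h : Finset.subtype P b = Finset.subtype P c)
    (h' : ∀ a, ¬ P a → (a ∈ b ↔ a ∈ c)) : b = c := by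
  ext a
  by_cases hP : P a
  · have := Finset.ext_iff.mp h ⟨a, hP⟩
    rw [Finset.mem_subtype, Finset.mem_subtype] at this
    exact this
  · exact h' a hP

variable {𝓑 : Set (Finset α)}

/-- an automorphism of the restricted family extends to an automorphism of the family -/
theorem ofSubtype_maps (h𝓑 : ∀ b ∈ 𝓑, ∀ a, ¬ P a → a ∈ b) {σ : Equiv.Perm (Subtype P)}
    (hσ : ∀ b' ∈ resFam P 𝓑, b'.image σ ∈ resFam P 𝓑) {b : Finset α} (hb : b ∈ 𝓑) :
    b.image (Equiv.Perm.ofSubtype σ) ∈ 𝓑 := by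
  obtain ⟨c, hc, hcb⟩ := hσ (Finset.subtype P b) ⟨b, hb, rfl⟩
  have : b.image (Equiv.Perm.ofSubtype σ) = c := by
    apply eq_of_subtype_eq (P := P)
    · rw [subtype_image_ofSubtype, hcb]
    · intro a ha
      rw [mem_image_ofSubtype_of_not σ b ha]
      exact ⟨fun _ => h𝓑 c hc a ha, fun _ => h𝓑 b hb a ha⟩
  rw [this]
  exact hc

theorem ofSubtype_mem_aut (h𝓑 : ∀ b ∈ 𝓑, ∀ a, ¬ P a → a ∈ b) {σ : Equiv.Perm (Subtype P)}
    (hσ : σ ∈ setSystemAut (resFam P 𝓑)) : Equiv.Perm.ofSubtype σ ∈ setSystemAut 𝓑 := by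
  apply mem_aut_of_maps
  · intro b hb
    exact ofSubtype_maps h𝓑 (fun b' hb' => image_mem_of_mem_aut hσ hb') hb
  · intro b hb
    have h1 : (Equiv.Perm.ofSubtype σ).symm = Equiv.Perm.ofSubtype σ⁻¹ := by
      rw [map_inv]; rfl
    rw [h1]
    exact ofSubtype_maps h𝓑
      (fun b' hb' => image_mem_of_mem_aut ((setSystemAut (resFam P 𝓑)).inv_mem hσ) hb') hb

/-- a permutation fixing the points outside `P` preserves `P` -/
theorem preserves_of_fixes {g : Equiv.Perm α} (hg : ∀ a, ¬ P a → g a = a) (x : α) :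
    P (g x) ↔ P x := by
  constructor
  · intro h
    by_contra hx
    rw [hg x hx] at h
    exact hx h
  · intro h
    by_contra hgx
    have h1 := hg (g x) hgx
    have h2 : g x = x := g.injective h1
    rw [h2] at hgx
    exact hgx h

/-- restriction of the image under a permutation fixing the points outside `P` -/
theorem subtype_image_subtypePerm {g : Equiv.Perm α} (hg : ∀ a, ¬ P a → g a = a)
    (b : Finset α) :
    (Finset.subtype P b).image (g.subtypePerm (preserves_of_fixes hg)) =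
      Finset.subtype P (b.image g) := by
  have h1 : Equiv.Perm.ofSubtype (g.subtypePerm (preserves_of_fixes hg)) = g :=
    Equiv.Perm.ofSubtype_subtypePerm _ (fun x hx => by
      by_contra hP
      exact hx (hg x hP))
  rw [← subtype_image_ofSubtype, h1]

/-- the restriction of an automorphism fixing the points outside `P` is an automorphism of the
restricted family -/
theorem subtypePerm_mem_aut {g : Equiv.Perm α} (hg : ∀ a, ¬ P a → g a = a)
    (hgB : g ∈ setSystemAut 𝓑) :
    g.subtypePerm (preserves_of_fixes hg) ∈ setSystemAut (resFam P 𝓑) := by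
  have hinv : ∀ a, ¬ P a → g⁻¹ a = a := by
    intro a ha
    rw [Equiv.Perm.inv_eq_iff_eq]
    exact (hg a ha).symm
  apply mem_aut_of_maps
  · rintro _ ⟨b, hb, rfl⟩
    rw [subtype_image_subtypePerm hg]
    exact ⟨b.image g, image_mem_of_mem_aut hgB hb, rfl⟩
  · rintro _ ⟨b, hb, rfl⟩
    have h1 : (g.subtypePerm (preserves_of_fixes hg)).symm =
        g⁻¹.subtypePerm (preserves_of_fixes hinv) := by
      apply Equiv.ext
      intro x
      apply Subtype.ext
      rfl
    rw [h1, subtype_image_subtypePerm hinv]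
    exact ⟨b.image (g⁻¹ : Equiv.Perm α), image_mem_of_mem_aut ((setSystemAut 𝓑).inv_mem hgB) hb,
      rfl⟩

/-- **Restriction isomorphism**: the image of `Aut (resFam P 𝓑)` under extension by the identity
is the group of automorphisms of `𝓑` fixing the points outside `P`. -/
theorem map_ofSubtype_eq (h𝓑 : ∀ b ∈ 𝓑, ∀ a, ¬ P a → a ∈ b) (K : Subgroup (Equiv.Perm α))
    (hK : ∀ g, g ∈ K ↔ g ∈ setSystemAut 𝓑 ∧ ∀ a, ¬ P a → g a = a) :
    (setSystemAut (resFam P 𝓑)).map (Equiv.Perm.ofSubtype : Equiv.Perm (Subtype P) →* _) = K := by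
  ext g
  rw [Subgroup.mem_map, hK]
  constructor
  · rintro ⟨σ, hσ, rfl⟩
    exact ⟨ofSubtype_mem_aut h𝓑 hσ, fun a ha => Equiv.Perm.ofSubtype_apply_of_not_mem σ ha⟩
  · rintro ⟨hgB, hg⟩
    refine ⟨g.subtypePerm (preserves_of_fixes hg), subtypePerm_mem_aut hg hgB, ?_⟩
    exact Equiv.Perm.ofSubtype_subtypePerm _ (fun x hx => by
      by_contra hP
      exact hx (hg x hP))

/-- The restriction isomorphism as a `MulEquiv`. -/
noncomputable def autEquiv (h𝓑 : ∀ b ∈ 𝓑, ∀ a, ¬ P a → a ∈ b) (K : Subgroup (Equiv.Perm α))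
    (hK : ∀ g, g ∈ K ↔ g ∈ setSystemAut 𝓑 ∧ ∀ a, ¬ P a → g a = a) :
    setSystemAut (resFam P 𝓑) ≃* K :=
  ((setSystemAut (resFam P 𝓑)).equivMapOfInjective
    (Equiv.Perm.ofSubtype : Equiv.Perm (Subtype P) →* _) Equiv.Perm.ofSubtype_injective).trans
    (MulEquiv.subgroupCongr (map_ofSubtype_eq h𝓑 K hK))

theorem autEquiv_apply (h𝓑 : ∀ b ∈ 𝓑, ∀ a, ¬ P a → a ∈ b) (K : Subgroup (Equiv.Perm α))
    (hK : ∀ g, g ∈ K ↔ g ∈ setSystemAut 𝓑 ∧ ∀ a, ¬ P a → g a = a)
    (σ : setSystemAut (resFam P 𝓑)) :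
    ((autEquiv h𝓑 K hK σ : K) : Equiv.Perm α) = Equiv.Perm.ofSubtype σ.1 := rfl

/-- Elements of `K` restrict to automorphisms of the restricted family. -/
theorem exists_aut_of_mem (K : Subgroup (Equiv.Perm α))
    (hK : ∀ g, g ∈ K ↔ g ∈ setSystemAut 𝓑 ∧ ∀ a, ¬ P a → g a = a) {g : Equiv.Perm α}
    (hg : g ∈ K) :
    ∃ σ : setSystemAut (resFam P 𝓑), ∀ x : Subtype P, ((σ.1 x : Subtype P) : α) = g x := by
  obtain ⟨hgB, hfix⟩ := (hK g).mp hg
  exact ⟨⟨g.subtypePerm (preserves_of_fixes hfix), subtypePerm_mem_aut hfix hgB⟩, fun x => rfl⟩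

/-- Multiple transitivity of `Aut (resFam P 𝓑)` from that of `K` on the points of `P`. -/
theorem isMultiplyPretransitive_of (K : Subgroup (Equiv.Perm α))
    (hK : ∀ g, g ∈ K ↔ g ∈ setSystemAut 𝓑 ∧ ∀ a, ¬ P a → g a = a) (n : ℕ)
    (h : ∀ x y : Fin n ↪ Subtype P, ∃ g ∈ K, ∀ i, g (x i : α) = (y i : α)) :
    MulAction.IsMultiplyPretransitive (setSystemAut (resFam P 𝓑)) (Subtype P) n := by
  rw [MulAction.isMultiplyPretransitive_iff]
  intro x y
  obtain ⟨g, hg, hxy⟩ := h x y
  obtain ⟨σ, hσ⟩ := exists_aut_of_mem K hK hg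
  refine ⟨σ, Function.Embedding.ext fun i => ?_⟩
  rw [Function.Embedding.smul_apply]
  apply Subtype.ext
  show ((σ.1 (x i) : Subtype P) : α) = y i
  rw [hσ, hxy]

end

end Cfsg.Agent.Lib.Helper93.AutRestrict
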