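import Cfsg.Agent.Lib.Helper93.SteinerExt
import Cfsg.Agent.S0355
import Cfsg.Agent.S0352
import Cfsg.Agent.Lib.Helper7.M24Trans

/-!
# Extension step for `S(4,7,23)`

Any Steiner system `S(4,7,23)` is isomorphic to the derived design of the octads at a point.
-/

set_option autoImplicit false

namespace Cfsg.Agent.Lib.Helper93.S23Unique
open Finset Cfsg Cfsg.Agent.Lib.Helper6 Cfsg.Agent.Lib.Helper7 Cfsg.Agent.Lib.Helper93.S22Unique
  Cfsg.Agent.Lib.Helper93.SteinerExt Cfsg.Agent.Lib.Helper93.OctadComplete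
open scoped Pointwise

universe u
variable {α : Type u} [Fintype α] [DecidableEq α] {D : Set (Finset α)}

/-- The points other than `x`. -/
abbrev Pts1 (x : GolayPt) := {a : GolayPt // a ≠ x}

/-- The derived design of the octads at `x`. -/
abbrev C23 (x : GolayPt) : Set (Finset (Pts1 x)) := dLines octads x

/-- The points other than `x` and `y`. -/
abbrev Pts2 {x y : GolayPt} (hyx : y ≠ x) := {z : Pts1 x // z ≠ (⟨y, hyx⟩ : Pts1 x)}

/-- The derived design of the octads at `x` and `y`. -/
abbrev C22 {x y : GolayPt} (hyx : y ≠ x) : Set (Finset (Pts2 hyx)) := dLines (C23 x) ⟨y, hyx⟩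

theorem C23_steiner (x : GolayPt) : IsSteinerSystem 4 7 (C23 x) :=
  Cfsg.Agent.S0351.result (t := 4) (k := 7) octads_steiner x

theorem C22_steiner {x y : GolayPt} (hyx : y ≠ x) : IsSteinerSystem 3 6 (C22 hyx) :=
  Cfsg.Agent.S0351.result (t := 3) (k := 6) (C23_steiner x) ⟨y, hyx⟩

theorem card_Pts1 (x : GolayPt) : Fintype.card (Pts1 x) = 23 := by
  rw [Fintype.card_subtype_compl (fun a : GolayPt => a = x), Fintype.card_subtype_eq]
  decide

theorem card_Pts2 {x y : GolayPt} (hyx : y ≠ x) : Fintype.card (Pts2 hyx) = 22 := by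
  rw [Fintype.card_subtype_compl (fun a : Pts1 x => a = ⟨y, hyx⟩), Fintype.card_subtype_eq,
    card_Pts1]

theorem ncard_blocks23 (hα : Fintype.card α = 23) (hD : IsSteinerSystem 4 7 D) :
    D.ncard = 253 := by
  have := Cfsg.Agent.S0350.result hD
  rw [hα] at this
  have h1 : (7 : ℕ).choose 4 = 35 := by decide
  have h2 : (23 : ℕ).choose 4 = 8855 := by decide
  rw [h1, h2] at this
  omega

/-- The image of an off-block in the 24 points. -/
abbrev lift2 {x y : GolayPt} {hyx : y ≠ x} (h : Finset (Pts2 hyx)) : Finset GolayPt :=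
  lift (lift h)

theorem not_mem_lift2_left {x y : GolayPt} {hyx : y ≠ x} (h : Finset (Pts2 hyx)) :
    x ∉ lift2 h := not_mem_lift _

theorem not_mem_lift2_right {x y : GolayPt} {hyx : y ≠ x} (h : Finset (Pts2 hyx)) :
    y ∉ lift2 h := by
  intro hy
  rw [mem_lift] at hy
  obtain ⟨hz, hw⟩ := hy
  exact not_mem_lift h hw

theorem card_lift2 {x y : GolayPt} {hyx : y ≠ x} (h : Finset (Pts2 hyx)) :
    (lift2 h).card = h.card := by
  rw [card_lift, card_lift]

theorem card_lift2_inter {x y : GolayPt} {hyx : y ≠ x} (h : Finset (Pts2 hyx))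
    (o : Finset GolayPt) :
    (lift2 h ∩ o).card = (h ∩ res (⟨y, hyx⟩ : Pts1 x) (res x o)).card := by
  rw [card_lift_inter, card_lift_inter]

/-- The hexad of an octad through `x` and `y`. -/
theorem res_res_mem_C22 {x y : GolayPt} (hyx : y ≠ x) {o : Finset GolayPt} (ho : o ∈ octads)
    (hxo : x ∈ o) (hyo : y ∈ o) : res (⟨y, hyx⟩ : Pts1 x) (res x o) ∈ C22 hyx :=
  ⟨res x o, ⟨o, ho, hxo, rfl⟩, mem_res.mpr hyo, rfl⟩

section Class

variable {x y : GolayPt} {hyx : y ≠ x} {p : α}
  (e : {a : α // a ≠ p} ≃ Pts2 hyx)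

/-- Every off-block meets the octads through `x` and `y` oddly. -/
theorem odd_meeting (hα : Fintype.card α = 23) (hD : IsSteinerSystem 4 7 D)
    (he : (fun b : Finset {a : α // a ≠ p} => b.image e) '' dLines D p = C22 hyx)
    {b : Finset α} (hb : b ∈ D) (hpb : p ∉ b) {o : Finset GolayPt} (ho : o ∈ octads)
    (hxo : x ∈ o) (hyo : y ∈ o) : Odd (lift2 ((res p b).image e) ∩ o).card := by
  have hn := res_res_mem_C22 hyx ho hxo hyo
  rw [← he] at hn
  obtain ⟨l, ⟨c, hc, hpc, rfl⟩, hleq⟩ := hn
  have hleq' : (res p c).image e = res (⟨y, hyx⟩ : Pts1 x) (res x o) := hleq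
  rw [card_lift2_inter, ← hleq', card_image_res_inter e hpb]
  have hbc : b ≠ c := fun h' => hpb (h' ▸ hpc)
  rcases Cfsg.Agent.S0355.result hα hD hb hc hbc with h0 | h0 <;> rw [h0] <;> decide

/-- Every off-block completes to an octad by `x` or by `y`. -/
theorem class_cases (hα : Fintype.card α = 23) (hD : IsSteinerSystem 4 7 D)
    (he : (fun b : Finset {a : α // a ≠ p} => b.image e) '' dLines D p = C22 hyx)
    {b : Finset α} (hb : b ∈ D) (hpb : p ∉ b) :
    insert x (lift2 ((res p b).image e)) ∈ octads ∨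
      insert y (lift2 ((res p b).image e)) ∈ octads := by
  apply complete_octad_two _ (Ne.symm hyx) (not_mem_lift2_left _) (not_mem_lift2_right _)
  · intro o ho hxo hyo
    exact odd_meeting e hα hD he hb hpb ho hxo hyo
  · rw [card_lift2, Finset.card_image_of_injective _ e.injective, card_res_of_not_mem hpb,
      hD.1 b hb]

/-- Two off-blocks cannot complete differently. -/
theorem class_same (hα : Fintype.card α = 23) (hD : IsSteinerSystem 4 7 D)
    {b b' : Finset α} (hb : b ∈ D) (hpb : p ∉ b) (hb' : b' ∈ D) (_hpb' : p ∉ b')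
    (h1 : insert x (lift2 ((res p b).image e)) ∈ octads)
    (h2 : insert y (lift2 ((res p b').image e)) ∈ octads) : False := by
  set H := lift2 ((res p b).image e) with hH
  set H' := lift2 ((res p b').image e) with hH'
  have hxH' : x ∉ insert y H' := by
    rw [Finset.mem_insert, not_or]
    exact ⟨Ne.symm hyx, not_mem_lift2_left _⟩
  have hyH : y ∉ insert x H := by
    rw [Finset.mem_insert, not_or]
    exact ⟨hyx, not_mem_lift2_right _⟩
  have hne : insert x H ≠ insert y H' := fun h' => hxH' (h' ▸ Finset.mem_insert_self x H)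
  have hint : insert x H ∩ insert y H' = H ∩ H' := by
    ext z
    simp only [Finset.mem_inter, Finset.mem_insert]
    constructor
    · rintro ⟨h3 | h3, h4 | h4⟩
      · exact absurd (h3.symm.trans h4) (Ne.symm hyx)
      · exact absurd (h3 ▸ h4) (not_mem_lift2_left _)
      · exact absurd (h4 ▸ h3) (not_mem_lift2_right _)
      · exact ⟨h3, h4⟩
    · rintro ⟨h3, h4⟩
      exact ⟨Or.inr h3, Or.inr h4⟩
  have hcard : (H ∩ H').card = (b ∩ b').card := by
    rw [hH, hH', card_lift2_inter]
    have : res (⟨y, hyx⟩ : Pts1 x) (res x (lift2 ((res p b').image e))) = (res p b').image e := by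
      rw [res_lift, res_lift]
    rw [this, card_image_res_inter e hpb]
  have hodd : (H ∩ H').card = 7 ∨ (H ∩ H').card = 1 ∨ (H ∩ H').card = 3 := by
    rw [hcard]
    by_cases hbb : b = b'
    · left
      rw [← hbb, Finset.inter_self, hD.1 b hb]
    · right
      exact Cfsg.Agent.S0355.result hα hD hb hb' hbb
  have h24 : Fintype.card GolayPt = 24 := by decide
  rcases Cfsg.Agent.S0352.result h24 octads_steiner h1 h2 hne with h0 | h0 | h0
  · rw [hint] at h0; omega
  · rw [hint] at h0; omega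
  · rw [hint] at h0; omega

/-- If all off-blocks complete by `x`, the system is isomorphic to the derived design of the
octads at `x`. -/
theorem iso_of_class (hα : Fintype.card α = 23) (hD : IsSteinerSystem 4 7 D)
    (he : (fun b : Finset {a : α // a ≠ p} => b.image e) '' dLines D p = C22 hyx)
    (hclass : ∀ b ∈ D, p ∉ b → insert x (lift2 ((res p b).image e)) ∈ octads) :
    SetSystemIso D (C23 x) := by
  classical
  refine ⟨extend p (⟨y, hyx⟩ : Pts1 x) e, ?_⟩
  have hsub : (fun b : Finset α => b.image (extend p (⟨y, hyx⟩ : Pts1 x) e)) '' D ⊆ C23 x := by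
    rintro _ ⟨b, hb, rfl⟩
    show b.image (extend p (⟨y, hyx⟩ : Pts1 x) e) ∈ C23 x
    by_cases hpb : p ∈ b
    · have hl : res p b ∈ dLines D p := ⟨b, hb, hpb, rfl⟩
      have hl' : (res p b).image e ∈ C22 hyx := by
        rw [← he]
        exact ⟨res p b, hl, rfl⟩
      obtain ⟨c, hc, hyc, hceq⟩ := hl'
      have : b.image (extend p (⟨y, hyx⟩ : Pts1 x) e) = c := by
        apply eq_of_res_eq
        · rw [res_image_extend, hceq]
        · rw [mem_image_extend_self]
          exact ⟨fun _ => hyc, fun _ => hpb⟩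
      rw [this]
      exact hc
    · have ho := hclass b hb hpb
      set h := (res p b).image e with hh
      have hc : res x (insert x (lift2 h)) ∈ C23 x :=
        ⟨_, ho, Finset.mem_insert_self _ _, rfl⟩
      have hrx : res x (insert x (lift2 h)) = lift h := by
        ext w
        rw [mem_res, Finset.mem_insert, coe_mem_lift]
        constructor
        · rintro (h' | h')
          · exact absurd h' w.2
          · exact h'
        · intro h'
          exact Or.inr h'
      have : b.image (extend p (⟨y, hyx⟩ : Pts1 x) e) = lift h := by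
        apply eq_of_res_eq
        · rw [res_image_extend, res_lift]
        · rw [mem_image_extend_self]
          exact ⟨fun h' => absurd h' hpb, fun h' => absurd h' (not_mem_lift h)⟩
      rw [this, ← hrx]
      exact hc
  apply Set.eq_of_subset_of_ncard_le hsub ?_ (Set.toFinite _)
  rw [Set.ncard_image_of_injective _
      (Finset.image_injective (extend p (⟨y, hyx⟩ : Pts1 x) e).injective),
    ncard_blocks23 hα hD, ncard_blocks23 (card_Pts1 x) (C23_steiner x)]

end Class

/-! ### Exchanging the two points -/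

theorem mem_lift2 {x y : GolayPt} {hyx : y ≠ x} {h : Finset (Pts2 hyx)} {w : GolayPt} :
    w ∈ lift2 h ↔ ∃ z ∈ h, (z : Pts1 x).1 = w := by
  constructor
  · intro hw
    rw [mem_lift] at hw
    obtain ⟨h1, hw⟩ := hw
    rw [mem_lift] at hw
    obtain ⟨h2, hw⟩ := hw
    exact ⟨_, hw, rfl⟩
  · rintro ⟨z, hz, rfl⟩
    rw [mem_lift]
    refine ⟨z.1.2, ?_⟩
    rw [mem_lift]
    exact ⟨z.2, hz⟩

theorem mem_res_res {x y : GolayPt} {hyx : y ≠ x} {o : Finset GolayPt} {z : Pts2 hyx} :
    z ∈ res (⟨y, hyx⟩ : Pts1 x) (res x o) ↔ (z : Pts1 x).1 ∈ o := by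
  rw [mem_res, mem_res]

theorem mem_C22_iff {x y : GolayPt} {hyx : y ≠ x} {n : Finset (Pts2 hyx)} :
    n ∈ C22 hyx ↔ ∃ o ∈ octads, x ∈ o ∧ y ∈ o ∧ n = res (⟨y, hyx⟩ : Pts1 x) (res x o) := by
  constructor
  · rintro ⟨c, ⟨o, ho, hxo, rfl⟩, hyc, rfl⟩
    exact ⟨o, ho, hxo, mem_res.mp hyc, rfl⟩
  · rintro ⟨o, ho, hxo, hyo, rfl⟩
    exact res_res_mem_C22 hyx ho hxo hyo

/-- The canonical bijection between the two ways of removing two points. -/
def nestSwap {x y : GolayPt} (hyx : y ≠ x) : Pts2 hyx ≃ Pts2 (Ne.symm hyx) where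
  toFun z := ⟨⟨z.1.1, fun h => z.2 (Subtype.ext h)⟩, fun h => z.1.2 (congrArg Subtype.val h)⟩
  invFun z := ⟨⟨z.1.1, fun h => z.2 (Subtype.ext h)⟩, fun h => z.1.2 (congrArg Subtype.val h)⟩
  left_inv _ := rfl
  right_inv _ := rfl

theorem nestSwap_val {x y : GolayPt} (hyx : y ≠ x) (z : Pts2 hyx) :
    ((nestSwap hyx z : Pts2 (Ne.symm hyx)) : Pts1 y).1 = (z : Pts1 x).1 := rfl

theorem lift2_image_nestSwap {x y : GolayPt} (hyx : y ≠ x) (h : Finset (Pts2 hyx)) :
    lift2 (h.image (nestSwap hyx)) = lift2 h := by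
  ext w
  rw [mem_lift2, mem_lift2]
  constructor
  · rintro ⟨z', hz', rfl⟩
    obtain ⟨z, hz, rfl⟩ := Finset.mem_image.mp hz'
    exact ⟨z, hz, rfl⟩
  · rintro ⟨z, hz, rfl⟩
    exact ⟨nestSwap hyx z, Finset.mem_image_of_mem _ hz, rfl⟩

theorem image_nestSwap_res_res {x y : GolayPt} (hyx : y ≠ x) (o : Finset GolayPt) :
    (res (⟨y, hyx⟩ : Pts1 x) (res x o)).image (nestSwap hyx) =
      res (⟨x, Ne.symm hyx⟩ : Pts1 y) (res y o) := by
  ext z'
  rw [Finset.mem_image, mem_res_res]
  constructor
  · rintro ⟨z, hz, rfl⟩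
    rw [mem_res_res] at hz
    exact hz
  · intro hz'
    refine ⟨(nestSwap hyx).symm z', ?_, (nestSwap hyx).apply_symm_apply z'⟩
    rw [mem_res_res]
    exact hz'

theorem image_nestSwap_C22 {x y : GolayPt} (hyx : y ≠ x) :
    (fun b : Finset (Pts2 hyx) => b.image (nestSwap hyx)) '' C22 hyx = C22 (Ne.symm hyx) := by
  ext n'
  constructor
  · rintro ⟨n, hn, rfl⟩
    obtain ⟨o, ho, hxo, hyo, rfl⟩ := mem_C22_iff.mp hn
    show (res (⟨y, hyx⟩ : Pts1 x) (res x o)).image (nestSwap hyx) ∈ C22 (Ne.symm hyx)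
    rw [image_nestSwap_res_res]
    exact mem_C22_iff.mpr ⟨o, ho, hyo, hxo, rfl⟩
  · intro hn'
    obtain ⟨o, ho, hyo, hxo, rfl⟩ := mem_C22_iff.mp hn'
    refine ⟨res (⟨y, hyx⟩ : Pts1 x) (res x o), mem_C22_iff.mpr ⟨o, ho, hxo, hyo, rfl⟩, ?_⟩
    exact image_nestSwap_res_res hyx o

/-! ### The main theorems -/

/-- Any Steiner system `S(4,7,23)` is isomorphic to the derived design of the octads at some
point. -/
theorem exists_iso_C23 (hα : Fintype.card α = 23) (hD : IsSteinerSystem 4 7 D) :
    ∃ x : GolayPt, SetSystemIso D (C23 x) := by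
  classical
  have hne : Nonempty α := Fintype.card_pos_iff.mp (by rw [hα]; norm_num)
  obtain ⟨p⟩ := hne
  have hyx : (some 0 : GolayPt) ≠ none := by decide
  have hE : IsSteinerSystem 3 6 (dLines D p) :=
    Cfsg.Agent.S0351.result (t := 3) (k := 6) hD p
  have h22 : Fintype.card {a : α // a ≠ p} = 22 := by
    rw [Fintype.card_subtype_compl (fun a : α => a = p), Fintype.card_subtype_eq, hα]
  obtain ⟨e, he⟩ := Cfsg.Agent.Lib.Helper93.S22Unique.setSystemIso h22 (card_Pts2 hyx) hE
    (C22_steiner hyx)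
  by_cases hall : ∀ b ∈ D, p ∉ b → insert none (lift2 ((res p b).image e)) ∈ octads
  · exact ⟨none, iso_of_class e hα hD he hall⟩
  · push Not at hall
    obtain ⟨b0, hb0, hpb0, hn0⟩ := hall
    have h0y := (class_cases e hα hD he hb0 hpb0).resolve_left hn0
    have hally : ∀ b ∈ D, p ∉ b → insert (some 0) (lift2 ((res p b).image e)) ∈ octads := by
      intro b hb hpb
      rcases class_cases e hα hD he hb hpb with h1 | h1
      · exact (class_same e hα hD hb hpb hb0 hpb0 h1 h0y).elim
      · exact h1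
    have himg : ∀ s : Finset {a : α // a ≠ p},
        s.image (e.trans (nestSwap hyx)) = (s.image e).image (nestSwap hyx) := by
      intro s
      rw [Finset.image_image]
      rfl
    refine ⟨some 0, iso_of_class (e.trans (nestSwap hyx)) hα hD ?_ ?_⟩
    · rw [← image_nestSwap_C22 hyx, ← he, Set.image_image]
      apply Set.image_congr
      intro s _
      exact himg s
    · intro b hb hpb
      rw [himg, lift2_image_nestSwap]
      exact hally b hb hpb

/-- The derived designs of the octads at any two points are isomorphic. -/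
theorem C23_iso (x x' : GolayPt) : SetSystemIso (C23 x) (C23 x') := by
  classical
  have := M24_isPretransitive
  obtain ⟨g, hgx⟩ := MulAction.exists_smul_eq M24 x x'
  have hgx' : (g : Equiv.Perm GolayPt) x = x' := hgx
  let k : Pts1 x ≃ Pts1 x' := (g : Equiv.Perm GolayPt).subtypeEquiv (fun a => by
    show a ≠ x ↔ (g : Equiv.Perm GolayPt) a ≠ x'
    rw [← hgx']
    exact (g : Equiv.Perm GolayPt).injective.ne_iff.symm)
  refine ⟨k, ?_⟩
  have hsub : (fun b : Finset (Pts1 x) => b.image k) '' C23 x ⊆ C23 x' := by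
    rintro _ ⟨_, ⟨o, ho, hxo, rfl⟩, rfl⟩
    refine ⟨(g : Equiv.Perm GolayPt) • o, smul_mem_octads g.2 ho, ?_, ?_⟩
    · rw [← hgx']
      exact Finset.smul_mem_smul_finset hxo
    · ext w
      rw [Finset.mem_image, mem_res]
      constructor
      · rintro ⟨z, hz, rfl⟩
        exact Finset.smul_mem_smul_finset (mem_res.mp hz)
      · intro hw
        refine ⟨k.symm w, ?_, k.apply_symm_apply w⟩
        rw [mem_res]
        obtain ⟨q, hq, hqw⟩ := Finset.mem_smul_finset.mp hw
        have : ((k.symm w : Pts1 x) : GolayPt) = q := by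
          apply (g : Equiv.Perm GolayPt).injective
          have h1 : (g : Equiv.Perm GolayPt) ((k.symm w : Pts1 x) : GolayPt) = (w : GolayPt) :=
            congrArg Subtype.val (k.apply_symm_apply w)
          rw [h1]
          exact hqw.symm
        rw [this]
        exact hq
  apply Set.eq_of_subset_of_ncard_le hsub ?_ (Set.toFinite _)
  rw [Set.ncard_image_of_injective _ (Finset.image_injective k.injective),
    ncard_blocks23 (card_Pts1 x) (C23_steiner x), ncard_blocks23 (card_Pts1 x') (C23_steiner x')]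

end Cfsg.Agent.Lib.Helper93.S23Unique
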