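/-
helper93: the automorphism group of the derived design `C23 none` of the octads (the Steiner system
`S(4,7,23)`) is isomorphic to `M23`, and is 4-transitive on the 23 points.
-/
import Cfsg.Agent.Lib.Helper93.AutRestrict
import Cfsg.Agent.Lib.Helper93.S23Unique
import Cfsg.Agent.Lib.Helper92.M23Aut
import Cfsg.Agent.Lib.Helper7.SimpleMathieu

set_option autoImplicit false

namespace Cfsg.Agent.Lib.Helper93.AutC23
open Cfsg Cfsg.Agent.Lib.Helper7 Cfsg.Agent.Lib.Helper93.AutTransport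
  Cfsg.Agent.Lib.Helper93.AutRestrict Cfsg.Agent.Lib.Helper93.S22Unique
  Cfsg.Agent.Lib.Helper93.S23Unique
open scoped Pointwise

/-- The octads through `none`. -/
def Oct1 : Set (Finset GolayPt) := {o | o ∈ octads ∧ (none : GolayPt) ∈ o}

theorem resFam_Oct1 : resFam (fun a : GolayPt => a ≠ none) Oct1 = C23 none := by
  ext b'
  constructor
  · rintro ⟨b, ⟨hb, hn⟩, rfl⟩
    exact ⟨b, hb, hn, rfl⟩
  · rintro ⟨b, hb, hn, rfl⟩
    exact ⟨b, ⟨hb, hn⟩, rfl⟩

theorem Oct1_contains : ∀ b ∈ Oct1, ∀ a : GolayPt, ¬ (a ≠ none) → a ∈ b := by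
  intro b hb a ha
  rw [not_not] at ha
  rw [ha]
  exact hb.2

theorem mem_M23' {g : Equiv.Perm GolayPt} : g ∈ Spor.M23 ↔ g ∈ M24 ∧ g none = none := by
  show g ∈ M24 ⊓ MulAction.stabilizer (Equiv.Perm GolayPt) (none : GolayPt) ↔ _
  rw [Subgroup.mem_inf, MulAction.mem_stabilizer_iff]
  rfl

theorem image_mem_Oct1 {g : Equiv.Perm GolayPt} (hg : g ∈ M24) (h0 : g none = none)
    {b : Finset GolayPt} (hb : b ∈ Oct1) : b.image g ∈ Oct1 := by
  refine ⟨smul_mem_octads hg hb.1, ?_⟩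
  rw [Finset.mem_image]
  exact ⟨none, hb.2, h0⟩

theorem M23_char (g : Equiv.Perm GolayPt) :
    g ∈ Spor.M23 ↔ g ∈ setSystemAut Oct1 ∧ ∀ a : GolayPt, ¬ (a ≠ none) → g a = a := by
  rw [mem_M23']
  constructor
  · rintro ⟨hg, h0⟩
    refine ⟨mem_aut_of_maps g (fun b hb => image_mem_Oct1 hg h0 hb) (fun b hb => ?_), ?_⟩
    · have hinv : g⁻¹ none = none := by
        rw [Equiv.Perm.inv_eq_iff_eq]; exact h0.symm
      exact image_mem_Oct1 (g := g⁻¹) (M24.inv_mem hg) hinv hb
    · intro a ha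
      rw [not_not] at ha
      rw [ha]; exact h0
  · rintro ⟨hg, hfix⟩
    refine ⟨?_, hfix none (by simp)⟩
    apply Cfsg.Agent.Lib.Helper92.M23Aut.mem_M24_of_maps_octads_through
    intro o ho hn
    exact (image_mem_of_mem_aut hg (b := o) ⟨ho, hn⟩).1

/-- `Aut (C23 none) ≃* M23`. -/
noncomputable def autC23Equiv : setSystemAut (C23 none) ≃* Spor.M23 :=
  (MulEquiv.subgroupCongr (by rw [resFam_Oct1])).trans
    (autEquiv (P := fun a : GolayPt => a ≠ none) Oct1_contains Spor.M23 M23_char)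

theorem isSimpleGroup_M23 : IsSimpleGroup ↥Spor.M23 := isSimpleGroup_Gst1

theorem card_M23' : Nat.card ↥Spor.M23 = 10200960 := card_Gst_1

theorem isSimpleGroup_autC23 : IsSimpleGroup (setSystemAut (C23 none)) :=
  haveI := isSimpleGroup_M23
  autC23Equiv.isSimpleGroup

theorem card_autC23 : Nat.card (setSystemAut (C23 none)) = 10200960 := by
  rw [Nat.card_congr autC23Equiv.toEquiv, card_M23']

/-- prepend a point to an embedding -/
def consEmb {n : ℕ} (a : GolayPt) (x : Fin n ↪ GolayPt) (h : ∀ i, x i ≠ a) :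
    Fin (n + 1) ↪ GolayPt :=
  ⟨Fin.cons a x, Fin.cons_injective_iff.mpr
    ⟨by rintro ⟨i, hi⟩; exact h i hi, x.injective⟩⟩

theorem consEmb_zero {n : ℕ} (a : GolayPt) (x : Fin n ↪ GolayPt) (h : ∀ i, x i ≠ a) :
    consEmb a x h 0 = a := rfl

theorem consEmb_succ {n : ℕ} (a : GolayPt) (x : Fin n ↪ GolayPt) (h : ∀ i, x i ≠ a) (i : Fin n) :
    consEmb a x h i.succ = x i := by
  simp [consEmb]

theorem isMultiplyPretransitive_autC23 :
    MulAction.IsMultiplyPretransitive (setSystemAut (C23 none)) (Pts1 none) 4 := by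
  have h := isMultiplyPretransitive_of (P := fun a : GolayPt => a ≠ none) (𝓑 := Oct1)
    Spor.M23 M23_char 4 ?_
  · rw [resFam_Oct1] at h
    exact h
  · intro x y
    let x' : Fin 4 ↪ GolayPt := x.trans (Function.Embedding.subtype _)
    let y' : Fin 4 ↪ GolayPt := y.trans (Function.Embedding.subtype _)
    obtain ⟨g, hg, hmap⟩ := exists_M24_map_emb (k := 5) (le_refl 5)
      (consEmb none x' (fun i => (x i).2)) (consEmb none y' (fun i => (y i).2))
    refine ⟨g, mem_M23'.mpr ⟨hg, ?_⟩, fun i => ?_⟩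
    · exact hmap 0
    · have h1 := hmap i.succ
      have h2 : consEmb none x' (fun i => (x i).2) i.succ = x' i := consEmb_succ _ _ _ i
      have h3 : consEmb none y' (fun i => (y i).2) i.succ = y' i := consEmb_succ _ _ _ i
      rw [h2, h3] at h1
      exact h1

end Cfsg.Agent.Lib.Helper93.AutC23
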