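import Cfsg.Agent.Lib.Helper93.M22Hexads

/-!
# Automorphisms of `M22`

Every automorphism of `M22` is inner or the product of an inner automorphism with the conjugation
by an element of `M24` interchanging the two fixed points.
-/

set_option autoImplicit false

namespace Cfsg.Agent.Lib.Helper93.M22Aut
open Cfsg Cfsg.Agent.Lib.Helper7 Cfsg.Agent.Lib.Helper93 Cfsg.Agent.Lib.Helper92.PermCount
  Cfsg.Agent.Lib.Helper92.M24Index Cfsg.Agent.Lib.Helper92.M24Aut Cfsg.Agent.Lib.Helper92.AutPerm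
  Cfsg.Agent.Lib.Helper93.M22Index Cfsg.Agent.Lib.Helper93.M22Hexads
open scoped Pointwise

theorem card_M22 : Nat.card ↥Spor.M22 = 443520 := card_Gst_2

/-- The 22 points other than `none` and `some 0`, as a set on which `M22` acts. -/
def pts : SubMulAction ↥Spor.M22 GolayPt where
  carrier := {p | p ≠ none ∧ p ≠ some 0}
  smul_mem' := by
    intro g p hp
    have hg := (mem_M22_iff _).mp g.2
    constructor
    · intro h
      apply hp.1
      exact (g : Equiv.Perm GolayPt).injective (h.trans hg.2.1.symm)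
    · intro h
      apply hp.2
      exact (g : Equiv.Perm GolayPt).injective (h.trans hg.2.2.symm)

theorem mem_pts {p : GolayPt} : p ∈ pts ↔ p ≠ none ∧ p ≠ some 0 := Iff.rfl

theorem smul_val (g : ↥Spor.M22) (q : ↥pts) :
    ((g • q : ↥pts) : GolayPt) = (g : Equiv.Perm GolayPt) (q : GolayPt) := rfl

theorem card_pts : Nat.card ↥pts = 22 := by
  have h1 : Nat.card ↥pts = Nat.card {p : GolayPt // p ≠ none ∧ p ≠ some 0} := rfl
  rw [h1, Nat.card_eq_fintype_card]
  decide

instance : MulAction.IsPretransitive ↥Spor.M22 ↥pts := by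
  constructor
  intro p q
  have hp := p.2
  have hq := q.2
  rw [mem_pts] at hp hq
  obtain ⟨g, hg, hmap⟩ := exists_M24_map_list [none, some 0, (p : GolayPt)]
    [none, some 0, (q : GolayPt)]
    (by simp [hp.1.symm, hp.2.symm]) (by simp [hq.1.symm, hq.2.symm]) rfl (by simp)
  have h0 : g none = none := hmap 0 (by simp)
  have h1 : g (some 0) = some 0 := hmap 1 (by simp)
  have h2 : g p = q := hmap 2 (by simp)
  exact ⟨⟨g, (mem_M22_iff g).mpr ⟨hg, h0, h1⟩⟩, Subtype.ext h2⟩

instance : FaithfulSMul ↥Spor.M22 ↥pts := by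
  constructor
  intro g g' h
  apply Subtype.ext
  apply Equiv.ext
  intro p
  have hg := (mem_M22_iff _).mp g.2
  have hg' := (mem_M22_iff _).mp g'.2
  by_cases hp : p = none
  · rw [hp, hg.2.1, hg'.2.1]
  by_cases hp' : p = some 0
  · rw [hp', hg.2.2, hg'.2.2]
  · exact congrArg Subtype.val (h ⟨p, hp, hp'⟩)

/-- Different points have different stabilizers. -/
theorem stab_inj (x y : ↥pts)
    (h : MulAction.stabilizer ↥Spor.M22 x = MulAction.stabilizer ↥Spor.M22 y) : x = y := by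
  by_contra hxy
  have hx := x.2
  have hy := y.2
  rw [mem_pts] at hx hy
  have hxy' : (x : GolayPt) ≠ y := fun h => hxy (Subtype.ext h)
  obtain ⟨z, hz⟩ : ∃ z : GolayPt, z ∉ ({none, some 0, (x : GolayPt), (y : GolayPt)} :
      Finset GolayPt) := by
    by_contra hcon
    push Not at hcon
    have hsub : (Finset.univ : Finset GolayPt) ⊆ {none, some 0, (x : GolayPt), (y : GolayPt)} :=
      fun z _ => hcon z
    have h1 := Finset.card_le_card hsub
    have h24 : (Finset.univ : Finset GolayPt).card = 24 := by decide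
    have h2 := Finset.card_le_four (a := (none : GolayPt)) (b := some 0) (c := (x : GolayPt))
      (d := (y : GolayPt))
    omega
  simp only [Finset.mem_insert, Finset.mem_singleton, not_or] at hz
  obtain ⟨hzn, hz0, hzx, hzy⟩ := hz
  obtain ⟨g, hg, hmap⟩ := exists_M24_map_list [none, some 0, (x : GolayPt), (y : GolayPt)]
    [none, some 0, (x : GolayPt), z]
    (by simp [hx.1.symm, hx.2.symm, hy.1.symm, hy.2.symm, hxy'])
    (by simp [hx.1.symm, hx.2.symm, Ne.symm hzn, Ne.symm hz0, Ne.symm hzx])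
    rfl (by simp)
  have h0 : g none = none := hmap 0 (by simp)
  have h1 : g (some 0) = some 0 := hmap 1 (by simp)
  have h2 : g x = x := hmap 2 (by simp)
  have h3 : g y = z := hmap 3 (by simp)
  have hmem : (⟨g, (mem_M22_iff g).mpr ⟨hg, h0, h1⟩⟩ : ↥Spor.M22) ∈
      MulAction.stabilizer ↥Spor.M22 x :=
    MulAction.mem_stabilizer_iff.mpr (Subtype.ext h2)
  rw [h] at hmem
  have h4 : g y = y := congrArg Subtype.val (MulAction.mem_stabilizer_iff.mp hmem)
  exact hzy (h3.symm.trans h4)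

/-- A subgroup of index 22 fixes a point. -/
theorem index_fix (K : Subgroup ↥Spor.M22) (hK : K.index = Nat.card ↥pts) :
    ∃ y : ↥pts, K ≤ MulAction.stabilizer ↥Spor.M22 y := by
  have hcardK : Nat.card K = 20160 := by
    have := Subgroup.card_mul_index K
    rw [hK, card_pts, card_M22] at this
    omega
  set J : Subgroup (Equiv.Perm GolayPt) := K.map Spor.M22.subtype with hJ
  have hJ22 : ∀ g ∈ J, g ∈ Spor.M22 := by
    rintro _ ⟨k, _, rfl⟩
    exact k.2
  have hJM : J ≤ M24 := fun g hg => ((mem_M22_iff g).mp (hJ22 g hg)).1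
  have hcardJ : Nat.card J = 20160 := by
    rw [hJ, Subgroup.card_map_of_injective Spor.M22.subtype_injective, hcardK]
  have hfix : FixesAll J {none, some 0} := by
    intro g hg q hq
    rw [Finset.mem_insert, Finset.mem_singleton] at hq
    rcases hq with rfl | rfl
    · exact ((mem_M22_iff g).mp (hJ22 g hg)).2.1
    · exact ((mem_M22_iff g).mp (hJ22 g hg)).2.2
  obtain ⟨y, hy, hfixy⟩ := exists_fixed_of_card_20160 hJM (by decide) hfix hcardJ
  rw [Finset.mem_insert, Finset.mem_singleton, not_or] at hy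
  refine ⟨⟨y, hy⟩, fun k hk => MulAction.mem_stabilizer_iff.mpr (Subtype.ext ?_)⟩
  exact hfixy _ (Subgroup.mem_map_of_mem _ hk)

/-! ### The group `A22` is `M22` extended by one element -/

theorem M22_le_A22 : Spor.M22 ≤ A22 := by
  intro g hg
  obtain ⟨hgM, h0, h1⟩ := (mem_M22_iff g).mp hg
  exact mem_A22_of_maps h0 h1 (fun o ho _ _ => smul_mem_octads hgM ho)

/-- The transposition of the two points. -/
def sw : Equiv.Perm GolayPt := Equiv.swap (none : GolayPt) (some 0)

theorem sw_not_mem_M24 : sw ∉ M24 := by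
  intro h
  have h2 : orderOf sw = 2 :=
    Equiv.Perm.IsSwap.orderOf ⟨none, some 0, by decide, rfl⟩
  have hfix : sw (some 1) = some 1 := by
    unfold sw
    exact Equiv.swap_apply_of_ne_of_ne (by decide) (by decide)
  have hoct := fixPts_mem_octads h h2 hfix
  have h8 : (fixPts sw).card = 8 := octads_steiner.1 _ hoct
  have hsub : ({some 1, some 2, some 3, some 4, some 5, some 6, some 7, some 8, some 9} :
      Finset GolayPt) ⊆ fixPts sw := by
    intro p hp
    rw [mem_fixPts]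
    unfold sw
    apply Equiv.swap_apply_of_ne_of_ne
    · rintro rfl; revert hp; decide
    · rintro rfl; revert hp; decide
  have := Finset.card_le_card hsub
  rw [h8] at this
  revert this
  decide

theorem sw_smul_eq {o : Finset GolayPt} (ha : (none : GolayPt) ∈ o) (hb : (some 0 : GolayPt) ∈ o) :
    sw • o = o := by
  apply perm_smul_eq_of_forall_mem
  intro p hp
  unfold sw
  by_cases h1 : p = none
  · rw [h1, Equiv.swap_apply_left]; exact hb
  by_cases h2 : p = some 0
  · rw [h2, Equiv.swap_apply_right]; exact ha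
  · rw [Equiv.swap_apply_of_ne_of_ne h1 h2]; exact hp

theorem sw_apply_of_ne {p : GolayPt} (h1 : p ≠ none) (h2 : p ≠ some 0) : sw p = p :=
  Equiv.swap_apply_of_ne_of_ne h1 h2

theorem exists_M24_swap : ∃ t ∈ M24, t none = some 0 ∧ t (some 0) = none := by
  obtain ⟨g, hg, hmap⟩ := exists_M24_map_list [none, some 0] [some 0, none]
    (by decide) (by decide) rfl (by simp)
  exact ⟨g, hg, hmap 0 (by simp), hmap 1 (by simp)⟩

theorem mul_sw_mem_A22 {t : Equiv.Perm GolayPt} (ht : t ∈ M24) (h1 : t none = some 0)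
    (h2 : t (some 0) = none) : t * sw ∈ A22 := by
  apply mem_A22_of_maps
  · rw [Equiv.Perm.mul_apply]
    unfold sw
    rw [Equiv.swap_apply_left, h2]
  · rw [Equiv.Perm.mul_apply]
    unfold sw
    rw [Equiv.swap_apply_right, h1]
  · intro o ho ha hb
    rw [mul_smul, sw_smul_eq ha hb]
    exact smul_mem_octads ht ho

theorem mul_sw_not_mem_M22 {t : Equiv.Perm GolayPt} (ht : t ∈ M24) : t * sw ∉ Spor.M22 := by
  intro h
  have h1 := ((mem_M22_iff _).mp h).1
  apply sw_not_mem_M24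
  have : sw = t⁻¹ * (t * sw) := by group
  rw [this]
  exact M24.mul_mem (M24.inv_mem ht) h1

/-- Every element of `A22` is in `M22` or in the coset of `t * sw`. -/
theorem mem_A22_cases {t : Equiv.Perm GolayPt} (ht : t ∈ M24) (h1 : t none = some 0)
    (h2 : t (some 0) = none) {τ : Equiv.Perm GolayPt} (hτ : τ ∈ A22) :
    τ ∈ Spor.M22 ∨ ∃ m ∈ Spor.M22, τ = m * (t * sw) := by
  set H' : Subgroup ↥A22 := Spor.M22.subgroupOf A22 with hH'
  have hcardH' : Nat.card H' = 443520 := by
    rw [hH', Nat.card_congr (Subgroup.subgroupOfEquivOfLe M22_le_A22).toEquiv, card_M22]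
  have hmul := Subgroup.card_mul_index H'
  rw [hcardH'] at hmul
  have hle := card_A22_le
  have hc : (⟨t * sw, mul_sw_mem_A22 ht h1 h2⟩ : ↥A22) ∉ H' := by
    rw [hH', Subgroup.mem_subgroupOf]
    exact mul_sw_not_mem_M22 ht
  have hne1 : H'.index ≠ 1 := by
    intro h
    rw [Subgroup.index_eq_one] at h
    rw [h] at hc
    exact hc (Subgroup.mem_top _)
  have hne0 : H'.index ≠ 0 := Subgroup.index_ne_zero_of_finite
  have h2i : H'.index = 2 := by
    have : H'.index ≤ 2 := by
      by_contra hcon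
      push Not at hcon
      have : 443520 * 3 ≤ 443520 * H'.index := Nat.mul_le_mul_left _ hcon
      omega
    omega
  by_cases hτM : τ ∈ Spor.M22
  · exact Or.inl hτM
  · right
    have hτ' : (⟨τ, hτ⟩ : ↥A22) ∉ H' := by
      rw [hH', Subgroup.mem_subgroupOf]; exact hτM
    have hcinv : (⟨t * sw, mul_sw_mem_A22 ht h1 h2⟩ : ↥A22)⁻¹ ∉ H' := by
      rw [inv_mem_iff]; exact hc
    have := (Subgroup.mul_mem_iff_of_index_two h2i (a := (⟨τ, hτ⟩ : ↥A22))
      (b := (⟨t * sw, mul_sw_mem_A22 ht h1 h2⟩ : ↥A22)⁻¹)).mpr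
      ⟨fun h => absurd h hτ', fun h => absurd h hcinv⟩
    rw [hH', Subgroup.mem_subgroupOf] at this
    refine ⟨_, this, ?_⟩
    show τ = τ * (t * sw)⁻¹ * (t * sw)
    group

/-! ### Conjugation by an element interchanging the two points -/

theorem conj_mem_M22 {n : Equiv.Perm GolayPt} (hn : n ∈ M24) (h1 : n none = some 0)
    (h2 : n (some 0) = none) {x : Equiv.Perm GolayPt} (hx : x ∈ Spor.M22) :
    n * x * n⁻¹ ∈ Spor.M22 := by
  obtain ⟨hxM, hx0, hx1⟩ := (mem_M22_iff x).mp hx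
  have hi0 : n⁻¹ none = some 0 := by rw [Equiv.Perm.inv_eq_iff_eq]; exact h2.symm
  have hi1 : n⁻¹ (some 0) = none := by rw [Equiv.Perm.inv_eq_iff_eq]; exact h1.symm
  refine (mem_M22_iff _).mpr ⟨M24.mul_mem (M24.mul_mem hn hxM) (M24.inv_mem hn), ?_, ?_⟩
  · rw [Equiv.Perm.mul_apply, Equiv.Perm.mul_apply, hi0, hx1, h2]
  · rw [Equiv.Perm.mul_apply, Equiv.Perm.mul_apply, hi1, hx0, h1]

theorem conj_inv_mem_M22 {n : Equiv.Perm GolayPt} (hn : n ∈ M24) (h1 : n none = some 0)
    (h2 : n (some 0) = none) {x : Equiv.Perm GolayPt} (hx : x ∈ Spor.M22) :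
    n⁻¹ * x * n ∈ Spor.M22 := by
  have hi0 : n⁻¹ none = some 0 := by rw [Equiv.Perm.inv_eq_iff_eq]; exact h2.symm
  have hi1 : n⁻¹ (some 0) = none := by rw [Equiv.Perm.inv_eq_iff_eq]; exact h1.symm
  have := conj_mem_M22 (M24.inv_mem hn) hi0 hi1 hx
  rwa [inv_inv] at this

/-- Conjugation by an element of `M24` interchanging the two points, as an automorphism of
`M22`. -/
def conjAut (n : Equiv.Perm GolayPt) (hn : n ∈ M24) (h1 : n none = some 0)
    (h2 : n (some 0) = none) : MulAut ↥Spor.M22 where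
  toFun x := ⟨n * x * n⁻¹, conj_mem_M22 hn h1 h2 x.2⟩
  invFun x := ⟨n⁻¹ * x * n, conj_inv_mem_M22 hn h1 h2 x.2⟩
  left_inv x := by
    apply Subtype.ext
    show n⁻¹ * (n * (x : Equiv.Perm GolayPt) * n⁻¹) * n = x
    group
  right_inv x := by
    apply Subtype.ext
    show n * (n⁻¹ * (x : Equiv.Perm GolayPt) * n) * n⁻¹ = x
    group
  map_mul' x y := by
    apply Subtype.ext
    show n * ((x : Equiv.Perm GolayPt) * y) * n⁻¹ = (n * x * n⁻¹) * (n * y * n⁻¹)
    group

theorem conjAut_apply (n : Equiv.Perm GolayPt) (hn : n ∈ M24) (h1 : n none = some 0)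
    (h2 : n (some 0) = none) (x : ↥Spor.M22) :
    ((conjAut n hn h1 h2 x : ↥Spor.M22) : Equiv.Perm GolayPt) = n * x * n⁻¹ := rfl

/-- Every automorphism of `M22` is inner, or inner times the conjugation by `t`. -/
theorem aut_cases {t : Equiv.Perm GolayPt} (ht : t ∈ M24) (h1 : t none = some 0)
    (h2 : t (some 0) = none) (α : MulAut ↥Spor.M22) :
    (∃ m : ↥Spor.M22, α = MulAut.conj m) ∨
      ∃ m : ↥Spor.M22, α = MulAut.conj m * conjAut t ht h1 h2 := by
  classical
  obtain ⟨σ, hσ⟩ := exists_perm_of_aut stab_inj index_fix α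
  set σ' : Equiv.Perm GolayPt := Equiv.Perm.ofSubtype σ with hσ'
  have hσn : σ' none = none :=
    Equiv.Perm.ofSubtype_apply_of_not_mem σ (fun h : (none : GolayPt) ∈ pts => h.1 rfl)
  have hσ0 : σ' (some 0) = some 0 :=
    Equiv.Perm.ofSubtype_apply_of_not_mem σ (fun h : (some 0 : GolayPt) ∈ pts => h.2 rfl)
  have hσv : ∀ q : ↥pts, σ' (q : GolayPt) = (σ q : GolayPt) := fun q =>
    Equiv.Perm.ofSubtype_apply_coe σ q
  have hσA : σ' ∈ A22 := by
    apply mem_A22_of_maps hσn hσ0
    intro o ho hno h0o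
    obtain ⟨z, hz, hz2, hzo⟩ := exists_invol_fixPts_eq ho
    have hzn : z none = none := by
      rw [← hzo] at hno; exact mem_fixPts.mp hno
    have hz0 : z (some 0) = some 0 := by
      rw [← hzo] at h0o; exact mem_fixPts.mp h0o
    have hz22 : z ∈ Spor.M22 := (mem_M22_iff z).mpr ⟨hz, hzn, hz0⟩
    have hα2 : orderOf ((α ⟨z, hz22⟩ : ↥Spor.M22) : Equiv.Perm GolayPt) = 2 := by
      rw [Subgroup.orderOf_coe, MulEquiv.orderOf_eq, ← Subgroup.orderOf_coe]
      exact hz2
    have hαz := (mem_M22_iff _).mp (α ⟨z, hz22⟩).2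
    apply smul_mem_octads_of_fixes hαz.1 hα2 ho
    intro q hq
    rw [← hzo, mem_fixPts] at hq
    by_cases hqn : q = none
    · rw [hqn, hσn]; exact hαz.2.1
    by_cases hq0 : q = some 0
    · rw [hq0, hσ0]; exact hαz.2.2
    · have e1 := hσ ⟨z, hz22⟩ ⟨q, hqn, hq0⟩
      have e2 : (⟨z, hz22⟩ : ↥Spor.M22) • (⟨q, hqn, hq0⟩ : ↥pts) = ⟨q, hqn, hq0⟩ :=
        Subtype.ext hq
      rw [e2] at e1
      have e3 := congrArg Subtype.val e1
      rw [smul_val] at e3
      have e4 := hσv ⟨q, hqn, hq0⟩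
      simp only at e4
      rw [e4]
      exact e3
  rcases mem_A22_cases ht h1 h2 hσA with hM | ⟨m, hm, hσm⟩
  · left
    refine ⟨⟨σ', hM⟩, eq_conj_of_perm α σ hσ ⟨σ', hM⟩ (fun x => Subtype.ext ?_)⟩
    rw [smul_val]
    exact hσv x
  · right
    refine ⟨⟨m, hm⟩, ?_⟩
    obtain ⟨hmM, hm0, hm1⟩ := (mem_M22_iff m).mp hm
    apply MulEquiv.ext
    intro g
    apply Subtype.ext
    apply Equiv.ext
    intro y
    show ((α g : ↥Spor.M22) : Equiv.Perm GolayPt) y =
      (m * (t * (g : Equiv.Perm GolayPt) * t⁻¹) * m⁻¹) y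
    obtain ⟨hgM, hg0, hg1⟩ := (mem_M22_iff _).mp g.2
    obtain ⟨hαM, hα0, hα1⟩ := (mem_M22_iff _).mp (α g).2
    obtain ⟨x', hx'⟩ : ∃ x', x' = t⁻¹ (m⁻¹ y) := ⟨_, rfl⟩
    have hy : y = m (t x') := by rw [hx']; simp
    have hrhs : (m * (t * (g : Equiv.Perm GolayPt) * t⁻¹) * m⁻¹) y =
        m (t ((g : Equiv.Perm GolayPt) x')) := by
      rw [hx']; simp [Equiv.Perm.mul_apply]
    rw [hrhs]
    by_cases hxn : x' = none
    · rw [hy, hxn, h1, hm1, hα1, hg0, h1, hm1]
    by_cases hx0 : x' = some 0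
    · rw [hy, hx0, h2, hm0, hα0, hg1, h2, hm0]
    · have e1 := hσ g ⟨x', hxn, hx0⟩
      have e3 := congrArg Subtype.val e1
      rw [smul_val] at e3
      have e4 := hσv ⟨x', hxn, hx0⟩
      have e5 := hσv (g • (⟨x', hxn, hx0⟩ : ↥pts))
      rw [← e4, ← e5] at e3
      have hgx := (g • (⟨x', hxn, hx0⟩ : ↥pts)).2
      rw [mem_pts, smul_val] at hgx
      simp only at e3
      rw [smul_val] at e3
      simp only at e3
      rw [hσm, Equiv.Perm.mul_apply, Equiv.Perm.mul_apply, Equiv.Perm.mul_apply,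
        Equiv.Perm.mul_apply, sw_apply_of_ne hxn hx0, sw_apply_of_ne hgx.1 hgx.2] at e3
      rw [hy]
      exact e3

end Cfsg.Agent.Lib.Helper93.M22Aut
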