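/-
helper93: the Steiner system `S(3,6,22)` of the octads through `none` and `some 0`, restricted to the
other 22 points; its automorphism group is isomorphic to `A22` (order `887040`), is 3-transitive and
contains a copy of `M22` with index 2.
-/
import Cfsg.Agent.Lib.Helper93.AutRestrict
import Cfsg.Agent.Lib.Helper93.AutC23
import Cfsg.Agent.Lib.Helper93.M22Aut
import Cfsg.Prelude.Def_Sporadic

set_option autoImplicit false
set_option linter.unusedSectionVars false

namespace Cfsg.Agent.Lib.Helper93.AutC22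
open Cfsg Cfsg.Agent.Lib.Helper7 Cfsg.Agent.Lib.Helper93.AutTransport
  Cfsg.Agent.Lib.Helper93.AutRestrict Cfsg.Agent.Lib.Helper93.M22Hexads
  Cfsg.Agent.Lib.Helper93.M22Aut Cfsg.Agent.Lib.Helper93.AutC23
open scoped Pointwise

universe u

section General
variable {α : Type u} [DecidableEq α] (P : α → Prop) [DecidablePred P]

/-- The derived design of a Steiner system at a finite set of points. -/
theorem resFam_steiner {t k : ℕ} {D : Set (Finset α)} (hD : IsSteinerSystem t k D)
    (F : Finset α) (hF : ∀ a, ¬ P a ↔ a ∈ F) (hft : F.card ≤ t) :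
    IsSteinerSystem (t - F.card) (k - F.card) (resFam P {b | b ∈ D ∧ F ⊆ b}) := by
  have hP : ∀ a, P a ↔ a ∉ F := fun a => by rw [← hF a, not_not]
  constructor
  · rintro _ ⟨b, ⟨hb, hFb⟩, rfl⟩
    rw [Finset.card_subtype]
    have : b.filter P = b \ F := by
      ext a
      rw [Finset.mem_filter, Finset.mem_sdiff, hP]
    rw [this, Finset.card_sdiff_of_subset hFb, hD.1 b hb]
  · intro s hs
    set s' : Finset α := s.map (Function.Embedding.subtype P) ∪ F with hs'
    have hdisj : Disjoint (s.map (Function.Embedding.subtype P)) F := by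
      rw [Finset.disjoint_left]
      intro a ha haF
      rw [Finset.mem_map] at ha
      obtain ⟨x, _, rfl⟩ := ha
      exact (hP _).mp x.2 haF
    have hcard : s'.card = t := by
      rw [hs', Finset.card_union_of_disjoint hdisj, Finset.card_map, hs]
      omega
    obtain ⟨b, ⟨hb, hsb⟩, huniq⟩ := hD.2 s' hcard
    have hFb : F ⊆ b := fun a ha => hsb (Finset.mem_union_right _ ha)
    refine ⟨Finset.subtype P b, ⟨⟨b, ⟨hb, hFb⟩, rfl⟩, ?_⟩, ?_⟩
    · intro x hx
      rw [Finset.mem_subtype]
      apply hsb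
      apply Finset.mem_union_left
      rw [Finset.mem_map]
      exact ⟨x, hx, rfl⟩
    · rintro _ ⟨⟨c, ⟨hc, hFc⟩, rfl⟩, hsc⟩
      have : c = b := by
        apply huniq c ⟨hc, ?_⟩
        intro a ha
        rw [hs', Finset.mem_union, Finset.mem_map] at ha
        rcases ha with ⟨x, hx, rfl⟩ | ha
        · exact Finset.mem_subtype.mp (hsc hx)
        · exact hFc ha
      rw [this]

/-- transfer of a subgroup along a group isomorphism -/
theorem exists_subgroup_of_equiv {G G' : Type*} [Group G] [Group G'] (φ : G ≃* G')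
    (H' : Subgroup G') : ∃ H : Subgroup G, H.index = H'.index ∧ Nonempty (H ≃* H') := by
  refine ⟨H'.map (φ.symm : G' →* G), Subgroup.index_map_equiv H' φ.symm, ?_⟩
  exact ⟨(φ.symm.subgroupMap H').symm⟩

end General

/-- the 22 points -/
abbrev P2 : GolayPt → Prop := fun a => a ≠ none ∧ a ≠ some 0

/-- the hexads on the 22 points -/
abbrev Hex22 : Set (Finset (Subtype P2)) := resFam P2 H2

theorem card_T : Fintype.card (Subtype P2) = 22 := by decide

theorem not_P2_iff (a : GolayPt) : ¬ P2 a ↔ a ∈ ({none, some 0} : Finset GolayPt) := by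
  rw [Finset.mem_insert, Finset.mem_singleton]
  unfold P2
  tauto

theorem H2_eq : H2 = {b | b ∈ octads ∧ ({none, some 0} : Finset GolayPt) ⊆ b} := by
  ext b
  constructor
  · rintro ⟨hb, h1, h2⟩
    refine ⟨hb, ?_⟩
    intro a ha
    rw [Finset.mem_insert, Finset.mem_singleton] at ha
    rcases ha with rfl | rfl
    · exact h1
    · exact h2
  · rintro ⟨hb, h⟩
    exact ⟨hb, h (by simp), h (by simp)⟩

theorem Hex22_steiner : IsSteinerSystem 3 6 Hex22 := by
  have h := resFam_steiner P2 octads_steiner ({none, some 0} : Finset GolayPt) not_P2_iff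
    (by decide)
  rw [← H2_eq] at h
  exact h

theorem H2_contains : ∀ b ∈ H2, ∀ a : GolayPt, ¬ P2 a → a ∈ b := by
  intro b hb a ha
  rw [not_P2_iff, Finset.mem_insert, Finset.mem_singleton] at ha
  rcases ha with rfl | rfl
  · exact hb.2.1
  · exact hb.2.2

theorem A22_char (g : Equiv.Perm GolayPt) :
    g ∈ A22 ↔ g ∈ setSystemAut H2 ∧ ∀ a : GolayPt, ¬ P2 a → g a = a := by
  rw [mem_A22_iff, MulAction.mem_stabilizer_iff]
  constructor
  · rintro ⟨h, h1, h2⟩
    refine ⟨h, fun a ha => ?_⟩
    rw [not_P2_iff, Finset.mem_insert, Finset.mem_singleton] at ha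
    rcases ha with rfl | rfl
    · exact h1
    · exact h2
  · rintro ⟨h, hfix⟩
    refine ⟨h, hfix none ?_, hfix (some 0) ?_⟩
    · rw [not_P2_iff]; simp
    · rw [not_P2_iff]; simp

/-- `Aut Hex22 ≃* A22`. -/
noncomputable def autHex22Equiv : setSystemAut Hex22 ≃* A22 :=
  autEquiv (P := P2) H2_contains A22 A22_char

/-- `M22` has index 2 in `A22`. -/
theorem index_M22_A22 : (Spor.M22.subgroupOf A22).index = 2 := by
  obtain ⟨t, ht, h1, h2⟩ := exists_M24_swap
  set H' : Subgroup ↥A22 := Spor.M22.subgroupOf A22 with hH'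
  have hcardH' : Nat.card H' = 443520 := by
    rw [hH', Nat.card_congr (Subgroup.subgroupOfEquivOfLe M22_le_A22).toEquiv, card_M22]
  have hmul := Subgroup.card_mul_index H'
  rw [hcardH'] at hmul
  have hle := card_A22_le
  have hc : (⟨t * sw, mul_sw_mem_A22 ht h1 h2⟩ : ↥A22) ∉ H' := by
    rw [hH', Subgroup.mem_subgroupOf]
    exact mul_sw_not_mem_M22 ht
  have hne1 : H'.index ≠ 1 := by
    intro h
    rw [Subgroup.index_eq_one] at h
    rw [h] at hc
    exact hc (Subgroup.mem_top _)
  have hne0 : H'.index ≠ 0 := Subgroup.index_ne_zero_of_finite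
  have : H'.index ≤ 2 := by
    by_contra hcon
    push Not at hcon
    have : 443520 * 3 ≤ 443520 * H'.index := Nat.mul_le_mul_left _ hcon
    omega
  omega

theorem card_A22 : Nat.card ↥A22 = 887040 := by
  have hmul := Subgroup.card_mul_index (Spor.M22.subgroupOf A22)
  rw [index_M22_A22, Nat.card_congr (Subgroup.subgroupOfEquivOfLe M22_le_A22).toEquiv,
    card_M22] at hmul
  omega

theorem isSimpleGroup_M22 : IsSimpleGroup ↥Spor.M22 := isSimpleGroup_Gst2

theorem card_autHex22 : Nat.card (setSystemAut Hex22) = 887040 := by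
  rw [Nat.card_congr autHex22Equiv.toEquiv, card_A22]

theorem consEmb_ne {n : ℕ} (a c : GolayPt) (hac : a ≠ c) (x : Fin n ↪ GolayPt)
    (h : ∀ i, x i ≠ a) (h' : ∀ i, x i ≠ c) : ∀ i, consEmb a x h i ≠ c := by
  intro i
  refine Fin.cases ?_ (fun j => ?_) i
  · exact hac
  · rw [consEmb_succ]; exact h' j

theorem isMultiplyPretransitive_autHex22 :
    MulAction.IsMultiplyPretransitive (setSystemAut Hex22) (Subtype P2) 3 := by
  apply isMultiplyPretransitive_of (P := P2) (𝓑 := H2) A22 A22_char 3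
  intro x y
  let x' : Fin 3 ↪ GolayPt := x.trans (Function.Embedding.subtype _)
  let y' : Fin 3 ↪ GolayPt := y.trans (Function.Embedding.subtype _)
  have hx0 : ∀ i, x' i ≠ some 0 := fun i => (x i).2.2
  have hxn : ∀ i, x' i ≠ none := fun i => (x i).2.1
  have hy0 : ∀ i, y' i ≠ some 0 := fun i => (y i).2.2
  have hyn : ∀ i, y' i ≠ none := fun i => (y i).2.1
  have h0n : (some 0 : GolayPt) ≠ none := by decide
  obtain ⟨g, hg, hmap⟩ := exists_M24_map_emb (k := 5) (le_refl 5)
    (consEmb none (consEmb (some 0) x' hx0) (consEmb_ne _ _ h0n x' hx0 hxn))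
    (consEmb none (consEmb (some 0) y' hy0) (consEmb_ne _ _ h0n y' hy0 hyn))
  have hgn : g none = none := hmap 0
  have hg0 : g (some 0) = some 0 := by
    have h1 := hmap (Fin.succ 0)
    have h2 : consEmb none (consEmb (some 0) x' hx0) (consEmb_ne _ _ h0n x' hx0 hxn)
        (Fin.succ 0) = some 0 := by rw [consEmb_succ]; rfl
    have h3 : consEmb none (consEmb (some 0) y' hy0) (consEmb_ne _ _ h0n y' hy0 hyn)
        (Fin.succ 0) = some 0 := by rw [consEmb_succ]; rfl
    rw [h2, h3] at h1
    exact h1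
  refine ⟨g, M22_le_A22 ((mem_M22_iff g).mpr ⟨hg, hgn, hg0⟩), fun i => ?_⟩
  have h1 := hmap i.succ.succ
  have h2 : consEmb none (consEmb (some 0) x' hx0) (consEmb_ne _ _ h0n x' hx0 hxn)
      i.succ.succ = x' i := by rw [consEmb_succ, consEmb_succ]
  have h3 : consEmb none (consEmb (some 0) y' hy0) (consEmb_ne _ _ h0n y' hy0 hyn)
      i.succ.succ = y' i := by rw [consEmb_succ, consEmb_succ]
  rw [h2, h3] at h1
  exact h1

/-- The subgroup of index 2 of `Aut Hex22` isomorphic to `M22`. -/
theorem exists_index_two_autHex22 :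
    ∃ H : Subgroup (setSystemAut Hex22), H.index = 2 ∧ IsM22 H := by
  obtain ⟨H, hidx, ⟨φ⟩⟩ := exists_subgroup_of_equiv autHex22Equiv (Spor.M22.subgroupOf A22)
  refine ⟨H, by rw [hidx, index_M22_A22], ?_, ?_⟩
  · haveI := isSimpleGroup_M22
    exact (φ.trans (Subgroup.subgroupOfEquivOfLe M22_le_A22)).isSimpleGroup
  · rw [Nat.card_congr (φ.trans (Subgroup.subgroupOfEquivOfLe M22_le_A22)).toEquiv, card_M22]

end Cfsg.Agent.Lib.Helper93.AutC22
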