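import Mathlib

/-!
# Orbits of a subgroup from lists of reachable codes (counting argument)

A subgroup `H` of a group `P` acts on `β`; `sB : Set β` is a finite `H`-invariant set and
`κ₀ : β → ℕ` an `H`-invariant function.  Given finitely many lists of codes (decoded by `dec`), all
of whose members are reachable under `H` from the head of their list, with pairwise different
invariants at the heads, with injective decoding, without repetitions, and of total length the
cardinality of `sB`, the lists enumerate `sB`, `H` is transitive on the level sets of `κ₀` in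
`sB`, and the level sets have the lengths of the lists as cardinalities.
-/

set_option autoImplicit false

namespace Cfsg.Agent.Lib.Helper93

section
variable {P : Type*} {β : Type*} [Group P] [MulAction P β]

/-- Hypotheses of the counting argument. -/
structure BaseCert (H : Subgroup P) (sB : Set β) (dec : ℕ → β) (κ₀ : β → ℕ)
    (cls : List (List ℕ)) : Prop where
  fin : sB.Finite
  κ_inv : ∀ g ∈ H, ∀ b, κ₀ (g • b) = κ₀ b
  smul_mem : ∀ g ∈ H, ∀ b ∈ sB, g • b ∈ sB
  root_mem : ∀ L ∈ cls, dec (L.headD 0) ∈ sB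
  reach : ∀ L ∈ cls, ∀ m ∈ L, ∃ g ∈ H, g • dec (L.headD 0) = dec m
  κ_nodup : (cls.map fun L => κ₀ (dec (L.headD 0))).Nodup
  inj : ∀ m ∈ cls.flatten, ∀ m' ∈ cls.flatten, dec m = dec m' → m = m'
  nodup : cls.flatten.Nodup
  len : cls.flatten.length = sB.ncard

namespace BaseCert

variable {H : Subgroup P} {sB : Set β} {dec : ℕ → β} {κ₀ : β → ℕ} {cls : List (List ℕ)}

theorem dec_mem (C : BaseCert H sB dec κ₀ cls) {L : List ℕ} (hL : L ∈ cls) {m : ℕ} (hm : m ∈ L) :
    dec m ∈ sB := by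
  obtain ⟨g, hg, hgm⟩ := C.reach L hL m hm
  rw [← hgm]
  exact C.smul_mem g hg _ (C.root_mem L hL)

theorem κ_eq (C : BaseCert H sB dec κ₀ cls) {L : List ℕ} (hL : L ∈ cls) {m : ℕ} (hm : m ∈ L) :
    κ₀ (dec m) = κ₀ (dec (L.headD 0)) := by
  obtain ⟨g, hg, hgm⟩ := C.reach L hL m hm
  rw [← hgm, C.κ_inv g hg]

/-- The lists enumerate `sB`. -/
theorem cover (C : BaseCert H sB dec κ₀ cls) : ∀ b ∈ sB, ∃ L ∈ cls, ∃ m ∈ L, dec m = b := by
  classical
  have hsub : (cls.flatten.map dec).toFinset ⊆ C.fin.toFinset := by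
    intro b hb
    rw [List.mem_toFinset, List.mem_map] at hb
    obtain ⟨m, hm, rfl⟩ := hb
    rw [List.mem_flatten] at hm
    obtain ⟨L, hL, hmL⟩ := hm
    rw [Set.Finite.mem_toFinset]
    exact C.dec_mem hL hmL
  have hnd : (cls.flatten.map dec).Nodup := List.Nodup.map_on (fun a ha b hb h => C.inj a ha b hb h) C.nodup
  have hcard : C.fin.toFinset.card ≤ (cls.flatten.map dec).toFinset.card := by
    rw [List.toFinset_card_of_nodup hnd, List.length_map, C.len, Set.ncard_eq_toFinset_card _ C.fin]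
  have heq := Finset.eq_of_subset_of_card_le hsub hcard
  intro b hb
  have : b ∈ (cls.flatten.map dec).toFinset := by
    rw [heq, Set.Finite.mem_toFinset]
    exact hb
  rw [List.mem_toFinset, List.mem_map] at this
  obtain ⟨m, hm, rfl⟩ := this
  rw [List.mem_flatten] at hm
  obtain ⟨L, hL, hmL⟩ := hm
  exact ⟨L, hL, m, hmL, rfl⟩

theorem list_eq_of_κ (C : BaseCert H sB dec κ₀ cls) {L L' : List ℕ} (hL : L ∈ cls) (hL' : L' ∈ cls)
    (h : κ₀ (dec (L.headD 0)) = κ₀ (dec (L'.headD 0))) : L = L' :=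
  List.inj_on_of_nodup_map C.κ_nodup hL hL' h

/-- `H` is transitive on the level sets of the invariant. -/
theorem trans (C : BaseCert H sB dec κ₀ cls) {b b' : β} (hb : b ∈ sB) (hb' : b' ∈ sB)
    (h : κ₀ b = κ₀ b') : ∃ g ∈ H, g • b = b' := by
  obtain ⟨L, hL, m, hm, rfl⟩ := C.cover b hb
  obtain ⟨L', hL', m', hm', rfl⟩ := C.cover b' hb'
  rw [C.κ_eq hL hm, C.κ_eq hL' hm'] at h
  have hLL := C.list_eq_of_κ hL hL' h
  subst hLL
  obtain ⟨g, hg, hgm⟩ := C.reach L hL m hm
  obtain ⟨g', hg', hgm'⟩ := C.reach L hL m' hm'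
  refine ⟨g' * g⁻¹, H.mul_mem hg' (H.inv_mem hg), ?_⟩
  rw [mul_smul, ← hgm, inv_smul_smul, hgm']

/-- The invariant takes only the values at the heads. -/
theorem κ_cases (C : BaseCert H sB dec κ₀ cls) {b : β} (hb : b ∈ sB) :
    ∃ L ∈ cls, κ₀ b = κ₀ (dec (L.headD 0)) := by
  obtain ⟨L, hL, m, hm, rfl⟩ := C.cover b hb
  exact ⟨L, hL, C.κ_eq hL hm⟩

/-- The sizes of the level sets. -/
theorem ncard_level (C : BaseCert H sB dec κ₀ cls) {L : List ℕ} (hL : L ∈ cls) :
    {b | b ∈ sB ∧ κ₀ b = κ₀ (dec (L.headD 0))}.ncard = L.length := by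
  classical
  have hset : {b | b ∈ sB ∧ κ₀ b = κ₀ (dec (L.headD 0))} = ↑((L.map dec).toFinset) := by
    ext b
    rw [Finset.mem_coe, List.mem_toFinset, List.mem_map]
    constructor
    · rintro ⟨hb, hκ⟩
      obtain ⟨L', hL', m, hm, rfl⟩ := C.cover b hb
      rw [C.κ_eq hL' hm] at hκ
      have := C.list_eq_of_κ hL' hL hκ
      subst this
      exact ⟨m, hm, rfl⟩
    · rintro ⟨m, hm, rfl⟩
      exact ⟨C.dec_mem hL hm, C.κ_eq hL hm⟩
  have hLnd : L.Nodup := (List.nodup_flatten.mp C.nodup).1 L hL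
  have hnd : (L.map dec).Nodup := by
    apply List.Nodup.map_on _ hLnd
    intro a ha b hb h
    exact C.inj a (List.mem_flatten.mpr ⟨L, hL, ha⟩) b (List.mem_flatten.mpr ⟨L, hL, hb⟩) h
  rw [hset, Set.ncard_coe_finset, List.toFinset_card_of_nodup hnd, List.length_map]

end BaseCert

end

end Cfsg.Agent.Lib.Helper93
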