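/-
helper93, project BHRSU5 (helper37's sheet), module BHRSU5-[B4] (exact form):
`N(K0) ∩ SU < stabX ∩ SU < SU`.  One term on helper66's `between_K0_of`, helper61's [B3], helper36's [U-CRIT] and [C-X66].
-/
import Mathlib
import Cfsg.Prelude.Def_GeometricClasses
import Cfsg.Prelude.Def_ClassicalGeometry
import Cfsg.Agent.Lib.Helper56.F4
import Cfsg.Agent.Lib.Helper37.BHRSU.Defs
import Cfsg.Agent.Lib.Helper37.BHRSU5.Defs
import Cfsg.Agent.Lib.Helper66.Bhrsu5B4Of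
import Cfsg.Agent.Lib.Helper61.Bhrsu5B3
import Cfsg.Agent.Lib.Helper36.Bhrsu5UCrit
import Cfsg.Agent.Lib.Helper93.Bhrsu5CX66

set_option autoImplicit false

namespace Cfsg.Agent.Lib.Helper37.BHRSU5

open Cfsg Cfsg.Geo Cfsg.Agent.Lib.Helper37.BHRSU Cfsg.Agent.Lib.Helper70.AschU
open Cfsg.Agent.Lib.Helper56.F4 (w v)
open scoped MatrixGroups Matrix

/-- BHRSU5-[B4]: `N(K0) ∩ SU < stabX ∩ SU < SU`. -/
theorem between_K0 (hK0 : IsFieldSubalgebra 5 K0) :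
    subalgebraNormalizer K0 ⊓ SUg 5 F4c 2 < stabX ⊓ SUg 5 F4c 2 ∧ stabX ⊓ SUg 5 F4c 2 < SUg 5 F4c 2 :=
  Cfsg.Agent.Lib.Helper66.Bhrsu5B4.between_K0_of hK0 (normalizer_K0_le hK0) ZG_mem_stabX PG_mem_stabX SG_mem_stabX
    TG_not_mem_stabX mem_SUg_iff

end Cfsg.Agent.Lib.Helper37.BHRSU5
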