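import Mathlib
import Cfsg.Prelude.Def_Solvable
import Cfsg.Prelude.Def_Transfer
import Cfsg.Agent.Lib.Helper97.Cores
import Cfsg.Agent.Lib.Helper90.ES22

/-!
# The "singular elements" setting around a large extraspecial 2-subgroup (helper93)

`Q x = O_2(C_G(x))` (as a subgroup of `G`), `z` an involution, `Q z` extraspecial with
`C_G(Q z) ≤ Q z`.  Conjugation transport for `Q`, and the `ESData` package of helper90.
-/

set_option autoImplicit false

namespace Cfsg.Agent.Lib.Helper93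

open Cfsg

variable {G : Type*} [Group G]

/-- `O_2(C_G(x))` as a subgroup of `G`. -/
def QQ (x : G) : Subgroup G :=
  (Cfsg.pCore 2 ↥(Subgroup.centralizer ({x} : Set G))).map (Subgroup.centralizer ({x} : Set G)).subtype

/-- Conjugation by `g` as an isomorphism `C_G(x) ≃* C_G(g x g⁻¹)`. -/
def centConj (g x : G) :
    ↥(Subgroup.centralizer ({x} : Set G)) ≃* ↥(Subgroup.centralizer ({g * x * g⁻¹} : Set G)) where
  toFun c := ⟨g * c * g⁻¹, by
    rw [Subgroup.mem_centralizer_singleton_iff]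
    have hc : (c : G) * x = x * c := Subgroup.mem_centralizer_singleton_iff.mp c.2
    calc g * ↑c * g⁻¹ * (g * x * g⁻¹) = g * (↑c * x) * g⁻¹ := by group
      _ = g * (x * ↑c) * g⁻¹ := by rw [hc]
      _ = g * x * g⁻¹ * (g * ↑c * g⁻¹) := by group⟩
  invFun c := ⟨g⁻¹ * c * g, by
    rw [Subgroup.mem_centralizer_singleton_iff]
    have hc : (c : G) * (g * x * g⁻¹) = (g * x * g⁻¹) * c :=
      Subgroup.mem_centralizer_singleton_iff.mp c.2
    calc g⁻¹ * ↑c * g * x = g⁻¹ * (↑c * (g * x * g⁻¹)) * g := by group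
      _ = g⁻¹ * ((g * x * g⁻¹) * ↑c) * g := by rw [hc]
      _ = x * (g⁻¹ * ↑c * g) := by group⟩
  left_inv c := by
    apply Subtype.ext
    show g⁻¹ * (g * (c : G) * g⁻¹) * g = c
    group
  right_inv c := by
    apply Subtype.ext
    show g * (g⁻¹ * (c : G) * g) * g⁻¹ = c
    group
  map_mul' a b := by
    apply Subtype.ext
    show g * ((a : G) * b) * g⁻¹ = (g * a * g⁻¹) * (g * b * g⁻¹)
    group

theorem centConj_coe (g x : G) (c : ↥(Subgroup.centralizer ({x} : Set G))) :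
    ((centConj g x c : ↥(Subgroup.centralizer ({g * x * g⁻¹} : Set G))) : G) = g * c * g⁻¹ := rfl

/-- Conjugation transport: `O_2(C(g x g⁻¹)) = g O_2(C(x)) g⁻¹`. -/
theorem QQ_conj (g x : G) : QQ (g * x * g⁻¹) = (QQ x).map (MulAut.conj g).toMonoidHom := by
  unfold QQ
  rw [← Cfsg.Agent.Lib.Helper97.pCore_map_equiv (centConj g x) 2, Subgroup.map_map, Subgroup.map_map]
  congr 1

theorem QQ_le_centralizer (x : G) : QQ x ≤ Subgroup.centralizer ({x} : Set G) :=
  Subgroup.map_subtype_le _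

theorem QQ_commute {x q : G} (hq : q ∈ QQ x) : q * x = x * q :=
  Subgroup.mem_centralizer_singleton_iff.mp (QQ_le_centralizer x hq)

theorem QQ_isPGroup (x : G) : IsPGroup 2 (QQ x) :=
  (Cfsg.Agent.Lib.Helper97.isPGroup_pCore 2 _).map _

/-- `C_G(x)` normalizes `O_2(C_G(x))`. -/
theorem conj_mem_QQ {x c q : G} (hc : c * x = x * c) (hq : q ∈ QQ x) : c * q * c⁻¹ ∈ QQ x := by
  obtain ⟨q', hq', rfl⟩ := hq
  have hcC : c ∈ Subgroup.centralizer ({x} : Set G) := Subgroup.mem_centralizer_singleton_iff.mpr hc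
  refine ⟨⟨c, hcC⟩ * q' * ⟨c, hcC⟩⁻¹, ?_, rfl⟩
  exact (Cfsg.Agent.Lib.Helper97.pCore_normal (G := ↥(Subgroup.centralizer ({x} : Set G))) 2).conj_mem
    q' hq' ⟨c, hcC⟩

theorem mem_normalizer_QQ {x c : G} (hc : c * x = x * c) :
    c ∈ Subgroup.normalizer ((QQ x : Subgroup G) : Set G) := by
  rw [Subgroup.mem_normalizer_iff]
  intro q
  constructor
  · exact conj_mem_QQ hc
  · intro h
    have hc' : c⁻¹ * x = x * c⁻¹ := by
      calc c⁻¹ * x = c⁻¹ * (x * c) * c⁻¹ := by group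
        _ = c⁻¹ * (c * x) * c⁻¹ := by rw [hc]
        _ = x * c⁻¹ := by group
    have := conj_mem_QQ hc' h
    have e : c⁻¹ * (c * q * c⁻¹) * c⁻¹⁻¹ = q := by group
    rwa [e] at this

/-- The `ESData` package of helper90 for a large extraspecial `O_2(C_G(z))`. -/
theorem esData_QQ {z : G} (hz : orderOf z = 2) (hE : Cfsg.IsExtraspecial 2 ↥(QQ z))
    (hC : Subgroup.centralizer ((QQ z : Subgroup G) : Set G) ≤ QQ z) :
    Cfsg.Agent.Lib.Helper90.ESData (QQ z) z := by
  have hzz : z * z = 1 := by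
    have := pow_orderOf_eq_one z
    rwa [hz, pow_two] at this
  have hz1 : z ≠ 1 := by
    intro h
    rw [h, orderOf_one] at hz
    omega
  have hzQ : z ∈ QQ z := by
    apply hC
    rw [Subgroup.mem_centralizer_iff]
    intro q hq
    exact QQ_commute hq
  obtain ⟨w, hwZ, hw1, hww, hall⟩ := Cfsg.Agent.Lib.Helper90.exists_center_gen (QQ z) hE
  have hzZ : z ∈ (Subgroup.center ↥(QQ z)).map (QQ z).subtype := by
    rw [Cfsg.Agent.Lib.Helper90.mem_center_map_iff]
    exact ⟨hzQ, fun q hq => QQ_commute hq⟩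
  have hwz : w = z := by
    rcases hall z hzZ with h | h
    · exact absurd h hz1
    · exact h.symm
  subst hwz
  refine ⟨QQ_isPGroup w, hzQ, hz1, hzz, fun q hq => QQ_commute hq, ?_, ?_, ?_⟩
  · intro a ha b hb
    exact hall _ (Cfsg.Agent.Lib.Helper90.comm_mem_center_map (QQ w) hE ha hb)
  · intro x hx
    apply hall
    rw [Cfsg.Agent.Lib.Helper90.mem_center_map_iff]
    refine ⟨hC ?_, hx⟩
    rw [Subgroup.mem_centralizer_iff]
    intro q hq
    exact hx q hq
  · intro c hc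
    exact mem_normalizer_QQ hc

end Cfsg.Agent.Lib.Helper93
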