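import Mathlib
import Cfsg.Agent.Lib.Helper93.LargeES

/-!
# Singular subgroups around a large extraspecial 2-subgroup (helper93)

`U` is singular: elementary abelian, its non-identity elements are conjugates of `z`, and any two of
them are orthogonal (`v ∈ O_2(C_G(u))`).
-/

set_option autoImplicit false

namespace Cfsg.Agent.Lib.Helper93

open Cfsg Cfsg.Agent.Lib.Helper90

variable {G : Type*} [Group G]

/-- The singular-subgroup setting (with `Q x = QQ x` substituted). -/
structure SingSetting (z : G) (U : Subgroup G) : Prop where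
  hz : orderOf z = 2
  hE : Cfsg.IsExtraspecial 2 ↥(QQ z)
  hC : Subgroup.centralizer ((QQ z : Subgroup G) : Set G) ≤ QQ z
  hU2 : ∀ u ∈ U, u * u = 1
  hS : ∀ u ∈ U, u ≠ 1 → ∃ g : G, g * z * g⁻¹ = u
  hO : ∀ u ∈ U, ∀ v ∈ U, u ≠ 1 → v ≠ 1 → v ∈ QQ u

namespace SingSetting

variable {z : G} {U : Subgroup G}

theorem es (h : SingSetting z U) {u : G} (hu : u ∈ U) (hu1 : u ≠ 1) : ESData (QQ u) u := by
  obtain ⟨g, rfl⟩ := h.hS u hu hu1
  rw [QQ_conj]
  exact (esData_QQ h.hz h.hE h.hC).conj g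

theorem inv_eq (h : SingSetting z U) {u : G} (hu : u ∈ U) : u⁻¹ = u :=
  inv_eq_of_mul_eq_one_left (h.hU2 u hu)

theorem comm (h : SingSetting z U) {u v : G} (hu : u ∈ U) (hv : v ∈ U) : u * v = v * u := by
  have h1 := h.inv_eq (U.mul_mem hu hv)
  rw [mul_inv_rev, h.inv_eq hu, h.inv_eq hv] at h1
  exact h1.symm

theorem mem_QQ (h : SingSetting z U) {u v : G} (hu : u ∈ U) (hu1 : u ≠ 1) (hv : v ∈ U) :
    v ∈ QQ u := by
  by_cases hv1 : v = 1
  · rw [hv1]; exact Subgroup.one_mem _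
  · exact h.hO u hu v hv hu1 hv1

theorem U_le_QQ (h : SingSetting z U) {u : G} (hu : u ∈ U) (hu1 : u ≠ 1) : U ≤ QQ u :=
  fun _ hv => h.mem_QQ hu hu1 hv

/-- Conjugation by an element of `Q u` maps `v ∈ U` to `v` or `u v`. -/
theorem conj_eq_or (h : SingSetting z U) {u g v : G} (hu : u ∈ U) (hu1 : u ≠ 1) (hg : g ∈ QQ u)
    (hv : v ∈ U) : g * v * g⁻¹ = v ∨ g * v * g⁻¹ = u * v := by
  rcases (h.es hu hu1).commute_or_conj hg (h.mem_QQ hu hu1 hv) with h1 | h1
  · left; rw [h1]; group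
  · right; exact h1

theorem conj_mem_U (h : SingSetting z U) {u g v : G} (hu : u ∈ U) (hu1 : u ≠ 1) (hg : g ∈ QQ u)
    (hv : v ∈ U) : g * v * g⁻¹ ∈ U := by
  rcases h.conj_eq_or hu hu1 hg hv with h1 | h1
  · rw [h1]; exact hv
  · rw [h1]; exact U.mul_mem hu hv

/-- For orthogonal singular `a`, `b` with `a b ≠ 1`: `Q a ∩ Q b ≤ Q (a b)`. -/
theorem inter_le (h : SingSetting z U) {a b : G} (ha : a ∈ U) (hb : b ∈ U) (ha1 : a ≠ 1)
    (hb1 : b ≠ 1) (hab : a * b ≠ 1) : QQ a ⊓ QQ b ≤ QQ (a * b) := by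
  have hE := h.es ha ha1
  have hba : b ≠ a := by
    intro e
    apply hab
    rw [e]; exact h.hU2 a ha
  have hbQ : b ∈ QQ a := h.mem_QQ ha ha1 hb
  have haQ : a ∈ QQ b := h.mem_QQ hb hb1 ha
  obtain ⟨q, hq, hqb⟩ := hE.exists_conj_noncentral hbQ hb1 hba
  intro x hx
  rw [Subgroup.mem_inf] at hx
  rw [← hqb, QQ_conj, mem_map_conj_iff]
  rcases hE.commute_or_conj (Subgroup.inv_mem _ hq) hx.1 with h1 | h1
  · have : q⁻¹ * x * q = x := by
      calc q⁻¹ * x * q = (q⁻¹ * x) * q := by group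
        _ = (x * q⁻¹) * q := by rw [h1]
        _ = x := by group
    rw [this]; exact hx.2
  · have : q⁻¹ * x * q = a * x := by
      calc q⁻¹ * x * q = q⁻¹ * x * q⁻¹⁻¹ := by group
        _ = a * x := h1
    rw [this]; exact Subgroup.mul_mem _ haQ hx.2

/-- The intersection of the `Q t` over a generating set is contained in every `Q u`. -/
theorem iInf_le_QQ (h : SingSetting z U) (T : Set G) (hT : Subgroup.closure T = U)
    {u : G} (hu : u ∈ U) (hu1 : u ≠ 1) : (⨅ t ∈ T, QQ t) ≤ QQ u := by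
  have key : ∀ v (hv : v ∈ Subgroup.closure T), v ≠ 1 → (⨅ t ∈ T, QQ t) ≤ QQ v := by
    intro v hv
    induction hv using Subgroup.closure_induction with
    | mem t ht => intro _; exact iInf₂_le t ht
    | one => intro h1; exact absurd rfl h1
    | mul a b ha hb iha ihb =>
      intro hab
      rw [hT] at ha hb
      by_cases ha1 : a = 1
      · rw [ha1, one_mul]
        apply ihb
        intro hb1
        apply hab
        rw [ha1, hb1, one_mul]
      · by_cases hb1 : b = 1
        · rw [hb1, mul_one]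
          exact iha ha1
        · exact le_trans (le_inf (iha ha1) (ihb hb1)) (h.inter_le ha hb ha1 hb1 hab)
    | inv a ha iha =>
      intro hinv
      rw [hT] at ha
      rw [h.inv_eq ha]
      apply iha
      intro ha1
      apply hinv
      rw [ha1, inv_one]
  rw [← hT] at hu
  exact key u hu hu1

end SingSetting

end Cfsg.Agent.Lib.Helper93
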