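import Mathlib
import Cfsg.Agent.Lib.Helper93.Singular

/-!
# Double centralizers in a large extraspecial 2-subgroup (helper93)

For `ESData Q z` (helper90) and a subgroup `z ∈ A ≤ Q`: an element of `Q` commuting with all of
`C_Q(A)` lies in `A`.  Equivalently: for `x ∈ Q \ A` some `p ∈ C_Q(A)` has `p x p⁻¹ = z x`.
-/

set_option autoImplicit false

namespace Cfsg.Agent.Lib.Helper93

open Cfsg Cfsg.Agent.Lib.Helper90

variable {G : Type*} [Group G] {Q : Subgroup G} {z : G}

/-- Generator-set form of the double centralizer property. -/
theorem es_mem_closure_of_commute (h : ESData Q z) {S : Set G} (hfin : S.Finite) :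
    S ⊆ (Q : Set G) → ∀ x ∈ Q, (∀ p ∈ Q, (∀ s ∈ S, p * s = s * p) → p * x = x * p) →
      x ∈ Subgroup.closure (insert z S) := by
  induction S, hfin using Set.Finite.induction_on with
  | empty =>
    intro _ x _ hx
    have hx' : ∀ q ∈ Q, q * x = x * q := fun q hq => hx q hq (fun s hs => absurd hs (Set.notMem_empty s))
    rcases h.cent x hx' with h1 | h1
    · rw [h1]; exact Subgroup.one_mem _
    · rw [h1]; exact Subgroup.subset_closure (Set.mem_insert _ _)
  | @insert s S0 hsS0 hfin0 ih =>
    intro hS x hxQ hx
    have hS0 : S0 ⊆ (Q : Set G) := fun t ht => hS (Set.mem_insert_of_mem _ ht)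
    have hsQ : s ∈ Q := hS (Set.mem_insert _ _)
    have hAA' : Subgroup.closure (insert z S0) ≤ Subgroup.closure (insert z (insert s S0)) :=
      Subgroup.closure_mono (Set.insert_subset_insert (Set.subset_insert _ _))
    have hsA' : s ∈ Subgroup.closure (insert z (insert s S0)) :=
      Subgroup.subset_closure (Set.mem_insert_of_mem _ (Set.mem_insert _ _))
    by_cases hsA : s ∈ Subgroup.closure (insert z S0)
    · apply hAA'
      apply ih hS0 x hxQ
      intro p hp hpS0
      apply hx p hp
      intro t ht
      rcases ht with rfl | ht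
      · have hle : Subgroup.closure (insert z S0) ≤ Subgroup.centralizer ({p} : Set G) := by
          rw [Subgroup.closure_le]
          intro t ht
          rw [SetLike.mem_coe, Subgroup.mem_centralizer_singleton_iff]
          rcases ht with rfl | ht
          · exact (h.zc p hp).symm
          · exact (hpS0 t ht).symm
        exact (Subgroup.mem_centralizer_singleton_iff.mp (hle hsA)).symm
      · exact hpS0 t ht
    · have hex : ∃ a ∈ Q, (∀ t ∈ S0, a * t = t * a) ∧ a * s ≠ s * a := by
        by_contra hcon
        push Not at hcon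
        exact hsA (ih hS0 s hsQ hcon)
      obtain ⟨a, haQ, haS0, has'⟩ := hex
      have has : a * s * a⁻¹ = z * s := by
        rcases h.commute_or_conj haQ hsQ with h1 | h1
        · exact absurd h1 has'
        · exact h1
      have hainv : ∀ t ∈ S0, a⁻¹ * t = t * a⁻¹ := by
        intro t ht
        have := haS0 t ht
        calc a⁻¹ * t = a⁻¹ * (t * a) * a⁻¹ := by group
          _ = a⁻¹ * (a * t) * a⁻¹ := by rw [this]
          _ = t * a⁻¹ := by group
      -- the coset argument
      have key : ∀ y : G, (∀ p ∈ Q, (∀ t ∈ insert s S0, p * t = t * p) → p * y = y * p) →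
          a * y = y * a → ∀ q ∈ Q, (∀ t ∈ S0, q * t = t * q) → q * y = y * q := by
        intro y hy hay q hq hqS0
        rcases h.commute_or_conj hq hsQ with h1 | h1
        · apply hy q hq
          intro t ht
          rcases ht with rfl | ht
          · exact h1
          · exact hqS0 t ht
        · have hp : (a⁻¹ * q) * s = s * (a⁻¹ * q) := by
            have e1 : q * s * q⁻¹ = a * s * a⁻¹ := by rw [h1, has]
            calc (a⁻¹ * q) * s = a⁻¹ * (q * s * q⁻¹) * q := by group
              _ = a⁻¹ * (a * s * a⁻¹) * q := by rw [e1]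
              _ = s * (a⁻¹ * q) := by group
          have hpQ : a⁻¹ * q ∈ Q := Q.mul_mem (Q.inv_mem haQ) hq
          have hpS : ∀ t ∈ insert s S0, (a⁻¹ * q) * t = t * (a⁻¹ * q) := by
            intro t ht
            rcases ht with rfl | ht
            · exact hp
            · calc (a⁻¹ * q) * t = a⁻¹ * (q * t) := by group
                _ = a⁻¹ * (t * q) := by rw [hqS0 t ht]
                _ = (a⁻¹ * t) * q := by group
                _ = (t * a⁻¹) * q := by rw [hainv t ht]
                _ = t * (a⁻¹ * q) := by group
          have h2 := hy _ hpQ hpS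
          calc q * y = a * ((a⁻¹ * q) * y) := by group
            _ = a * (y * (a⁻¹ * q)) := by rw [h2]
            _ = (a * y) * (a⁻¹ * q) := by group
            _ = (y * a) * (a⁻¹ * q) := by rw [hay]
            _ = y * q := by group
      rcases h.commute_or_conj haQ hxQ with h1 | h1
      · exact hAA' (ih hS0 x hxQ (key x hx h1))
      · have hyQ : x * s ∈ Q := Q.mul_mem hxQ hsQ
        have hy : ∀ p ∈ Q, (∀ t ∈ insert s S0, p * t = t * p) → p * (x * s) = (x * s) * p := by
          intro p hp hpS
          have e1 := hx p hp hpS
          have e2 := hpS s (Set.mem_insert _ _)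
          calc p * (x * s) = (p * x) * s := by group
            _ = (x * p) * s := by rw [e1]
            _ = x * (p * s) := by group
            _ = x * (s * p) := by rw [e2]
            _ = (x * s) * p := by group
        have hay : a * (x * s) = (x * s) * a := by
          have hzx : z * x = x * z := (h.zc x hxQ).symm
          calc a * (x * s) = (a * x * a⁻¹) * (a * s * a⁻¹) * a := by group
            _ = (z * x) * (z * s) * a := by rw [h1, has]
            _ = (x * z) * (z * s) * a := by rw [hzx]
            _ = x * (z * z) * s * a := by group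
            _ = (x * s) * a := by rw [h.zz]; group
        have hyA := hAA' (ih hS0 (x * s) hyQ (key (x * s) hy hay))
        have : x = (x * s) * s⁻¹ := by group
        rw [this]
        exact Subgroup.mul_mem _ hyA (Subgroup.inv_mem _ hsA')

/-- Subgroup form: for `z ∈ A ≤ Q` and `x ∈ Q \ A` there is `p ∈ C_Q(A)` with `p x p⁻¹ = z x`. -/
theorem es_exists_of_notMem [Finite G] (h : ESData Q z) (A : Subgroup G) (hAQ : A ≤ Q) (hzA : z ∈ A)
    {x : G} (hxQ : x ∈ Q) (hxA : x ∉ A) :
    ∃ p ∈ Q, (∀ a ∈ A, p * a = a * p) ∧ p * x * p⁻¹ = z * x := by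
  by_contra hcon
  push Not at hcon
  apply hxA
  have hcl : Subgroup.closure (insert z (A : Set G)) = A := by
    rw [Set.insert_eq_of_mem (by exact hzA)]
    exact Subgroup.closure_eq A
  rw [← hcl]
  apply es_mem_closure_of_commute h (Set.toFinite (A : Set G)) hAQ x hxQ
  intro p hp hpA
  rcases h.commute_or_conj hp hxQ with h1 | h1
  · exact h1
  · exact absurd h1 (hcon p hp hpA)

end Cfsg.Agent.Lib.Helper93
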