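import Cfsg.Agent.Lib.Helper93.FlagOrbits

/-!
# More on flag data: values of the invariant, lists of three or four classes
-/

set_option autoImplicit false

namespace Cfsg.Agent.Lib.Helper93

namespace Flag

variable {G : Type*} {A : Type*} {B : Type*} [Group G] [MulAction G A] [MulAction G B]

/-- A property of the values of the invariant at one base object holds at all of them. -/
theorem κ_values (F : Flag G A B) {a₀ : A} (ha₀ : a₀ ∈ F.sA) {P : ℕ → Prop}
    (h : ∀ b ∈ F.sB, P (F.κ a₀ b)) : ∀ a ∈ F.sA, ∀ b ∈ F.sB, P (F.κ a b) := by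
  intro a ha b hb
  obtain ⟨g, rfl⟩ := F.transA a₀ ha₀ a ha
  rw [F.κ_smul_left]
  exact h _ (F.smul_memB _ b hb)

end Flag

theorem forall_mem_list3 {α : Type*} {p : α → Prop} {a b c : α} (ha : p a) (hb : p b) (hc : p c) :
    ∀ x ∈ [a, b, c], p x := by
  intro x hx
  simp only [List.mem_cons, List.not_mem_nil, or_false] at hx
  rcases hx with rfl | rfl | rfl
  · exact ha
  · exact hb
  · exact hc

theorem forall_mem_list4 {α : Type*} {p : α → Prop} {a b c d : α} (ha : p a) (hb : p b) (hc : p c)
    (hd : p d) : ∀ x ∈ [a, b, c, d], p x := by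
  intro x hx
  simp only [List.mem_cons, List.not_mem_nil, or_false] at hx
  rcases hx with rfl | rfl | rfl | rfl
  · exact ha
  · exact hb
  · exact hc
  · exact hd

end Cfsg.Agent.Lib.Helper93
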