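import Mathlib

/-!
# A fast kernel-friendly check that a list of natural numbers has no repetitions

The list is split recursively according to the bits at the given positions; in the end every
bucket must have at most one element.
-/

set_option autoImplicit false

namespace Cfsg.Agent.Lib.Helper93

/-- Split according to the listed bits; every final bucket has at most one element. -/
def nodupBits : List ℕ → List ℕ → Bool
  | _, [] => true
  | _, [_] => true
  | [], _ :: _ :: _ => false
  | b :: bs, x :: y :: l =>
    nodupBits bs ((x :: y :: l).filter fun z => z.testBit b) &&
      nodupBits bs ((x :: y :: l).filter fun z => !z.testBit b)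

theorem nodup_of_filter {α : Type*} [DecidableEq α] (p : α → Bool) {l : List α}
    (h1 : (l.filter p).Nodup) (h0 : (l.filter fun z => !p z).Nodup) : l.Nodup := by
  rw [List.nodup_iff_count_le_one] at h1 h0 ⊢
  intro a
  by_cases hp : p a = true
  · have := h1 a
    rwa [List.count_filter hp] at this
  · have := h0 a
    rwa [List.count_filter (by simpa using hp)] at this

theorem nodup_of_nodupBits : ∀ (bs l : List ℕ), nodupBits bs l = true → l.Nodup := by
  intro bs
  induction bs with
  | nil =>
    intro l h
    match l, h with
    | [], _ => exact List.nodup_nil
    | [_], _ => exact List.nodup_singleton _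
    | _ :: _ :: _, h => exact absurd h (by simp [nodupBits])
  | cons b bs ih =>
    intro l h
    match l, h with
    | [], _ => exact List.nodup_nil
    | [_], _ => exact List.nodup_singleton _
    | x :: y :: l, h =>
      rw [nodupBits, Bool.and_eq_true] at h
      exact nodup_of_filter (fun z => z.testBit b) (ih _ h.1) (ih _ h.2)

/-- The bit positions `0, …, 47`. -/
def bits48 : List ℕ := List.range 48

end Cfsg.Agent.Lib.Helper93
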