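import Cfsg.Agent.Lib.Helper93.OctadCodes
import Cfsg.Agent.Lib.Helper26.GolayBitsWeights

/-!
# The stabilizer of an octad is transitive on the octads meeting it in a given number of points
-/

set_option autoImplicit false

namespace Cfsg.Agent.Lib.Helper93
open Cfsg Cfsg.Agent.Lib.Helper7 Cfsg.Agent.Lib.Helper92
open scoped Pointwise

theorem osTabs_spec : ∀ t ∈ osTabs, ∃ σ ∈ M24, σ • setOf octO = setOf octO ∧ Matches σ t := by
  intro t ht
  rw [← osTabs_eq, List.mem_map] at ht
  obtain ⟨w, hw, rfl⟩ := ht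
  have hchk : ∀ w ∈ osWords, mapsInto (wordTab w) octO octO = true := by decide
  exact ⟨m24Word w, m24Word_mem w,
    smul_setOf_eq_of_mapsInto (matches_m24Word w) (hchk w hw) le_rfl, matches_m24Word w⟩

/-- `setOf m` is the image of `setOf root` under an element of `M24` stabilizing the base octad. -/
def ReachO (root m : ℕ) : Prop :=
  ∃ g ∈ M24, g • setOf octO = setOf octO ∧ g • setOf root = setOf m

theorem reachO_refl (root : ℕ) : ReachO root root := ⟨1, one_mem _, one_smul _ _, one_smul _ _⟩

theorem chkOct_sound (root g a b : ℕ) (h : chkOct g a b = true) (ha : ReachO root a) :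
    ReachO root b := by
  unfold chkOct at h
  split at h
  · exact absurd h (by decide)
  · rename_i t ht
    rw [Bool.and_eq_true] at h
    obtain ⟨σ, hσ, hσO, hm⟩ := osTabs_spec t (List.mem_of_getElem? ht)
    obtain ⟨u, hu, huO, hua⟩ := ha
    refine ⟨σ * u, mul_mem hσ hu, ?_, ?_⟩
    · rw [mul_smul, huO, hσO]
    · rw [mul_smul, hua]
      exact smul_setOf_eq_of_mapsInto hm h.1 (Nat.le_of_ble_eq_true h.2)

theorem reachO_of_tour {root : ℕ} {tour : List ℕ} (h : tourRun chkOct tour [root] = true) :
    ∀ m, m = root ∨ m ∈ tourCodes tour → ReachO root m := by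
  intro m hm
  rcases hm with rfl | hm
  · exact reachO_refl _
  · refine tourRun_sound (R := ReachO root) (fun g a b => chkOct_sound root g a b) tour [root] ?_ h m hm
    intro a ha
    rw [List.mem_singleton] at ha
    subst ha
    exact reachO_refl _

theorem tourK0_complete : ∀ c < 4096, pc (enc c) = 8 → pc (enc c &&& octO) = 0 →
    (enc c == rootK0 || codesK0.contains (enc c)) = true := by
  apply forall_lt_4096
  decide +kernel

theorem tourK4_complete : ∀ c < 4096, pc (enc c) = 8 → pc (enc c &&& octO) = 4 →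
    (enc c == rootK4 || codesK4.contains (enc c)) = true := by
  apply forall_lt_4096
  decide +kernel

theorem tourK2_complete : ∀ c < 4096, pc (enc c) = 8 → pc (enc c &&& octO) = 2 →
    (enc c == rootK2 || codesK2.contains (enc c)) = true := by
  apply forall_lt_4096
  decide +kernel

theorem octO_inter_cases : ∀ c < 4096, pc (enc c) = 8 →
    (pc (enc c &&& octO) = 0 ∨ pc (enc c &&& octO) = 4 ∨ pc (enc c &&& octO) = 2 ∨
      enc c = octO) := by
  apply forall_lt_4096
  decide +kernel


theorem mem_or_of_complete {root : ℕ} {codes tour : List ℕ} (hc : tourCodes tour = codes) {m : ℕ}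
    (h : (m == root || codes.contains m) = true) : m = root ∨ m ∈ tourCodes tour := by
  rw [hc]
  simpa using h

/-- Octads as masks. -/
theorem exists_enc_of_mem_octads {o : Finset GolayPt} (ho : o ∈ octads) :
    ∃ c < 4096, pc (enc c) = 8 ∧ o = setOf (enc c) := by
  obtain ⟨w, hw, hsupp, h8⟩ := (Cfsg.Agent.Lib.Helper7.mem_octads_iff o).mp ho
  obtain ⟨c, hc, rfl⟩ := (mem_golayCode_iff w).mp hw
  rw [support₂_wordOf] at hsupp
  refine ⟨c, hc, ?_, hsupp.symm⟩
  rw [← card_setOf, hsupp, h8]

theorem card_inter_setOf (m n : ℕ) : (setOf m ∩ setOf n).card = pc (m &&& n) := by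
  rw [← setOf_and, card_setOf]

/-- Base case: the stabilizer of the base octad is transitive on the octads meeting it in a given
number of points. -/
theorem exists_stab_octO_map {o' o'' : Finset GolayPt} (ho' : o' ∈ octads) (ho'' : o'' ∈ octads)
    (h : (setOf octO ∩ o').card = (setOf octO ∩ o'').card) :
    ∃ g ∈ M24, g • setOf octO = setOf octO ∧ g • o' = o'' := by
  obtain ⟨c', hc', h8', rfl⟩ := exists_enc_of_mem_octads ho'
  obtain ⟨c'', hc'', h8'', rfl⟩ := exists_enc_of_mem_octads ho''
  rw [Finset.inter_comm, card_inter_setOf, Finset.inter_comm, card_inter_setOf] at h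
  have key : ∀ {root : ℕ} {tour : List ℕ}, tourRun chkOct tour [root] = true →
      (enc c' = root ∨ enc c' ∈ tourCodes tour) → (enc c'' = root ∨ enc c'' ∈ tourCodes tour) →
      ∃ g ∈ M24, g • setOf octO = setOf octO ∧ g • setOf (enc c') = setOf (enc c'') := by
    intro root tour hrun h1 h2
    obtain ⟨u, hu, huO, hu'⟩ := reachO_of_tour hrun _ h1
    obtain ⟨v, hv, hvO, hv'⟩ := reachO_of_tour hrun _ h2
    refine ⟨v * u⁻¹, mul_mem hv (inv_mem hu), ?_, ?_⟩
    · rw [mul_smul, inv_smul_eq_iff.mpr huO.symm, hvO]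
    · rw [mul_smul, inv_smul_eq_iff.mpr hu'.symm, hv']
  rcases octO_inter_cases c' hc' h8' with h0 | h0 | h0 | h0
  · exact key tourK0_run (mem_or_of_complete tourCodes_tourK0 (tourK0_complete c' hc' h8' h0))
      (mem_or_of_complete tourCodes_tourK0 (tourK0_complete c'' hc'' h8'' (h ▸ h0)))
  · exact key tourK4_run (mem_or_of_complete tourCodes_tourK4 (tourK4_complete c' hc' h8' h0))
      (mem_or_of_complete tourCodes_tourK4 (tourK4_complete c'' hc'' h8'' (h ▸ h0)))
  · exact key tourK2_run (mem_or_of_complete tourCodes_tourK2 (tourK2_complete c' hc' h8' h0))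
      (mem_or_of_complete tourCodes_tourK2 (tourK2_complete c'' hc'' h8'' (h ▸ h0)))
  · have h8 : pc (enc c'' &&& octO) = 8 := by
      rw [← h, h0]; decide
    have h2 : enc c'' = octO := by
      rcases octO_inter_cases c'' hc'' h8'' with h1 | h1 | h1 | h1
      · omega
      · omega
      · omega
      · exact h1
    refine ⟨1, one_mem _, one_smul _ _, ?_⟩
    rw [one_smul, h0, h2]

theorem smul_inter_finset (g : Equiv.Perm GolayPt) (s t : Finset GolayPt) :
    g • (s ∩ t) = g • s ∩ g • t := by
  ext p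
  simp only [Finset.mem_inter, mem_perm_smul_finset]

/-- Octads meeting an octad `o` in equally many points are conjugate under the stabilizer of `o`
in `M24`. -/
theorem exists_stab_octad_map {o o' o'' : Finset GolayPt} (ho : o ∈ octads) (ho' : o' ∈ octads)
    (ho'' : o'' ∈ octads) (h : (o ∩ o').card = (o ∩ o'').card) :
    ∃ g ∈ M24, g • o = o ∧ g • o' = o'' := by
  obtain ⟨σ, hσ⟩ := exists_M24_smul_octad ho (setOf_mem_octads isOctadMask_octO)
  rw [M24_smul_finset_def] at hσ
  have h1 : (setOf octO ∩ (σ : Equiv.Perm GolayPt) • o').card =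
      (setOf octO ∩ (σ : Equiv.Perm GolayPt) • o'').card := by
    rw [← hσ, ← smul_inter_finset, ← smul_inter_finset, card_perm_smul_finset,
      card_perm_smul_finset, h]
  obtain ⟨u, hu, huO, hu'⟩ := exists_stab_octO_map (smul_mem_octads σ.2 ho')
    (smul_mem_octads σ.2 ho'') h1
  refine ⟨(σ : Equiv.Perm GolayPt)⁻¹ * u * σ, mul_mem (mul_mem (inv_mem σ.2) hu) σ.2, ?_, ?_⟩
  · rw [mul_smul, mul_smul, hσ, huO, inv_smul_eq_iff, hσ]
  · rw [mul_smul, mul_smul, hu', inv_smul_smul]

end Cfsg.Agent.Lib.Helper93
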