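import Cfsg.Agent.Lib.Helper93.FlagTours
import Cfsg.Agent.Lib.Helper93.OctadTours

/-!
# The base sextet and two words stabilizing it
-/

set_option autoImplicit false
open scoped Pointwise
open Cfsg

namespace Cfsg.Agent.Lib.Helper93
open Cfsg.Agent.Lib.Helper7 Cfsg.Agent.Lib.Helper92

/-- The tetrads of the base sextet, as masks. -/
def sxT : List ℕ := [15, 5264, 622848, 3416064, 4196928, 8536096]

/-- The base sextet. -/
def sxS : Finset (Finset GolayPt) := (sxT.map Helper7.setOf).toFinset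

/-- Two words stabilizing the base sextet. -/
def sxWords : List (List ℕ) := [[0, 4, 0, 4, 4, 1], [1, 2, 4, 1, 1, 2]]

/-- Their tables. -/
def sxTabs : List (List ℕ) :=
  [[10, 7, 4, 12, 19, 5, 18, 8, 6, 21, 15, 20, 16, 0, 14, 22, 9, 17, 1, 11, 2, 3, 13, 23],
   [22, 11, 6, 9, 2, 15, 17, 3, 21, 14, 0, 23, 1, 12, 19, 18, 20, 16, 4, 13, 10, 7, 5, 8]]

theorem sxTabs_eq : sxWords.map wordTab = sxTabs := by decide

theorem sxT_lt : ∀ m ∈ sxT, m < 2 ^ 24 := by decide

theorem sxT_nodup : sxT.Nodup := by decide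

theorem sxT_map_nodup : (sxT.map Helper7.setOf).Nodup :=
  List.Nodup.map_on (fun a ha b hb h => setOf_injOn (sxT_lt a ha) (sxT_lt b hb) h) sxT_nodup

theorem mem_sxS {X : Finset GolayPt} : X ∈ sxS ↔ ∃ m ∈ sxT, Helper7.setOf m = X := by
  unfold sxS
  rw [List.mem_toFinset, List.mem_map]

theorem sxS_card : sxS.card = 6 := by
  unfold sxS
  rw [List.toFinset_card_of_nodup sxT_map_nodup, List.length_map]
  rfl

theorem sxT_check : ∀ m ∈ sxT, pc m = 4 ∧ ∀ m' ∈ sxT, m ≠ m' →
    (m &&& m' = 0 ∧ isOctadMask (m ^^^ m') = true) := by decide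

theorem sxS_mem_sextets : sxS ∈ sextets := by
  refine ⟨sxS_card, ?_, ?_⟩
  · intro t ht
    obtain ⟨m, hm, rfl⟩ := mem_sxS.mp ht
    rw [card_setOf]
    exact (sxT_check m hm).1
  · intro t ht u hu htu
    obtain ⟨m, hm, rfl⟩ := mem_sxS.mp ht
    obtain ⟨m', hm', rfl⟩ := mem_sxS.mp hu
    have hne : m ≠ m' := fun e => htu (by rw [e])
    obtain ⟨h0, hoct⟩ := (sxT_check m hm).2 m' hm' hne
    have hd : Disjoint (Helper7.setOf m) (Helper7.setOf m') := by
      rw [disjoint_iff_card_inter, card_inter_setOf, h0]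
      rfl
    have : Helper7.setOf m ∪ Helper7.setOf m' = Helper7.setOf (m ^^^ m') := by
      rw [setOf_xor, hd.symmDiff_eq_sup, Finset.sup_eq_union]
    rw [this]
    exact setOf_mem_octads hoct

/-- The stabilizer of the base sextet in `M24`. -/
def sxH : Subgroup (Equiv.Perm GolayPt) :=
  M24 ⊓ MulAction.stabilizer (Equiv.Perm GolayPt) sxS

theorem mem_sxH {g : Equiv.Perm GolayPt} : g ∈ sxH ↔ g ∈ M24 ∧ g • sxS = sxS := by
  unfold sxH
  rw [Subgroup.mem_inf]
  exact Iff.and Iff.rfl MulAction.mem_stabilizer_iff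

theorem sxWords_check : ∀ w ∈ sxWords, (sxT.all fun m => sxT.any fun m' =>
    chkMask (wordTab w) m m') = true := by decide

theorem sxTabs_spec : ∀ t ∈ sxTabs, ∃ σ ∈ sxH, Matches σ t := by
  intro t ht
  rw [← sxTabs_eq, List.mem_map] at ht
  obtain ⟨w, hw, rfl⟩ := ht
  refine ⟨m24Word w, mem_sxH.mpr ⟨m24Word_mem w, ?_⟩, matches_m24Word w⟩
  have hchk := sxWords_check w hw
  rw [List.all_eq_true] at hchk
  apply Finset.eq_of_subset_of_card_le
  · intro X hX
    rw [Finset.mem_smul_finset] at hX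
    obtain ⟨Y, hY, rfl⟩ := hX
    obtain ⟨m, hm, rfl⟩ := mem_sxS.mp hY
    have h1 := hchk m hm
    rw [List.any_eq_true] at h1
    obtain ⟨m', hm', hc⟩ := h1
    rw [chkMask_sound (matches_m24Word w) hc]
    exact mem_sxS.mpr ⟨m', hm', rfl⟩
  · rw [Finset.card_smul_finset]

theorem sum_sxS (F : Finset GolayPt → ℕ) :
    ∑ t ∈ sxS, F t = (sxT.map fun m => F (Helper7.setOf m)).sum := by
  unfold sxS
  rw [List.sum_toFinset _ sxT_map_nodup, List.map_map]
  rfl

/-- The `0/1` indicator of being nonzero. -/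
def nz (n : ℕ) : ℕ := if n = 0 then 0 else 1

/-- The invariant relative to the base sextet is invariant under its stabilizer. -/
theorem interSum_sxS_smul (f : ℕ → ℕ) {g : Equiv.Perm GolayPt} (hg : g ∈ sxH)
    (T : Finset (Finset GolayPt)) : interSum f sxS (g • T) = interSum f sxS T := by
  conv_lhs => rw [← (mem_sxH.mp hg).2]
  exact interSum_smul f g sxS T

/-- Evaluation of the invariant of a mask relative to the base sextet. -/
theorem interSum_sxS_singleton (f : ℕ → ℕ) (x : ℕ) :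
    interSum f sxS {Helper7.setOf x} = (sxT.map fun m => f (pc (m &&& x))).sum := by
  unfold interSum
  rw [sum_sxS]
  congr 1
  apply List.map_congr_left
  intro m _
  rw [Finset.sum_singleton, card_inter_setOf]

end Cfsg.Agent.Lib.Helper93
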