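import Cfsg.Agent.Lib.Helper93.FlagTours

/-!
# Evaluating sums over decoded trios
-/

set_option autoImplicit false
open scoped Pointwise
open Cfsg

namespace Cfsg.Agent.Lib.Helper93
open Cfsg.Agent.Lib.Helper7 Cfsg.Agent.Lib.Helper92

/-- The complement of the union of two disjoint masks. -/
theorem compl_union_setOf {a b : ℕ} (h0 : a &&& b = 0) :
    (Helper7.setOf a ∪ Helper7.setOf b)ᶜ = Helper7.setOf (allMask ^^^ (a ^^^ b)) := by
  have hd : Disjoint (Helper7.setOf a) (Helper7.setOf b) := by
    rw [disjoint_iff_card_inter, card_inter_setOf, h0]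
    rfl
  rw [setOf_compl_mask, setOf_xor, hd.symmDiff_eq_sup, Finset.sup_eq_union,
    Finset.compl_eq_univ_sdiff]

/-- Sums over a decoded trio. -/
theorem sum_decTrio {c : ℕ} (hc : decTrio c ∈ trios) (h0 : (c % 16777216) &&& (c / 16777216) = 0)
    (F : Finset GolayPt → ℕ) :
    ∑ X ∈ decTrio c, F X = F (Helper7.setOf (c % 16777216)) + F (Helper7.setOf (c / 16777216)) +
      F (Helper7.setOf (allMask ^^^ ((c % 16777216) ^^^ (c / 16777216)))) := by
  have hcard := hc.1
  unfold decTrio at hcard ⊢
  rw [compl_union_setOf h0] at hcard ⊢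
  have h1 : Helper7.setOf (c / 16777216) ∉
      ({Helper7.setOf (allMask ^^^ ((c % 16777216) ^^^ (c / 16777216)))} :
        Finset (Finset GolayPt)) := by
    intro hmem
    rw [Finset.insert_eq_of_mem hmem] at hcard
    have := Finset.card_le_two (a := Helper7.setOf (c % 16777216))
      (b := Helper7.setOf (allMask ^^^ ((c % 16777216) ^^^ (c / 16777216))))
    omega
  have h2 : Helper7.setOf (c % 16777216) ∉
      ({Helper7.setOf (c / 16777216),
        Helper7.setOf (allMask ^^^ ((c % 16777216) ^^^ (c / 16777216)))} :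
        Finset (Finset GolayPt)) := by
    intro hmem
    rw [Finset.insert_eq_of_mem hmem] at hcard
    have := Finset.card_le_two (a := Helper7.setOf (c / 16777216))
      (b := Helper7.setOf (allMask ^^^ ((c % 16777216) ^^^ (c / 16777216))))
    omega
  rw [Finset.sum_insert h2, Finset.sum_insert h1, Finset.sum_singleton, add_assoc]

/-- The invariant of a decoded trio relative to a family of sets. -/
theorem interSum_decTrio (f : ℕ → ℕ) (S : Finset (Finset GolayPt)) {c : ℕ}
    (hc : decTrio c ∈ trios) (h0 : (c % 16777216) &&& (c / 16777216) = 0) :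
    interSum f S (decTrio c) = ∑ s ∈ S, (f (s ∩ Helper7.setOf (c % 16777216)).card +
      f (s ∩ Helper7.setOf (c / 16777216)).card +
      f (s ∩ Helper7.setOf (allMask ^^^ ((c % 16777216) ^^^ (c / 16777216)))).card) := by
  unfold interSum
  apply Finset.sum_congr rfl
  intro s _
  exact sum_decTrio hc h0 (fun X => f (s ∩ X).card)

/-- Membership of a decoded code in `trios`, as a Boolean check. -/
def trioOK (c : ℕ) : Bool :=
  isOctadMask (c % 16777216) && isOctadMask (c / 16777216) &&
    ((c % 16777216) &&& (c / 16777216) == 0)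

theorem decTrio_mem_of_trioOK {c : ℕ} (h : trioOK c = true) :
    decTrio c ∈ trios ∧ (c % 16777216) &&& (c / 16777216) = 0 := by
  simp only [trioOK, Bool.and_eq_true, beq_iff_eq] at h
  exact ⟨decTrio_mem h.1.1 h.1.2 h.2, h.2⟩

/-- Reachability for trios under a subgroup of `M24` given by tables. -/
theorem reach_trio (H : Subgroup (Equiv.Perm GolayPt)) (hH : H ≤ M24) (tabs : List (List ℕ))
    (htabs : ∀ t ∈ tabs, ∃ σ ∈ H, Matches σ t) {root : ℕ} {tour codes : List ℕ}
    (hroot : trioOK root = true)
    (hrun : tourRun (chkTab tabs chkTrio) tour [root] = true) (hcodes : tourCodes tour = codes) :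
    ∀ m ∈ root :: codes, decTrio m ∈ trios ∧ ∃ g ∈ H, g • decTrio root = decTrio m := by
  intro m hm
  rw [← hcodes] at hm
  exact reach_of_tourRun H tabs htabs decTrio (fun c => decTrio c ∈ trios) chkTrio
    (fun σ hσ t hmt a b ha hc => chkTrio_sound (hH hσ) hmt ha hc) root
    (decTrio_mem_of_trioOK hroot).1 tour hrun m hm

end Cfsg.Agent.Lib.Helper93
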