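import Cfsg.Agent.Lib.Helper93.TourOctTrio
import Cfsg.Agent.Lib.Helper93.SextetBase
import Cfsg.Agent.Lib.Helper93.TrioEval
import Cfsg.Agent.Lib.Helper93.FlagExtra
import Cfsg.Agent.Lib.Helper93.NodupBits
import Cfsg.Agent.Lib.Helper93.OctadPairs
import Cfsg.Agent.S1557

/-!
# Flag transitivity of `M24` on (octad, trio) pairs
-/

set_option autoImplicit false
open scoped Pointwise
open Cfsg

namespace Cfsg.Agent.Lib.Helper93
open Cfsg.Agent.Lib.Helper7 Cfsg.Agent.Lib.Helper92

/-- The stabilizer of the base octad in `M24`. -/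
def osH : Subgroup (Equiv.Perm GolayPt) :=
  M24 ⊓ MulAction.stabilizer (Equiv.Perm GolayPt) (Helper7.setOf octO)

theorem mem_osH {g : Equiv.Perm GolayPt} :
    g ∈ osH ↔ g ∈ M24 ∧ g • Helper7.setOf octO = Helper7.setOf octO := by
  unfold osH
  rw [Subgroup.mem_inf]
  exact Iff.and Iff.rfl MulAction.mem_stabilizer_iff

theorem osTabs_spec' : ∀ t ∈ osTabs, ∃ σ ∈ osH, Matches σ t := by
  intro t ht
  obtain ⟨σ, hσ, hσO, hm⟩ := osTabs_spec t ht
  exact ⟨σ, mem_osH.mpr ⟨hσ, hσO⟩, hm⟩

/-- The number of members of `T` met by `o`. -/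
def kOctTrio (o : Finset GolayPt) (T : Finset (Finset GolayPt)) : ℕ := interSum nz {o} T

theorem kOctTrio_smul (g : Equiv.Perm GolayPt) (o : Finset GolayPt)
    (T : Finset (Finset GolayPt)) : kOctTrio (g • o) (g • T) = kOctTrio o T := by
  unfold kOctTrio
  rw [← smul_singleton_finset]
  exact interSum_smul nz g {o} T

theorem kOctTrio_octO_smul {g : Equiv.Perm GolayPt} (hg : g ∈ osH)
    (T : Finset (Finset GolayPt)) :
    kOctTrio (Helper7.setOf octO) (g • T) = kOctTrio (Helper7.setOf octO) T := by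
  conv_lhs => rw [← (mem_osH.mp hg).2]
  exact kOctTrio_smul g _ T

theorem kOctTrio_decTrio {c : ℕ} (hc : trioOK c = true) :
    kOctTrio (Helper7.setOf octO) (decTrio c) = nz (pc (octO &&& (c % 16777216))) +
      nz (pc (octO &&& (c / 16777216))) +
      nz (pc (octO &&& (allMask ^^^ ((c % 16777216) ^^^ (c / 16777216))))) := by
  obtain ⟨h1, h0⟩ := decTrio_mem_of_trioOK hc
  unfold kOctTrio
  rw [interSum_decTrio nz _ h1 h0, Finset.sum_singleton, card_inter_setOf, card_inter_setOf,
    card_inter_setOf]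

/-- The three classes of trios relative to the base octad. -/
def clsOctTrio : List (List ℕ) :=
  [rootOctTrio0 :: codesOctTrio0, rootOctTrio1 :: codesOctTrio1, rootOctTrio2 :: codesOctTrio2]

theorem clsOctTrio_canon : ∀ m ∈ clsOctTrio.flatten, canonTrio m = true := by decide +kernel

theorem clsOctTrio_nodup : clsOctTrio.flatten.Nodup :=
  nodup_of_nodupBits bits48 _ (by decide +kernel)

theorem clsOctTrio_length : clsOctTrio.flatten.length = 3795 := by decide +kernel

theorem clsOctTrio_roots : ∀ L ∈ clsOctTrio, trioOK (L.headD 0) = true := by decide +kernel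

theorem trioOK_rootOctTrio : trioOK rootOctTrio0 = true ∧ trioOK rootOctTrio1 = true ∧
    trioOK rootOctTrio2 = true := by decide +kernel

theorem kOctTrio_roots : kOctTrio (Helper7.setOf octO) (decTrio rootOctTrio0) = 1 ∧
    kOctTrio (Helper7.setOf octO) (decTrio rootOctTrio1) = 2 ∧
    kOctTrio (Helper7.setOf octO) (decTrio rootOctTrio2) = 3 := by
  rw [kOctTrio_decTrio trioOK_rootOctTrio.1, kOctTrio_decTrio trioOK_rootOctTrio.2.1,
    kOctTrio_decTrio trioOK_rootOctTrio.2.2]
  decide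

theorem clsOctTrio_valid : ∀ L ∈ clsOctTrio, ∀ m ∈ L,
    decTrio m ∈ trios ∧ ∃ g ∈ osH, g • decTrio (L.headD 0) = decTrio m :=
  forall_mem_list3
    (reach_trio osH inf_le_left osTabs osTabs_spec' trioOK_rootOctTrio.1
      tourOctTrio0_run tourCodes_tourOctTrio0)
    (reach_trio osH inf_le_left osTabs osTabs_spec' trioOK_rootOctTrio.2.1
      tourOctTrio1_run tourCodes_tourOctTrio1)
    (reach_trio osH inf_le_left osTabs osTabs_spec' trioOK_rootOctTrio.2.2
      tourOctTrio2_run tourCodes_tourOctTrio2)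

theorem certOctTrio :
    BaseCert osH trios decTrio (kOctTrio (Helper7.setOf octO)) clsOctTrio where
  fin := Set.toFinite _
  κ_inv := fun g hg b => kOctTrio_octO_smul hg b
  smul_mem := fun g hg b hb => smul_mem_trios (mem_osH.mp hg).1 hb
  root_mem := fun L hL => (decTrio_mem_of_trioOK (clsOctTrio_roots L hL)).1
  reach := fun L hL m hm => (clsOctTrio_valid L hL m hm).2
  κ_nodup := by
    show [kOctTrio (Helper7.setOf octO) (decTrio rootOctTrio0),
      kOctTrio (Helper7.setOf octO) (decTrio rootOctTrio1),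
      kOctTrio (Helper7.setOf octO) (decTrio rootOctTrio2)].Nodup
    rw [kOctTrio_roots.1, kOctTrio_roots.2.1, kOctTrio_roots.2.2]
    decide
  inj := by
    intro m hm m' hm' h
    obtain ⟨L, hL, hmL⟩ := List.mem_flatten.mp hm
    exact decTrio_inj (clsOctTrio_canon m hm) (clsOctTrio_canon m' hm')
      (clsOctTrio_valid L hL m hmL).1 h
  nodup := clsOctTrio_nodup
  len := by rw [clsOctTrio_length, Cfsg.Agent.S1557.result.2]

/-- Flag data for octads and trios. -/
noncomputable def flagOctTrio : Flag ↥M24 (Finset GolayPt) (Finset (Finset GolayPt)) :=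
  Flag.ofBase octads trios kOctTrio
    (fun g _ ha => smul_mem_octads g.2 ha)
    (fun g _ hb => smul_mem_trios g.2 hb)
    (fun g a b => kOctTrio_smul (g : Equiv.Perm GolayPt) a b)
    (Helper7.setOf octO) (setOf_mem_octads isOctadMask_octO)
    (fun a ha => exists_M24_smul_octad ha (setOf_mem_octads isOctadMask_octO))
    (fun b hb b' hb' => by
      obtain ⟨g, hg, h⟩ := exists_M24_smul_trio hb hb'
      exact ⟨⟨g, hg⟩, h⟩)
    (fun b hb b' hb' h => by
      obtain ⟨g, hg, hgb⟩ := certOctTrio.trans hb hb' h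
      exact ⟨⟨g, (mem_osH.mp hg).1⟩, (mem_osH.mp hg).2, hgb⟩)

/-- Values of the invariant. -/
theorem kOctTrio_cases {o : Finset GolayPt} (ho : o ∈ octads) {T : Finset (Finset GolayPt)}
    (hT : T ∈ trios) : kOctTrio o T = 1 ∨ kOctTrio o T = 2 ∨ kOctTrio o T = 3 := by
  refine flagOctTrio.κ_values (a₀ := Helper7.setOf octO) (setOf_mem_octads isOctadMask_octO)
    (P := fun k => k = 1 ∨ k = 2 ∨ k = 3) ?_ o ho T hT
  intro b hb
  obtain ⟨L, hL, hκ⟩ := certOctTrio.κ_cases hb
  show kOctTrio (Helper7.setOf octO) b = 1 ∨ kOctTrio (Helper7.setOf octO) b = 2 ∨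
    kOctTrio (Helper7.setOf octO) b = 3
  rw [hκ]
  have hall : ∀ L ∈ clsOctTrio, kOctTrio (Helper7.setOf octO) (decTrio (L.headD 0)) = 1 ∨
      kOctTrio (Helper7.setOf octO) (decTrio (L.headD 0)) = 2 ∨
      kOctTrio (Helper7.setOf octO) (decTrio (L.headD 0)) = 3 :=
    forall_mem_list3 (Or.inl kOctTrio_roots.1) (Or.inr (Or.inl kOctTrio_roots.2.1))
      (Or.inr (Or.inr kOctTrio_roots.2.2))
  exact hall L hL

/-- Class sizes on the trio side. -/
theorem ncard_cls_octTrio {o : Finset GolayPt} (ho : o ∈ octads) :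
    (flagOctTrio.cls o 1).ncard = 15 ∧ (flagOctTrio.cls o 2).ncard = 420 ∧
      (flagOctTrio.cls o 3).ncard = 3360 := by
  have hO : Helper7.setOf octO ∈ flagOctTrio.sA := setOf_mem_octads isOctadMask_octO
  rw [flagOctTrio.ncard_cls_eq hO ho, flagOctTrio.ncard_cls_eq hO ho,
    flagOctTrio.ncard_cls_eq hO ho]
  have h0 := certOctTrio.ncard_level (L := rootOctTrio0 :: codesOctTrio0) List.mem_cons_self
  have h1 := certOctTrio.ncard_level (L := rootOctTrio1 :: codesOctTrio1) (List.mem_cons_of_mem _ List.mem_cons_self)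
  have h2 := certOctTrio.ncard_level (L := rootOctTrio2 :: codesOctTrio2) (List.mem_cons_of_mem _ (List.mem_cons_of_mem _ List.mem_cons_self))
  simp only [List.headD_cons] at h0 h1 h2
  rw [kOctTrio_roots.1] at h0
  rw [kOctTrio_roots.2.1] at h1
  rw [kOctTrio_roots.2.2] at h2
  refine ⟨h0.trans (by decide +kernel), h1.trans (by decide +kernel), h2.trans (by decide +kernel)⟩

end Cfsg.Agent.Lib.Helper93
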