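import Mathlib

/-!
# Flag-transitive incidence structures and orbits of stabilizers

A group `G` acts on `A` and `B`, with invariant subsets `𝒜`, `ℬ` on which it is transitive, and an
invariant function `κ : A → B → ℕ` such that `G` is transitive on the pairs `(a, b) ∈ 𝒜 × ℬ` with a
given value of `κ` ("flag transitivity").  Then the orbits of the stabilizer of `a ∈ 𝒜` on `ℬ` are
the classes `{b ∈ ℬ | κ a b = k}`, their sizes do not depend on `a`, and the class sizes on the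
two sides are related by double counting.
-/

set_option autoImplicit false

namespace Cfsg.Agent.Lib.Helper93

/-- Flag-transitive incidence data. -/
structure Flag (G : Type*) (A : Type*) (B : Type*) [Group G] [MulAction G A] [MulAction G B] where
  /-- the objects of the first kind -/
  sA : Set A
  /-- the objects of the second kind -/
  sB : Set B
  /-- the invariant -/
  κ : A → B → ℕ
  smul_memA : ∀ (g : G), ∀ a ∈ sA, g • a ∈ sA
  smul_memB : ∀ (g : G), ∀ b ∈ sB, g • b ∈ sB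
  κ_smul : ∀ (g : G) (a : A) (b : B), κ (g • a) (g • b) = κ a b
  transA : ∀ a ∈ sA, ∀ a' ∈ sA, ∃ g : G, g • a = a'
  transB : ∀ b ∈ sB, ∀ b' ∈ sB, ∃ g : G, g • b = b'
  flag : ∀ a ∈ sA, ∀ a' ∈ sA, ∀ b ∈ sB, ∀ b' ∈ sB, κ a b = κ a' b' →
    ∃ g : G, g • a = a' ∧ g • b = b'

namespace Flag

variable {G : Type*} {A : Type*} {B : Type*} [Group G] [MulAction G A] [MulAction G B]

/-- Flag data from transitivity of the stabilizer of a base object on the classes. -/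
def ofBase (sA : Set A) (sB : Set B) (κ : A → B → ℕ)
    (smul_memA : ∀ (g : G), ∀ a ∈ sA, g • a ∈ sA) (smul_memB : ∀ (g : G), ∀ b ∈ sB, g • b ∈ sB)
    (κ_smul : ∀ (g : G) (a : A) (b : B), κ (g • a) (g • b) = κ a b)
    (a₀ : A) (ha₀ : a₀ ∈ sA) (transA : ∀ a ∈ sA, ∃ g : G, g • a = a₀)
    (transB : ∀ b ∈ sB, ∀ b' ∈ sB, ∃ g : G, g • b = b')
    (base : ∀ b ∈ sB, ∀ b' ∈ sB, κ a₀ b = κ a₀ b' → ∃ g : G, g • a₀ = a₀ ∧ g • b = b') :
    Flag G A B where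
  sA := sA
  sB := sB
  κ := κ
  smul_memA := smul_memA
  smul_memB := smul_memB
  κ_smul := κ_smul
  transA := by
    intro a ha a' ha'
    obtain ⟨g, hg⟩ := transA a ha
    obtain ⟨g', hg'⟩ := transA a' ha'
    exact ⟨g'⁻¹ * g, by rw [mul_smul, hg, inv_smul_eq_iff, hg']⟩
  transB := transB
  flag := by
    intro a ha a' ha' b hb b' hb' hκ
    obtain ⟨g, hg⟩ := transA a ha
    obtain ⟨g', hg'⟩ := transA a' ha'
    have h1 : κ a₀ (g • b) = κ a₀ (g' • b') := by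
      rw [← κ_smul g a b, ← κ_smul g' a' b', hg, hg'] at hκ
      exact hκ
    obtain ⟨h, hh, hhb⟩ := base _ (smul_memB g b hb) _ (smul_memB g' b' hb') h1
    refine ⟨g'⁻¹ * h * g, ?_, ?_⟩
    · rw [mul_smul, mul_smul, hg, hh, inv_smul_eq_iff, hg']
    · rw [mul_smul, mul_smul, hhb, inv_smul_smul]

/-- The dual flag data. -/
def swap (F : Flag G A B) : Flag G B A where
  sA := F.sB
  sB := F.sA
  κ := fun b a => F.κ a b
  smul_memA := F.smul_memB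
  smul_memB := F.smul_memA
  κ_smul := fun g b a => F.κ_smul g a b
  transA := F.transB
  transB := F.transA
  flag := by
    intro b hb b' hb' a ha a' ha' hκ
    obtain ⟨g, hg, hg'⟩ := F.flag a ha a' ha' b hb b' hb' hκ
    exact ⟨g, hg', hg⟩

/-- The class of `k` relative to `a`. -/
def cls (F : Flag G A B) (a : A) (k : ℕ) : Set B := {b | b ∈ F.sB ∧ F.κ a b = k}

theorem mem_cls (F : Flag G A B) {a : A} {k : ℕ} {b : B} :
    b ∈ F.cls a k ↔ b ∈ F.sB ∧ F.κ a b = k := Iff.rfl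

theorem κ_smul_left (F : Flag G A B) (g : G) (a : A) (b : B) :
    F.κ (g • a) b = F.κ a (g⁻¹ • b) := by
  conv_lhs => rw [← smul_inv_smul g b]
  rw [F.κ_smul]

/-- The orbits of the stabilizer of `a` are the classes. -/
theorem orbit_eq (F : Flag G A B) {a : A} (ha : a ∈ F.sA) {b : B} (hb : b ∈ F.sB) :
    MulAction.orbit ↥(MulAction.stabilizer G a) b = F.cls a (F.κ a b) := by
  ext b'
  constructor
  · rintro ⟨h, rfl⟩
    refine ⟨F.smul_memB (h : G) b hb, ?_⟩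
    have h1 : (h : G) • a = a := MulAction.mem_stabilizer_iff.mp h.2
    have h2 := F.κ_smul (h : G) a b
    rw [h1] at h2
    exact h2
  · rintro ⟨hb', hκ⟩
    obtain ⟨g, hga, hgb⟩ := F.flag a ha a ha b hb b' hb' hκ.symm
    exact ⟨⟨g, MulAction.mem_stabilizer_iff.mpr hga⟩, hgb⟩

/-- Classes are carried to classes. -/
theorem image_cls (F : Flag G A B) (g : G) (a : A) (k : ℕ) :
    (fun b => g • b) '' F.cls a k = F.cls (g • a) k := by
  ext b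
  constructor
  · rintro ⟨b', ⟨hb', hκ⟩, rfl⟩
    exact ⟨F.smul_memB g b' hb', by rw [F.κ_smul]; exact hκ⟩
  · rintro ⟨hb, hκ⟩
    refine ⟨g⁻¹ • b, ⟨F.smul_memB _ b hb, ?_⟩, smul_inv_smul g b⟩
    rw [← F.κ_smul_left]
    exact hκ

theorem ncard_cls_smul (F : Flag G A B) (g : G) (a : A) (k : ℕ) :
    (F.cls (g • a) k).ncard = (F.cls a k).ncard := by
  rw [← F.image_cls, Set.ncard_image_of_injective _ (MulAction.injective g)]

/-- Class sizes do not depend on the base object. -/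
theorem ncard_cls_eq (F : Flag G A B) {a a' : A} (ha : a ∈ F.sA) (ha' : a' ∈ F.sA) (k : ℕ) :
    (F.cls a' k).ncard = (F.cls a k).ncard := by
  obtain ⟨g, rfl⟩ := F.transA a ha a' ha'
  exact F.ncard_cls_smul g a k

/-- The values of the invariant do not depend on the base object. -/
theorem exists_κ_eq (F : Flag G A B) {a a' : A} (ha : a ∈ F.sA) (ha' : a' ∈ F.sA) {b : B}
    (hb : b ∈ F.sB) : ∃ b' ∈ F.sB, F.κ a' b' = F.κ a b := by
  obtain ⟨g, rfl⟩ := F.transA a ha a' ha'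
  exact ⟨g • b, F.smul_memB g b hb, F.κ_smul g a b⟩

/-- Double counting. -/
theorem double_count (F : Flag G A B) (hA : F.sA.Finite) (hB : F.sB.Finite) {a₀ : A}
    (ha₀ : a₀ ∈ F.sA) {b₀ : B} (hb₀ : b₀ ∈ F.sB) (k : ℕ) :
    F.sA.ncard * (F.cls a₀ k).ncard = F.sB.ncard * (F.swap.cls b₀ k).ncard := by
  classical
  have key := Finset.sum_card_bipartiteAbove_eq_sum_card_bipartiteBelow
    (s := hA.toFinset) (t := hB.toFinset) (fun a b => F.κ a b = k)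
  have hL : ∀ a ∈ hA.toFinset, (Finset.bipartiteAbove (fun a b => F.κ a b = k) hB.toFinset a).card
      = (F.cls a₀ k).ncard := by
    intro a ha
    rw [Set.Finite.mem_toFinset] at ha
    rw [← F.ncard_cls_eq ha₀ ha k, ← Set.ncard_coe_finset]
    congr 1
    ext b
    simp [Finset.bipartiteAbove, cls]
  have hR : ∀ b ∈ hB.toFinset, (Finset.bipartiteBelow (fun a b => F.κ a b = k) hA.toFinset b).card
      = (F.swap.cls b₀ k).ncard := by
    intro b hb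
    rw [Set.Finite.mem_toFinset] at hb
    rw [← F.swap.ncard_cls_eq (a := b₀) (a' := b) hb₀ hb k, ← Set.ncard_coe_finset]
    congr 1
    ext a
    simp [Finset.bipartiteBelow, cls, swap]
  rw [Finset.sum_congr rfl hL, Finset.sum_congr rfl hR, Finset.sum_const, Finset.sum_const,
    smul_eq_mul, smul_eq_mul, ← Set.ncard_eq_toFinset_card _ hA,
    ← Set.ncard_eq_toFinset_card _ hB] at key
  exact key

/-- Three classes: the orbit decomposition. -/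
theorem three_orbits (F : Flag G A B) {a : A} (ha : a ∈ F.sA) {k₁ k₂ k₃ n₁ n₂ n₃ : ℕ}
    (hcls : ∀ b ∈ F.sB, F.κ a b = k₁ ∨ F.κ a b = k₂ ∨ F.κ a b = k₃)
    (h₁ : (F.cls a k₁).ncard = n₁) (h₂ : (F.cls a k₂).ncard = n₂) (h₃ : (F.cls a k₃).ncard = n₃)
    (hn₁ : n₁ ≠ 0) (hn₂ : n₂ ≠ 0) (hn₃ : n₃ ≠ 0) :
    ∃ X₁ ∈ F.sB, ∃ X₂ ∈ F.sB, ∃ X₃ ∈ F.sB,
      (MulAction.orbit ↥(MulAction.stabilizer G a) X₁).ncard = n₁ ∧
      (MulAction.orbit ↥(MulAction.stabilizer G a) X₂).ncard = n₂ ∧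
      (MulAction.orbit ↥(MulAction.stabilizer G a) X₃).ncard = n₃ ∧
      F.sB = MulAction.orbit ↥(MulAction.stabilizer G a) X₁ ∪
        MulAction.orbit ↥(MulAction.stabilizer G a) X₂ ∪
        MulAction.orbit ↥(MulAction.stabilizer G a) X₃ := by
  obtain ⟨X₁, hX₁, hκ₁⟩ := Set.nonempty_of_ncard_ne_zero (h₁ ▸ hn₁)
  obtain ⟨X₂, hX₂, hκ₂⟩ := Set.nonempty_of_ncard_ne_zero (h₂ ▸ hn₂)
  obtain ⟨X₃, hX₃, hκ₃⟩ := Set.nonempty_of_ncard_ne_zero (h₃ ▸ hn₃)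
  refine ⟨X₁, hX₁, X₂, hX₂, X₃, hX₃, ?_, ?_, ?_, ?_⟩
  · rw [F.orbit_eq ha hX₁, hκ₁, h₁]
  · rw [F.orbit_eq ha hX₂, hκ₂, h₂]
  · rw [F.orbit_eq ha hX₃, hκ₃, h₃]
  · rw [F.orbit_eq ha hX₁, F.orbit_eq ha hX₂, F.orbit_eq ha hX₃, hκ₁, hκ₂, hκ₃]
    ext b
    simp only [Set.mem_union, mem_cls]
    constructor
    · intro hb
      rcases hcls b hb with h | h | h
      · exact Or.inl (Or.inl ⟨hb, h⟩)
      · exact Or.inl (Or.inr ⟨hb, h⟩)
      · exact Or.inr ⟨hb, h⟩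
    · rintro ((h | h) | h) <;> exact h.1

/-- Four classes: the orbit decomposition. -/
theorem four_orbits (F : Flag G A B) {a : A} (ha : a ∈ F.sA) {k₁ k₂ k₃ k₄ n₁ n₂ n₃ n₄ : ℕ}
    (hcls : ∀ b ∈ F.sB, F.κ a b = k₁ ∨ F.κ a b = k₂ ∨ F.κ a b = k₃ ∨ F.κ a b = k₄)
    (h₁ : (F.cls a k₁).ncard = n₁) (h₂ : (F.cls a k₂).ncard = n₂) (h₃ : (F.cls a k₃).ncard = n₃)
    (h₄ : (F.cls a k₄).ncard = n₄)
    (hn₁ : n₁ ≠ 0) (hn₂ : n₂ ≠ 0) (hn₃ : n₃ ≠ 0) (hn₄ : n₄ ≠ 0) :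
    ∃ X₁ ∈ F.sB, ∃ X₂ ∈ F.sB, ∃ X₃ ∈ F.sB, ∃ X₄ ∈ F.sB,
      (MulAction.orbit ↥(MulAction.stabilizer G a) X₁).ncard = n₁ ∧
      (MulAction.orbit ↥(MulAction.stabilizer G a) X₂).ncard = n₂ ∧
      (MulAction.orbit ↥(MulAction.stabilizer G a) X₃).ncard = n₃ ∧
      (MulAction.orbit ↥(MulAction.stabilizer G a) X₄).ncard = n₄ ∧
      F.sB = MulAction.orbit ↥(MulAction.stabilizer G a) X₁ ∪
        MulAction.orbit ↥(MulAction.stabilizer G a) X₂ ∪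
        MulAction.orbit ↥(MulAction.stabilizer G a) X₃ ∪
        MulAction.orbit ↥(MulAction.stabilizer G a) X₄ := by
  obtain ⟨X₁, hX₁, hκ₁⟩ := Set.nonempty_of_ncard_ne_zero (h₁ ▸ hn₁)
  obtain ⟨X₂, hX₂, hκ₂⟩ := Set.nonempty_of_ncard_ne_zero (h₂ ▸ hn₂)
  obtain ⟨X₃, hX₃, hκ₃⟩ := Set.nonempty_of_ncard_ne_zero (h₃ ▸ hn₃)
  obtain ⟨X₄, hX₄, hκ₄⟩ := Set.nonempty_of_ncard_ne_zero (h₄ ▸ hn₄)
  refine ⟨X₁, hX₁, X₂, hX₂, X₃, hX₃, X₄, hX₄, ?_, ?_, ?_, ?_, ?_⟩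
  · rw [F.orbit_eq ha hX₁, hκ₁, h₁]
  · rw [F.orbit_eq ha hX₂, hκ₂, h₂]
  · rw [F.orbit_eq ha hX₃, hκ₃, h₃]
  · rw [F.orbit_eq ha hX₄, hκ₄, h₄]
  · rw [F.orbit_eq ha hX₁, F.orbit_eq ha hX₂, F.orbit_eq ha hX₃, F.orbit_eq ha hX₄, hκ₁, hκ₂, hκ₃,
      hκ₄]
    ext b
    simp only [Set.mem_union, mem_cls]
    constructor
    · intro hb
      rcases hcls b hb with h | h | h | h
      · exact Or.inl (Or.inl (Or.inl ⟨hb, h⟩))
      · exact Or.inl (Or.inl (Or.inr ⟨hb, h⟩))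
      · exact Or.inl (Or.inr ⟨hb, h⟩)
      · exact Or.inr ⟨hb, h⟩
    · rintro (((h | h) | h) | h) <;> exact h.1

end Flag

end Cfsg.Agent.Lib.Helper93
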