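import Cfsg.Agent.Lib.Helper93.TourSxDod
import Cfsg.Agent.Lib.Helper93.FlagExtra
import Cfsg.Agent.Lib.Helper93.NodupBits
import Cfsg.Agent.Lib.Helper7.Hexads
import Cfsg.Agent.Lib.Helper26.GolayBitsWeights

/-!
# Flag transitivity of `M24` on (sextet, complementary pair of dodecads) pairs
-/

set_option autoImplicit false
open scoped Pointwise
open Cfsg

namespace Cfsg.Agent.Lib.Helper93
open Cfsg.Agent.Lib.Helper7 Cfsg.Agent.Lib.Helper92

/-- The complementary pairs of dodecads. -/
def dodPairs : Set (Finset (Finset GolayPt)) := {D | ∃ d ∈ dodecads, D = {d, Finset.univ \ d}}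

theorem sdiff_mem_dodecads {d : Finset GolayPt} (hd : d ∈ dodecads) :
    Finset.univ \ d ∈ dodecads := by
  rw [← Finset.compl_eq_univ_sdiff]
  exact compl_mem_dodecads hd

theorem dodecad_ne_sdiff {d : Finset GolayPt} (hd : d ∈ dodecads) : d ≠ Finset.univ \ d := by
  intro h
  obtain ⟨p, hp⟩ : d.Nonempty := by rw [← Finset.card_pos, hd.2]; decide
  have := hp
  rw [h, Finset.mem_sdiff] at this
  exact this.2 hp

theorem ncard_dodPairs : dodPairs.ncard = 1288 := by
  classical
  set D : Finset (Finset GolayPt) := Finset.univ.filter (fun d => d ∈ dodecads) with hD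
  set F : Finset (Finset (Finset GolayPt)) := Finset.univ.filter (fun P => P ∈ dodPairs) with hF
  have hmemD : ∀ d, d ∈ D ↔ d ∈ dodecads := fun d => by simp [hD]
  have hmemF : ∀ P, P ∈ F ↔ P ∈ dodPairs := fun P => by simp [hF]
  have hDcard : D.card = 2576 := by
    rw [← Cfsg.Agent.Lib.Helper26.ncard_dodecads, ← Set.ncard_coe_finset]
    congr 1
    ext d
    simp [hD]
  have hFcard : dodPairs.ncard = F.card := by
    rw [← Set.ncard_coe_finset]
    congr 1
    ext P
    simp [hF]
  let φ : Finset GolayPt → Finset (Finset GolayPt) := fun d => {d, Finset.univ \ d}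
  have hφ : ∀ d ∈ D, φ d ∈ F := by
    intro d hd
    rw [hmemF]
    exact ⟨d, (hmemD d).mp hd, rfl⟩
  have hfib : ∀ P ∈ F, (D.filter (fun d => φ d = P)).card = 2 := by
    intro P hP
    rw [hmemF] at hP
    obtain ⟨d₀, hd₀, rfl⟩ := hP
    have hset : D.filter (fun d => φ d = {d₀, Finset.univ \ d₀}) = {d₀, Finset.univ \ d₀} := by
      ext d
      rw [Finset.mem_filter, hmemD, Finset.mem_insert, Finset.mem_singleton]
      constructor
      · rintro ⟨_, hφd⟩
        have : d ∈ ({d₀, Finset.univ \ d₀} : Finset (Finset GolayPt)) := by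
          rw [← hφd]
          simp [φ]
        rwa [Finset.mem_insert, Finset.mem_singleton] at this
      · rintro (rfl | rfl)
        · exact ⟨hd₀, rfl⟩
        · refine ⟨sdiff_mem_dodecads hd₀, ?_⟩
          show ({Finset.univ \ d₀, Finset.univ \ (Finset.univ \ d₀)} : Finset (Finset GolayPt)) = _
          rw [Finset.sdiff_sdiff_eq_self (Finset.subset_univ _), Finset.pair_comm]
    rw [hset, Finset.card_pair (dodecad_ne_sdiff hd₀)]
  have hcount := Finset.card_eq_sum_card_fiberwise hφ
  rw [Finset.sum_congr rfl hfib, Finset.sum_const, smul_eq_mul, hDcard] at hcount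
  rw [hFcard]
  omega

theorem smul_mem_dodPairs {g : Equiv.Perm GolayPt} (hg : g ∈ M24) {D : Finset (Finset GolayPt)}
    (hD : D ∈ dodPairs) : g • D ∈ dodPairs := by
  obtain ⟨d, hd, rfl⟩ := hD
  exact ⟨g • d, smul_mem_dodecads hg hd, smul_decPair g d⟩

theorem exists_M24_smul_dodPair {D D' : Finset (Finset GolayPt)} (hD : D ∈ dodPairs)
    (hD' : D' ∈ dodPairs) : ∃ g ∈ M24, g • D = D' := by
  obtain ⟨d, hd, rfl⟩ := hD
  obtain ⟨d', hd', rfl⟩ := hD'
  obtain ⟨g, hg, hgd⟩ := m24_dodecad_transitive hd hd'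
  exact ⟨g, hg, by rw [smul_decPair, hgd]⟩

/-- Indicator of the value `2`. -/
def isTwo (n : ℕ) : ℕ := if n = 2 then 1 else 0

/-- The invariant: twice the number of tetrads of `S` meeting the dodecads of `D` in two points. -/
def kSxDod (S D : Finset (Finset GolayPt)) : ℕ := interSum isTwo S D

theorem kSxDod_smul (g : Equiv.Perm GolayPt) (S D : Finset (Finset GolayPt)) :
    kSxDod (g • S) (g • D) = kSxDod S D := interSum_smul isTwo g S D

theorem kSxDod_sxS_smul {g : Equiv.Perm GolayPt} (hg : g ∈ sxH) (D : Finset (Finset GolayPt)) :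
    kSxDod sxS (g • D) = kSxDod sxS D := interSum_sxS_smul isTwo hg D

theorem kSxDod_decPair {m : ℕ} (hm : isDodecadMask m = true) :
    kSxDod sxS (decPair m) = (sxT.map fun t => isTwo (pc (t &&& m)) +
      isTwo (pc (t &&& (allMask ^^^ m)))).sum := by
  unfold kSxDod interSum decPair
  rw [sum_sxS]
  congr 1
  apply List.map_congr_left
  intro t _
  rw [Finset.sum_pair (dodecad_ne_sdiff (setOf_mem_dodecads hm)), ← setOf_compl_mask,
    card_inter_setOf, card_inter_setOf]

/-- The three classes of dodecad pairs relative to the base sextet. -/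
def clsSxDod : List (List ℕ) :=
  [rootSxDod0 :: codesSxDod0, rootSxDod1 :: codesSxDod1, rootSxDod2 :: codesSxDod2]

theorem clsSxDod_ok : ∀ m ∈ clsSxDod.flatten, m < 2 ^ 24 ∧ m.testBit 0 = true := by
  decide +kernel

theorem clsSxDod_nodup : clsSxDod.flatten.Nodup :=
  nodup_of_nodupBits bits48 _ (by decide +kernel)

theorem clsSxDod_length : clsSxDod.flatten.length = 1288 := by decide +kernel

theorem clsSxDod_roots : ∀ L ∈ clsSxDod, isDodecadMask (L.headD 0) = true := by decide +kernel

theorem isDodecadMask_rootSxDod : isDodecadMask rootSxDod0 = true ∧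
    isDodecadMask rootSxDod1 = true ∧ isDodecadMask rootSxDod2 = true := by decide +kernel

theorem kSxDod_roots : kSxDod sxS (decPair rootSxDod0) = 0 ∧
    kSxDod sxS (decPair rootSxDod1) = 8 ∧ kSxDod sxS (decPair rootSxDod2) = 12 := by
  rw [kSxDod_decPair isDodecadMask_rootSxDod.1, kSxDod_decPair isDodecadMask_rootSxDod.2.1,
    kSxDod_decPair isDodecadMask_rootSxDod.2.2]
  decide

/-- Reachability for dodecad pairs under the stabilizer of the base sextet. -/
theorem reach_sx_dod {root : ℕ} {tour codes : List ℕ}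
    (hrun : tourRun (chkTab sxTabs chkPairD) tour [root] = true)
    (hcodes : tourCodes tour = codes) :
    ∀ m ∈ root :: codes, ∃ g ∈ sxH, g • decPair root = decPair m := by
  intro m hm
  rw [← hcodes] at hm
  exact (reach_of_tourRun sxH sxTabs sxTabs_spec decPair (fun _ => True) chkPairD
    (fun σ _ t hmt a b _ hc => ⟨trivial, chkPairD_sound hmt hc⟩) root trivial tour hrun m hm).2

theorem certSxDod : BaseCert sxH dodPairs decPair (kSxDod sxS) clsSxDod where
  fin := Set.toFinite _
  κ_inv := fun g hg b => kSxDod_sxS_smul hg b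
  smul_mem := fun g hg b hb => smul_mem_dodPairs (mem_sxH.mp hg).1 hb
  root_mem := fun L hL => ⟨_, setOf_mem_dodecads (clsSxDod_roots L hL), rfl⟩
  reach := forall_mem_list3 (reach_sx_dod tourSxDod0_run tourCodes_tourSxDod0)
    (reach_sx_dod tourSxDod1_run tourCodes_tourSxDod1)
    (reach_sx_dod tourSxDod2_run tourCodes_tourSxDod2)
  κ_nodup := by
    show [kSxDod sxS (decPair rootSxDod0), kSxDod sxS (decPair rootSxDod1),
      kSxDod sxS (decPair rootSxDod2)].Nodup
    rw [kSxDod_roots.1, kSxDod_roots.2.1, kSxDod_roots.2.2]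
    decide
  inj := fun m hm m' hm' h => decPair_inj (clsSxDod_ok m hm).1 (clsSxDod_ok m' hm').1
    (clsSxDod_ok m hm).2 (clsSxDod_ok m' hm').2 h
  nodup := clsSxDod_nodup
  len := by rw [clsSxDod_length, ncard_dodPairs]

/-- Flag data for sextets and dodecad pairs. -/
noncomputable def flagSxDod :
    Flag ↥M24 (Finset (Finset GolayPt)) (Finset (Finset GolayPt)) :=
  Flag.ofBase sextets dodPairs kSxDod
    (fun g _ ha => smul_mem_sextets g.2 ha)
    (fun g _ hb => smul_mem_dodPairs g.2 hb)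
    (fun g a b => kSxDod_smul (g : Equiv.Perm GolayPt) a b)
    sxS sxS_mem_sextets
    (fun a ha => by
      obtain ⟨g, hg, h⟩ := exists_M24_smul_sextet ha sxS_mem_sextets
      exact ⟨⟨g, hg⟩, h⟩)
    (fun b hb b' hb' => by
      obtain ⟨g, hg, h⟩ := exists_M24_smul_dodPair hb hb'
      exact ⟨⟨g, hg⟩, h⟩)
    (fun b hb b' hb' h => by
      obtain ⟨g, hg, hgb⟩ := certSxDod.trans hb hb' h
      exact ⟨⟨g, (mem_sxH.mp hg).1⟩, (mem_sxH.mp hg).2, hgb⟩)

/-- Values of the invariant. -/
theorem kSxDod_cases {S : Finset (Finset GolayPt)} (hS : S ∈ sextets)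
    {D : Finset (Finset GolayPt)} (hD : D ∈ dodPairs) :
    kSxDod S D = 0 ∨ kSxDod S D = 8 ∨ kSxDod S D = 12 := by
  refine flagSxDod.κ_values (a₀ := sxS) sxS_mem_sextets
    (P := fun k => k = 0 ∨ k = 8 ∨ k = 12) ?_ S hS D hD
  intro b hb
  obtain ⟨L, hL, hκ⟩ := certSxDod.κ_cases hb
  show kSxDod sxS b = 0 ∨ kSxDod sxS b = 8 ∨ kSxDod sxS b = 12
  rw [hκ]
  have hall : ∀ L ∈ clsSxDod, kSxDod sxS (decPair (L.headD 0)) = 0 ∨
      kSxDod sxS (decPair (L.headD 0)) = 8 ∨ kSxDod sxS (decPair (L.headD 0)) = 12 :=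
    forall_mem_list3 (Or.inl kSxDod_roots.1) (Or.inr (Or.inl kSxDod_roots.2.1))
      (Or.inr (Or.inr kSxDod_roots.2.2))
  exact hall L hL

/-- Class sizes on the dodecad-pair side (at the base sextet). -/
theorem ncard_cls_sxDod : (flagSxDod.cls sxS 0).ncard = 640 ∧
    (flagSxDod.cls sxS 8).ncard = 360 ∧ (flagSxDod.cls sxS 12).ncard = 288 := by
  have h0 := certSxDod.ncard_level (L := rootSxDod0 :: codesSxDod0) List.mem_cons_self
  have h1 := certSxDod.ncard_level (L := rootSxDod1 :: codesSxDod1)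
    (List.mem_cons_of_mem _ List.mem_cons_self)
  have h2 := certSxDod.ncard_level (L := rootSxDod2 :: codesSxDod2)
    (List.mem_cons_of_mem _ (List.mem_cons_of_mem _ List.mem_cons_self))
  simp only [List.headD_cons] at h0 h1 h2
  rw [kSxDod_roots.1] at h0
  rw [kSxDod_roots.2.1] at h1
  rw [kSxDod_roots.2.2] at h2
  refine ⟨h0.trans (by decide +kernel), h1.trans (by decide +kernel), h2.trans (by decide +kernel)⟩

/-- Class sizes on the sextet side, by double counting. -/
theorem ncard_cls_dod_swap {D : Finset (Finset GolayPt)} (hD : D ∈ dodPairs) :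
    (flagSxDod.swap.cls D 12).ncard = 396 ∧ (flagSxDod.swap.cls D 8).ncard = 495 ∧
      (flagSxDod.swap.cls D 0).ncard = 880 := by
  have hA : flagSxDod.sA.Finite := Set.toFinite _
  have hB : flagSxDod.sB.Finite := Set.toFinite _
  have hnA : flagSxDod.sA.ncard = 1771 := Cfsg.Agent.S1550.result.2
  have hnB : flagSxDod.sB.ncard = 1288 := ncard_dodPairs
  have hs := ncard_cls_sxDod
  have d1 := flagSxDod.double_count hA hB (a₀ := sxS) sxS_mem_sextets (b₀ := D) hD 0
  have d2 := flagSxDod.double_count hA hB (a₀ := sxS) sxS_mem_sextets (b₀ := D) hD 8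
  have d3 := flagSxDod.double_count hA hB (a₀ := sxS) sxS_mem_sextets (b₀ := D) hD 12
  rw [hnA, hnB, hs.1] at d1
  rw [hnA, hnB, hs.2.1] at d2
  rw [hnA, hnB, hs.2.2] at d3
  refine ⟨by omega, by omega, by omega⟩

end Cfsg.Agent.Lib.Helper93
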