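import Cfsg.Agent.Lib.Helper93.TourSxOct
import Cfsg.Agent.Lib.Helper93.FlagExtra
import Cfsg.Agent.Lib.Helper93.NodupBits
import Cfsg.Agent.Lib.Helper26.GolayBitsWeights

/-!
# Flag transitivity of `M24` on (sextet, octad) pairs
-/

set_option autoImplicit false
open scoped Pointwise
open Cfsg

namespace Cfsg.Agent.Lib.Helper93
open Cfsg.Agent.Lib.Helper7 Cfsg.Agent.Lib.Helper92

/-- The number of tetrads of `S` met by `X`. -/
def kSet (S : Finset (Finset GolayPt)) (X : Finset GolayPt) : ℕ := interSum nz S {X}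

theorem kSet_smul (g : Equiv.Perm GolayPt) (S : Finset (Finset GolayPt)) (X : Finset GolayPt) :
    kSet (g • S) (g • X) = kSet S X := by
  unfold kSet
  rw [← smul_singleton_finset]
  exact interSum_smul nz g S {X}

theorem kSet_sxS_smul {g : Equiv.Perm GolayPt} (hg : g ∈ sxH) (X : Finset GolayPt) :
    kSet sxS (g • X) = kSet sxS X := by
  conv_lhs => rw [← (mem_sxH.mp hg).2]
  exact kSet_smul g sxS X

theorem kSet_sxS_setOf (x : ℕ) :
    kSet sxS (Helper7.setOf x) = (sxT.map fun m => nz (pc (m &&& x))).sum :=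
  interSum_sxS_singleton nz x

/-- Reachability for masks under the stabilizer of the base sextet. -/
theorem reach_sx_mask {root : ℕ} {tour codes : List ℕ}
    (hrun : tourRun (chkTab sxTabs chkMask) tour [root] = true) (hcodes : tourCodes tour = codes) :
    ∀ m ∈ root :: codes, ∃ g ∈ sxH, g • Helper7.setOf root = Helper7.setOf m := by
  intro m hm
  rw [← hcodes] at hm
  exact (reach_of_tourRun sxH sxTabs sxTabs_spec Helper7.setOf (fun _ => True) chkMask
    (fun σ _ t hmt a b _ hc => ⟨trivial, chkMask_sound hmt hc⟩) root trivial tour hrun m hm).2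

/-- The three classes of octads relative to the base sextet. -/
def clsSxOct : List (List ℕ) :=
  [rootSxOct0 :: codesSxOct0, rootSxOct1 :: codesSxOct1, rootSxOct2 :: codesSxOct2]

theorem clsSxOct_lt : ∀ m ∈ clsSxOct.flatten, m < 2 ^ 24 := by decide +kernel

theorem clsSxOct_nodup : clsSxOct.flatten.Nodup :=
  nodup_of_nodupBits bits48 _ (by decide +kernel)

theorem clsSxOct_length : clsSxOct.flatten.length = 759 := by decide +kernel

theorem clsSxOct_roots : ∀ L ∈ clsSxOct, isOctadMask (L.headD 0) = true := by decide +kernel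

theorem kSet_rootSxOct : kSet sxS (Helper7.setOf rootSxOct0) = 2 ∧
    kSet sxS (Helper7.setOf rootSxOct1) = 4 ∧ kSet sxS (Helper7.setOf rootSxOct2) = 6 := by
  rw [kSet_sxS_setOf, kSet_sxS_setOf, kSet_sxS_setOf]
  decide

theorem certSxOct : BaseCert sxH octads Helper7.setOf (kSet sxS) clsSxOct where
  fin := Set.toFinite _
  κ_inv := fun g hg b => kSet_sxS_smul hg b
  smul_mem := fun g hg b hb => smul_mem_octads (mem_sxH.mp hg).1 hb
  root_mem := fun L hL => setOf_mem_octads (clsSxOct_roots L hL)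
  reach := forall_mem_list3 (reach_sx_mask tourSxOct0_run tourCodes_tourSxOct0)
    (reach_sx_mask tourSxOct1_run tourCodes_tourSxOct1)
    (reach_sx_mask tourSxOct2_run tourCodes_tourSxOct2)
  κ_nodup := by
    show [kSet sxS (Helper7.setOf rootSxOct0), kSet sxS (Helper7.setOf rootSxOct1),
      kSet sxS (Helper7.setOf rootSxOct2)].Nodup
    rw [kSet_rootSxOct.1, kSet_rootSxOct.2.1, kSet_rootSxOct.2.2]
    decide
  inj := fun m hm m' hm' h => setOf_injOn (clsSxOct_lt m hm) (clsSxOct_lt m' hm') h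
  nodup := clsSxOct_nodup
  len := by rw [clsSxOct_length, Cfsg.Agent.Lib.Helper26.ncard_octads]

/-- Flag data for sextets and octads. -/
noncomputable def flagSxOct : Flag ↥M24 (Finset (Finset GolayPt)) (Finset GolayPt) :=
  Flag.ofBase sextets octads kSet
    (fun g _ ha => smul_mem_sextets g.2 ha)
    (fun g _ hb => smul_mem_octads g.2 hb)
    (fun g a b => kSet_smul (g : Equiv.Perm GolayPt) a b)
    sxS sxS_mem_sextets
    (fun a ha => by
      obtain ⟨g, hg, h⟩ := exists_M24_smul_sextet ha sxS_mem_sextets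
      exact ⟨⟨g, hg⟩, h⟩)
    (fun b hb b' hb' => exists_M24_smul_octad hb hb')
    (fun b hb b' hb' h => by
      obtain ⟨g, hg, hgb⟩ := certSxOct.trans hb hb' h
      exact ⟨⟨g, (mem_sxH.mp hg).1⟩, (mem_sxH.mp hg).2, hgb⟩)

theorem flagSxOct_sA : flagSxOct.sA = sextets := rfl
theorem flagSxOct_sB : flagSxOct.sB = octads := rfl
theorem flagSxOct_κ : flagSxOct.κ = kSet := rfl

/-- Values of the invariant. -/
theorem kSet_sextet_octad_cases {S : Finset (Finset GolayPt)} (hS : S ∈ sextets)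
    {o : Finset GolayPt} (ho : o ∈ octads) : kSet S o = 2 ∨ kSet S o = 4 ∨ kSet S o = 6 := by
  refine flagSxOct.κ_values (a₀ := sxS) sxS_mem_sextets (P := fun k => k = 2 ∨ k = 4 ∨ k = 6) ?_
    S hS o ho
  intro b hb
  obtain ⟨L, hL, hκ⟩ := certSxOct.κ_cases hb
  show kSet sxS b = 2 ∨ kSet sxS b = 4 ∨ kSet sxS b = 6
  rw [hκ]
  have hall : ∀ L ∈ clsSxOct, kSet sxS (Helper7.setOf (L.headD 0)) = 2 ∨
      kSet sxS (Helper7.setOf (L.headD 0)) = 4 ∨ kSet sxS (Helper7.setOf (L.headD 0)) = 6 :=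
    forall_mem_list3 (Or.inl kSet_rootSxOct.1) (Or.inr (Or.inl kSet_rootSxOct.2.1))
      (Or.inr (Or.inr kSet_rootSxOct.2.2))
  exact hall L hL

/-- Class sizes on the octad side. -/
theorem ncard_cls_sxOct {S : Finset (Finset GolayPt)} (hS : S ∈ sextets) :
    (flagSxOct.cls S 2).ncard = 15 ∧ (flagSxOct.cls S 4).ncard = 360 ∧
      (flagSxOct.cls S 6).ncard = 384 := by
  rw [flagSxOct.ncard_cls_eq sxS_mem_sextets hS, flagSxOct.ncard_cls_eq sxS_mem_sextets hS,
    flagSxOct.ncard_cls_eq sxS_mem_sextets hS]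
  have h0 := certSxOct.ncard_level (L := rootSxOct0 :: codesSxOct0) List.mem_cons_self
  have h1 := certSxOct.ncard_level (L := rootSxOct1 :: codesSxOct1) (List.mem_cons_of_mem _ List.mem_cons_self)
  have h2 := certSxOct.ncard_level (L := rootSxOct2 :: codesSxOct2) (List.mem_cons_of_mem _ (List.mem_cons_of_mem _ List.mem_cons_self))
  simp only [List.headD_cons] at h0 h1 h2
  rw [kSet_rootSxOct.1] at h0
  rw [kSet_rootSxOct.2.1] at h1
  rw [kSet_rootSxOct.2.2] at h2
  refine ⟨h0.trans (by decide +kernel), h1.trans (by decide +kernel), h2.trans (by decide +kernel)⟩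

end Cfsg.Agent.Lib.Helper93
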