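import Cfsg.Agent.Lib.Helper93.TourSxThree
import Cfsg.Agent.Lib.Helper93.FlagSxOct

/-!
# Flag transitivity of `M24` on (sextet, 3-set) pairs
-/

set_option autoImplicit false
open scoped Pointwise
open Cfsg

namespace Cfsg.Agent.Lib.Helper93
open Cfsg.Agent.Lib.Helper7 Cfsg.Agent.Lib.Helper92

/-- The 3-subsets of the 24 points. -/
def threeSets : Set (Finset GolayPt) := {Y | Y.card = 3}

theorem ncard_threeSets : threeSets.ncard = 2024 := by
  have : threeSets = ↑(Finset.powersetCard 3 (Finset.univ : Finset GolayPt)) := by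
    ext Y
    simp [threeSets, Finset.mem_powersetCard]
  rw [this, Set.ncard_coe_finset, Finset.card_powersetCard, Finset.card_univ, card_golayPt24]
  decide

/-- The three classes of 3-sets relative to the base sextet. -/
def clsSxThree : List (List ℕ) :=
  [rootSxThree0 :: codesSxThree0, rootSxThree1 :: codesSxThree1, rootSxThree2 :: codesSxThree2]

theorem clsSxThree_lt : ∀ m ∈ clsSxThree.flatten, m < 2 ^ 24 := by decide +kernel

theorem clsSxThree_nodup : clsSxThree.flatten.Nodup :=
  nodup_of_nodupBits bits48 _ (by decide +kernel)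

theorem clsSxThree_length : clsSxThree.flatten.length = 2024 := by decide +kernel

theorem clsSxThree_roots : ∀ L ∈ clsSxThree, pc (L.headD 0) = 3 := by decide +kernel

theorem kSet_rootSxThree : kSet sxS (Helper7.setOf rootSxThree0) = 1 ∧
    kSet sxS (Helper7.setOf rootSxThree1) = 2 ∧ kSet sxS (Helper7.setOf rootSxThree2) = 3 := by
  rw [kSet_sxS_setOf, kSet_sxS_setOf, kSet_sxS_setOf]
  decide

theorem certSxThree : BaseCert sxH threeSets Helper7.setOf (kSet sxS) clsSxThree where
  fin := Set.toFinite _
  κ_inv := fun g hg b => kSet_sxS_smul hg b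
  smul_mem := fun g _ b hb => by
    show (g • b).card = 3
    rw [card_perm_smul_finset]
    exact hb
  root_mem := fun L hL => by
    show (Helper7.setOf (L.headD 0)).card = 3
    rw [card_setOf]
    exact clsSxThree_roots L hL
  reach := forall_mem_list3 (reach_sx_mask tourSxThree0_run tourCodes_tourSxThree0)
    (reach_sx_mask tourSxThree1_run tourCodes_tourSxThree1)
    (reach_sx_mask tourSxThree2_run tourCodes_tourSxThree2)
  κ_nodup := by
    show [kSet sxS (Helper7.setOf rootSxThree0), kSet sxS (Helper7.setOf rootSxThree1),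
      kSet sxS (Helper7.setOf rootSxThree2)].Nodup
    rw [kSet_rootSxThree.1, kSet_rootSxThree.2.1, kSet_rootSxThree.2.2]
    decide
  inj := fun m hm m' hm' h => setOf_injOn (clsSxThree_lt m hm) (clsSxThree_lt m' hm') h
  nodup := clsSxThree_nodup
  len := by rw [clsSxThree_length, ncard_threeSets]

/-- Flag data for sextets and 3-sets. -/
noncomputable def flagSxThree : Flag ↥M24 (Finset (Finset GolayPt)) (Finset GolayPt) :=
  Flag.ofBase sextets threeSets kSet
    (fun g _ ha => smul_mem_sextets g.2 ha)
    (fun g b hb => by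
      show ((g : Equiv.Perm GolayPt) • b).card = 3
      rw [card_perm_smul_finset]
      exact hb)
    (fun g a b => kSet_smul (g : Equiv.Perm GolayPt) a b)
    sxS sxS_mem_sextets
    (fun a ha => by
      obtain ⟨g, hg, h⟩ := exists_M24_smul_sextet ha sxS_mem_sextets
      exact ⟨⟨g, hg⟩, h⟩)
    (fun b hb b' hb' => by
      obtain ⟨g, hg, h⟩ := exists_M24_smul_small (s := b) (s' := b')
        (by rw [show b.card = 3 from hb, show b'.card = 3 from hb'])
        (by rw [show b.card = 3 from hb]; decide)
      exact ⟨⟨g, hg⟩, h⟩)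
    (fun b hb b' hb' h => by
      obtain ⟨g, hg, hgb⟩ := certSxThree.trans hb hb' h
      exact ⟨⟨g, (mem_sxH.mp hg).1⟩, (mem_sxH.mp hg).2, hgb⟩)

/-- Class sizes on the 3-set side (at the base sextet). -/
theorem ncard_cls_sxThree : (flagSxThree.cls sxS 1).ncard = 24 ∧
    (flagSxThree.cls sxS 2).ncard = 720 ∧ (flagSxThree.cls sxS 3).ncard = 1280 := by
  have h0 := certSxThree.ncard_level (L := rootSxThree0 :: codesSxThree0) List.mem_cons_self
  have h1 := certSxThree.ncard_level (L := rootSxThree1 :: codesSxThree1)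
    (List.mem_cons_of_mem _ List.mem_cons_self)
  have h2 := certSxThree.ncard_level (L := rootSxThree2 :: codesSxThree2)
    (List.mem_cons_of_mem _ (List.mem_cons_of_mem _ List.mem_cons_self))
  simp only [List.headD_cons] at h0 h1 h2
  rw [kSet_rootSxThree.1] at h0
  rw [kSet_rootSxThree.2.1] at h1
  rw [kSet_rootSxThree.2.2] at h2
  refine ⟨h0.trans (by decide +kernel), h1.trans (by decide +kernel), h2.trans (by decide +kernel)⟩

/-- Class sizes on the sextet side, by double counting. -/
theorem ncard_cls_three_swap {Y : Finset GolayPt} (hY : Y.card = 3) :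
    (flagSxThree.swap.cls Y 1).ncard = 21 ∧ (flagSxThree.swap.cls Y 2).ncard = 630 ∧
      (flagSxThree.swap.cls Y 3).ncard = 1120 := by
  have hA : flagSxThree.sA.Finite := Set.toFinite _
  have hB : flagSxThree.sB.Finite := Set.toFinite _
  have hnA : flagSxThree.sA.ncard = 1771 := Cfsg.Agent.S1550.result.2
  have hnB : flagSxThree.sB.ncard = 2024 := ncard_threeSets
  have hs := ncard_cls_sxThree
  have d1 := flagSxThree.double_count hA hB (a₀ := sxS) sxS_mem_sextets (b₀ := Y) hY 1
  have d2 := flagSxThree.double_count hA hB (a₀ := sxS) sxS_mem_sextets (b₀ := Y) hY 2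
  have d3 := flagSxThree.double_count hA hB (a₀ := sxS) sxS_mem_sextets (b₀ := Y) hY 3
  rw [hnA, hnB, hs.1] at d1
  rw [hnA, hnB, hs.2.1] at d2
  rw [hnA, hnB, hs.2.2] at d3
  refine ⟨by omega, by omega, by omega⟩

/-- The invariant is the number of tetrads met. -/
theorem kSet_eq_card_filter (S : Finset (Finset GolayPt)) (Y : Finset GolayPt) :
    kSet S Y = (S.filter fun t => (t ∩ Y).Nonempty).card := by
  unfold kSet interSum
  rw [Finset.card_filter]
  apply Finset.sum_congr rfl
  intro t _
  rw [Finset.sum_singleton]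
  unfold nz
  by_cases h : (t ∩ Y).Nonempty
  · rw [if_pos h, if_neg]
    rw [Finset.card_eq_zero]
    exact h.ne_empty
  · rw [if_neg h, if_pos]
    rw [Finset.card_eq_zero]
    exact Finset.not_nonempty_iff_eq_empty.mp h

end Cfsg.Agent.Lib.Helper93
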