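import Cfsg.Agent.Lib.Helper93.TourSxTrio
import Cfsg.Agent.Lib.Helper93.TrioEval
import Cfsg.Agent.Lib.Helper93.FlagExtra
import Cfsg.Agent.Lib.Helper93.NodupBits
import Cfsg.Agent.S1557

/-!
# Flag transitivity of `M24` on (sextet, trio) pairs
-/

set_option autoImplicit false
open scoped Pointwise
open Cfsg

namespace Cfsg.Agent.Lib.Helper93
open Cfsg.Agent.Lib.Helper7 Cfsg.Agent.Lib.Helper92

/-- The number of pairs (tetrad of `S`, octad of `T`) that meet. -/
def kSxTrio (S T : Finset (Finset GolayPt)) : ℕ := interSum nz S T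

theorem kSxTrio_smul (g : Equiv.Perm GolayPt) (S T : Finset (Finset GolayPt)) :
    kSxTrio (g • S) (g • T) = kSxTrio S T := interSum_smul nz g S T

theorem kSxTrio_sxS_smul {g : Equiv.Perm GolayPt} (hg : g ∈ sxH) (T : Finset (Finset GolayPt)) :
    kSxTrio sxS (g • T) = kSxTrio sxS T := interSum_sxS_smul nz hg T

theorem kSxTrio_decTrio {c : ℕ} (hc : trioOK c = true) :
    kSxTrio sxS (decTrio c) = (sxT.map fun m => nz (pc (m &&& (c % 16777216))) +
      nz (pc (m &&& (c / 16777216))) +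
      nz (pc (m &&& (allMask ^^^ ((c % 16777216) ^^^ (c / 16777216)))))).sum := by
  obtain ⟨h1, h0⟩ := decTrio_mem_of_trioOK hc
  unfold kSxTrio
  rw [interSum_decTrio nz _ h1 h0, sum_sxS]
  congr 1
  apply List.map_congr_left
  intro m _
  rw [card_inter_setOf, card_inter_setOf, card_inter_setOf]

/-- The four classes of trios relative to the base sextet. -/
def clsSxTrio : List (List ℕ) :=
  [rootSxTrio0 :: codesSxTrio0, rootSxTrio1 :: codesSxTrio1, rootSxTrio2 :: codesSxTrio2,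
    rootSxTrio3 :: codesSxTrio3]

theorem clsSxTrio_canon : ∀ m ∈ clsSxTrio.flatten, canonTrio m = true := by decide +kernel

theorem clsSxTrio_nodup : clsSxTrio.flatten.Nodup :=
  nodup_of_nodupBits bits48 _ (by decide +kernel)

theorem clsSxTrio_length : clsSxTrio.flatten.length = 3795 := by decide +kernel

theorem trioOK_rootSxTrio : trioOK rootSxTrio0 = true ∧ trioOK rootSxTrio1 = true ∧
    trioOK rootSxTrio2 = true ∧ trioOK rootSxTrio3 = true := by decide +kernel

theorem kSxTrio_roots : kSxTrio sxS (decTrio rootSxTrio0) = 6 ∧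
    kSxTrio sxS (decTrio rootSxTrio1) = 10 ∧ kSxTrio sxS (decTrio rootSxTrio2) = 12 ∧
    kSxTrio sxS (decTrio rootSxTrio3) = 16 := by
  rw [kSxTrio_decTrio trioOK_rootSxTrio.1, kSxTrio_decTrio trioOK_rootSxTrio.2.1,
    kSxTrio_decTrio trioOK_rootSxTrio.2.2.1, kSxTrio_decTrio trioOK_rootSxTrio.2.2.2]
  decide

theorem clsSxTrio_valid : ∀ L ∈ clsSxTrio, ∀ m ∈ L,
    decTrio m ∈ trios ∧ ∃ g ∈ sxH, g • decTrio (L.headD 0) = decTrio m :=
  forall_mem_list4
    (reach_trio sxH inf_le_left sxTabs sxTabs_spec trioOK_rootSxTrio.1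
      tourSxTrio0_run tourCodes_tourSxTrio0)
    (reach_trio sxH inf_le_left sxTabs sxTabs_spec trioOK_rootSxTrio.2.1
      tourSxTrio1_run tourCodes_tourSxTrio1)
    (reach_trio sxH inf_le_left sxTabs sxTabs_spec trioOK_rootSxTrio.2.2.1
      tourSxTrio2_run tourCodes_tourSxTrio2)
    (reach_trio sxH inf_le_left sxTabs sxTabs_spec trioOK_rootSxTrio.2.2.2
      tourSxTrio3_run tourCodes_tourSxTrio3)

theorem clsSxTrio_roots : ∀ L ∈ clsSxTrio, trioOK (L.headD 0) = true :=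
  forall_mem_list4 trioOK_rootSxTrio.1 trioOK_rootSxTrio.2.1 trioOK_rootSxTrio.2.2.1
    trioOK_rootSxTrio.2.2.2

theorem certSxTrio : BaseCert sxH trios decTrio (kSxTrio sxS) clsSxTrio where
  fin := Set.toFinite _
  κ_inv := fun g hg b => kSxTrio_sxS_smul hg b
  smul_mem := fun g hg b hb => smul_mem_trios (mem_sxH.mp hg).1 hb
  root_mem := fun L hL => (decTrio_mem_of_trioOK (clsSxTrio_roots L hL)).1
  reach := fun L hL m hm => (clsSxTrio_valid L hL m hm).2
  κ_nodup := by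
    show [kSxTrio sxS (decTrio rootSxTrio0), kSxTrio sxS (decTrio rootSxTrio1),
      kSxTrio sxS (decTrio rootSxTrio2), kSxTrio sxS (decTrio rootSxTrio3)].Nodup
    rw [kSxTrio_roots.1, kSxTrio_roots.2.1, kSxTrio_roots.2.2.1, kSxTrio_roots.2.2.2]
    decide
  inj := by
    intro m hm m' hm' h
    obtain ⟨L, hL, hmL⟩ := List.mem_flatten.mp hm
    exact decTrio_inj (clsSxTrio_canon m hm) (clsSxTrio_canon m' hm')
      (clsSxTrio_valid L hL m hmL).1 h
  nodup := clsSxTrio_nodup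
  len := by rw [clsSxTrio_length, Cfsg.Agent.S1557.result.2]

/-- Flag data for sextets and trios. -/
noncomputable def flagSxTrio :
    Flag ↥M24 (Finset (Finset GolayPt)) (Finset (Finset GolayPt)) :=
  Flag.ofBase sextets trios kSxTrio
    (fun g _ ha => smul_mem_sextets g.2 ha)
    (fun g _ hb => smul_mem_trios g.2 hb)
    (fun g a b => kSxTrio_smul (g : Equiv.Perm GolayPt) a b)
    sxS sxS_mem_sextets
    (fun a ha => by
      obtain ⟨g, hg, h⟩ := exists_M24_smul_sextet ha sxS_mem_sextets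
      exact ⟨⟨g, hg⟩, h⟩)
    (fun b hb b' hb' => by
      obtain ⟨g, hg, h⟩ := exists_M24_smul_trio hb hb'
      exact ⟨⟨g, hg⟩, h⟩)
    (fun b hb b' hb' h => by
      obtain ⟨g, hg, hgb⟩ := certSxTrio.trans hb hb' h
      exact ⟨⟨g, (mem_sxH.mp hg).1⟩, (mem_sxH.mp hg).2, hgb⟩)

/-- Values of the invariant. -/
theorem kSxTrio_cases {S : Finset (Finset GolayPt)} (hS : S ∈ sextets)
    {T : Finset (Finset GolayPt)} (hT : T ∈ trios) :
    kSxTrio S T = 6 ∨ kSxTrio S T = 10 ∨ kSxTrio S T = 12 ∨ kSxTrio S T = 16 := by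
  refine flagSxTrio.κ_values (a₀ := sxS) sxS_mem_sextets
    (P := fun k => k = 6 ∨ k = 10 ∨ k = 12 ∨ k = 16) ?_ S hS T hT
  intro b hb
  obtain ⟨L, hL, hκ⟩ := certSxTrio.κ_cases hb
  show kSxTrio sxS b = 6 ∨ kSxTrio sxS b = 10 ∨ kSxTrio sxS b = 12 ∨ kSxTrio sxS b = 16
  rw [hκ]
  have hall : ∀ L ∈ clsSxTrio, kSxTrio sxS (decTrio (L.headD 0)) = 6 ∨
      kSxTrio sxS (decTrio (L.headD 0)) = 10 ∨ kSxTrio sxS (decTrio (L.headD 0)) = 12 ∨
      kSxTrio sxS (decTrio (L.headD 0)) = 16 :=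
    forall_mem_list4 (Or.inl kSxTrio_roots.1) (Or.inr (Or.inl kSxTrio_roots.2.1))
      (Or.inr (Or.inr (Or.inl kSxTrio_roots.2.2.1)))
      (Or.inr (Or.inr (Or.inr kSxTrio_roots.2.2.2)))
  exact hall L hL

/-- Class sizes on the trio side. -/
theorem ncard_cls_sxTrio {S : Finset (Finset GolayPt)} (hS : S ∈ sextets) :
    (flagSxTrio.cls S 6).ncard = 15 ∧ (flagSxTrio.cls S 10).ncard = 180 ∧
      (flagSxTrio.cls S 12).ncard = 720 ∧ (flagSxTrio.cls S 16).ncard = 2880 := by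
  have hO : sxS ∈ flagSxTrio.sA := sxS_mem_sextets
  rw [flagSxTrio.ncard_cls_eq hO hS, flagSxTrio.ncard_cls_eq hO hS,
    flagSxTrio.ncard_cls_eq hO hS, flagSxTrio.ncard_cls_eq hO hS]
  have h0 := certSxTrio.ncard_level (L := rootSxTrio0 :: codesSxTrio0) List.mem_cons_self
  have h1 := certSxTrio.ncard_level (L := rootSxTrio1 :: codesSxTrio1)
    (List.mem_cons_of_mem _ List.mem_cons_self)
  have h2 := certSxTrio.ncard_level (L := rootSxTrio2 :: codesSxTrio2)
    (List.mem_cons_of_mem _ (List.mem_cons_of_mem _ List.mem_cons_self))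
  have h3 := certSxTrio.ncard_level (L := rootSxTrio3 :: codesSxTrio3)
    (List.mem_cons_of_mem _ (List.mem_cons_of_mem _ (List.mem_cons_of_mem _ List.mem_cons_self)))
  simp only [List.headD_cons] at h0 h1 h2 h3
  rw [kSxTrio_roots.1] at h0
  rw [kSxTrio_roots.2.1] at h1
  rw [kSxTrio_roots.2.2.1] at h2
  rw [kSxTrio_roots.2.2.2] at h3
  refine ⟨h0.trans (by decide +kernel), h1.trans (by decide +kernel),
    h2.trans (by decide +kernel), h3.trans (by decide +kernel)⟩

end Cfsg.Agent.Lib.Helper93
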