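import Cfsg.Agent.Lib.Helper93.OctadTrioBase
import Cfsg.Agent.S1557
import Cfsg.Agent.S0354
import Cfsg.Prelude.Def_SporadicCombinatorics

/-!
# The trios through an octad
-/

set_option autoImplicit false
open scoped Pointwise
open Cfsg

namespace Cfsg.Agent.Lib.Helper93
open Cfsg.Agent.Lib.Helper7 Cfsg.Agent.Lib.Helper92

theorem card_golayPt24 : Fintype.card GolayPt = 24 := by rfl

/-- An octad disjoint from two disjoint octads is the complement of their union. -/
theorem eq_compl_union {o o₁ a : Finset GolayPt} (ho : o ∈ octads) (ho₁ : o₁ ∈ octads)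
    (ha : a ∈ octads) (hd : Disjoint o o₁) (hda : Disjoint o a) (hda₁ : Disjoint o₁ a) :
    a = (o ∪ o₁)ᶜ := by
  apply Finset.eq_of_subset_of_card_le
  · intro p hp
    rw [Finset.mem_compl, Finset.mem_union]
    rintro (h | h)
    · exact Finset.disjoint_left.mp hda h hp
    · exact Finset.disjoint_left.mp hda₁ h hp
  · rw [Finset.card_compl, card_golayPt24, Finset.card_union_of_disjoint hd, ho.2, ho₁.2, ha.2]

theorem compl_union_mem_octads {o o₁ : Finset GolayPt} (ho : o ∈ octads) (ho₁ : o₁ ∈ octads)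
    (hd : Disjoint o o₁) : (o ∪ o₁)ᶜ ∈ octads :=
  Cfsg.Agent.S1557.result.1 o o₁ ho ho₁ hd

theorem disjoint_compl_union_left (o o₁ : Finset GolayPt) : Disjoint o (o ∪ o₁)ᶜ := by
  rw [Finset.disjoint_left]
  intro p hp hp'
  rw [Finset.mem_compl, Finset.mem_union] at hp'
  exact hp' (Or.inl hp)

theorem disjoint_compl_union_right (o o₁ : Finset GolayPt) : Disjoint o₁ (o ∪ o₁)ᶜ := by
  rw [Finset.disjoint_left]
  intro p hp hp'
  rw [Finset.mem_compl, Finset.mem_union] at hp'
  exact hp' (Or.inr hp)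

theorem octad_ne_of_disjoint {o o₁ : Finset GolayPt} (ho : o ∈ octads) (hd : Disjoint o o₁) :
    o ≠ o₁ := by
  rintro rfl
  rw [disjoint_self, Finset.bot_eq_empty] at hd
  have := ho.2
  rw [hd] at this
  exact absurd this (by decide)

/-- The trio spanned by two disjoint octads. -/
theorem trio_mk {o o₁ : Finset GolayPt} (ho : o ∈ octads) (ho₁ : o₁ ∈ octads)
    (hd : Disjoint o o₁) : ({o, o₁, (o ∪ o₁)ᶜ} : Finset (Finset GolayPt)) ∈ trios := by
  have hc := compl_union_mem_octads ho ho₁ hd
  have h1 : o ≠ o₁ := octad_ne_of_disjoint ho hd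
  have h2 : o ≠ (o ∪ o₁)ᶜ := octad_ne_of_disjoint ho (disjoint_compl_union_left o o₁)
  have h3 : o₁ ≠ (o ∪ o₁)ᶜ := octad_ne_of_disjoint ho₁ (disjoint_compl_union_right o o₁)
  refine ⟨?_, ?_, ?_⟩
  · rw [Finset.card_insert_of_notMem, Finset.card_insert_of_notMem, Finset.card_singleton]
    · rw [Finset.mem_singleton]; exact h3
    · rw [Finset.mem_insert, Finset.mem_singleton]
      rintro (h | h)
      · exact h1 h
      · exact h2 h
  · intro a ha
    rw [Finset.mem_insert, Finset.mem_insert, Finset.mem_singleton] at ha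
    rcases ha with rfl | rfl | rfl
    · exact ho
    · exact ho₁
    · exact hc
  · intro a ha b hb hab
    rw [Finset.mem_insert, Finset.mem_insert, Finset.mem_singleton] at ha hb
    rcases ha with rfl | rfl | rfl <;> rcases hb with rfl | rfl | rfl
    · exact absurd rfl hab
    · exact hd
    · exact disjoint_compl_union_left _ _
    · exact hd.symm
    · exact absurd rfl hab
    · exact disjoint_compl_union_right _ _
    · exact (disjoint_compl_union_left _ _).symm
    · exact (disjoint_compl_union_right _ _).symm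
    · exact absurd rfl hab

/-- A trio is determined by two of its members. -/
theorem trio_eq {T : Finset (Finset GolayPt)} {o q : Finset GolayPt} (hT : T ∈ trios)
    (ho : o ∈ T) (hq : q ∈ T) (hne : q ≠ o) : T = {o, q, (o ∪ q)ᶜ} := by
  obtain ⟨h3, hoct, hdis⟩ := hT
  have hq' : q ∈ T.erase o := Finset.mem_erase.mpr ⟨hne, hq⟩
  have hc1 : ((T.erase o).erase q).card = 1 := by
    rw [Finset.card_erase_of_mem hq', Finset.card_erase_of_mem ho, h3]
  obtain ⟨r, hr⟩ := Finset.card_eq_one.mp hc1
  have hrmem : r ∈ (T.erase o).erase q := by rw [hr]; exact Finset.mem_singleton_self r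
  rw [Finset.mem_erase, Finset.mem_erase] at hrmem
  obtain ⟨hrq, hro, hrT⟩ := hrmem
  have hreq : r = (o ∪ q)ᶜ :=
    eq_compl_union (hoct o ho) (hoct q hq) (hoct r hrT) (hdis o ho q hq hne.symm)
      (hdis o ho r hrT hro.symm) (hdis q hq r hrT hrq.symm)
  rw [← hreq]
  ext x
  rw [Finset.mem_insert, Finset.mem_insert, Finset.mem_singleton]
  constructor
  · intro hx
    by_cases hxo : x = o
    · exact Or.inl hxo
    · by_cases hxq : x = q
      · exact Or.inr (Or.inl hxq)
      · right; right
        have : x ∈ (T.erase o).erase q :=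
          Finset.mem_erase.mpr ⟨hxq, Finset.mem_erase.mpr ⟨hxo, hx⟩⟩
        rw [hr, Finset.mem_singleton] at this
        exact this
  · rintro (rfl | rfl | rfl)
    · exact ho
    · exact hq
    · exact hrT

/-- Two trios sharing two members are equal. -/
theorem trio_ext {T T' : Finset (Finset GolayPt)} {o q : Finset GolayPt} (hT : T ∈ trios)
    (hT' : T' ∈ trios) (ho : o ∈ T) (ho' : o ∈ T') (hq : q ∈ T) (hq' : q ∈ T') (hne : q ≠ o) :
    T = T' := by
  rw [trio_eq hT ho hq hne, trio_eq hT' ho' hq' hne]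

theorem exists_mem_trio_ne {T : Finset (Finset GolayPt)} (hT : T ∈ trios) (o : Finset GolayPt) :
    ∃ q ∈ T, q ≠ o :=
  Finset.exists_mem_ne (by rw [hT.1]; decide) o

/-- The action of `M24` preserves trios. -/
theorem smul_mem_trios {g : Equiv.Perm GolayPt} (hg : g ∈ M24) {T : Finset (Finset GolayPt)}
    (hT : T ∈ trios) : g • T ∈ trios := by
  obtain ⟨h3, hoct, hdis⟩ := hT
  refine ⟨?_, ?_, ?_⟩
  · rw [Finset.card_smul_finset, h3]
  · intro a ha
    rw [Finset.mem_smul_finset] at ha
    obtain ⟨b, hb, rfl⟩ := ha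
    exact smul_mem_octads hg (hoct b hb)
  · intro a ha b hb hab
    rw [Finset.mem_smul_finset] at ha hb
    obtain ⟨a', ha', rfl⟩ := ha
    obtain ⟨b', hb', rfl⟩ := hb
    rw [smul_disjoint_iff]
    exact hdis a' ha' b' hb' (fun e => hab (by rw [e]))

end Cfsg.Agent.Lib.Helper93
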