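import Cfsg.Agent.Lib.Helper93.FlagOrbits
import Cfsg.Agent.Lib.Helper93.OctadTrios
import Cfsg.Agent.Lib.Helper26.M24Maps
import Cfsg.Agent.S1550

/-!
# `M24`-invariant families and invariants for the flag-orbit framework
-/

set_option autoImplicit false
open scoped Pointwise
open Cfsg

namespace Cfsg.Agent.Lib.Helper93
open Cfsg.Agent.Lib.Helper7 Cfsg.Agent.Lib.Helper92

/-! ### The intersection invariant -/

/-- `∑ s ∈ 𝒮, ∑ t ∈ 𝒯, f |s ∩ t|`. -/
def interSum (f : ℕ → ℕ) (S T : Finset (Finset GolayPt)) : ℕ :=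
  ∑ s ∈ S, ∑ t ∈ T, f (s ∩ t).card

theorem smul_finset_finset_eq_image (g : Equiv.Perm GolayPt) (S : Finset (Finset GolayPt)) :
    g • S = S.image (fun s => g • s) := rfl

theorem interSum_smul (f : ℕ → ℕ) (g : Equiv.Perm GolayPt) (S T : Finset (Finset GolayPt)) :
    interSum f (g • S) (g • T) = interSum f S T := by
  have hinj : Function.Injective (fun s : Finset GolayPt => g • s) := MulAction.injective g
  unfold interSum
  rw [smul_finset_finset_eq_image, smul_finset_finset_eq_image, Finset.sum_image (fun _ _ _ _ h => hinj h)]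
  apply Finset.sum_congr rfl
  intro s _
  rw [Finset.sum_image (fun _ _ _ _ h => hinj h)]
  apply Finset.sum_congr rfl
  intro t _
  rw [← smul_inter_finset, card_perm_smul_finset]

theorem smul_singleton_finset (g : Equiv.Perm GolayPt) (X : Finset GolayPt) :
    g • ({X} : Finset (Finset GolayPt)) = {g • X} := by
  rw [smul_finset_finset_eq_image, Finset.image_singleton]

/-! ### Sextets -/

theorem smul_mem_sextets {g : Equiv.Perm GolayPt} (hg : g ∈ M24) {S : Finset (Finset GolayPt)}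
    (hS : S ∈ sextets) : g • S ∈ sextets := by
  obtain ⟨h6, h4, hu⟩ := hS
  refine ⟨?_, ?_, ?_⟩
  · rw [Finset.card_smul_finset, h6]
  · intro t ht
    rw [Finset.mem_smul_finset] at ht
    obtain ⟨t', ht', rfl⟩ := ht
    rw [card_perm_smul_finset]
    exact h4 t' ht'
  · intro t ht u hu' htu
    rw [Finset.mem_smul_finset] at ht hu'
    obtain ⟨t', ht', rfl⟩ := ht
    obtain ⟨u', hu'', rfl⟩ := hu'
    have : g • t' ∪ g • u' = g • (t' ∪ u') := by
      ext p
      simp only [Finset.mem_union, mem_perm_smul_finset]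
    rw [this]
    exact smul_mem_octads hg (hu t' ht' u' hu'' (fun e => htu (by rw [e])))

/-- `M24` maps any set of at most five points onto any other of the same size. -/
theorem exists_M24_smul_small {s s' : Finset GolayPt} (h : s.card = s'.card) (h5 : s.card ≤ 5) :
    ∃ g ∈ M24, g • s = s' := by
  obtain ⟨g, hg, hmap⟩ := Cfsg.Agent.Lib.Helper26.exists_M24_map_list s.toList s'.toList
    (Finset.nodup_toList s) (Finset.nodup_toList s') (by rw [Finset.length_toList, Finset.length_toList, h])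
    (by rw [Finset.length_toList]; exact h5)
  refine ⟨g, hg, ?_⟩
  ext p
  rw [← Finset.mem_toList (s := s'), ← hmap, List.mem_map, Finset.mem_smul_finset]
  constructor
  · rintro ⟨q, hq, rfl⟩
    exact ⟨q, Finset.mem_toList.mpr hq, rfl⟩
  · rintro ⟨q, hq, rfl⟩
    exact ⟨q, Finset.mem_toList.mp hq, rfl⟩

theorem exists_M24_smul_sextet {S S' : Finset (Finset GolayPt)} (hS : S ∈ sextets)
    (hS' : S' ∈ sextets) : ∃ g ∈ M24, g • S = S' := by
  obtain ⟨t, ht⟩ : S.Nonempty := by rw [← Finset.card_pos, hS.1]; decide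
  obtain ⟨t', ht'⟩ : S'.Nonempty := by rw [← Finset.card_pos, hS'.1]; decide
  have h4 : t.card = 4 := hS.2.1 t ht
  have h4' : t'.card = 4 := hS'.2.1 t' ht'
  obtain ⟨g, hg, hgt⟩ := exists_M24_smul_small (h4.trans h4'.symm) (by rw [h4]; decide)
  refine ⟨g, hg, ?_⟩
  obtain ⟨S₁, _, huniq⟩ := Cfsg.Agent.S1550.result.1 t' h4'
  rw [huniq (g • S) ⟨smul_mem_sextets hg hS, hgt ▸ Finset.smul_mem_smul_finset ht⟩,
    huniq S' ⟨hS', ht'⟩]

/-! ### Trios -/

theorem exists_M24_smul_trio {T T' : Finset (Finset GolayPt)} (hT : T ∈ trios)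
    (hT' : T' ∈ trios) : ∃ g ∈ M24, g • T = T' := by
  obtain ⟨a, ha⟩ : T.Nonempty := by rw [← Finset.card_pos, hT.1]; decide
  obtain ⟨a', ha'⟩ : T'.Nonempty := by rw [← Finset.card_pos, hT'.1]; decide
  obtain ⟨b, hb, hba⟩ := exists_mem_trio_ne hT a
  obtain ⟨b', hb', hba'⟩ := exists_mem_trio_ne hT' a'
  have hao := hT.2.1 a ha
  have hao' := hT'.2.1 a' ha'
  obtain ⟨g₁, hg₁⟩ := exists_M24_smul_octad hao hao'
  rw [M24_smul_finset_def] at hg₁
  have hd : Disjoint a' ((g₁ : Equiv.Perm GolayPt) • b) := by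
    rw [← hg₁, smul_disjoint_iff]
    exact hT.2.2 a ha b hb hba.symm
  have hd' : Disjoint a' b' := hT'.2.2 a' ha' b' hb' hba'.symm
  obtain ⟨h, hh, hha, hhb⟩ := exists_stab_octad_map hao' (smul_mem_octads g₁.2 (hT.2.1 b hb))
    (hT'.2.1 b' hb') (by
      rw [disjoint_iff_card_inter.mp hd, disjoint_iff_card_inter.mp hd'])
  refine ⟨h * g₁, mul_mem hh g₁.2, ?_⟩
  apply trio_ext (smul_mem_trios (mul_mem hh g₁.2) hT) hT' (o := a') (q := b')
  · have : a' = (h * (g₁ : Equiv.Perm GolayPt)) • a := by rw [mul_smul, hg₁, hha]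
    rw [this]
    exact Finset.smul_mem_smul_finset ha
  · exact ha'
  · have : b' = (h * (g₁ : Equiv.Perm GolayPt)) • b := by rw [mul_smul, hhb]
    rw [this]
    exact Finset.smul_mem_smul_finset hb
  · exact hb'
  · exact hba'

end Cfsg.Agent.Lib.Helper93
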