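import Cfsg.Agent.Lib.Helper93.Tour
import Cfsg.Agent.Lib.Helper93.BaseOrbits
import Cfsg.Agent.Lib.Helper93.M24Flags

/-!
# Tours under a subgroup of `M24` given by tables: masks, trios, dodecad pairs
-/

set_option autoImplicit false
open scoped Pointwise
open Cfsg

namespace Cfsg.Agent.Lib.Helper93
open Cfsg.Agent.Lib.Helper7 Cfsg.Agent.Lib.Helper92

/-- The checker of a tour from a list of tables and a table-level checker. -/
def chkTab (tabs : List (List ℕ)) (chkT : List ℕ → ℕ → ℕ → Bool) (g a b : ℕ) : Bool :=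
  match tabs[g]? with
  | none => false
  | some t => chkT t a b

/-- Soundness of tours under a subgroup `H` given by tables. -/
theorem reach_of_tourRun {β : Type*} [MulAction (Equiv.Perm GolayPt) β]
    (H : Subgroup (Equiv.Perm GolayPt)) (tabs : List (List ℕ))
    (htabs : ∀ t ∈ tabs, ∃ σ ∈ H, Matches σ t) (dec : ℕ → β) (V : ℕ → Prop)
    (chkT : List ℕ → ℕ → ℕ → Bool)
    (hsound : ∀ σ ∈ H, ∀ t, Matches σ t → ∀ a b, V a → chkT t a b = true →
      V b ∧ σ • dec a = dec b)
    (root : ℕ) (hroot : V root) (tour : List ℕ)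
    (hrun : tourRun (chkTab tabs chkT) tour [root] = true) :
    ∀ m ∈ root :: tourCodes tour, V m ∧ ∃ g ∈ H, g • dec root = dec m := by
  have hrefl : V root ∧ ∃ g ∈ H, g • dec root = dec root := ⟨hroot, 1, H.one_mem, one_smul _ _⟩
  intro m hm
  rcases List.mem_cons.mp hm with rfl | hm
  · exact hrefl
  · refine tourRun_sound (R := fun m => V m ∧ ∃ g ∈ H, g • dec root = dec m) ?_ tour [root] ?_
      hrun m hm
    · intro g a b hchk ha
      unfold chkTab at hchk
      split at hchk
      · exact absurd hchk (by decide)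
      · rename_i t ht
        obtain ⟨σ, hσ, hm⟩ := htabs t (List.mem_of_getElem? ht)
        obtain ⟨hVa, u, hu, hua⟩ := ha
        obtain ⟨hVb, hσab⟩ := hsound σ hσ t hm a b hVa hchk
        exact ⟨hVb, σ * u, H.mul_mem hσ hu, by rw [mul_smul, hua, hσab]⟩
    · intro a ha
      rw [List.mem_singleton] at ha
      subst ha
      exact hrefl

/-! ### Masks -/

/-- Table-level checker for masks. -/
def chkMask (t : List ℕ) (a b : ℕ) : Bool := mapsInto t a b && Nat.ble (pc b) (pc a)

theorem chkMask_sound {σ : Equiv.Perm GolayPt} {t : List ℕ} (h : Matches σ t) {a b : ℕ}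
    (hc : chkMask t a b = true) : σ • Helper7.setOf a = Helper7.setOf b := by
  unfold chkMask at hc
  rw [Bool.and_eq_true] at hc
  exact smul_setOf_eq_of_mapsInto h hc.1 (Nat.le_of_ble_eq_true hc.2)

/-! ### Trios -/

/-- The image of `x` under `t` is disjoint from `b`. -/
def disjTo (t : List ℕ) (x b : ℕ) : Bool :=
  (List.range 24).all fun i => !x.testBit i || !b.testBit (t.getD i 0)

theorem disjTo_sound {σ : Equiv.Perm GolayPt} {t : List ℕ} (h : Matches σ t) {x b : ℕ}
    (hm : disjTo t x b = true) : Disjoint (σ • Helper7.setOf x) (Helper7.setOf b) := by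
  rw [Finset.disjoint_left]
  intro p hp hp'
  rw [mem_perm_smul_finset] at hp
  rw [mem_setOf] at hp hp'
  simp only [disjTo, List.all_eq_true, List.mem_range, Bool.or_eq_true, Bool.not_eq_eq_eq_not,
    Bool.not_true] at hm
  have h1 := hm (idx (σ.symm p)) (idx_lt _)
  have h2 := h (σ.symm p)
  rw [Equiv.apply_symm_apply] at h2
  rw [← h2, hp'] at h1
  rcases h1 with h1 | h1
  · rw [hp] at h1; exact absurd h1 (by decide)
  · exact absurd h1 (by decide)

/-- Decoding of a trio code `a + 2 ^ 24 * b`. -/
def decTrio (c : ℕ) : Finset (Finset GolayPt) :=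
  {Helper7.setOf (c % 16777216), Helper7.setOf (c / 16777216),
    (Helper7.setOf (c % 16777216) ∪ Helper7.setOf (c / 16777216))ᶜ}

/-- The image of `x` is one of the members of the trio spanned by `b1`, `b2`. -/
def inTrio (t : List ℕ) (x b1 b2 : ℕ) : Bool :=
  mapsInto t x b1 || mapsInto t x b2 || (disjTo t x b1 && disjTo t x b2)

/-- Table-level checker for trios. -/
def chkTrio (t : List ℕ) (a b : ℕ) : Bool :=
  isOctadMask (b % 16777216) && isOctadMask (b / 16777216) &&
    ((b % 16777216) &&& (b / 16777216) == 0) &&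
    inTrio t (a % 16777216) (b % 16777216) (b / 16777216) &&
    inTrio t (a / 16777216) (b % 16777216) (b / 16777216)

theorem pc_of_isOctadMask {m : ℕ} (h : isOctadMask m = true) : pc m = 8 := by
  simp only [isOctadMask, Bool.and_eq_true, beq_iff_eq] at h
  exact h.2

theorem decTrio_mem {b : ℕ} (h1 : isOctadMask (b % 16777216) = true)
    (h2 : isOctadMask (b / 16777216) = true) (h3 : (b % 16777216) &&& (b / 16777216) = 0) :
    decTrio b ∈ trios := by
  refine trio_mk (setOf_mem_octads h1) (setOf_mem_octads h2) ?_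
  rw [disjoint_iff_card_inter, card_inter_setOf, h3]
  rfl

theorem inTrio_sound {σ : Equiv.Perm GolayPt} (hσ : σ ∈ M24) {t : List ℕ} (h : Matches σ t)
    {x b1 b2 : ℕ} (hx : Helper7.setOf x ∈ octads) (h1 : isOctadMask b1 = true)
    (h2 : isOctadMask b2 = true) (h3 : b1 &&& b2 = 0) (hc : inTrio t x b1 b2 = true) :
    σ • Helper7.setOf x ∈ ({Helper7.setOf b1, Helper7.setOf b2, (Helper7.setOf b1 ∪ Helper7.setOf b2)ᶜ} : Finset (Finset GolayPt)) := by
  have hpcx : pc x = 8 := by rw [← card_setOf]; exact hx.2
  unfold inTrio at hc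
  rw [Bool.or_eq_true, Bool.or_eq_true, Bool.and_eq_true] at hc
  rw [Finset.mem_insert, Finset.mem_insert, Finset.mem_singleton]
  rcases hc with (hc | hc) | hc
  · left
    exact smul_setOf_eq_of_mapsInto h hc (by rw [hpcx, pc_of_isOctadMask h1])
  · right; left
    exact smul_setOf_eq_of_mapsInto h hc (by rw [hpcx, pc_of_isOctadMask h2])
  · right; right
    have hd : Disjoint (Helper7.setOf b1) (Helper7.setOf b2) := by
      rw [disjoint_iff_card_inter, card_inter_setOf, h3]
      rfl
    exact eq_compl_union (setOf_mem_octads h1) (setOf_mem_octads h2) (smul_mem_octads hσ hx) hd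
      (disjTo_sound h hc.1).symm (disjTo_sound h hc.2).symm

theorem chkTrio_sound {σ : Equiv.Perm GolayPt} (hσ : σ ∈ M24) {t : List ℕ} (h : Matches σ t)
    {a b : ℕ} (ha : decTrio a ∈ trios) (hc : chkTrio t a b = true) :
    decTrio b ∈ trios ∧ σ • decTrio a = decTrio b := by
  unfold chkTrio at hc
  simp only [Bool.and_eq_true, beq_iff_eq] at hc
  obtain ⟨⟨⟨⟨h1, h2⟩, h3⟩, h4⟩, h5⟩ := hc
  have hb := decTrio_mem h1 h2 h3
  refine ⟨hb, ?_⟩
  have hA1 : Helper7.setOf (a % 16777216) ∈ decTrio a := by simp [decTrio]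
  have hA2 : Helper7.setOf (a / 16777216) ∈ decTrio a := by simp [decTrio]
  have hne : Helper7.setOf (a / 16777216) ≠ Helper7.setOf (a % 16777216) := by
    intro e
    have hcard := ha.1
    unfold decTrio at hcard
    rw [e, Finset.insert_eq_of_mem (Finset.mem_insert_self _ _)] at hcard
    have := Finset.card_le_two (a := Helper7.setOf (a % 16777216))
      (b := (Helper7.setOf (a % 16777216) ∪ Helper7.setOf (a % 16777216))ᶜ)
    omega
  have m1 := inTrio_sound hσ h (ha.2.1 _ hA1) h1 h2 h3 h4
  have m2 := inTrio_sound hσ h (ha.2.1 _ hA2) h1 h2 h3 h5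
  apply trio_ext (smul_mem_trios hσ ha) hb (o := σ • Helper7.setOf (a % 16777216))
    (q := σ • Helper7.setOf (a / 16777216))
  · exact Finset.smul_mem_smul_finset hA1
  · exact m1
  · exact Finset.smul_mem_smul_finset hA2
  · exact m2
  · intro e
    exact hne (smul_left_cancel σ e)

/-- The first point outside a mask. -/
def lowOut (a : ℕ) : ℕ := ((List.range 24).find? fun i => !a.testBit i).getD 0

/-- Canonical trio codes: the first octad contains point `0`, the second contains the first point
outside the first. -/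
def canonTrio (c : ℕ) : Bool :=
  (c % 16777216).testBit 0 && (c / 16777216).testBit (lowOut (c % 16777216)) &&
    decide (c / 16777216 < 16777216)

theorem mem_trio_unique {T : Finset (Finset GolayPt)} (hT : T ∈ trios) {X Y : Finset GolayPt}
    (hX : X ∈ T) (hY : Y ∈ T) {p : GolayPt} (hpX : p ∈ X) (hpY : p ∈ Y) : X = Y := by
  by_contra hne
  exact Finset.disjoint_left.mp (hT.2.2 X hX Y hY hne) hpX hpY

theorem decTrio_inj {c c' : ℕ} (hc : canonTrio c = true) (hc' : canonTrio c' = true)
    (hT : decTrio c ∈ trios) (h : decTrio c = decTrio c') : c = c' := by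
  simp only [canonTrio, Bool.and_eq_true, decide_eq_true_eq] at hc hc'
  have hlt : c % 16777216 < 2 ^ 24 := Nat.mod_lt _ (by norm_num)
  have hlt' : c' % 16777216 < 2 ^ 24 := Nat.mod_lt _ (by norm_num)
  have hA : Helper7.setOf (c % 16777216) ∈ decTrio c := by simp [decTrio]
  have hA' : Helper7.setOf (c' % 16777216) ∈ decTrio c := by rw [h]; simp [decTrio]
  have hB : Helper7.setOf (c / 16777216) ∈ decTrio c := by simp [decTrio]
  have hB' : Helper7.setOf (c' / 16777216) ∈ decTrio c := by rw [h]; simp [decTrio]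
  have e1 : c % 16777216 = c' % 16777216 := by
    apply setOf_injOn hlt hlt'
    apply mem_trio_unique hT hA hA' (p := pt 0)
    · rw [mem_setOf, idx_pt (by decide)]; exact hc.1.1
    · rw [mem_setOf, idx_pt (by decide)]; exact hc'.1.1
  have hlow : lowOut (c % 16777216) < 24 := by
    unfold lowOut
    cases hf : (List.range 24).find? fun i => !(c % 16777216).testBit i with
    | none => simp
    | some i =>
      have := List.mem_of_find?_eq_some hf
      simpa using this
  have e2 : c / 16777216 = c' / 16777216 := by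
    apply setOf_injOn (by norm_num; exact hc.2) (by norm_num; exact hc'.2)
    apply mem_trio_unique hT hB hB' (p := pt (lowOut (c % 16777216)))
    · rw [mem_setOf, idx_pt hlow]; exact hc.1.2
    · rw [mem_setOf, idx_pt hlow, e1]; exact hc'.1.2
  omega

/-! ### Dodecad pairs -/

/-- Decoding of a dodecad pair. -/
def decPair (m : ℕ) : Finset (Finset GolayPt) := {Helper7.setOf m, Finset.univ \ Helper7.setOf m}

/-- Table-level checker for dodecad pairs. -/
def chkPairD (t : List ℕ) (a b : ℕ) : Bool :=
  chkMask t a b || chkMask t a (allMask ^^^ b)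

theorem setOf_compl_mask (b : ℕ) : Helper7.setOf (allMask ^^^ b) = Finset.univ \ Helper7.setOf b := by
  ext p
  rw [mem_setOf_compl, Finset.mem_sdiff]
  simp

theorem smul_decPair (σ : Equiv.Perm GolayPt) (X : Finset GolayPt) :
    σ • ({X, Finset.univ \ X} : Finset (Finset GolayPt)) = {σ • X, Finset.univ \ σ • X} := by
  rw [smul_finset_finset_eq_image, Finset.image_insert, Finset.image_singleton,
    Finset.smul_finset_sdiff, Finset.smul_finset_univ]

theorem chkPairD_sound {σ : Equiv.Perm GolayPt} {t : List ℕ} (h : Matches σ t) {a b : ℕ}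
    (hc : chkPairD t a b = true) : σ • decPair a = decPair b := by
  unfold chkPairD at hc
  rw [Bool.or_eq_true] at hc
  unfold decPair
  rw [smul_decPair]
  rcases hc with hc | hc
  · rw [chkMask_sound h hc]
  · rw [chkMask_sound h hc, setOf_compl_mask, Finset.sdiff_sdiff_eq_self (Finset.subset_univ _),
      Finset.pair_comm]

theorem decPair_inj {m m' : ℕ} (hm : m < 2 ^ 24) (hm' : m' < 2 ^ 24) (h0 : m.testBit 0 = true)
    (h0' : m'.testBit 0 = true) (h : decPair m = decPair m') : m = m' := by
  apply setOf_injOn hm hm'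
  have hmem : Helper7.setOf m ∈ decPair m' := by rw [← h]; simp [decPair]
  unfold decPair at hmem
  rw [Finset.mem_insert, Finset.mem_singleton] at hmem
  rcases hmem with e | e
  · exact e
  · exfalso
    have h1 : pt 0 ∈ Helper7.setOf m := by rw [mem_setOf, idx_pt (by decide)]; exact h0
    have h2 : pt 0 ∈ Helper7.setOf m' := by rw [mem_setOf, idx_pt (by decide)]; exact h0'
    rw [e, Finset.mem_sdiff] at h1
    exact h1.2 h2

end Cfsg.Agent.Lib.Helper93
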