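/-
helper93: project GOLD (helper22, S1329), module GOLD-[TRANSFER]: a central element of `Y` lying in `[Y,Y]` and in a
Sylow `r`-subgroup `S` of `Y` lies in `[S,S]` (transfer into `S / [S,S]`).
-/
import Mathlib
import Cfsg.Agent.Lib.Helper22.GoldDefs
import Cfsg.Agent.Lib.Helper22.GoldPar

set_option autoImplicit false

namespace Cfsg.Agent.Lib.Helper93.Gold

open Subgroup
open scoped commutatorElement
open Cfsg.Agent.Lib.Helper22.Gold

variable {G : Type*} [Group G]

/-- transfer into the abelianization of a subgroup `H`: a central element `g` of `G` lying in `[G,G]` has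
`g ^ |G:H| ∈ [H,H]` -/
theorem pow_index_mem_commutator_of_center {G : Type*} [Group G] (H : Subgroup G) [H.FiniteIndex] (g : G)
    (hgc : g ∈ center G) (hg : g ∈ commutator G) :
    ∃ h : g ^ H.index ∈ H, (⟨g ^ H.index, h⟩ : H) ∈ commutator H := by
  have key : ∀ (k : ℕ) (g₀ : G), g₀⁻¹ * g ^ k * g₀ ∈ H → g₀⁻¹ * g ^ k * g₀ = g ^ k := by
    intro k g₀ _
    have hk : g ^ k ∈ center G := (center G).pow_mem hgc k
    rw [mul_assoc, (mem_center_iff.1 hk g₀).symm, inv_mul_cancel_left]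
  have h1 := MonoidHom.transfer_eq_pow (Abelianization.of : H →* Abelianization H) g key
  have h2 : MonoidHom.transfer (Abelianization.of : H →* Abelianization H) g = 1 := by
    have := Abelianization.commutator_subset_ker
      (MonoidHom.transfer (Abelianization.of : H →* Abelianization H))
    exact (MonoidHom.mem_ker).1 (this hg)
  rw [h2] at h1
  refine ⟨MonoidHom.transfer_eq_pow_aux g key, ?_⟩
  rw [← Abelianization.ker_of, MonoidHom.mem_ker]
  exact h1.symm

/-- [TRANSFER] -/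
theorem mem_comm_of_center [Finite G] {Y S : Subgroup G} {r : ℕ} [Fact r.Prime] (hS : S ≤ Y)
    (hr : IsPGroup r S) (hind : ¬ r ∣ S.relIndex Y) {z : G} (hzS : z ∈ S)
    (hzc : z ∈ centralizer (Y : Set G)) (hz : z ∈ ⁅Y, Y⁆) : z ∈ ⁅S, S⁆ := by
  have hzY : z ∈ Y := hS hzS
  -- pass to the group `↥Y`
  obtain ⟨z', hz'comm, hz'eq⟩ : ∃ z' : Y, z' ∈ commutator Y ∧ (z' : G) = z := by
    rw [← map_subtype_commutator] at hz
    obtain ⟨y, hy, hyz⟩ := hz
    exact ⟨y, hy, hyz⟩
  have hz'c : z' ∈ center Y := by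
    rw [mem_center_iff]
    intro y
    apply Subtype.ext
    rw [coe_mul, coe_mul, hz'eq]
    exact hzc y y.2
  obtain ⟨hmem, hcomm⟩ := pow_index_mem_commutator_of_center (S.subgroupOf Y) z' hz'c hz'comm
  -- transport back to `G`
  have h1 : (z' ^ (S.subgroupOf Y).index : Y) ∈ ⁅S.subgroupOf Y, S.subgroupOf Y⁆ := by
    rw [← map_subtype_commutator]
    exact ⟨⟨z' ^ (S.subgroupOf Y).index, hmem⟩, hcomm, rfl⟩
  have h2 : z ^ S.relIndex Y ∈ ⁅S, S⁆ := by
    have h3 : ((z' ^ (S.subgroupOf Y).index : Y) : G) ∈ (⁅S.subgroupOf Y, S.subgroupOf Y⁆).map Y.subtype :=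
      ⟨_, h1, rfl⟩
    rw [map_commutator, subgroupOf_map_subtype, inf_of_le_left hS, coe_pow, hz'eq] at h3
    exact h3
  -- `z` is a power of `z ^ |Y:S|`
  have hcop : Nat.Coprime (S.relIndex Y) (orderOf z) := by
    obtain ⟨k, hk⟩ := (IsPGroup.iff_orderOf.1 hr) ⟨z, hzS⟩
    have hk' : orderOf z = r ^ k := by
      rw [← hk]
      exact (orderOf_mk z hzS).symm
    rw [hk']
    apply Nat.Coprime.pow_right
    exact (Nat.Coprime.symm ((Nat.Prime.coprime_iff_not_dvd (Fact.out : r.Prime)).2 hind))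
  obtain ⟨m, hm⟩ := exists_pow_eq_self_of_coprime hcop
  rw [← hm]
  exact (⁅S, S⁆).pow_mem h2 m

end Cfsg.Agent.Lib.Helper93.Gold
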