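/-
helper93: counting in a strongly regular graph with parameters (100, 22, 0, 6).

For a vertex `x`, a non-neighbour `u ≠ x` determines the 6-set `blk x u` of common neighbours of `x` and `u`.
Two such 6-sets for `u ≠ v` meet in 0 points if `u ~ v` and in exactly 2 points otherwise (variance count).
-/
import Mathlib

set_option autoImplicit false
set_option linter.unusedSectionVars false

namespace Cfsg.Agent.Lib.Helper93.HSCount
open Finset

/-- double counting, in filter form -/
theorem double_count {S T : Type*} (s : Finset S) (t : Finset T) (r : S → T → Prop)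
    [∀ v a, Decidable (r v a)] :
    ∑ v ∈ s, (t.filter fun a => r v a).card = ∑ a ∈ t, (s.filter fun v => r v a).card :=
  Finset.sum_card_bipartiteAbove_eq_sum_card_bipartiteBelow r

/-- **Variance trick.** -/
theorem variance_two {S T : Type*} [DecidableEq S] [DecidableEq T] (s : Finset S) (t : Finset T)
    (r : S → T → Prop) [∀ v a, Decidable (r v a)] (hs : s.card = 60) (ht : t.card = 6)
    (h1 : ∀ a ∈ t, (s.filter fun v => r v a).card = 20)
    (h2 : ∀ a ∈ t, ∀ b ∈ t, a ≠ b → (s.filter fun v => r v a ∧ r v b).card = 4) :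
    ∀ v ∈ s, (t.filter fun a => r v a).card = 2 := by
  classical
  -- first moment
  have hsum1 : ∑ v ∈ s, (t.filter fun a => r v a).card = 120 := by
    rw [double_count]
    rw [Finset.sum_congr rfl h1]
    simp [ht]
  -- second moment
  have hsq : ∀ v ∈ s, (t.filter fun a => r v a).card ^ 2 =
      ((t ×ˢ t).filter fun p : T × T => r v p.1 ∧ r v p.2).card := by
    intro v _
    rw [sq, ← Finset.card_product, ← Finset.filter_product]
  have hsum2 : ∑ v ∈ s, (t.filter fun a => r v a).card ^ 2 = 240 := by
    rw [Finset.sum_congr rfl hsq]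
    rw [double_count s (t ×ˢ t) (fun (v : S) (p : T × T) => r v p.1 ∧ r v p.2)]
    rw [← Finset.diag_union_offDiag t, Finset.sum_union (Finset.disjoint_diag_offDiag t)]
    have hd : ∑ p ∈ t.diag, (s.filter fun v => r v p.1 ∧ r v p.2).card = 120 := by
      have : ∀ p ∈ t.diag, (s.filter fun v => r v p.1 ∧ r v p.2).card = 20 := by
        intro p hp
        rw [Finset.mem_diag] at hp
        rw [← hp.2]
        simp only [and_self]
        exact h1 _ hp.1
      rw [Finset.sum_congr rfl this]
      simp [Finset.diag_card, ht]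
    have ho : ∑ p ∈ t.offDiag, (s.filter fun v => r v p.1 ∧ r v p.2).card = 120 := by
      have : ∀ p ∈ t.offDiag, (s.filter fun v => r v p.1 ∧ r v p.2).card = 4 := by
        intro p hp
        rw [Finset.mem_offDiag] at hp
        exact h2 _ hp.1 _ hp.2.1 hp.2.2
      rw [Finset.sum_congr rfl this]
      simp [Finset.offDiag_card, ht]
    rw [hd, ho]
  -- variance
  have hvar : ∑ v ∈ s, (((t.filter fun a => r v a).card : ℤ) - 2) ^ 2 = 0 := by
    have e : ∀ v ∈ s, (((t.filter fun a => r v a).card : ℤ) - 2) ^ 2 =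
        (((t.filter fun a => r v a).card ^ 2 : ℕ) : ℤ) - 4 * ((t.filter fun a => r v a).card : ℤ)
          + 4 := by
      intro v _
      push_cast
      ring
    rw [Finset.sum_congr rfl e, Finset.sum_add_distrib, Finset.sum_sub_distrib,
      ← Finset.mul_sum, ← Nat.cast_sum, ← Nat.cast_sum, hsum1, hsum2]
    simp [hs]
  intro v hv
  have h0 := (Finset.sum_eq_zero_iff_of_nonneg (fun v _ => sq_nonneg _)).mp hvar v hv
  have h3 : ((t.filter fun a => r v a).card : ℤ) - 2 = 0 := by
    exact pow_eq_zero_iff (two_ne_zero) |>.mp h0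
  omega

section Graph
universe u
variable {V : Type u} [Fintype V] [DecidableEq V] (G : SimpleGraph V) [DecidableRel G.Adj]

/-- finset of neighbours -/
abbrev nb (v : V) : Finset V := univ.filter fun z => G.Adj v z

/-- finset of common neighbours -/
abbrev cn (v w : V) : Finset V := univ.filter fun z => G.Adj v z ∧ G.Adj w z

/-- The parameters (100, 22, 0, 6), in filter form. -/
structure IsHS : Prop where
  card : Fintype.card V = 100
  deg : ∀ v, (nb G v).card = 22
  adj : ∀ v w, G.Adj v w → ∀ z, ¬ (G.Adj v z ∧ G.Adj w z)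
  nadj : ∀ v w, v ≠ w → ¬ G.Adj v w → (cn G v w).card = 6

theorem card_commonNeighbors_eq (v w : V) [Fintype (G.commonNeighbors v w)] :
    Fintype.card (G.commonNeighbors v w) = (cn G v w).card := by
  rw [← Set.toFinset_card]
  congr 1
  ext z
  simp [SimpleGraph.mem_commonNeighbors]

theorem isHS_of_srg (h : G.IsSRGWith 100 22 0 6) : IsHS G where
  card := h.card
  deg := fun v => by
    have := h.regular v
    rw [SimpleGraph.degree, SimpleGraph.neighborFinset_eq_filter] at this
    exact this
  adj := fun v w hvw z hz => by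
    have h0 := h.of_adj v w hvw
    rw [card_commonNeighbors_eq, Finset.card_eq_zero] at h0
    have : z ∈ cn G v w := by
      rw [Finset.mem_filter]; exact ⟨Finset.mem_univ _, hz⟩
    rw [h0] at this
    exact absurd this (Finset.notMem_empty _)
  nadj := fun v w hne hna => by
    have h0 := h.of_not_adj hne hna
    rw [card_commonNeighbors_eq] at h0
    exact h0

variable {G}

theorem IsHS.nb_indep (h : IsHS G) {x a b : V} (ha : G.Adj x a) (hb : G.Adj x b) :
    ¬ G.Adj a b := fun hab => h.adj a b hab x ⟨ha.symm, hb.symm⟩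

variable (G) in
/-- the vertices at distance two from `x` -/
def far (x : V) : Finset V := univ.filter fun u => u ≠ x ∧ ¬ G.Adj x u

theorem mem_far {x u : V} : u ∈ far G x ↔ u ≠ x ∧ ¬ G.Adj x u := by
  rw [far, Finset.mem_filter]; simp

theorem IsHS.card_far (h : IsHS G) (x : V) : (far G x).card = 77 := by
  have h1 : (univ : Finset V) = insert x (nb G x ∪ far G x) := by
    ext v
    simp only [Finset.mem_univ, Finset.mem_insert, Finset.mem_union, Finset.mem_filter, true_and,
      mem_far, true_iff]
    by_cases hv : v = x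
    · exact Or.inl hv
    · by_cases ha : G.Adj x v
      · exact Or.inr (Or.inl ha)
      · exact Or.inr (Or.inr ⟨hv, ha⟩)
  have h2 : x ∉ nb G x ∪ far G x := by
    simp [mem_far]
  have h3 : Disjoint (nb G x) (far G x) := by
    rw [Finset.disjoint_left]
    intro v hv hv'
    rw [Finset.mem_filter] at hv
    exact (mem_far.mp hv').2 hv.2
  have h4 := congrArg Finset.card h1
  rw [Finset.card_univ, h.card, Finset.card_insert_of_notMem h2, Finset.card_union_of_disjoint h3,
    h.deg] at h4
  omega

variable (G) in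
/-- the block of a far vertex: its common neighbours with `x` -/
abbrev blk (x u : V) : Finset V := cn G x u

theorem mem_blk {x u a : V} : a ∈ blk G x u ↔ G.Adj x a ∧ G.Adj u a := by
  simp [blk, cn]

theorem IsHS.card_blk (h : IsHS G) {x u : V} (hu : u ∈ far G x) : (blk G x u).card = 6 :=
  h.nadj x u (mem_far.mp hu).1.symm (mem_far.mp hu).2

variable (G) in
/-- the far vertices other than `u` and not adjacent to `u` -/
def S1 (x u : V) : Finset V := univ.filter fun v => v ≠ x ∧ v ≠ u ∧ ¬ G.Adj x v ∧ ¬ G.Adj u v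

theorem mem_S1 {x u v : V} : v ∈ S1 G x u ↔ v ≠ x ∧ v ≠ u ∧ ¬ G.Adj x v ∧ ¬ G.Adj u v := by
  rw [S1, Finset.mem_filter]; simp

theorem IsHS.card_S1 (h : IsHS G) {x u : V} (hu : u ∈ far G x) : (S1 G x u).card = 60 := by
  obtain ⟨hux, hxu⟩ := mem_far.mp hu
  have h1 : (univ : Finset V) = (({x, u} : Finset V) ∪ (nb G x ∪ nb G u)) ∪ S1 G x u := by
    ext v
    simp only [Finset.mem_univ, Finset.mem_insert, Finset.mem_singleton, Finset.mem_union,
      Finset.mem_filter, true_and, mem_S1, true_iff]
    tauto
  have hd1 : Disjoint (({x, u} : Finset V) ∪ (nb G x ∪ nb G u)) (S1 G x u) := by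
    rw [Finset.disjoint_left]
    intro v hv hv'
    rw [mem_S1] at hv'
    simp only [Finset.mem_insert, Finset.mem_singleton, Finset.mem_union, Finset.mem_filter,
      Finset.mem_univ, true_and] at hv
    tauto
  have hd2 : Disjoint ({x, u} : Finset V) (nb G x ∪ nb G u) := by
    rw [Finset.disjoint_left]
    intro v hv hv'
    simp only [Finset.mem_insert, Finset.mem_singleton, Finset.mem_union, Finset.mem_filter,
      Finset.mem_univ, true_and] at hv hv'
    rcases hv with rfl | rfl
    · rcases hv' with h' | h'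
      · exact G.loopless.irrefl _ h'
      · exact hxu h'.symm
    · rcases hv' with h' | h'
      · exact hxu h'
      · exact G.loopless.irrefl _ h'
  have h2 : ({x, u} : Finset V).card = 2 := Finset.card_pair hux.symm
  have h3 := Finset.card_union_add_card_inter (nb G x) (nb G u)
  have h4 : nb G x ∩ nb G u = cn G x u := by
    ext v; simp
  rw [h4, h.nadj x u hux.symm hxu, h.deg, h.deg] at h3
  have h5 := congrArg Finset.card h1
  rw [Finset.card_univ, h.card, Finset.card_union_of_disjoint hd1,
    Finset.card_union_of_disjoint hd2, h2] at h5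
  omega

theorem IsHS.card_filter_S1_one (h : IsHS G) {x u a : V} (hu : u ∈ far G x)
    (ha : a ∈ blk G x u) : ((S1 G x u).filter fun v => G.Adj v a).card = 20 := by
  obtain ⟨hux, hxu⟩ := mem_far.mp hu
  obtain ⟨hxa, hua⟩ := mem_blk.mp ha
  have h1 : (S1 G x u).filter (fun v => G.Adj v a) = nb G a \ {x, u} := by
    ext v
    simp only [Finset.mem_filter, mem_S1, Finset.mem_sdiff, Finset.mem_univ, true_and,
      Finset.mem_insert, Finset.mem_singleton, not_or]
    constructor
    · rintro ⟨⟨h1, h2, _, _⟩, h5⟩
      exact ⟨h5.symm, h1, h2⟩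
    · rintro ⟨h1, h2, h3⟩
      refine ⟨⟨h2, h3, ?_, ?_⟩, h1.symm⟩
      · intro hxv
        exact h.adj x a hxa v ⟨hxv, h1⟩
      · intro huv
        exact h.adj u a hua v ⟨huv, h1⟩
  have h2 : ({x, u} : Finset V) ⊆ nb G a := by
    intro v hv
    simp only [Finset.mem_insert, Finset.mem_singleton] at hv
    simp only [Finset.mem_filter, Finset.mem_univ, true_and]
    rcases hv with rfl | rfl
    · exact hxa.symm
    · exact hua.symm
  rw [h1, Finset.card_sdiff_of_subset h2, h.deg, Finset.card_pair hux.symm]

theorem IsHS.card_filter_S1_two (h : IsHS G) {x u a b : V} (hu : u ∈ far G x)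
    (ha : a ∈ blk G x u) (hb : b ∈ blk G x u) (hab : a ≠ b) :
    ((S1 G x u).filter fun v => G.Adj v a ∧ G.Adj v b).card = 4 := by
  obtain ⟨hux, hxu⟩ := mem_far.mp hu
  obtain ⟨hxa, hua⟩ := mem_blk.mp ha
  obtain ⟨hxb, hub⟩ := mem_blk.mp hb
  have h1 : (S1 G x u).filter (fun v => G.Adj v a ∧ G.Adj v b) = cn G a b \ {x, u} := by
    ext v
    simp only [Finset.mem_filter, mem_S1, Finset.mem_sdiff, Finset.mem_univ, true_and,
      Finset.mem_insert, Finset.mem_singleton, not_or]
    constructor
    · rintro ⟨⟨h1, h2, _, _⟩, h5, h6⟩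
      exact ⟨⟨h5.symm, h6.symm⟩, h1, h2⟩
    · rintro ⟨⟨h1, h1'⟩, h2, h3⟩
      refine ⟨⟨h2, h3, ?_, ?_⟩, h1.symm, h1'.symm⟩
      · intro hxv
        exact h.adj x a hxa v ⟨hxv, h1⟩
      · intro huv
        exact h.adj u a hua v ⟨huv, h1⟩
  have h2 : ({x, u} : Finset V) ⊆ cn G a b := by
    intro v hv
    simp only [Finset.mem_insert, Finset.mem_singleton] at hv
    simp only [Finset.mem_filter, Finset.mem_univ, true_and]
    rcases hv with rfl | rfl
    · exact ⟨hxa.symm, hxb.symm⟩
    · exact ⟨hua.symm, hub.symm⟩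
  rw [h1, Finset.card_sdiff_of_subset h2, h.nadj a b hab (h.nb_indep hxa hxb),
    Finset.card_pair hux.symm]

/-- **Two blocks of non-adjacent far vertices meet in exactly two points.** -/
theorem IsHS.card_blk_inter (h : IsHS G) {x u v : V} (hu : u ∈ far G x) (hv : v ∈ far G x)
    (huv : u ≠ v) (hna : ¬ G.Adj u v) : (blk G x u ∩ blk G x v).card = 2 := by
  have hvS : v ∈ S1 G x u := by
    rw [mem_S1]
    exact ⟨(mem_far.mp hv).1, huv.symm, (mem_far.mp hv).2, hna⟩
  have key := variance_two (S1 G x u) (blk G x u) (fun v a => G.Adj v a) (h.card_S1 hu)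
    (h.card_blk hu) (fun a ha => h.card_filter_S1_one hu ha)
    (fun a ha b hb hab => h.card_filter_S1_two hu ha hb hab) v hvS
  have : blk G x u ∩ blk G x v = (blk G x u).filter fun a => G.Adj v a := by
    ext a
    simp only [Finset.mem_inter, Finset.mem_filter, Finset.mem_univ, true_and]
    tauto
  rw [this]
  exact key

theorem IsHS.blk_inter_of_adj (h : IsHS G) {x u v : V} (hadj : G.Adj u v) :
    blk G x u ∩ blk G x v = ∅ := by
  rw [Finset.eq_empty_iff_forall_notMem]
  intro a ha
  rw [Finset.mem_inter, mem_blk, mem_blk] at ha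
  exact h.adj u v hadj a ⟨ha.1.2, ha.2.2⟩

theorem IsHS.blk_injOn (h : IsHS G) {x u v : V} (hu : u ∈ far G x) (hv : v ∈ far G x)
    (heq : blk G x u = blk G x v) : u = v := by
  by_contra huv
  by_cases hadj : G.Adj u v
  · have := h.blk_inter_of_adj (x := x) hadj
    rw [heq, Finset.inter_self] at this
    have h6 := h.card_blk hv
    rw [this] at h6
    simp at h6
  · have := h.card_blk_inter hu hv huv hadj
    rw [heq, Finset.inter_self, h.card_blk hv] at this
    omega

theorem IsHS.adj_iff_disjoint (h : IsHS G) {x u v : V} (hu : u ∈ far G x) (hv : v ∈ far G x)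
    (huv : u ≠ v) : G.Adj u v ↔ Disjoint (blk G x u) (blk G x v) := by
  rw [Finset.disjoint_iff_inter_eq_empty]
  constructor
  · intro hadj
    exact h.blk_inter_of_adj hadj
  · intro hd
    by_contra hna
    have := h.card_blk_inter hu hv huv hna
    rw [hd] at this
    simp at this

end Graph

end Cfsg.Agent.Lib.Helper93.HSCount
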