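/-
helper93: a strongly regular graph with parameters (100, 22, 0, 6) is, from the point of view of any vertex `x`,
the point-block graph of a Steiner system S(3, 6, 22) on the neighbours of `x`.
-/
import Cfsg.Agent.Lib.Helper93.HSCount
import Cfsg.Prelude.Def_Sporadic_a
import Cfsg.Agent.Lib.Helper8.GraphTransport

set_option autoImplicit false
set_option linter.unusedSectionVars false

namespace Cfsg.Agent.Lib.Helper93.HSDesign
open Finset Cfsg Cfsg.Agent.Lib.Helper93.HSCount

universe u v

/-! ### Adjacency in the point-block graph -/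

section PBG
variable {α : Type u} (B : Set (Finset α))

theorem pbg_adj_iff (a b : Option (α ⊕ B)) :
    (pointBlockGraph B).Adj a b ↔ a ≠ b ∧ (pointBlockRel B a b ∨ pointBlockRel B b a) :=
  SimpleGraph.fromRel_adj _ _ _

@[simp] theorem pbg_none_none : ¬ (pointBlockGraph B).Adj none none := by
  simp

@[simp] theorem pbg_none_pt (a : α) : (pointBlockGraph B).Adj none (some (Sum.inl a)) := by
  simp [pbg_adj_iff, pointBlockRel]

@[simp] theorem pbg_pt_none (a : α) : (pointBlockGraph B).Adj (some (Sum.inl a)) none := by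
  simp [pbg_adj_iff, pointBlockRel]

@[simp] theorem pbg_none_blk (b : B) : ¬ (pointBlockGraph B).Adj none (some (Sum.inr b)) := by
  simp [pbg_adj_iff, pointBlockRel]

@[simp] theorem pbg_blk_none (b : B) : ¬ (pointBlockGraph B).Adj (some (Sum.inr b)) none := by
  simp [pbg_adj_iff, pointBlockRel]

@[simp] theorem pbg_pt_pt (a a' : α) :
    ¬ (pointBlockGraph B).Adj (some (Sum.inl a)) (some (Sum.inl a')) := by
  simp [pbg_adj_iff, pointBlockRel]

@[simp] theorem pbg_pt_blk (a : α) (b : B) :
    (pointBlockGraph B).Adj (some (Sum.inl a)) (some (Sum.inr b)) ↔ a ∈ b.1 := by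
  simp [pbg_adj_iff, pointBlockRel]

@[simp] theorem pbg_blk_pt (a : α) (b : B) :
    (pointBlockGraph B).Adj (some (Sum.inr b)) (some (Sum.inl a)) ↔ a ∈ b.1 := by
  simp [pbg_adj_iff, pointBlockRel]

@[simp] theorem pbg_blk_blk (b c : B) :
    (pointBlockGraph B).Adj (some (Sum.inr b)) (some (Sum.inr c)) ↔
      b ≠ c ∧ Disjoint b.1 c.1 := by
  simp only [pbg_adj_iff, pointBlockRel, ne_eq, Option.some.injEq, Sum.inr.injEq]
  constructor
  · rintro ⟨h1, h2 | h2⟩
    · exact ⟨h1, h2⟩
    · exact ⟨h1, h2.symm⟩
  · rintro ⟨h1, h2⟩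
    exact ⟨h1, Or.inl h2⟩

end PBG

/-! ### Isomorphic set systems have isomorphic point-block graphs -/

section Iso
variable {α : Type u} {β : Type v} [DecidableEq α] [DecidableEq β]
  {B : Set (Finset α)} {B' : Set (Finset β)}

/-- the bijection between the blocks -/
def blockEquiv (e : α ≃ β) (he : (fun b : Finset α => b.image e) '' B = B') : B ≃ B' where
  toFun b := ⟨b.1.image e, by rw [← he]; exact ⟨b.1, b.2, rfl⟩⟩
  invFun b := ⟨b.1.image e.symm, by
    have h : b.1 ∈ (fun b : Finset α => b.image e) '' B := by rw [he]; exact b.2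
    obtain ⟨c, hc, hcb⟩ := h
    have : b.1.image e.symm = c := by
      rw [← hcb]
      show (c.image e).image e.symm = c
      rw [Finset.image_image]
      simp
    rw [this]; exact hc⟩
  left_inv b := by
    apply Subtype.ext
    show (b.1.image e).image e.symm = b.1
    rw [Finset.image_image]
    simp
  right_inv b := by
    apply Subtype.ext
    show (b.1.image e.symm).image e = b.1
    rw [Finset.image_image]
    simp

/-- **Isomorphic set systems have isomorphic point-block graphs** (the isomorphism fixes `none`). -/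
def pbgIso (e : α ≃ β) (he : (fun b : Finset α => b.image e) '' B = B') :
    pointBlockGraph B ≃g pointBlockGraph B' where
  toEquiv := Equiv.optionCongr (Equiv.sumCongr e (blockEquiv e he))
  map_rel_iff' := by
    intro a b
    rcases a with _ | a | a <;> rcases b with _ | b | b
    · simp
    · simp
    · simp
    · simp
    · simp
    · simp only [Equiv.optionCongr_apply, Option.map_some, Equiv.sumCongr_apply, Sum.map_inl,
        Sum.map_inr, pbg_pt_blk]
      show e a ∈ b.1.image e ↔ a ∈ b.1
      rw [Finset.mem_image]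
      constructor
      · rintro ⟨c, hc, hce⟩
        rw [← e.injective hce]; exact hc
      · intro h; exact ⟨a, h, rfl⟩
    · simp
    · simp only [Equiv.optionCongr_apply, Option.map_some, Equiv.sumCongr_apply, Sum.map_inl,
        Sum.map_inr, pbg_blk_pt]
      show e b ∈ a.1.image e ↔ b ∈ a.1
      rw [Finset.mem_image]
      constructor
      · rintro ⟨c, hc, hce⟩
        rw [← e.injective hce]; exact hc
      · intro h; exact ⟨b, h, rfl⟩
    · simp only [Equiv.optionCongr_apply, Option.map_some, Equiv.sumCongr_apply,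
        Sum.map_inr, pbg_blk_blk]
      rw [(blockEquiv e he).injective.ne_iff]
      show _ ∧ Disjoint (a.1.image e) (b.1.image e) ↔ _
      rw [Finset.disjoint_image e.injective]

theorem pbgIso_none (e : α ≃ β) (he : (fun b : Finset α => b.image e) '' B = B') :
    pbgIso e he none = none := rfl

theorem pbgIso_pt (e : α ≃ β) (he : (fun b : Finset α => b.image e) '' B = B') (a : α) :
    pbgIso e he (some (Sum.inl a)) = some (Sum.inl (e a)) := rfl

end Iso

/-! ### The design of a vertex -/

section Design
variable {V : Type u} [Fintype V] [DecidableEq V] (G : SimpleGraph V) [DecidableRel G.Adj]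

/-- the points: the neighbours of `x` -/
abbrev Pt (x : V) := {a : V // G.Adj x a}

/-- the block of a vertex `u`, as a set of points -/
def pblk (x u : V) : Finset (Pt G x) := Finset.subtype (fun a => G.Adj x a) (blk G x u)

/-- the blocks of the far vertices -/
def design (x : V) : Set (Finset (Pt G x)) := {b | ∃ u ∈ far G x, pblk G x u = b}

variable {G}

theorem mem_pblk {x u : V} {a : Pt G x} : a ∈ pblk G x u ↔ G.Adj u a.1 := by
  rw [pblk, Finset.mem_subtype, mem_blk]
  exact ⟨fun h => h.2, fun h => ⟨a.2, h⟩⟩

theorem map_pblk (x u : V) :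
    (pblk G x u).map (Function.Embedding.subtype _) = blk G x u := by
  rw [pblk, Finset.subtype_map]
  apply Finset.filter_true_of_mem
  intro a ha
  exact (mem_blk.mp ha).1

theorem card_pblk_eq (x u : V) : (pblk G x u).card = (blk G x u).card := by
  rw [← map_pblk, Finset.card_map]

theorem card_pblk_inter (x u v : V) :
    (pblk G x u ∩ pblk G x v).card = (blk G x u ∩ blk G x v).card := by
  rw [← map_pblk x u, ← map_pblk x v, ← Finset.map_inter, Finset.card_map]

theorem card_Pt (h : IsHS G) (x : V) : Fintype.card (Pt G x) = 22 := by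
  rw [Fintype.card_subtype]
  exact h.deg x

theorem pblk_injOn (h : IsHS G) {x u v : V} (hu : u ∈ far G x) (hv : v ∈ far G x)
    (heq : pblk G x u = pblk G x v) : u = v := by
  apply h.blk_injOn hu hv
  rw [← map_pblk, ← map_pblk, heq]

theorem pblk_card_inter_le (h : IsHS G) {x u v : V} (hu : u ∈ far G x) (hv : v ∈ far G x)
    (huv : u ≠ v) : (pblk G x u ∩ pblk G x v).card ≤ 2 := by
  rw [card_pblk_inter]
  by_cases hadj : G.Adj u v
  · rw [h.blk_inter_of_adj hadj]; simp
  · rw [h.card_blk_inter hu hv huv hadj]

theorem adj_iff_disjoint_pblk (h : IsHS G) {x u v : V} (hu : u ∈ far G x) (hv : v ∈ far G x)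
    (huv : u ≠ v) : G.Adj u v ↔ Disjoint (pblk G x u) (pblk G x v) := by
  rw [h.adj_iff_disjoint hu hv huv, Finset.disjoint_iff_inter_eq_empty,
    Finset.disjoint_iff_inter_eq_empty, ← Finset.card_eq_zero, ← Finset.card_eq_zero,
    card_pblk_inter]

/-- a triple of points lies in at most one block -/
theorem block_unique (h : IsHS G) {x u v : V} (hu : u ∈ far G x) (hv : v ∈ far G x)
    {s : Finset (Pt G x)} (hs : s.card = 3) (hsu : s ⊆ pblk G x u) (hsv : s ⊆ pblk G x v) :
    u = v := by
  by_contra huv
  have h1 := pblk_card_inter_le h hu hv huv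
  have h2 : s.card ≤ (pblk G x u ∩ pblk G x v).card :=
    Finset.card_le_card (Finset.subset_inter hsu hsv)
  omega

/-- **The blocks of the far vertices form a Steiner system `S(3,6,22)`.** -/
theorem design_steiner (h : IsHS G) (x : V) : IsSteinerSystem 3 6 (design G x) := by
  constructor
  · rintro _ ⟨u, hu, rfl⟩
    rw [card_pblk_eq, h.card_blk hu]
  · intro s hs
    -- counting
    set P : Finset (Finset (Pt G x)) := Finset.powersetCard 3 Finset.univ with hP
    have hPcard : P.card = 1540 := by
      rw [hP, Finset.card_powersetCard, Finset.card_univ, card_Pt h x]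
      decide
    have hc1 : ∀ t ∈ P, ((far G x).filter fun u => t ⊆ pblk G x u).card ≤ 1 := by
      intro t ht
      rw [Finset.card_le_one]
      intro u hu v hv
      rw [Finset.mem_filter] at hu hv
      exact block_unique h hu.1 hv.1 (Finset.mem_powersetCard.mp ht).2 hu.2 hv.2
    have hsum : ∑ t ∈ P, ((far G x).filter fun u => t ⊆ pblk G x u).card = 1540 := by
      rw [double_count P (far G x) (fun t u => t ⊆ pblk G x u)]
      have : ∀ u ∈ far G x, (P.filter fun t => t ⊆ pblk G x u).card = 20 := by
        intro u hu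
        have : P.filter (fun t => t ⊆ pblk G x u) = Finset.powersetCard 3 (pblk G x u) := by
          ext t
          rw [Finset.mem_filter, hP, Finset.mem_powersetCard, Finset.mem_powersetCard]
          constructor
          · rintro ⟨⟨_, h3⟩, hsub⟩; exact ⟨hsub, h3⟩
          · rintro ⟨hsub, h3⟩; exact ⟨⟨Finset.subset_univ _, h3⟩, hsub⟩
        rw [this, Finset.card_powersetCard, card_pblk_eq, h.card_blk hu]
        decide
      rw [Finset.sum_congr rfl this, Finset.sum_const, h.card_far]
      rfl
    have hsP : s ∈ P := by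
      rw [hP, Finset.mem_powersetCard]; exact ⟨Finset.subset_univ _, hs⟩
    have hex : ((far G x).filter fun u => s ⊆ pblk G x u).card = 1 := by
      by_contra hne
      have h0 : ((far G x).filter fun u => s ⊆ pblk G x u).card = 0 := by
        have := hc1 s hsP
        omega
      have h1 := Finset.add_sum_erase P (fun t => ((far G x).filter fun u => t ⊆ pblk G x u).card)
        hsP
      have h2 : ∑ t ∈ P.erase s, ((far G x).filter fun u => t ⊆ pblk G x u).card ≤
          (P.erase s).card • 1 :=
        Finset.sum_le_card_nsmul _ _ _ (fun t ht => hc1 t (Finset.mem_of_mem_erase ht))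
      rw [Finset.card_erase_of_mem hsP, hPcard] at h2
      simp only [smul_eq_mul, mul_one] at h2
      rw [h0, hsum] at h1
      omega
    rw [Finset.card_eq_one] at hex
    obtain ⟨u, hu⟩ := hex
    have hu' : u ∈ (far G x).filter fun u => s ⊆ pblk G x u := by
      rw [hu]; exact Finset.mem_singleton_self u
    rw [Finset.mem_filter] at hu'
    refine ⟨pblk G x u, ⟨⟨u, hu'.1, rfl⟩, hu'.2⟩, ?_⟩
    rintro _ ⟨⟨v, hv, rfl⟩, hsv⟩
    rw [block_unique h hv hu'.1 hs hsv hu'.2]

/-! ### The isomorphism with the point-block graph -/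

variable (G) in
/-- the vertex map -/
def toPBG (x : V) (v : V) : Option (Pt G x ⊕ design G x) :=
  if hvx : v = x then none
  else if h : G.Adj x v then some (Sum.inl ⟨v, h⟩)
  else some (Sum.inr ⟨pblk G x v, v, mem_far.mpr ⟨hvx, h⟩, rfl⟩)

theorem toPBG_self (x : V) : toPBG G x x = none := by
  simp [toPBG]

theorem toPBG_nb {x a : V} (ha : G.Adj x a) : toPBG G x a = some (Sum.inl ⟨a, ha⟩) := by
  have : a ≠ x := (G.ne_of_adj ha).symm
  simp [toPBG, this, ha]

theorem toPBG_far {x u : V} (hu : u ∈ far G x) :
    toPBG G x u = some (Sum.inr ⟨pblk G x u, u, hu, rfl⟩) := by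
  obtain ⟨h1, h2⟩ := mem_far.mp hu
  simp [toPBG, h1, h2]

theorem vertex_cases (x v : V) : x = v ∨ G.Adj x v ∨ v ∈ far G x := by
  by_cases h1 : v = x
  · exact Or.inl h1.symm
  · by_cases h2 : G.Adj x v
    · exact Or.inr (Or.inl h2)
    · exact Or.inr (Or.inr (mem_far.mpr ⟨h1, h2⟩))

theorem toPBG_injective (h : IsHS G) (x : V) : Function.Injective (toPBG G x) := by
  intro v w hvw
  rcases vertex_cases (G := G) x v with rfl | hv | hv <;>
    rcases vertex_cases (G := G) x w with rfl | hw | hw
  · rfl
  · rw [toPBG_self, toPBG_nb hw] at hvw; exact absurd hvw (by simp)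
  · rw [toPBG_self, toPBG_far hw] at hvw; exact absurd hvw (by simp)
  · rw [toPBG_self, toPBG_nb hv] at hvw; exact absurd hvw (by simp)
  · rw [toPBG_nb hv, toPBG_nb hw] at hvw
    simpa using hvw
  · rw [toPBG_nb hv, toPBG_far hw] at hvw; exact absurd hvw (by simp)
  · rw [toPBG_self, toPBG_far hv] at hvw; exact absurd hvw (by simp)
  · rw [toPBG_far hv, toPBG_nb hw] at hvw; exact absurd hvw (by simp)
  · rw [toPBG_far hv, toPBG_far hw] at hvw
    simp only [Option.some.injEq, Sum.inr.injEq] at hvw
    exact pblk_injOn h hv hw (congrArg Subtype.val hvw)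

theorem toPBG_surjective (x : V) : Function.Surjective (toPBG G x) := by
  rintro (_ | a | ⟨b, u, hu, rfl⟩)
  · exact ⟨x, toPBG_self x⟩
  · exact ⟨a.1, toPBG_nb a.2⟩
  · exact ⟨u, toPBG_far hu⟩

theorem toPBG_adj (h : IsHS G) (x v w : V) :
    (pointBlockGraph (design G x)).Adj (toPBG G x v) (toPBG G x w) ↔ G.Adj v w := by
  rcases vertex_cases (G := G) x v with rfl | hv | hv <;>
    rcases vertex_cases (G := G) x w with rfl | hw | hw
  · rw [toPBG_self]; simp
  · rw [toPBG_self, toPBG_nb hw]; simp [hw]
  · rw [toPBG_self, toPBG_far hw]; simp [(mem_far.mp hw).2]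
  · rw [toPBG_self, toPBG_nb hv]; simp [hv.symm]
  · rw [toPBG_nb hv, toPBG_nb hw]; simp [h.nb_indep hv hw]
  · rw [toPBG_nb hv, toPBG_far hw, pbg_pt_blk, mem_pblk]
    exact ⟨fun h' => h'.symm, fun h' => h'.symm⟩
  · rw [toPBG_self, toPBG_far hv]
    simp only [pbg_blk_none, false_iff]
    exact fun h' => (mem_far.mp hv).2 h'.symm
  · rw [toPBG_far hv, toPBG_nb hw, pbg_blk_pt, mem_pblk]
  · rw [toPBG_far hv, toPBG_far hw, pbg_blk_blk]
    by_cases hvw : v = w
    · subst hvw
      simp
    · rw [adj_iff_disjoint_pblk h hv hw hvw]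
      constructor
      · exact fun h' => h'.2
      · intro h'
        refine ⟨?_, h'⟩
        intro heq
        exact hvw (pblk_injOn h hv hw (congrArg Subtype.val heq))

/-- **An SRG(100,22,0,6) is the point-block graph of the design of any of its vertices.** -/
noncomputable def isoPBG (h : IsHS G) (x : V) : G ≃g pointBlockGraph (design G x) where
  toEquiv := Equiv.ofBijective (toPBG G x) ⟨toPBG_injective h x, toPBG_surjective x⟩
  map_rel_iff' := by
    intro v w
    exact toPBG_adj h x v w

theorem isoPBG_self (h : IsHS G) (x : V) : isoPBG h x x = none := toPBG_self x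

end Design

end Cfsg.Agent.Lib.Helper93.HSDesign
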