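import Cfsg.Agent.Lib.Helper93.HovCount
import Cfsg.Agent.S0350
import Cfsg.Agent.S0351
import Cfsg.Agent.S0356

/-!
# Uniqueness of the Steiner system `S(3,6,22)`

The derived design at a point is a plane of order 4; the blocks off the point are 56 hyperovals
meeting pairwise evenly.  An isomorphism of the planes extending a bijection between two such
hyperovals maps blocks to blocks.
-/

set_option autoImplicit false

namespace Cfsg.Agent.Lib.Helper93.S22Unique
open Finset Cfsg Cfsg.Agent.Lib.Helper6 Cfsg.Agent.Lib.Helper93.HovCount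

universe u v
variable {α : Type u} [Fintype α] [DecidableEq α] {D : Set (Finset α)}

/-- Restriction of a finset to the points other than `p`. -/
abbrev res (p : α) (b : Finset α) : Finset {a : α // a ≠ p} := Finset.subtype (fun a => a ≠ p) b

omit [Fintype α] in
theorem mem_res {p : α} {b : Finset α} {x : {a : α // a ≠ p}} : x ∈ res p b ↔ (x : α) ∈ b :=
  Finset.mem_subtype

omit [Fintype α] in
theorem card_res_of_not_mem {p : α} {b : Finset α} (hp : p ∉ b) : (res p b).card = b.card := by
  rw [Finset.card_subtype, Finset.filter_true_of_mem]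
  intro x hx h
  exact hp (h ▸ hx)

omit [Fintype α] in
theorem res_inter (p : α) (b c : Finset α) : res p b ∩ res p c = res p (b ∩ c) := by
  ext x
  simp only [Finset.mem_inter, mem_res]

omit [Fintype α] in
/-- A finset is determined by its restriction and whether it contains `p`. -/
theorem eq_of_res_eq {p : α} {s t : Finset α} (h : res p s = res p t) (hp : p ∈ s ↔ p ∈ t) :
    s = t := by
  ext x
  by_cases hx : x = p
  · rw [hx]; exact hp
  · have := Finset.ext_iff.mp h ⟨x, hx⟩
    rw [mem_res, mem_res] at this
    exact this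

/-- The derived plane at `p`. -/
def dLines (D : Set (Finset α)) (p : α) : Set (Finset {a : α // a ≠ p}) :=
  {b' | ∃ b ∈ D, p ∈ b ∧ b' = Finset.subtype (fun a => a ≠ p) b}

theorem dLines_steiner (hD : IsSteinerSystem 3 6 D) (p : α) :
    IsSteinerSystem 2 5 (dLines D p) :=
  Cfsg.Agent.S0351.result (t := 2) (k := 5) hD p

theorem card_pts (hα : Fintype.card α = 22) (p : α) : Fintype.card {a : α // a ≠ p} = 21 := by
  rw [Fintype.card_subtype_compl (fun a : α => a = p), Fintype.card_subtype_eq, hα]

/-- A block off `p` is a hyperoval of the derived plane. -/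
theorem res_hov (hα : Fintype.card α = 22) (hD : IsSteinerSystem 3 6 D) {p : α} {b : Finset α}
    (hb : b ∈ D) (hpb : p ∉ b) : P4Hov (dLines D p) (res p b) := by
  constructor
  · rw [card_res_of_not_mem hpb, hD.1 b hb]
  · rintro l ⟨c, hc, hpc, rfl⟩
    have hne : c ≠ b := fun h => hpb (h ▸ hpc)
    show (res p c ∩ res p b).card ≤ 2
    rw [res_inter, card_res_of_not_mem (fun h => hpb (Finset.mem_inter.mp h).2)]
    rcases Cfsg.Agent.S0356.result hα hD hc hb hne with h | h <;> omega

open Classical in
/-- The blocks off `p`. -/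
noncomputable def offBlocks (D : Set (Finset α)) (p : α) : Finset (Finset α) :=
  Finset.univ.filter (fun b => b ∈ D ∧ p ∉ b)

theorem mem_offBlocks {p : α} {b : Finset α} : b ∈ offBlocks D p ↔ b ∈ D ∧ p ∉ b := by
  simp [offBlocks]

theorem card_blocks (hα : Fintype.card α = 22) (hD : IsSteinerSystem 3 6 D) :
    (blocksOf D).card = 77 := by
  have := card_blocksOf_mul hD
  rw [hα] at this
  have h1 : (6 : ℕ).choose 3 = 20 := by decide
  have h2 : (22 : ℕ).choose 3 = 1540 := by decide
  rw [h1, h2] at this
  omega

theorem card_offBlocks (hα : Fintype.card α = 22) (hD : IsSteinerSystem 3 6 D) (p : α) :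
    (offBlocks D p).card = 56 := by
  have h77 := card_blocks hα hD
  have h21 : (blocksThrough D {p}).card = 21 := by
    have := card_blocksThrough_mul hD {p} (by simp)
    rw [hα, Finset.card_singleton] at this
    have h1 : (6 - 1 : ℕ).choose (3 - 1) = 10 := by decide
    have h2 : (22 - 1 : ℕ).choose (3 - 1) = 210 := by decide
    rw [h1, h2] at this
    omega
  have hsplit : offBlocks D p = blocksOf D \ blocksThrough D {p} := by
    ext b
    simp only [mem_offBlocks, Finset.mem_sdiff, mem_blocksOf, mem_blocksThrough,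
      Finset.singleton_subset_iff]
    tauto
  have hsub : blocksThrough D {p} ⊆ blocksOf D := by
    intro b hb
    rw [mem_blocksThrough] at hb
    exact mem_blocksOf.mpr hb.1
  rw [hsplit, Finset.card_sdiff_of_subset hsub, h77, h21]

/-- The hyperovals coming from the blocks off `p`. -/
noncomputable def offHovs (D : Set (Finset α)) (p : α) : Finset (Finset {a : α // a ≠ p}) :=
  (offBlocks D p).image (res p)

theorem res_injOn (p : α) : Set.InjOn (res p) (offBlocks D p : Set (Finset α)) := by
  intro b hb c hc h
  rw [Finset.mem_coe, mem_offBlocks] at hb hc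
  exact eq_of_res_eq h ⟨fun h' => absurd h' hb.2, fun h' => absurd h' hc.2⟩

theorem card_offHovs (hα : Fintype.card α = 22) (hD : IsSteinerSystem 3 6 D) (p : α) :
    (offHovs D p).card = 56 := by
  rw [offHovs, Finset.card_image_of_injOn (res_injOn p), card_offBlocks hα hD p]

theorem offHovs_hov (hα : Fintype.card α = 22) (hD : IsSteinerSystem 3 6 D) (p : α) :
    ∀ H ∈ offHovs D p, P4Hov (dLines D p) H := by
  intro H hH
  obtain ⟨b, hb, rfl⟩ := Finset.mem_image.mp hH
  rw [mem_offBlocks] at hb
  exact res_hov hα hD hb.1 hb.2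

theorem offHovs_even (hα : Fintype.card α = 22) (hD : IsSteinerSystem 3 6 D) (p : α) :
    ∀ H ∈ offHovs D p, ∀ H' ∈ offHovs D p, H ≠ H' → Even (H ∩ H').card := by
  intro H hH H' hH' hne
  obtain ⟨b, hb, rfl⟩ := Finset.mem_image.mp hH
  obtain ⟨c, hc, rfl⟩ := Finset.mem_image.mp hH'
  rw [mem_offBlocks] at hb hc
  have hbc : b ≠ c := fun h => hne (h ▸ rfl)
  rw [res_inter, card_res_of_not_mem (fun h => hb.2 (Finset.mem_inter.mp h).1)]
  rcases Cfsg.Agent.S0356.result hα hD hb.1 hc.1 hbc with h | h <;> rw [h] <;> decide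

/-! ### Transport along an isomorphism of planes -/

section Transport

variable {γ : Type u} {δ : Type v} [Fintype γ] [DecidableEq γ] [Fintype δ] [DecidableEq δ]
  {L : Set (Finset γ)} {L' : Set (Finset δ)}

omit [Fintype γ] [Fintype δ] in
/-- The image of a hyperoval under an isomorphism of planes is a hyperoval. -/
theorem hov_image (e : γ ≃ δ) (he : (fun b : Finset γ => b.image e) '' L = L') {H : Finset γ}
    (hH : P4Hov L H) : P4Hov L' (H.image e) := by
  constructor
  · rw [Finset.card_image_of_injective _ e.injective, hH.1]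
  · intro l' hl'
    rw [← he] at hl'
    obtain ⟨l, hl, rfl⟩ := hl'
    rw [← Finset.image_inter _ _ e.injective, Finset.card_image_of_injective _ e.injective]
    exact hH.2 l hl

end Transport

/-! ### Extension of a bijection of the derived point sets -/

section Extend

variable {β : Type v} [Fintype β] [DecidableEq β]

/-- The extension of a bijection between the points other than `p` and the points other than
`p'` mapping `p` to `p'`. -/
def extend (p : α) (p' : β) (e : {a : α // a ≠ p} ≃ {b : β // b ≠ p'}) : α ≃ β :=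
  (Equiv.optionSubtypeNe p).symm.trans ((Equiv.optionCongr e).trans (Equiv.optionSubtypeNe p'))

omit [Fintype α] [Fintype β] in
theorem extend_self (p : α) (p' : β) (e : {a : α // a ≠ p} ≃ {b : β // b ≠ p'}) :
    extend p p' e p = p' := by
  simp [extend]

omit [Fintype α] [Fintype β] in
theorem extend_coe (p : α) (p' : β) (e : {a : α // a ≠ p} ≃ {b : β // b ≠ p'})
    (x : {a : α // a ≠ p}) : extend p p' e (x : α) = (e x : β) := by
  have : (Equiv.optionSubtypeNe p).symm (x : α) = some x := by
    rw [Equiv.symm_apply_eq]; rfl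
  simp [extend, this]

omit [Fintype α] [Fintype β] in
theorem mem_image_extend_self (p : α) (p' : β) (e : {a : α // a ≠ p} ≃ {b : β // b ≠ p'})
    (b : Finset α) : p' ∈ b.image (extend p p' e) ↔ p ∈ b := by
  rw [Finset.mem_image]
  constructor
  · rintro ⟨x, hx, hxe⟩
    have : x = p := (extend p p' e).injective (hxe.trans (extend_self p p' e).symm)
    exact this ▸ hx
  · intro h
    exact ⟨p, h, extend_self p p' e⟩

omit [Fintype α] [Fintype β] in
theorem res_image_extend (p : α) (p' : β) (e : {a : α // a ≠ p} ≃ {b : β // b ≠ p'})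
    (b : Finset α) : res p' (b.image (extend p p' e)) = (res p b).image e := by
  ext y
  rw [mem_res, Finset.mem_image, Finset.mem_image]
  constructor
  · rintro ⟨x, hx, hxe⟩
    have hxp : x ≠ p := by
      rintro rfl
      rw [extend_self] at hxe
      exact y.2 hxe.symm
    refine ⟨⟨x, hxp⟩, mem_res.mpr hx, ?_⟩
    apply Subtype.ext
    rw [← hxe]
    exact (extend_coe p p' e ⟨x, hxp⟩).symm
  · rintro ⟨x, hx, rfl⟩
    exact ⟨(x : α), mem_res.mp hx, extend_coe p p' e x⟩

end Extend

/-! ### The main theorem -/

theorem ncard_blocks (hα : Fintype.card α = 22) (hD : IsSteinerSystem 3 6 D) : D.ncard = 77 := by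
  rw [ncard_eq_card_blocksOf, card_blocks hα hD]

/-- Any two Steiner systems `S(3,6,22)` are isomorphic. -/
theorem setSystemIso {β : Type v} [Fintype β] [DecidableEq β] {D' : Set (Finset β)}
    (hα : Fintype.card α = 22) (hβ : Fintype.card β = 22) (hD : IsSteinerSystem 3 6 D)
    (hD' : IsSteinerSystem 3 6 D') : SetSystemIso D D' := by
  classical
  have hne : Nonempty α := Fintype.card_pos_iff.mp (by rw [hα]; norm_num)
  have hne' : Nonempty β := Fintype.card_pos_iff.mp (by rw [hβ]; norm_num)
  obtain ⟨p⟩ := hne
  obtain ⟨p'⟩ := hne'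
  have h21 := card_pts hα p
  have h21' := card_pts hβ p'
  have hL := dLines_steiner hD p
  have hL' := dLines_steiner hD' p'
  -- base blocks
  obtain ⟨b0, hb0⟩ : (offBlocks D p).Nonempty := by
    rw [← Finset.card_pos, card_offBlocks hα hD p]; norm_num
  obtain ⟨b0', hb0'⟩ : (offBlocks D' p').Nonempty := by
    rw [← Finset.card_pos, card_offBlocks hβ hD' p']; norm_num
  have hb0m := mem_offBlocks.mp hb0
  have hb0m' := mem_offBlocks.mp hb0'
  have hH0 := res_hov hα hD hb0m.1 hb0m.2
  have hH0' := res_hov hβ hD' hb0m'.1 hb0m'.2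
  have hne1 : Nonempty {a : α // a ≠ p} := Fintype.card_pos_iff.mp (by rw [h21]; norm_num)
  have hne2 : Nonempty {b : β // b ≠ p'} := Fintype.card_pos_iff.mp (by rw [h21']; norm_num)
  let e0 : ↥(res p b0) ≃ ↥(res p' b0') := Finset.equivOfCardEq (by rw [hH0.1, hH0'.1])
  obtain ⟨σ, _⟩ := exists_hovBij_of_equiv e0
  obtain ⟨e, hes, himg⟩ := p4_exists_equiv h21 hL hH0 h21' hL' hH0' σ
  -- the image of the base hyperoval
  have hbase : (res p b0).image e = res p' b0' := by
    apply Finset.eq_of_subset_of_card_le
    · intro y hy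
      obtain ⟨x, hx, rfl⟩ := Finset.mem_image.mp hy
      rw [hes x hx]
      exact σ.hs x hx
    · rw [Finset.card_image_of_injective _ e.injective, hH0.1, hH0'.1]
  -- the image family
  set G : Finset (Finset {b : β // b ≠ p'}) := (offHovs D p).image (fun H => H.image e) with hG
  have hinj : Function.Injective (fun H : Finset {a : α // a ≠ p} => H.image e) :=
    Finset.image_injective e.injective
  have hGc : G.card = 56 := by
    rw [hG, Finset.card_image_of_injective _ hinj, card_offHovs hα hD p]
  have hGh : ∀ H ∈ G, P4Hov (dLines D' p') H := by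
    intro H hH
    obtain ⟨K, hK, rfl⟩ := Finset.mem_image.mp hH
    exact hov_image e himg (offHovs_hov hα hD p K hK)
  have hGe : ∀ H ∈ G, ∀ H' ∈ G, H ≠ H' → Even (H ∩ H').card := by
    intro H hH H' hH' hne
    obtain ⟨K, hK, rfl⟩ := Finset.mem_image.mp hH
    obtain ⟨K', hK', rfl⟩ := Finset.mem_image.mp hH'
    have hKK : K ≠ K' := fun h => hne (h ▸ rfl)
    show Even (K.image e ∩ K'.image e).card
    rw [← Finset.image_inter _ _ e.injective, Finset.card_image_of_injective _ e.injective]
    exact offHovs_even hα hD p K hK K' hK' hKK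
  have hG0 : res p' b0' ∈ G := by
    rw [hG, Finset.mem_image]
    exact ⟨res p b0, Finset.mem_image.mpr ⟨b0, hb0, rfl⟩, hbase⟩
  have hF0 : res p' b0' ∈ offHovs D' p' := Finset.mem_image.mpr ⟨b0', hb0', rfl⟩
  have hGF : G = offHovs D' p' := by
    rw [family_eq h21' hL' hGh hGe hGc hG0,
      family_eq h21' hL' (offHovs_hov hβ hD' p') (offHovs_even hβ hD' p')
        (card_offHovs hβ hD' p') hF0]
  -- the extended bijection
  refine ⟨extend p p' e, ?_⟩
  have hsub : (fun b : Finset α => b.image (extend p p' e)) '' D ⊆ D' := by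
    rintro _ ⟨b, hb, rfl⟩
    show b.image (extend p p' e) ∈ D'
    by_cases hpb : p ∈ b
    · have hl : res p b ∈ dLines D p := ⟨b, hb, hpb, rfl⟩
      have hl' : (res p b).image e ∈ dLines D' p' := by
        rw [← himg]
        exact ⟨res p b, hl, rfl⟩
      obtain ⟨c', hc', hpc', hceq⟩ := hl'
      have : b.image (extend p p' e) = c' := by
        apply eq_of_res_eq
        · rw [res_image_extend, hceq]
        · rw [mem_image_extend_self]
          exact ⟨fun _ => hpc', fun _ => hpb⟩
      rw [this]
      exact hc'
    · have hK : res p b ∈ offHovs D p :=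
        Finset.mem_image.mpr ⟨b, mem_offBlocks.mpr ⟨hb, hpb⟩, rfl⟩
      have hK' : (res p b).image e ∈ offHovs D' p' := by
        rw [← hGF, hG]
        exact Finset.mem_image.mpr ⟨res p b, hK, rfl⟩
      obtain ⟨c', hc', hceq⟩ := Finset.mem_image.mp hK'
      rw [mem_offBlocks] at hc'
      have : b.image (extend p p' e) = c' := by
        apply eq_of_res_eq
        · rw [res_image_extend, hceq]
        · rw [mem_image_extend_self]
          exact ⟨fun h => absurd h hpb, fun h => absurd h hc'.2⟩
      rw [this]
      exact hc'.1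
  apply Set.eq_of_subset_of_ncard_le hsub ?_ (Set.toFinite _)
  rw [Set.ncard_image_of_injective _ (Finset.image_injective (extend p p' e).injective),
    ncard_blocks hα hD, ncard_blocks hβ hD']

end Cfsg.Agent.Lib.Helper93.S22Unique
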