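/-
helper93: the automorphism group of the point-block graph of a Steiner system S(3,6,22) is transitive on the
100 vertices, and the stabiliser of the extra vertex is the automorphism group of the Steiner system.
-/
import Cfsg.Agent.Lib.Helper93.HSDesign
import Cfsg.Agent.Lib.Helper93.S22Unique
import Cfsg.Agent.Lib.Helper93.AutRestrict
import Cfsg.Agent.S0428

set_option autoImplicit false
set_option linter.unusedSectionVars false

namespace Cfsg.Agent.Lib.Helper93.HSAut
open Finset Cfsg Cfsg.Agent.Lib.Helper93.HSCount Cfsg.Agent.Lib.Helper93.HSDesign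
  Cfsg.Agent.Lib.Helper93.AutTransport Cfsg.Agent.Lib.Helper93.AutRestrict

universe u

variable {α : Type u} [DecidableEq α] {B : Set (Finset α)}

/-- the graph automorphism induced by an automorphism of the set system -/
def autToGraph (σ : setSystemAut B) : pointBlockGraph B ≃g pointBlockGraph B :=
  pbgIso σ.1 ((mem_aut_iff σ.1).mp σ.2)

theorem autToGraph_none (σ : setSystemAut B) : autToGraph σ none = none := rfl

theorem autToGraph_pt (σ : setSystemAut B) (a : α) :
    autToGraph σ (some (Sum.inl a)) = some (Sum.inl (σ.1 a)) := rfl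

theorem autToGraph_blk (σ : setSystemAut B) (b : B) :
    ∃ hb : b.1.image σ.1 ∈ B, autToGraph σ (some (Sum.inr b)) = some (Sum.inr ⟨b.1.image σ.1, hb⟩) :=
  ⟨_, rfl⟩

theorem autToGraph_injective : Function.Injective (autToGraph (B := B)) := by
  intro σ τ h
  apply Subtype.ext
  apply Equiv.ext
  intro a
  have h1 := congrArg (fun g : pointBlockGraph B ≃g pointBlockGraph B => g (some (Sum.inl a))) h
  simp only [autToGraph_pt, Option.some.injEq, Sum.inl.injEq] at h1
  exact h1

/-- extract a point from a vertex -/
def ptOf (v : Option (α ⊕ B)) (d : α) : α :=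
  match v with
  | some (Sum.inl a) => a
  | _ => d

/-- the action of a graph automorphism on the points -/
def fwd (g : pointBlockGraph B ≃g pointBlockGraph B) (a : α) : α :=
  ptOf (g (some (Sum.inl a))) a

theorem apply_pt {g : pointBlockGraph B ≃g pointBlockGraph B} (hg : g none = none) (a : α) :
    g (some (Sum.inl a)) = some (Sum.inl (fwd g a)) := by
  have hadj : (pointBlockGraph B).Adj (g none) (g (some (Sum.inl a))) :=
    g.map_rel_iff.mpr (pbg_none_pt B a)
  rw [hg] at hadj
  unfold fwd
  rcases hga : g (some (Sum.inl a)) with _ | a' | b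
  · rw [hga] at hadj; exact absurd hadj (pbg_none_none B)
  · rfl
  · rw [hga] at hadj; exact absurd hadj (pbg_none_blk B b)

theorem symm_none {g : pointBlockGraph B ≃g pointBlockGraph B} (hg : g none = none) :
    g.symm none = none := by
  rw [RelIso.symm_apply_eq, hg]

theorem fwd_symm_fwd {g : pointBlockGraph B ≃g pointBlockGraph B} (hg : g none = none) (a : α) :
    fwd g.symm (fwd g a) = a := by
  have h1 := apply_pt (symm_none hg) (fwd g a)
  rw [← apply_pt hg a, RelIso.symm_apply_apply] at h1
  simpa using h1.symm

/-- the permutation of the points induced by a graph automorphism fixing the extra vertex -/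
def ptPerm (g : pointBlockGraph B ≃g pointBlockGraph B) (hg : g none = none) : Equiv.Perm α where
  toFun := fwd g
  invFun := fwd g.symm
  left_inv := fwd_symm_fwd hg
  right_inv := fun a => by
    have := fwd_symm_fwd (symm_none hg) a
    exact this

theorem apply_blk {g : pointBlockGraph B ≃g pointBlockGraph B} (hg : g none = none) (b : B) :
    ∃ hb : b.1.image (ptPerm g hg) ∈ B,
      g (some (Sum.inr b)) = some (Sum.inr ⟨b.1.image (ptPerm g hg), hb⟩) := by
  have hnadj : ¬ (pointBlockGraph B).Adj (g none) (g (some (Sum.inr b))) := by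
    rw [g.map_rel_iff]; exact pbg_none_blk B b
  rw [hg] at hnadj
  rcases hgb : g (some (Sum.inr b)) with _ | a' | b'
  · have : g (some (Sum.inr b)) = g none := by rw [hgb, hg]
    exact absurd (g.injective this) (by simp)
  · rw [hgb] at hnadj; exact absurd (pbg_none_pt B a') hnadj
  · have : b.1.image (ptPerm g hg) = b'.1 := by
      ext a'
      rw [Finset.mem_image]
      constructor
      · rintro ⟨a, ha, rfl⟩
        have h1 : (pointBlockGraph B).Adj (some (Sum.inl a)) (some (Sum.inr b)) :=
          (pbg_pt_blk B a b).mpr ha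
        rw [← g.map_rel_iff, apply_pt hg, hgb, pbg_pt_blk] at h1
        exact h1
      · intro ha'
        refine ⟨(ptPerm g hg).symm a', ?_, by simp⟩
        have h1 : (pointBlockGraph B).Adj (some (Sum.inl a')) (some (Sum.inr b')) :=
          (pbg_pt_blk B a' b').mpr ha'
        rw [← g.symm.map_rel_iff, ← hgb, RelIso.symm_apply_apply, apply_pt (symm_none hg),
          pbg_pt_blk] at h1
        exact h1
    refine ⟨this ▸ b'.2, ?_⟩
    congr 2
    exact Subtype.ext this.symm

theorem ptPerm_mem_aut (g : pointBlockGraph B ≃g pointBlockGraph B) (hg : g none = none) :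
    ptPerm g hg ∈ setSystemAut B := by
  apply mem_aut_of_maps
  · intro b hb
    obtain ⟨h, _⟩ := apply_blk hg ⟨b, hb⟩
    exact h
  · intro b hb
    obtain ⟨h, _⟩ := apply_blk (symm_none hg) ⟨b, hb⟩
    exact h

theorem autToGraph_ptPerm (g : pointBlockGraph B ≃g pointBlockGraph B) (hg : g none = none) :
    autToGraph ⟨ptPerm g hg, ptPerm_mem_aut g hg⟩ = g := by
  apply RelIso.ext
  rintro (_ | a | b)
  · rw [autToGraph_none, hg]
  · rw [autToGraph_pt, apply_pt hg]; rfl
  · obtain ⟨h1, h2⟩ := apply_blk hg b
    obtain ⟨h3, h4⟩ := autToGraph_blk ⟨ptPerm g hg, ptPerm_mem_aut g hg⟩ b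
    rw [h2, h4]

/-- the stabiliser of the extra vertex is in bijection with the automorphism group of the system -/
theorem card_stabilizer_none :
    Nat.card (MulAction.stabilizer (pointBlockGraph B ≃g pointBlockGraph B)
      (none : Option (α ⊕ B))) = Nat.card (setSystemAut B) := by
  symm
  apply Nat.card_congr
  refine Equiv.ofBijective (fun σ => ⟨autToGraph σ, ?_⟩) ⟨?_, ?_⟩
  · rw [MulAction.mem_stabilizer_iff, RelIso.smul_def, autToGraph_none]
  · intro σ τ h
    exact autToGraph_injective (congrArg Subtype.val h)
  · rintro ⟨g, hg⟩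
    rw [MulAction.mem_stabilizer_iff, RelIso.smul_def] at hg
    exact ⟨⟨ptPerm g hg, ptPerm_mem_aut g hg⟩, Subtype.ext (autToGraph_ptPerm g hg)⟩

section Count
variable {α : Type u} [Fintype α] [DecidableEq α] {B : Set (Finset α)}

/-- the automorphism group of the point-block graph of an `S(3,6,22)` is vertex-transitive -/
theorem exists_aut_none_to (hα : Fintype.card α = 22) (hB : IsSteinerSystem 3 6 B)
    (y : Option (α ⊕ B)) : ∃ g : pointBlockGraph B ≃g pointBlockGraph B, g none = y := by
  haveI : Fintype ↥B := Fintype.ofFinite _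
  haveI : DecidableRel (pointBlockGraph B).Adj := Classical.decRel _
  have hΓ := isHS_of_srg (pointBlockGraph B) (Cfsg.Agent.S0428.result hα hB)
  obtain ⟨e, he⟩ := Cfsg.Agent.Lib.Helper93.S22Unique.setSystemIso hα (card_Pt hΓ y) hB
    (design_steiner hΓ y)
  refine ⟨(pbgIso e he).trans (isoPBG hΓ y).symm, ?_⟩
  show (isoPBG hΓ y).symm (pbgIso e he none) = y
  rw [pbgIso_none, RelIso.symm_apply_eq, isoPBG_self]

theorem card_vertices (hα : Fintype.card α = 22) (hB : IsSteinerSystem 3 6 B) :
    Nat.card (Option (α ⊕ B)) = 100 := by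
  haveI : Fintype ↥B := Fintype.ofFinite _
  haveI : DecidableRel (pointBlockGraph B).Adj := Classical.decRel _
  rw [Nat.card_eq_fintype_card]
  exact (Cfsg.Agent.S0428.result hα hB).card

/-- **The point-block graph of an `S(3,6,22)` has `100 * |Aut B|` automorphisms.** -/
theorem card_graphAut (hα : Fintype.card α = 22) (hB : IsSteinerSystem 3 6 B)
    (hcard : Nat.card (setSystemAut B) = 887040) :
    Nat.card (pointBlockGraph B ≃g pointBlockGraph B) = 88704000 := by
  have h1 := Subgroup.card_mul_index (MulAction.stabilizer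
    (pointBlockGraph B ≃g pointBlockGraph B) (none : Option (α ⊕ B)))
  rw [card_stabilizer_none, hcard, MulAction.index_stabilizer] at h1
  have horb : MulAction.orbit (pointBlockGraph B ≃g pointBlockGraph B)
      (none : Option (α ⊕ B)) = Set.univ := by
    apply Set.eq_univ_of_forall
    intro y
    obtain ⟨g, hg⟩ := exists_aut_none_to hα hB y
    exact ⟨g, hg⟩
  rw [horb, Set.ncard_univ, card_vertices hα hB] at h1
  omega

end Count

end Cfsg.Agent.Lib.Helper93.HSAut
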