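/-
helper93: fixed points of automorphisms of order 11 and 7 of the Higman–Sims graph (the point-block graph of
the Steiner system `B0` on the 22 points): an automorphism of order 11 fixes exactly one vertex, one of
order 7 at most two.
-/
import Cfsg.Agent.Lib.Helper93.HSAut
import Cfsg.Agent.Lib.Helper93.AutC22
import Cfsg.Agent.Lib.Helper93.M24Extra
import Cfsg.Agent.Lib.Helper8.HSGraph
import Cfsg.Agent.Lib.Helper92.M24Index

set_option autoImplicit false
set_option linter.unusedSectionVars false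

namespace Cfsg.Agent.Lib.Helper93.HSFix
open Finset Cfsg Cfsg.Agent.Lib.Helper8 Cfsg.Agent.Lib.Helper93 Cfsg.Agent.Lib.Helper93.HSAut
  Cfsg.Agent.Lib.Helper93.AutRestrict Cfsg.Agent.Lib.Helper93.M22Hexads
  Cfsg.Agent.Lib.Helper93.AutC22
  Cfsg.Agent.Lib.Helper92.M24Index Cfsg.Agent.Lib.Helper92.PermCount

/-- `B0` is the restriction of the octads through the two points -/
theorem B0_eq : B0 = resFam (fun j => j ∈ ptsF) H2 := by
  ext b
  rw [mem_resFam]
  constructor
  · intro hb
    exact ⟨hexOf b, ⟨hb, none_mem_hexOf b, zero_mem_hexOf b⟩, subtype_hexOf b⟩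
  · rintro ⟨o, ho, rfl⟩
    show hexOf _ ∈ octads
    rw [hexOf_subtype ho.2.1 ho.2.2]
    exact ho.1

theorem H2_contains' : ∀ b ∈ H2, ∀ a : GolayPt, ¬ a ∈ ptsF → a ∈ b := by
  intro b hb a ha
  rw [mem_ptsF, not_and_or, not_not, not_not] at ha
  rcases ha with rfl | rfl
  · exact hb.2.1
  · exact hb.2.2

/-- the extension of an automorphism of `B0` to the 24 points lies in `A22` -/
theorem ofSubtype_mem_A22 {σ : Equiv.Perm P22} (hσ : σ ∈ setSystemAut B0) :
    Equiv.Perm.ofSubtype σ ∈ A22 := by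
  rw [A22_char]
  refine ⟨?_, ?_⟩
  · apply ofSubtype_mem_aut (P := fun j => j ∈ ptsF) H2_contains'
    rw [← B0_eq]
    exact hσ
  · intro a ha
    apply Equiv.Perm.ofSubtype_apply_of_not_mem
    intro h
    exact ha (mem_ptsF.mp h)

/-- elements of odd order of `A22` lie in `M22` -/
theorem mem_M22_of_pow {τ : Equiv.Perm GolayPt} (hτ : τ ∈ A22) {k : ℕ}
    (hk : τ ^ (2 * k + 1) = 1) : τ ∈ Spor.M22 := by
  have hsq : τ * τ ∈ Spor.M22 := by
    have := Subgroup.mul_self_mem_of_index_two index_M22_A22 (⟨τ, hτ⟩ : A22)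
    rwa [Subgroup.mem_subgroupOf] at this
  have : τ = (τ * τ) ^ (k + 1) := by
    rw [← pow_two, ← pow_mul]
    calc τ = τ ^ (2 * k + 1) * τ := by rw [hk, one_mul]
      _ = τ ^ (2 * (k + 1)) := by rw [← pow_succ]; ring_nf
  rw [this]
  exact Subgroup.pow_mem _ hsq _

/-- an automorphism of `B0` of prime order 7 or 11 fixes fewer than 3 points -/
theorem card_fixed_lt {σ : Equiv.Perm P22} (hσ : σ ∈ setSystemAut B0) {p k : ℕ} [Fact p.Prime]
    (hp : p = 2 * k + 1) (h48 : ¬ p ∣ 48) (hpow : σ ^ p = 1) (hne : σ ≠ 1) (S : Finset P22)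
    (hS : ∀ j ∈ S, σ j = j) :
    S.card + 2 ≤ (fixPts (Equiv.Perm.ofSubtype σ)).card ∧
      (fixPts (Equiv.Perm.ofSubtype σ)).card % p = 24 % p ∧
      (fixPts (Equiv.Perm.ofSubtype σ)).card < 5 := by
  have hA := ofSubtype_mem_A22 hσ
  have hpow' : (Equiv.Perm.ofSubtype σ) ^ p = 1 := by
    rw [← map_pow, hpow, map_one]
  have hne' : Equiv.Perm.ofSubtype σ ≠ 1 := by
    intro h
    apply hne
    apply Equiv.Perm.ofSubtype_injective
    rw [h, map_one]
  have hord : orderOf (Equiv.Perm.ofSubtype σ) = p :=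
    orderOf_eq_prime hpow' hne'
  have hM22 : Equiv.Perm.ofSubtype σ ∈ Spor.M22 := by
    apply mem_M22_of_pow hA (k := k)
    rw [← hp]
    exact hpow'
  have hM24 := ((mem_M22_iff _).mp hM22).1
  refine ⟨?_, card_fixPts_mod hord, card_fixPts_lt_five hM24 hord h48⟩
  rw [← card_hexOf]
  apply Finset.card_le_card
  intro i hi
  rw [mem_fixPts]
  rw [mem_hexOf] at hi
  rcases hi with rfl | rfl | ⟨h, hj⟩
  · exact ((mem_M22_iff _).mp hM22).2.1
  · exact ((mem_M22_iff _).mp hM22).2.2
  · have := hS _ hj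
    have h2 := Equiv.Perm.ofSubtype_apply_coe σ ⟨i, h⟩
    rw [this] at h2
    exact h2

/-- an automorphism of order 11 fixes no point -/
theorem no_fixed_11 {σ : Equiv.Perm P22} (hσ : σ ∈ setSystemAut B0) (hpow : σ ^ 11 = 1)
    (hne : σ ≠ 1) (j : P22) : σ j ≠ j := by
  intro hj
  have : Fact (Nat.Prime 11) := ⟨by norm_num⟩
  obtain ⟨h1, h2, h3⟩ := card_fixed_lt hσ (p := 11) (k := 5) rfl (by norm_num) hpow hne {j}
    (by intro j' hj'; rw [Finset.mem_singleton] at hj'; rw [hj']; exact hj)
  rw [Finset.card_singleton] at h1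
  omega

/-- an automorphism of order 7 fixes at most one point -/
theorem fixed_unique_7 {σ : Equiv.Perm P22} (hσ : σ ∈ setSystemAut B0) (hpow : σ ^ 7 = 1)
    (hne : σ ≠ 1) {j j' : P22} (hj : σ j = j) (hj' : σ j' = j') : j = j' := by
  by_contra hjj
  have : Fact (Nat.Prime 7) := ⟨by norm_num⟩
  obtain ⟨h1, h2, h3⟩ := card_fixed_lt hσ (p := 7) (k := 3) rfl (by norm_num) hpow hne {j, j'}
    (by
      intro a ha
      rw [Finset.mem_insert, Finset.mem_singleton] at ha
      rcases ha with rfl | rfl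
      · exact hj
      · exact hj')
  rw [Finset.card_pair hjj] at h1
  omega

/-- an automorphism of order 7 or 11 fixes no block -/
theorem no_fixed_block {σ : Equiv.Perm P22} (hσ : σ ∈ setSystemAut B0) {p k : ℕ} [Fact p.Prime]
    (hp : p = 2 * k + 1) (h48 : ¬ p ∣ 48) (h7 : 7 ≤ p) (hpow : σ ^ p = 1) (hne : σ ≠ 1)
    {b : Finset P22} (hb : b.card = 6) : b.image σ ≠ b := by
  intro himg
  have hinv : ∀ x, σ x ∈ b ↔ x ∈ b := by
    intro x
    constructor
    · intro hx
      rw [← himg, Finset.mem_image] at hx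
      obtain ⟨y, hy, hyx⟩ := hx
      rwa [← σ.injective hyx]
    · intro hx
      rw [← himg]
      exact Finset.mem_image_of_mem _ hx
  have h1 := card_fixIn_modEq (p := p) σ hpow b hinv
  unfold Nat.ModEq at h1
  obtain ⟨h2, _, h3⟩ := card_fixed_lt hσ hp h48 hpow hne (fixIn σ b)
    (fun j hj => (mem_fixIn.mp hj).2)
  have h4 : (fixIn σ b).card ≤ 2 := by omega
  rw [hb, Nat.mod_eq_of_lt (by omega : (fixIn σ b).card < p),
    Nat.mod_eq_of_lt (by omega : 6 < p)] at h1
  omega

/-! ### Graph automorphisms fixing the extra vertex -/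

abbrev A0 : Type := pointBlockGraph B0 ≃g pointBlockGraph B0

theorem pow_apply_pt {g : A0} (hg : g none = none) (n : ℕ) (a : P22) :
    (g ^ n) (some (Sum.inl a)) = some (Sum.inl ((ptPerm g hg ^ n) a)) := by
  induction n generalizing a with
  | zero => simp
  | succ n ih =>
    rw [pow_succ, RelIso.mul_apply, apply_pt hg, pow_succ, Equiv.Perm.mul_apply]
    exact ih _

theorem ptPerm_pow_eq_one {g : A0} (hg : g none = none) {n : ℕ} (hn : g ^ n = 1) :
    ptPerm g hg ^ n = 1 := by
  ext a
  have := pow_apply_pt hg n a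
  rw [hn, RelIso.one_apply] at this
  simp only [Option.some.injEq, Sum.inl.injEq] at this
  rw [← this]
  simp

theorem ptPerm_ne_one {g : A0} (hg : g none = none) (hne : g ≠ 1) : ptPerm g hg ≠ 1 := by
  intro h
  apply hne
  rw [← autToGraph_ptPerm g hg]
  apply RelIso.ext
  rintro (_ | a | b)
  · rw [autToGraph_none]; rfl
  · rw [autToGraph_pt, RelIso.one_apply]
    show some (Sum.inl (ptPerm g hg a)) = _
    rw [h]; rfl
  · obtain ⟨h3, h4⟩ := autToGraph_blk ⟨ptPerm g hg, ptPerm_mem_aut g hg⟩ b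
    rw [h4, RelIso.one_apply]
    congr 2
    apply Subtype.ext
    show b.1.image (ptPerm g hg) = b.1
    rw [h]
    simp

/-- an automorphism of order 11 fixing the extra vertex fixes nothing else -/
theorem eq_none_of_fixed_11 {g : A0} (hg : g none = none) (hpow : g ^ 11 = 1) (hne : g ≠ 1)
    {v : V0} (hv : g v = v) : v = none := by
  have : Fact (Nat.Prime 11) := ⟨by norm_num⟩
  have hσ := ptPerm_mem_aut g hg
  have hpow' := ptPerm_pow_eq_one hg hpow
  have hne' := ptPerm_ne_one hg hne
  rcases v with _ | a | b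
  · rfl
  · exfalso
    rw [apply_pt hg] at hv
    simp only [Option.some.injEq, Sum.inl.injEq] at hv
    exact no_fixed_11 hσ hpow' hne' a hv
  · exfalso
    obtain ⟨h1, h2⟩ := apply_blk hg b
    rw [h2] at hv
    simp only [Option.some.injEq, Sum.inr.injEq] at hv
    have := congrArg Subtype.val hv
    exact no_fixed_block hσ (p := 11) (k := 5) rfl (by norm_num) (by norm_num) hpow' hne'
      (card_block b.2) this

/-- an automorphism of order 7 fixing the extra vertex fixes at most one other vertex -/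
theorem eq_of_fixed_7 {g : A0} (hg : g none = none) (hpow : g ^ 7 = 1) (hne : g ≠ 1)
    {v w : V0} (hv : g v = v) (hw : g w = w) (hv0 : v ≠ none) (hw0 : w ≠ none) : v = w := by
  have : Fact (Nat.Prime 7) := ⟨by norm_num⟩
  have hσ := ptPerm_mem_aut g hg
  have hpow' := ptPerm_pow_eq_one hg hpow
  have hne' := ptPerm_ne_one hg hne
  have hblk : ∀ b : B0, g (some (Sum.inr b)) ≠ some (Sum.inr b) := by
    intro b hv
    obtain ⟨h1, h2⟩ := apply_blk hg b
    rw [h2] at hv
    simp only [Option.some.injEq, Sum.inr.injEq] at hv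
    have := congrArg Subtype.val hv
    exact no_fixed_block hσ (p := 7) (k := 3) rfl (by norm_num) (by norm_num) hpow' hne'
      (card_block b.2) this
  rcases v with _ | a | b
  · exact absurd rfl hv0
  · rcases w with _ | a' | b'
    · exact absurd rfl hw0
    · rw [apply_pt hg] at hv hw
      simp only [Option.some.injEq, Sum.inl.injEq] at hv hw
      rw [fixed_unique_7 hσ hpow' hne' hv hw]
    · exact absurd hw (hblk b')
  · exact absurd hv (hblk b)

/-! ### Arbitrary base vertex -/

theorem conj_data (g a : A0) {p : ℕ} (hord : orderOf g = p) (hp : p.Prime) :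
    (a⁻¹ * g * a) ^ p = 1 ∧ a⁻¹ * g * a ≠ 1 := by
  constructor
  · have := conj_pow (a := a⁻¹) (b := g) (i := p)
    rw [inv_inv] at this
    rw [this, ← hord, pow_orderOf_eq_one]
    group
  · intro h
    have h1 : g = 1 := by
      have : g = a * (a⁻¹ * g * a) * a⁻¹ := by group
      rw [this, h]
      group
    rw [h1, orderOf_one] at hord
    rw [← hord] at hp
    exact Nat.not_prime_one hp

/-- **An automorphism of order 11 has at most one fixed vertex.** -/
theorem fixed_unique_11 {g : A0} (hord : orderOf g = 11) {x y : V0} (hx : g x = x) (hy : g y = y) :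
    x = y := by
  obtain ⟨a, ha⟩ := exists_aut_none_to card_P22 B0_steiner x
  obtain ⟨h1, h2⟩ := conj_data g a hord (by norm_num)
  have hg' : (a⁻¹ * g * a) none = none := by
    rw [RelIso.mul_apply, RelIso.mul_apply, ha, hx, ← ha]
    show a.symm (a none) = none
    simp
  have hy' : (a⁻¹ * g * a) (a⁻¹ y) = a⁻¹ y := by
    rw [RelIso.mul_apply, RelIso.mul_apply]
    have : a (a⁻¹ y) = y := by
      show a (a.symm y) = y
      simp
    rw [this, hy]
  have := eq_none_of_fixed_11 hg' h1 h2 hy'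
  rw [← ha, ← this]
  show a (a.symm y) = y
  simp

/-- **An automorphism of order 7 has at most two fixed vertices.** -/
theorem fixed_le_two_7 {g : A0} (hord : orderOf g = 7) {x y z : V0} (hx : g x = x) (hy : g y = y)
    (hz : g z = z) : x = y ∨ x = z ∨ y = z := by
  obtain ⟨a, ha⟩ := exists_aut_none_to card_P22 B0_steiner x
  obtain ⟨h1, h2⟩ := conj_data g a hord (by norm_num)
  have hg' : (a⁻¹ * g * a) none = none := by
    rw [RelIso.mul_apply, RelIso.mul_apply, ha, hx, ← ha]
    show a.symm (a none) = none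
    simp
  have hfix : ∀ w, g w = w → (a⁻¹ * g * a) (a⁻¹ w) = a⁻¹ w := by
    intro w hw
    rw [RelIso.mul_apply, RelIso.mul_apply]
    have : a (a⁻¹ w) = w := by
      show a (a.symm w) = w
      simp
    rw [this, hw]
  have hne : ∀ w, w ≠ x → a⁻¹ w ≠ none := by
    intro w hw h
    apply hw
    rw [← ha, ← h]
    show w = a (a.symm w)
    simp
  by_cases hxy : x = y
  · exact Or.inl hxy
  · by_cases hxz : x = z
    · exact Or.inr (Or.inl hxz)
    · right; right
      have := eq_of_fixed_7 hg' h1 h2 (hfix y hy) (hfix z hz) (hne y (Ne.symm hxy))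
        (hne z (Ne.symm hxz))
      have h3 : a (a⁻¹ y) = a (a⁻¹ z) := by rw [this]
      have e : ∀ w, a (a⁻¹ w) = w := by
        intro w
        show a (a.symm w) = w
        simp
      rwa [e, e] at h3

end Cfsg.Agent.Lib.Helper93.HSFix
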