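/-
helper93: a group of automorphisms of a strongly regular graph with parameters (100, 22, 0, 6), of order
443520, in which the elements of order 11 fix at most one vertex and the elements of order 7 at most two,
fixes a vertex.  (Used for: every subgroup of index 100 of the Higman–Sims group is a vertex stabiliser.)
-/
import Cfsg.Agent.Lib.Helper93.HSCount
import Cfsg.Agent.Lib.Helper92.PermCount

set_option autoImplicit false
set_option linter.unusedSectionVars false

namespace Cfsg.Agent.Lib.Helper93.HSIndex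
open Finset Equiv Cfsg.Agent.Lib.Helper93.HSCount Cfsg.Agent.Lib.Helper92.PermCount

universe u
variable {V : Type u} [Fintype V] [DecidableEq V]

/-- the hypotheses on the group `K` -/
structure Hyp (Γ : SimpleGraph V) [DecidableRel Γ.Adj] (K : Subgroup (Perm V)) : Prop where
  hs : IsHS Γ
  aut : ∀ k ∈ K, ∀ x y, Γ.Adj (k x) (k y) ↔ Γ.Adj x y
  f11 : ∀ k ∈ K, orderOf k = 11 → ∀ x y, k x = x → k y = y → x = y
  f7 : ∀ k ∈ K, orderOf k = 7 → ∀ x y z, k x = x → k y = y → k z = z → x = y ∨ x = z ∨ y = z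
  card : Nat.card K = 443520

variable {Γ : SimpleGraph V} [DecidableRel Γ.Adj] {K : Subgroup (Perm V)}

theorem Hyp.fix7_le (h : Hyp Γ K) {k : Perm V} (hk : k ∈ K) (ho : orderOf k = 7) (S : Finset V) :
    (fixIn k S).card ≤ 2 := by
  by_contra hcon
  push Not at hcon
  obtain ⟨a, ha, b, hb, c, hc, hab, hac, hbc⟩ := Finset.two_lt_card.mp hcon
  rw [mem_fixIn] at ha hb hc
  rcases h.f7 k hk ho a b c ha.2 hb.2 hc.2 with h1 | h1 | h1
  · exact hab h1
  · exact hac h1
  · exact hbc h1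

theorem Hyp.mod7 (h : Hyp Γ K) {k : Perm V} (hk : k ∈ K) (ho : orderOf k = 7) (S : Finset V)
    (hS : ∀ x, k x ∈ S ↔ x ∈ S) : S.card % 7 ≤ 2 := by
  have : Fact (Nat.Prime 7) := ⟨by norm_num⟩
  have h1 := card_fixIn_modEq (p := 7) k (by rw [← ho]; exact pow_orderOf_eq_one k) S hS
  unfold Nat.ModEq at h1
  have h2 := h.fix7_le hk ho S
  omega

theorem Hyp.mod11_mem (h : Hyp Γ K) {k : Perm V} (hk : k ∈ K) (ho : orderOf k = 11) {x0 : V}
    (hx0 : k x0 = x0) (S : Finset V) (hS : ∀ x, k x ∈ S ↔ x ∈ S) (hm : x0 ∈ S) :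
    S.card % 11 = 1 := by
  have : Fact (Nat.Prime 11) := ⟨by norm_num⟩
  have h1 := card_fixIn_modEq (p := 11) k (by rw [← ho]; exact pow_orderOf_eq_one k) S hS
  unfold Nat.ModEq at h1
  have h2 : fixIn k S = {x0} := by
    ext v
    rw [mem_fixIn, Finset.mem_singleton]
    constructor
    · rintro ⟨_, hv⟩
      exact h.f11 k hk ho v x0 hv hx0
    · rintro rfl
      exact ⟨hm, hx0⟩
  rw [h2, Finset.card_singleton] at h1
  omega

theorem Hyp.mod11_not_mem (h : Hyp Γ K) {k : Perm V} (hk : k ∈ K) (ho : orderOf k = 11) {x0 : V}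
    (hx0 : k x0 = x0) (S : Finset V) (hS : ∀ x, k x ∈ S ↔ x ∈ S) (hm : x0 ∉ S) :
    S.card % 11 = 0 := by
  have : Fact (Nat.Prime 11) := ⟨by norm_num⟩
  have h1 := card_fixIn_modEq (p := 11) k (by rw [← ho]; exact pow_orderOf_eq_one k) S hS
  unfold Nat.ModEq at h1
  have h2 : fixIn k S = ∅ := by
    ext v
    rw [mem_fixIn]
    constructor
    · rintro ⟨hvS, hv⟩
      have := h.f11 k hk ho v x0 hv hx0
      rw [this] at hvS
      exact absurd hvS hm
    · intro hv
      exact absurd hv (Finset.notMem_empty _)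
  rw [h2, Finset.card_empty] at h1
  omega

theorem arith1 : ∀ n ∈ Finset.range 101, n ∣ 443520 → n % 11 = 1 → n % 7 ≤ 2 → n = 1 ∨ n = 56 := by
  decide

theorem arith2 : ∀ n ∈ Finset.range 45, 0 < n → n % 11 = 0 → n % 7 ≤ 2 → n = 22 ∨ n = 44 := by
  decide

theorem arith3 : ∀ c ∈ Finset.range 29, c ^ 2 + (28 - c) ^ 2 ≠ 420 := by
  decide

theorem card_orb_dvd (h : Hyp Γ K) (x : V) : (orb K x).card ∣ 443520 := by
  have := card_eq_orb_mul K x
  rw [h.card] at this
  exact Dvd.intro _ this.symm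


/-! ### Counting neighbours in a subset -/

section Count
variable (Γ) (X : Finset V)

/-- number of neighbours of `v` in `X` -/
def fX (v : V) : ℕ := (X.filter fun x => Γ.Adj v x).card

theorem fX_le (h : IsHS Γ) (v : V) : fX Γ X v ≤ 22 := by
  rw [← h.deg v]
  apply Finset.card_le_card
  intro x hx
  rw [Finset.mem_filter] at hx ⊢
  exact ⟨Finset.mem_univ _, hx.2⟩

theorem fX_apply {k : Perm V} (hk : ∀ x y, Γ.Adj (k x) (k y) ↔ Γ.Adj x y)
    (hX : ∀ x, k x ∈ X ↔ x ∈ X) (v : V) : fX Γ X (k v) = fX Γ X v := by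
  unfold fX
  have : (X.filter fun x => Γ.Adj (k v) x) = (X.filter fun x => Γ.Adj v x).image k := by
    ext z
    rw [Finset.mem_filter, Finset.mem_image]
    constructor
    · rintro ⟨hz, hadj⟩
      refine ⟨k.symm z, ?_, by simp⟩
      rw [Finset.mem_filter]
      refine ⟨?_, ?_⟩
      · rw [← hX]; simpa using hz
      · rw [← hk]; simpa using hadj
    · rintro ⟨x, hx, rfl⟩
      rw [Finset.mem_filter] at hx
      exact ⟨(hX x).mpr hx.1, (hk v x).mpr hx.2⟩
  rw [this, Finset.card_image_of_injective _ k.injective]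

theorem card_adj_right (h : IsHS Γ) (x : V) : (univ.filter fun v => Γ.Adj v x).card = 22 := by
  rw [← h.deg x]
  congr 1
  ext v
  simp [SimpleGraph.adj_comm]

theorem sum_fX (h : IsHS Γ) : ∑ v, fX Γ X v = 22 * X.card := by
  unfold fX
  rw [double_count univ X (fun v x => Γ.Adj v x)]
  rw [Finset.sum_congr rfl (fun x _ => card_adj_right Γ h x)]
  simp [mul_comm]

/-- number of common neighbours, oriented as in the double count -/
def cc (x x' : V) : ℕ := (univ.filter fun v => Γ.Adj v x ∧ Γ.Adj v x').card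

theorem cc_add (h : IsHS Γ) (x x' : V) :
    cc Γ x x' + 6 * (if Γ.Adj x x' then 1 else 0) = 6 + 16 * (if x' = x then 1 else 0) := by
  by_cases hx : x' = x
  · subst hx
    have : cc Γ x' x' = 22 := by
      unfold cc
      simp only [and_self]
      exact card_adj_right Γ h x'
    rw [this, if_neg (Γ.loopless.irrefl x'), if_pos rfl]
  · rw [if_neg hx]
    by_cases ha : Γ.Adj x x'
    · rw [if_pos ha]
      have : cc Γ x x' = 0 := by
        unfold cc
        rw [Finset.card_eq_zero, Finset.filter_eq_empty_iff]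
        intro v _ hv
        exact h.adj x x' ha v ⟨hv.1.symm, hv.2.symm⟩
      rw [this]
    · rw [if_neg ha]
      have : cc Γ x x' = 6 := by
        rw [← h.nadj x x' (fun e => hx e.symm) ha]
        unfold cc
        congr 1
        ext v
        simp [SimpleGraph.adj_comm]
      rw [this]

theorem sum_cc (h : IsHS Γ) {x : V} (hx : x ∈ X) :
    ∑ x' ∈ X, cc Γ x x' + 6 * fX Γ X x = 6 * X.card + 16 := by
  have h1 : ∑ x' ∈ X, (cc Γ x x' + 6 * (if Γ.Adj x x' then 1 else 0)) =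
      ∑ x' ∈ X, (6 + 16 * (if x' = x then 1 else 0)) :=
    Finset.sum_congr rfl (fun x' _ => cc_add Γ h x x')
  rw [Finset.sum_add_distrib, Finset.sum_add_distrib, ← Finset.mul_sum, ← Finset.mul_sum,
    Finset.sum_ite_eq' X x, if_pos hx, Finset.sum_boole] at h1
  simp only [Finset.sum_const, smul_eq_mul, Nat.cast_id] at h1
  unfold fX
  rw [h1]
  ring

theorem sum_sq_fX (h : IsHS Γ) :
    ∑ v, fX Γ X v ^ 2 + 6 * ∑ x ∈ X, fX Γ X x = X.card * (6 * X.card + 16) := by
  have hsq : ∀ v ∈ (univ : Finset V), fX Γ X v ^ 2 =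
      ((X ×ˢ X).filter fun p : V × V => Γ.Adj v p.1 ∧ Γ.Adj v p.2).card := by
    intro v _
    unfold fX
    rw [sq, ← Finset.card_product, ← Finset.filter_product]
  rw [Finset.sum_congr rfl hsq,
    double_count univ (X ×ˢ X) (fun (v : V) (p : V × V) => Γ.Adj v p.1 ∧ Γ.Adj v p.2),
    Finset.sum_product]
  have : ∀ x ∈ X, ∑ x' ∈ X, (univ.filter fun v => Γ.Adj v (x, x').1 ∧ Γ.Adj v (x, x').2).card =
      6 * X.card + 16 - 6 * fX Γ X x := by
    intro x hx
    have := sum_cc Γ X h hx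
    unfold cc at this
    show ∑ x' ∈ X, (univ.filter fun v => Γ.Adj v x ∧ Γ.Adj v x').card = _
    omega
  rw [Finset.sum_congr rfl this, Finset.mul_sum]
  have h2 : ∀ x ∈ X, 6 * fX Γ X x ≤ 6 * X.card + 16 := by
    intro x hx
    have := sum_cc Γ X h hx
    omega
  rw [← Finset.sum_add_distrib]
  rw [Finset.sum_congr rfl (fun x hx => Nat.sub_add_cancel (h2 x hx))]
  simp [mul_comm]

end Count


/-! ### The main theorem -/

/-- an orbit of size 56 is impossible -/
theorem Hyp.no_orbit_56 (h : Hyp Γ K) {g11 g7 : Perm V} (hg11 : g11 ∈ K) (ho11 : orderOf g11 = 11)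
    (hg7 : g7 ∈ K) (ho7 : orderOf g7 = 7) {x0 : V} (hx0 : g11 x0 = x0)
    (hn0 : (orb K x0).card = 56) : False := by
  classical
  have hXinv : ∀ k ∈ K, ∀ x, k x ∈ orb K x0 ↔ x ∈ orb K x0 := fun k hk x => apply_mem_orb_iff hk x
  have hx0X : x0 ∈ orb K x0 := self_mem_orb K x0
  have hconst : ∀ x ∈ orb K x0, fX Γ (orb K x0) x = fX Γ (orb K x0) x0 := by
    intro x hx
    obtain ⟨k, hk, rfl⟩ := mem_orb.mp hx
    exact fX_apply Γ (orb K x0) (h.aut k hk) (hXinv k hk) x0
  have hd11 : fX Γ (orb K x0) x0 % 11 = 0 := by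
    apply h.mod11_not_mem hg11 ho11 hx0 ((orb K x0).filter fun x => Γ.Adj x0 x)
    · intro x
      rw [Finset.mem_filter, Finset.mem_filter, hXinv g11 hg11]
      have := h.aut g11 hg11 x0 x
      rw [hx0] at this
      rw [this]
    · intro hm
      rw [Finset.mem_filter] at hm
      exact Γ.loopless.irrefl x0 hm.2
  have hd22 : fX Γ (orb K x0) x0 ≤ 22 := fX_le Γ (orb K x0) h.hs x0
  have hsum1 := sum_fX Γ (orb K x0) h.hs
  have hsum2 := sum_sq_fX Γ (orb K x0) h.hs
  have hX1 : ∑ x ∈ orb K x0, fX Γ (orb K x0) x = 56 * fX Γ (orb K x0) x0 := by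
    rw [Finset.sum_congr rfl hconst]
    simp [hn0]
  have hX2 : ∑ x ∈ orb K x0, fX Γ (orb K x0) x ^ 2 = 56 * fX Γ (orb K x0) x0 ^ 2 := by
    rw [Finset.sum_congr rfl (fun x hx => by rw [hconst x hx])]
    simp [hn0]
  have hs1 : ∑ v, fX Γ (orb K x0) v =
      ∑ x ∈ orb K x0, fX Γ (orb K x0) x + ∑ y ∈ (orb K x0)ᶜ, fX Γ (orb K x0) y :=
    (Finset.sum_add_sum_compl (orb K x0) _).symm
  have hs2 : ∑ v, fX Γ (orb K x0) v ^ 2 =
      ∑ x ∈ orb K x0, fX Γ (orb K x0) x ^ 2 + ∑ y ∈ (orb K x0)ᶜ, fX Γ (orb K x0) y ^ 2 :=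
    (Finset.sum_add_sum_compl (orb K x0) _).symm
  have hYc : ((orb K x0)ᶜ).card = 44 := by
    rw [Finset.card_compl, h.hs.card, hn0]
  rw [hn0] at hsum1 hsum2
  rw [hs1, hX1] at hsum1
  rw [hs2, hX2, hX1] at hsum2
  have hYle : ∑ y ∈ (orb K x0)ᶜ, fX Γ (orb K x0) y ≤ 22 * 44 := by
    calc ∑ y ∈ (orb K x0)ᶜ, fX Γ (orb K x0) y ≤ ∑ y ∈ (orb K x0)ᶜ, 22 :=
          Finset.sum_le_sum (fun y _ => fX_le Γ (orb K x0) h.hs y)
      _ = 22 * 44 := by simp [hYc, mul_comm]
  generalize hd : fX Γ (orb K x0) x0 = d at *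
  have hd3 : d = 0 ∨ d = 11 ∨ d = 22 := by omega
  rcases hd3 with hd0 | hd0 | hd0
  · rw [hd0] at hsum1
    omega
  · rw [hd0] at hsum1 hsum2
    have hY1 : ∑ y ∈ (orb K x0)ᶜ, fX Γ (orb K x0) y = 616 := by omega
    have hY2 : ∑ y ∈ (orb K x0)ᶜ, fX Γ (orb K x0) y ^ 2 = 9240 := by omega
    have hYinv : ∀ k ∈ K, ∀ x, k x ∈ (orb K x0)ᶜ ↔ x ∈ (orb K x0)ᶜ := by
      intro k hk x
      rw [Finset.mem_compl, Finset.mem_compl, hXinv k hk]
    have hsize : ∀ S : Finset V, S ⊆ (orb K x0)ᶜ → S.Nonempty →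
        (∀ k ∈ K, ∀ x, k x ∈ S ↔ x ∈ S) → S.card = 22 ∨ S.card = 44 := by
      intro S hSY hSne hSinv
      apply arith2
      · rw [Finset.mem_range]
        have := Finset.card_le_card hSY
        omega
      · exact Finset.card_pos.mpr hSne
      · apply h.mod11_not_mem hg11 ho11 hx0 S (hSinv g11 hg11)
        intro hm
        have := hSY hm
        rw [Finset.mem_compl] at this
        exact this hx0X
      · exact h.mod7 hg7 ho7 S (hSinv g7 hg7)
    have hfconst : ∀ y z, z ∈ orb K y → fX Γ (orb K x0) z = fX Γ (orb K x0) y := by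
      intro y z hz
      obtain ⟨k, hk, rfl⟩ := mem_orb.mp hz
      exact fX_apply Γ (orb K x0) (h.aut k hk) (hXinv k hk) y
    obtain ⟨y1, hy1⟩ : ((orb K x0)ᶜ).Nonempty := by
      rw [← Finset.card_pos, hYc]
      norm_num
    have hO1Y : orb K y1 ⊆ (orb K x0)ᶜ :=
      orb_subset hy1 (fun g hg q hq => (hYinv g hg q).mpr hq)
    have hO1inv : ∀ k ∈ K, ∀ x, k x ∈ orb K y1 ↔ x ∈ orb K y1 :=
      fun k hk x => apply_mem_orb_iff hk x
    have hO1card := hsize (orb K y1) hO1Y ⟨y1, self_mem_orb K y1⟩ hO1inv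
    have hRinv : ∀ k ∈ K, ∀ x, k x ∈ (orb K x0)ᶜ \ orb K y1 ↔ x ∈ (orb K x0)ᶜ \ orb K y1 := by
      intro k hk x
      rw [Finset.mem_sdiff, Finset.mem_sdiff, hYinv k hk, hO1inv k hk]
    have hsplit1 : ∑ y ∈ (orb K x0)ᶜ, fX Γ (orb K x0) y =
        ∑ y ∈ (orb K x0)ᶜ \ orb K y1, fX Γ (orb K x0) y + ∑ y ∈ orb K y1, fX Γ (orb K x0) y :=
      (Finset.sum_sdiff hO1Y).symm
    have hsplit2 : ∑ y ∈ (orb K x0)ᶜ, fX Γ (orb K x0) y ^ 2 =
        ∑ y ∈ (orb K x0)ᶜ \ orb K y1, fX Γ (orb K x0) y ^ 2 +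
          ∑ y ∈ orb K y1, fX Γ (orb K x0) y ^ 2 :=
      (Finset.sum_sdiff hO1Y).symm
    have hO1sum : ∑ y ∈ orb K y1, fX Γ (orb K x0) y = (orb K y1).card * fX Γ (orb K x0) y1 := by
      rw [Finset.sum_congr rfl (fun z hz => hfconst y1 z hz)]
      simp
    have hO1sq : ∑ y ∈ orb K y1, fX Γ (orb K x0) y ^ 2 =
        (orb K y1).card * fX Γ (orb K x0) y1 ^ 2 := by
      rw [Finset.sum_congr rfl (fun z hz => by rw [hfconst y1 z hz])]
      simp
    have hRcard : ((orb K x0)ᶜ \ orb K y1).card + (orb K y1).card = 44 := by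
      rw [Finset.card_sdiff_add_card_eq_card hO1Y, hYc]
    rw [hsplit1, hO1sum] at hY1
    rw [hsplit2, hO1sq] at hY2
    rcases hO1card with hc | hc
    · have hRne : ((orb K x0)ᶜ \ orb K y1).Nonempty := by
        rw [← Finset.card_pos]
        omega
      obtain ⟨y2, hy2⟩ := hRne
      have hO2R : orb K y2 ⊆ (orb K x0)ᶜ \ orb K y1 :=
        orb_subset hy2 (fun g hg q hq => (hRinv g hg q).mpr hq)
      have hO2card := hsize (orb K y2) (hO2R.trans Finset.sdiff_subset) ⟨y2, self_mem_orb K y2⟩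
        (fun k hk x => apply_mem_orb_iff hk x)
      have hle := Finset.card_le_card hO2R
      have hO2eq : orb K y2 = (orb K x0)ᶜ \ orb K y1 :=
        Finset.eq_of_subset_of_card_le hO2R (by omega)
      have hRsum : ∑ y ∈ (orb K x0)ᶜ \ orb K y1, fX Γ (orb K x0) y =
          22 * fX Γ (orb K x0) y2 := by
        rw [← hO2eq, Finset.sum_congr rfl (fun z hz => hfconst y2 z hz)]
        have : (orb K y2).card = 22 := by omega
        simp [this]
      have hRsq : ∑ y ∈ (orb K x0)ᶜ \ orb K y1, fX Γ (orb K x0) y ^ 2 =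
          22 * fX Γ (orb K x0) y2 ^ 2 := by
        rw [← hO2eq, Finset.sum_congr rfl (fun z hz => by rw [hfconst y2 z hz])]
        have : (orb K y2).card = 22 := by omega
        simp [this]
      rw [hRsum, hc] at hY1
      rw [hRsq, hc] at hY2
      generalize fX Γ (orb K x0) y1 = c1 at *
      generalize fX Γ (orb K x0) y2 = c2 at *
      have e1 : c2 = 28 - c1 := by omega
      have e2 : c1 ≤ 28 := by omega
      apply arith3 c1 (by rw [Finset.mem_range]; omega)
      rw [← e1]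
      omega
    · have hR0 : (orb K x0)ᶜ \ orb K y1 = ∅ := by
        rw [← Finset.card_eq_zero]
        omega
      rw [hR0, Finset.sum_empty, hc] at hY1 hY2
      generalize fX Γ (orb K x0) y1 = c1 at *
      have e1 : c1 = 14 := by omega
      rw [e1] at hY2
      norm_num at hY2
  · rw [hd0] at hsum2
    omega

/-- **A group of order 443520 of automorphisms of the graph fixes a vertex.** -/
theorem Hyp.exists_fixed (h : Hyp Γ K) : ∃ v, ∀ k ∈ K, k v = v := by
  classical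
  have : Fact (Nat.Prime 11) := ⟨by norm_num⟩
  have : Fact (Nat.Prime 7) := ⟨by norm_num⟩
  obtain ⟨g11, hg11, ho11⟩ := exists_orderOf_eq_prime K 11 (by rw [h.card]; norm_num)
  obtain ⟨g7, hg7, ho7⟩ := exists_orderOf_eq_prime K 7 (by rw [h.card]; norm_num)
  have hfix : (fixIn g11 univ).Nonempty := by
    have h1 := card_fixIn_modEq (p := 11) g11 (by rw [← ho11]; exact pow_orderOf_eq_one _) univ
      (by simp)
    rw [Finset.card_univ, h.hs.card] at h1
    unfold Nat.ModEq at h1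
    rw [← Finset.card_pos]
    by_contra hcon
    have : (fixIn g11 univ).card = 0 := by omega
    rw [this] at h1
    norm_num at h1
  obtain ⟨x0, hx0⟩ := hfix
  rw [mem_fixIn] at hx0
  have hx0 := hx0.2
  have hXinv : ∀ k ∈ K, ∀ x, k x ∈ orb K x0 ↔ x ∈ orb K x0 := fun k hk x => apply_mem_orb_iff hk x
  have hx0X : x0 ∈ orb K x0 := self_mem_orb K x0
  have hn0 : (orb K x0).card = 1 ∨ (orb K x0).card = 56 := by
    apply arith1
    · rw [Finset.mem_range]
      have := Finset.card_le_univ (orb K x0)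
      rw [h.hs.card] at this
      omega
    · exact card_orb_dvd h x0
    · exact h.mod11_mem hg11 ho11 hx0 (orb K x0) (hXinv g11 hg11) hx0X
    · exact h.mod7 hg7 ho7 (orb K x0) (hXinv g7 hg7)
  rcases hn0 with hn0 | hn0
  · refine ⟨x0, fun k hk => ?_⟩
    obtain ⟨a, ha⟩ := Finset.card_eq_one.mp hn0
    have h1 : x0 = a := by
      rw [ha] at hx0X
      exact Finset.mem_singleton.mp hx0X
    have h2 : k x0 ∈ orb K x0 := mem_orb.mpr ⟨k, hk, rfl⟩
    rw [ha, Finset.mem_singleton] at h2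
    rw [h2, h1]
  · exact (h.no_orbit_56 hg11 ho11 hg7 ho7 hx0 hn0).elim

end Cfsg.Agent.Lib.Helper93.HSIndex
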