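/-
helper93: the concrete Higman–Sims group `Cfsg.Spor.HS` (a subgroup of `Perm leechLattice`) is isomorphic to
helper8's standard stabiliser `Hstd` (a subgroup of `Co0`).
-/
import Cfsg.Agent.Lib.Helper8.HSGroup
import Cfsg.Prelude.Def_Spor_Conway

set_option autoImplicit false

namespace Cfsg.Agent.Lib.Helper93.HSIso
open Cfsg Cfsg.Spor Cfsg.Agent.Lib.Helper7 Cfsg.Agent.Lib.Helper8

/-- the second vector of the Higman–Sims pair: `-(v + u')` -/
def wHS : leechLattice := -(leechV + leechU')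

theorem sqNorm_leechV : sqNorm ((leechV : leechLattice) : GolayPt → ℤ) = 48 := by
  show sqNorm vecV = 48
  decide +kernel

theorem sqNorm_wHS : sqNorm ((wHS : leechLattice) : GolayPt → ℤ) = 48 := by
  show sqNorm (-(vecV + vecU')) = 48
  decide +kernel

theorem dotInt_leechV_wHS :
    dotInt ((leechV : leechLattice) : GolayPt → ℤ) ((wHS : leechLattice) : GolayPt → ℤ) = -32 := by
  show dotInt vecV (-(vecV + vecU')) = -32
  decide +kernel

/-- the stabiliser of the pair in `Co0` -/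
abbrev Ypair : Subgroup Co0 := MulAction.stabilizer Co0 leechV ⊓ MulAction.stabilizer Co0 wHS

/-- conjugation to the standard pair -/
theorem exists_equiv_Hstd : Nonempty (Ypair ≃* Hstd) := by
  obtain ⟨g, hg1, hg2⟩ := hs_normal leechV wHS sqNorm_leechV sqNorm_wHS dotInt_leechV_wHS
  have hmem : ∀ x : Co0, x ∈ Ypair ↔ (g⁻¹)⁻¹ * x * g⁻¹ ∈ Hstd := by
    intro x
    rw [mem_Hstd, Subgroup.mem_inf, MulAction.mem_stabilizer_iff, MulAction.mem_stabilizer_iff,
      inv_inv, mul_smul, mul_smul, mul_smul, mul_smul, ← hg1, ← hg2, inv_smul_smul, inv_smul_smul]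
    constructor
    · rintro ⟨h1, h2⟩
      rw [h1, h2]
      exact ⟨rfl, rfl⟩
    · rintro ⟨h1, h2⟩
      exact ⟨MulAction.injective g h1, MulAction.injective g h2⟩
  exact ⟨conjSubgroupEquiv g⁻¹ Hstd Ypair hmem⟩

theorem co0_smul_def (g : Co0) (x : leechLattice) : g • x = (g : Equiv.Perm leechLattice) x := rfl

theorem map_Ypair : Ypair.map Co0.subtype = Spor.HS := by
  ext p
  rw [Subgroup.mem_map]
  unfold Spor.HS Spor.Co3
  rw [Subgroup.mem_inf, Subgroup.mem_inf, MulAction.mem_stabilizer_iff,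
    MulAction.mem_stabilizer_iff]
  constructor
  · rintro ⟨y, hy, rfl⟩
    rw [Subgroup.mem_inf, MulAction.mem_stabilizer_iff, MulAction.mem_stabilizer_iff] at hy
    obtain ⟨h1, h2⟩ := hy
    refine ⟨⟨y.2, h1⟩, ?_⟩
    show y • leechU' = leechU'
    have h3 : y • wHS = -(y • leechV + y • leechU') := by
      unfold wHS
      rw [co0_smul_neg, co0_smul_add]
    rw [h2, h1] at h3
    unfold wHS at h3
    have h4 := neg_injective h3
    exact (add_left_cancel h4).symm
  · rintro ⟨⟨hp, h1⟩, h2⟩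
    refine ⟨⟨p, hp⟩, ?_, rfl⟩
    rw [Subgroup.mem_inf, MulAction.mem_stabilizer_iff, MulAction.mem_stabilizer_iff]
    have h1' : (⟨p, hp⟩ : Co0) • leechV = leechV := h1
    have h2' : (⟨p, hp⟩ : Co0) • leechU' = leechU' := h2
    refine ⟨h1', ?_⟩
    unfold wHS
    rw [co0_smul_neg, co0_smul_add, h1', h2']

/-- **`Spor.HS ≃* Hstd`.** -/
theorem exists_equiv_HS : Nonempty (Spor.HS ≃* Hstd) := by
  obtain ⟨e⟩ := exists_equiv_Hstd
  have e1 : Ypair ≃* Ypair.map Co0.subtype :=
    Ypair.equivMapOfInjective Co0.subtype (Subgroup.subtype_injective _)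
  have e2 : Ypair.map Co0.subtype ≃* Spor.HS := MulEquiv.subgroupCongr map_Ypair
  exact ⟨(e2.symm.trans e1.symm).trans e⟩

end Cfsg.Agent.Lib.Helper93.HSIso
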