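/-
helper93: the outer automorphism group of a subgroup `H` of index 2 of a group `A`, when `H` has trivial
centraliser in `A` and every automorphism of `H` is induced by conjugation by an element of `A`.
-/
import Mathlib
import Cfsg.Prelude.Def_KGroupFacts

set_option autoImplicit false

namespace Cfsg.Agent.Lib.Helper93.OutIndex
open Cfsg

/-- the index of the inner automorphism group is invariant under isomorphism -/
theorem index_inn_congr {G G' : Type*} [Group G] [Group G'] (e : G ≃* G') :
    (Inn G).index = (Inn G').index := by
  have : (Inn G).map (MulAut.congr e).toMonoidHom = Inn G' := by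
    ext β
    constructor
    · rintro ⟨_, ⟨g, rfl⟩, rfl⟩
      refine ⟨e g, ?_⟩
      ext x
      simp [MulAut.congr]
    · rintro ⟨g', rfl⟩
      refine ⟨MulAut.conj (e.symm g'), ⟨_, rfl⟩, ?_⟩
      ext x
      simp [MulAut.congr]
  rw [← this]
  exact (Subgroup.index_map_of_bijective (MulAut.congr e).bijective (Inn G)).symm

/-- `|Out H| = |A : H|` when `A` induces all automorphisms of `H` faithfully -/
theorem index_inn_of_normalizer {A : Type*} [Group A] (H : Subgroup A) [H.Normal]
    (hcent : ∀ a : A, (∀ h ∈ H, a * h = h * a) → a = 1)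
    (hsurj : ∀ α : MulAut H, ∃ a : A, ∀ h : H, ((α h : H) : A) = a * h * a⁻¹) :
    (Inn H).index = H.index := by
  have hbij : Function.Bijective (MulAut.conjNormal (H := H)) := by
    constructor
    · rw [injective_iff_map_eq_one]
      intro a ha
      apply hcent
      intro h hh
      have := congrArg (fun β : MulAut H => ((β ⟨h, hh⟩ : H) : A)) ha
      simp only [MulAut.conjNormal_apply, MulAut.one_apply] at this
      calc a * h = a * h * a⁻¹ * a := by group
        _ = h * a := by rw [this]
    · intro α
      obtain ⟨a, ha⟩ := hsurj α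
      refine ⟨a, ?_⟩
      ext h
      rw [MulAut.conjNormal_apply, ha]
  have hmap : H.map (MulAut.conjNormal (H := H)) = Inn H := by
    ext β
    constructor
    · rintro ⟨h, hh, rfl⟩
      refine ⟨⟨h, hh⟩, ?_⟩
      exact (MulAut.conjNormal_val (h := ⟨h, hh⟩)).symm
    · rintro ⟨h, rfl⟩
      exact ⟨h, h.2, MulAut.conjNormal_val⟩
  rw [← hmap]
  exact Subgroup.index_map_of_bijective hbij H

end Cfsg.Agent.Lib.Helper93.OutIndex
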