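/-
helper93: the outer automorphism group of the Higman–Sims group has order 2.

`H0 = PhiG.range` (helper8) is the Higman–Sims group inside the automorphism group `A0` of the point-block
graph of the Steiner system `B0`; it has index 2 (S1586).  Every subgroup of index 100 of `H0` fixes a vertex
(HSIndex + HSFix), so by helper92's `AutPerm` every automorphism of `H0` is induced by a permutation of the
vertices; `H0` has rank 3 (helper8) with subdegrees 1, 22, 77, so that permutation is a graph automorphism.
-/
import Cfsg.Agent.Lib.Helper93.HSFix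
import Cfsg.Agent.Lib.Helper93.HSIndex
import Cfsg.Agent.Lib.Helper93.OutIndex
import Cfsg.Agent.Lib.Helper93.HSIso
import Cfsg.Agent.Lib.Helper8.HSRank3
import Cfsg.Agent.Lib.Helper8.HSGraph
import Cfsg.Agent.Lib.Helper92.AutPerm
import Cfsg.Agent.S0414
import Cfsg.Agent.S0428

set_option autoImplicit false
set_option linter.unusedSectionVars false

namespace Cfsg.Agent.Lib.Helper93.HSOut
open Finset Cfsg Cfsg.Agent.Lib.Helper8 Cfsg.Agent.Lib.Helper93 Cfsg.Agent.Lib.Helper93.HSAut
  Cfsg.Agent.Lib.Helper93.HSFix Cfsg.Agent.Lib.Helper93.HSCount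
  Cfsg.Agent.Lib.Helper93.OutIndex Cfsg.Agent.Lib.Helper92 Cfsg.Spor

noncomputable local instance instFintypeB0 : Fintype ↥B0 := Fintype.ofFinite _
noncomputable local instance instDecAdj : DecidableRel (pointBlockGraph B0).Adj := Classical.decRel _

theorem isHS_graph : HSCount.IsHS (pointBlockGraph B0) :=
  isHS_of_srg _ (Cfsg.Agent.S0428.result card_P22 B0_steiner)

theorem card_A0 : Nat.card A0 = 88704000 :=
  card_graphAut card_P22 B0_steiner (Cfsg.Agent.S0414.result card_P22 B0_steiner).1

instance finite_A0 : Finite A0 := Nat.finite_of_card_ne_zero (by rw [card_A0]; norm_num)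

/-- the Higman–Sims group as a group of automorphisms of the graph -/
noncomputable abbrev H0 : Subgroup A0 := PhiG.range

theorem card_H0 : Nat.card H0 = 44352000 := isHS_range.2

theorem index_H0 : H0.index = 2 := by
  have := Subgroup.card_mul_index H0
  rw [card_H0, card_A0] at this
  omega

instance normal_H0 : H0.Normal := Subgroup.normal_of_index_eq_two index_H0

theorem smul_H0 (h : H0) (v : V0) : h • v = (h : A0) v := rfl

instance pretransitive_H0 : MulAction.IsPretransitive H0 V0 := ⟨fun x y => by
  obtain ⟨g, hg⟩ := hstd_transitive (psi x) (psi y) (psi_mem x) (psi_mem y)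
  refine ⟨⟨PhiG g, g, rfl⟩, ?_⟩
  show PhiG g x = y
  apply psi_injective
  rw [PhiG_apply, psi_symm_smul, hg]⟩

theorem adj_smul (h : H0) (x y : V0) :
    (pointBlockGraph B0).Adj (h • x) (h • y) ↔ (pointBlockGraph B0).Adj x y :=
  (h : A0).map_rel_iff

/-- rank 3, at the extra vertex, for the non-neighbours -/
theorem rank3_none {y y' : V0} (hy : y ≠ none) (hy' : y' ≠ none)
    (hn : ¬ (pointBlockGraph B0).Adj none y) (hn' : ¬ (pointBlockGraph B0).Adj none y') :
    ∃ h : H0, h • (none : V0) = none ∧ h • y = y' := by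
  have h1 : HSstd ((psi y : leechLattice) : GolayPt → ℤ) := (hs_std_iff _).1 (psi_mem y)
  have h2 : HSstd ((psi y' : leechLattice) : GolayPt → ℤ) := (hs_std_iff _).1 (psi_mem y')
  have e0 : psi none = leechU := Subtype.ext psi_none
  have hne : psi y ≠ leechU := by
    rw [← e0]
    exact fun h => hy (psi_injective h)
  have hne' : psi y' ≠ leechU := by
    rw [← e0]
    exact fun h => hy' (psi_injective h)
  have hiff : dotInt vecU ((psi y : leechLattice) : GolayPt → ℤ) = 8 ↔
      dotInt vecU ((psi y' : leechLattice) : GolayPt → ℤ) = 8 := by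
    rw [adj_iff, psi_none] at hn hn'
    exact ⟨fun h => absurd h hn, fun h => absurd h hn'⟩
  obtain ⟨g, g1, g2, g3, g4⟩ := hs_std_rank3 (psi y) (psi y') h1 h2 hne hne' hiff
  refine ⟨⟨PhiG ⟨g, (mem_Hstd g).2 ⟨g1, g2⟩⟩, _, rfl⟩, ?_, ?_⟩
  · show PhiG _ none = none
    apply psi_injective
    rw [PhiG_apply, psi_symm_smul, e0]
    exact g3
  · show PhiG _ y = y'
    apply psi_injective
    rw [PhiG_apply, psi_symm_smul]
    exact g4

/-- rank 3: the stabiliser of a vertex is transitive on its non-neighbours -/
theorem rank3 (z w w' : V0) (hw : w ≠ z) (hw' : w' ≠ z)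
    (hn : ¬ (pointBlockGraph B0).Adj z w) (hn' : ¬ (pointBlockGraph B0).Adj z w') :
    ∃ h : H0, h • z = z ∧ h • w = w' := by
  obtain ⟨t, ht⟩ := MulAction.exists_smul_eq H0 (none : V0) z
  have key : ∀ u, u ≠ z → ¬ (pointBlockGraph B0).Adj z u →
      (t⁻¹ • u ≠ none ∧ ¬ (pointBlockGraph B0).Adj none (t⁻¹ • u)) := by
    intro u hu hnu
    constructor
    · intro h
      apply hu
      rw [← ht, ← h, smul_inv_smul]
    · intro h
      apply hnu
      rw [← adj_smul t] at h
      rwa [ht, smul_inv_smul] at h
  obtain ⟨g, g1, g2⟩ := rank3_none (key w hw hn).1 (key w' hw' hn').1 (key w hw hn).2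
    (key w' hw' hn').2
  refine ⟨t * g * t⁻¹, ?_, ?_⟩
  · rw [mul_smul, mul_smul, ← ht, inv_smul_smul, g1]
  · rw [mul_smul, mul_smul, g2, smul_inv_smul]

theorem card_V0 : Nat.card V0 = 100 := card_vertices card_P22 B0_steiner

theorem card_stab (x : V0) : Nat.card (MulAction.stabilizer H0 x) = 443520 := by
  have h1 := Subgroup.card_mul_index (MulAction.stabilizer H0 x)
  rw [MulAction.index_stabilizer_of_transitive, card_V0, card_H0] at h1
  omega

theorem exists_11 (x : V0) : ∃ g : H0, g • x = x ∧ orderOf (g : A0) = 11 := by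
  have : Fact (Nat.Prime 11) := ⟨by norm_num⟩
  obtain ⟨g, hg⟩ := exists_prime_orderOf_dvd_card' (G := MulAction.stabilizer H0 x) 11
    (by rw [card_stab]; norm_num)
  refine ⟨g.1, g.2, ?_⟩
  rw [Subgroup.orderOf_coe, Subgroup.orderOf_coe]
  exact hg

theorem stab_inj (x y : V0) (h : MulAction.stabilizer H0 x = MulAction.stabilizer H0 y) :
    x = y := by
  obtain ⟨g, hg, ho⟩ := exists_11 x
  have hy : g • y = y := by
    have : g ∈ MulAction.stabilizer H0 y := by
      rw [← h]
      exact hg
    exact this
  exact fixed_unique_11 ho hg hy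

/-- every subgroup of index 100 fixes a vertex -/
theorem index_fix (K : Subgroup H0) (hK : K.index = Nat.card V0) :
    ∃ y : V0, K ≤ MulAction.stabilizer H0 y := by
  have hcardK : Nat.card K = 443520 := by
    have := Subgroup.card_mul_index K
    rw [hK, card_V0, card_H0] at this
    omega
  let f : H0 →* Equiv.Perm V0 := (MulAction.toPermHom A0 V0).comp H0.subtype
  have hf : Function.Injective f := by
    intro a b hab
    apply Subtype.ext
    apply RelIso.ext
    intro x
    exact congrArg (fun π : Equiv.Perm V0 => π x) hab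
  have hord : ∀ k : H0, orderOf (k : A0) = orderOf (f k) := by
    intro k
    rw [orderOf_injective f hf k, Subgroup.orderOf_coe]
  have hyp : HSIndex.Hyp (pointBlockGraph B0) (K.map f) :=
    { hs := isHS_graph
      aut := by
        rintro _ ⟨k, _, rfl⟩ x y
        exact (k : A0).map_rel_iff
      f11 := by
        rintro _ ⟨k, _, rfl⟩ ho x y hx hy
        rw [← hord] at ho
        exact fixed_unique_11 ho hx hy
      f7 := by
        rintro _ ⟨k, _, rfl⟩ ho x y z hx hy hz
        rw [← hord] at ho
        exact fixed_le_two_7 ho hx hy hz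
      card := by
        rw [Subgroup.card_map_of_injective hf, hcardK] }
  obtain ⟨v, hv⟩ := hyp.exists_fixed
  exact ⟨v, fun k hk => hv (f k) ⟨k, hk, rfl⟩⟩

/-- a permutation inducing an automorphism of `H0` preserves adjacency -/
theorem adj_of_equivariant (α : MulAut H0) (σ : Equiv.Perm V0)
    (hσ : ∀ (g : H0) (x : V0), α g • σ x = σ (g • x)) {x y : V0}
    (hxy : (pointBlockGraph B0).Adj x y) : (pointBlockGraph B0).Adj (σ x) (σ y) := by
  by_contra hnot
  have hne : σ y ≠ σ x := fun h => hxy.ne (σ.injective h).symm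
  have hsub : far (pointBlockGraph B0) (σ x) ⊆ (nb (pointBlockGraph B0) x).image σ := by
    intro w hw
    rw [mem_far] at hw
    obtain ⟨h, h1, h2⟩ := rank3 (σ x) (σ y) w hne hw.1 hnot hw.2
    have hg1 : α.symm h • x = x := by
      apply σ.injective
      rw [← hσ, MulEquiv.apply_symm_apply, h1]
    rw [Finset.mem_image]
    refine ⟨α.symm h • y, ?_, ?_⟩
    · rw [Finset.mem_filter]
      refine ⟨Finset.mem_univ _, ?_⟩
      have hadj := (adj_smul (α.symm h) x y).mpr hxy
      rwa [hg1] at hadj
    · rw [← hσ, MulEquiv.apply_symm_apply, h2]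
  have h1 := Finset.card_le_card hsub
  rw [isHS_graph.card_far] at h1
  have h2 := Finset.card_image_le (s := nb (pointBlockGraph B0) x) (f := σ)
  rw [isHS_graph.deg] at h2
  omega

theorem equivariant_symm (α : MulAut H0) (σ : Equiv.Perm V0)
    (hσ : ∀ (g : H0) (x : V0), α g • σ x = σ (g • x)) :
    ∀ (g : H0) (x : V0), α.symm g • σ.symm x = σ.symm (g • x) := by
  intro g x
  apply σ.injective
  rw [← hσ, MulEquiv.apply_symm_apply, Equiv.apply_symm_apply, Equiv.apply_symm_apply]

/-- every automorphism of `H0` is induced by conjugation in `A0` -/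
theorem exists_conj (α : MulAut H0) :
    ∃ a : A0, ∀ h : H0, ((α h : H0) : A0) = a * h * a⁻¹ := by
  obtain ⟨σ, hσ⟩ := AutPerm.exists_perm_of_aut stab_inj index_fix α
  let a : A0 :=
    { toEquiv := σ
      map_rel_iff' := by
        intro x y
        constructor
        · intro h
          have := adj_of_equivariant α.symm σ.symm (equivariant_symm α σ hσ) h
          simpa using this
        · exact adj_of_equivariant α σ hσ }
  refine ⟨a, fun h => ?_⟩
  apply RelIso.ext
  intro x
  rw [RelIso.mul_apply, RelIso.mul_apply]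
  show (α h : A0) x = σ ((h : A0) (σ.symm x))
  have := hσ h (σ.symm x)
  rw [Equiv.apply_symm_apply] at this
  exact this

theorem cent_trivial (a : A0) (ha : ∀ h ∈ H0, a * h = h * a) : a = 1 := by
  apply RelIso.ext
  intro x
  obtain ⟨g, hg, ho⟩ := exists_11 x
  have h1 := ha g g.2
  have h2 : (g : A0) (a x) = a x := by
    have := congrArg (fun b : A0 => b x) h1
    simp only [RelIso.mul_apply] at this
    have hgx : (g : A0) x = x := hg
    rw [hgx] at this
    exact this.symm
  exact fixed_unique_11 ho h2 hg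

theorem index_inn_H0 : (Inn H0).index = 2 := by
  rw [index_inn_of_normalizer H0 cent_trivial exists_conj, index_H0]

/-- **The outer automorphism group of the Higman–Sims group has order 2.** -/
theorem card_out_HS : Nat.card (Out ↥Cfsg.Spor.HS) = 2 := by
  obtain ⟨e2⟩ := Cfsg.Agent.Lib.Helper93.HSIso.exists_equiv_HS
  have e1 : Hstd ≃* H0 := MonoidHom.ofInjective PhiG_injective
  show (Inn ↥Cfsg.Spor.HS).index = 2
  rw [index_inn_congr (e2.trans e1), index_inn_H0]

end Cfsg.Agent.Lib.Helper93.HSOut
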