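/-
helper93: a transitive permutation group on 100 points whose point stabiliser has suborbits of sizes 1, 22, 77 and
is 2-transitive on the suborbit of size 22: the orbital graph of the suborbit of size 22 is strongly regular with
parameters (100, 22, 0, 6) (in the filter form `HSCount.IsHS`).
-/
import Cfsg.Agent.Lib.Helper93.HSCount

set_option autoImplicit false
set_option linter.unusedSectionVars false

namespace Cfsg.Agent.Lib.Helper93.Rank3HS
open Finset Cfsg.Agent.Lib.Helper93.HSCount

universe u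

theorem inv_app {Ω : Type u} (f : Equiv.Perm Ω) (x : Ω) : f⁻¹ (f x) = x := f.symm_apply_apply x

theorem app_inv {Ω : Type u} (f : Equiv.Perm Ω) (x : Ω) : f (f⁻¹ x) = x := f.apply_symm_apply x

section
variable {Ω : Type u} [Fintype Ω] [DecidableEq Ω] (G : Subgroup (Equiv.Perm Ω)) (a b : Ω)

/-- the orbit of `y` under the stabiliser of `a` -/
noncomputable def Sorb (y : Ω) : Finset Ω :=
  @Finset.filter Ω (fun z => ∃ s ∈ G, s a = a ∧ s y = z) (Classical.decPred _) univ

/-- the orbital relation of the pair `(a, b)` -/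
def rel (x y : Ω) : Prop := ∃ g ∈ G, g a = x ∧ g b = y

variable {G a b}

theorem mem_Sorb {y z : Ω} : z ∈ Sorb G a y ↔ ∃ s ∈ G, s a = a ∧ s y = z := by
  unfold Sorb
  exact ⟨fun h => ((@Finset.mem_filter _ _ (Classical.decPred _) _ _).mp h).2,
    fun h => (@Finset.mem_filter _ _ (Classical.decPred _) _ _).mpr ⟨Finset.mem_univ _, h⟩⟩

theorem self_mem_Sorb (y : Ω) : y ∈ Sorb G a y :=
  mem_Sorb.mpr ⟨1, G.one_mem, rfl, rfl⟩

theorem smul_mem_Sorb {y z : Ω} (hz : z ∈ Sorb G a y) {s : Equiv.Perm Ω} (hs : s ∈ G)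
    (hsa : s a = a) : s z ∈ Sorb G a y := by
  obtain ⟨t, ht, hta, rfl⟩ := mem_Sorb.mp hz
  exact mem_Sorb.mpr ⟨s * t, G.mul_mem hs ht, by rw [Equiv.Perm.mul_apply, hta, hsa], rfl⟩

theorem Sorb_eq_of_mem {y z : Ω} (hz : z ∈ Sorb G a y) : Sorb G a z = Sorb G a y := by
  obtain ⟨t, ht, hta, rfl⟩ := mem_Sorb.mp hz
  ext w
  rw [mem_Sorb, mem_Sorb]
  constructor
  · rintro ⟨s, hs, hsa, rfl⟩
    exact ⟨s * t, G.mul_mem hs ht, by rw [Equiv.Perm.mul_apply, hta, hsa], rfl⟩
  · rintro ⟨s, hs, hsa, rfl⟩
    refine ⟨s * t⁻¹, G.mul_mem hs (G.inv_mem ht), ?_, ?_⟩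
    · rw [Equiv.Perm.mul_apply]
      have : t⁻¹ a = a := by rw [Equiv.Perm.inv_eq_iff_eq]; exact hta.symm
      rw [this, hsa]
    · rw [Equiv.Perm.mul_apply, inv_app]

theorem Sorb_self : Sorb G a a = {a} := by
  ext w
  rw [mem_Sorb, Finset.mem_singleton]
  constructor
  · rintro ⟨s, _, hsa, rfl⟩; exact hsa
  · rintro rfl; exact ⟨1, G.one_mem, rfl, rfl⟩

theorem Sorb_disjoint {y z : Ω} (h : Sorb G a y ≠ Sorb G a z) :
    Disjoint (Sorb G a y) (Sorb G a z) := by
  rw [Finset.disjoint_left]
  intro w hwy hwz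
  exact h ((Sorb_eq_of_mem hwy).symm.trans (Sorb_eq_of_mem hwz))

theorem rel_a_iff {y : Ω} : rel G a b a y ↔ y ∈ Sorb G a b := by
  rw [mem_Sorb]; rfl

theorem rel_smul {x y : Ω} {g : Equiv.Perm Ω} (hg : g ∈ G) :
    rel G a b (g x) (g y) ↔ rel G a b x y := by
  constructor
  · rintro ⟨h, hh, h1, h2⟩
    refine ⟨g⁻¹ * h, G.mul_mem (G.inv_mem hg) hh, ?_, ?_⟩
    · rw [Equiv.Perm.mul_apply, h1, inv_app]
    · rw [Equiv.Perm.mul_apply, h2, inv_app]
  · rintro ⟨h, hh, rfl, rfl⟩
    exact ⟨g * h, G.mul_mem hg hh, rfl, rfl⟩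

/-- The hypotheses, in elementary form. -/
structure R3 (G : Subgroup (Equiv.Perm Ω)) (a b c : Ω) : Prop where
  card : Fintype.card Ω = 100
  trans : ∀ x y : Ω, ∃ g ∈ G, g x = y
  cardB : (Sorb G a b).card = 22
  cardC : (Sorb G a c).card = 77
  two : ∀ y z, y ∈ Sorb G a b → z ∈ Sorb G a b → y ≠ b → z ≠ b →
    ∃ s ∈ G, s a = a ∧ s b = b ∧ s y = z

variable {c : Ω}

theorem R3.a_not_mem_B (h : R3 G a b c) : a ∉ Sorb G a b := by
  intro ha
  have := Sorb_eq_of_mem ha
  rw [Sorb_self] at this
  have h2 := h.cardB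
  rw [← this] at h2
  simp at h2

theorem R3.a_not_mem_C (h : R3 G a b c) : a ∉ Sorb G a c := by
  intro ha
  have := Sorb_eq_of_mem ha
  rw [Sorb_self] at this
  have h2 := h.cardC
  rw [← this] at h2
  simp at h2

theorem R3.disjoint_BC (h : R3 G a b c) : Disjoint (Sorb G a b) (Sorb G a c) := by
  apply Sorb_disjoint
  intro heq
  have h1 := h.cardB
  have h2 := h.cardC
  rw [heq] at h1
  omega

theorem R3.cover (h : R3 G a b c) (y : Ω) : y = a ∨ y ∈ Sorb G a b ∨ y ∈ Sorb G a c := by
  have hd1 : a ∉ Sorb G a b ∪ Sorb G a c := by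
    rw [Finset.mem_union]
    rintro (h' | h')
    · exact h.a_not_mem_B h'
    · exact h.a_not_mem_C h'
  have hcard : (insert a (Sorb G a b ∪ Sorb G a c)).card = 100 := by
    rw [Finset.card_insert_of_notMem hd1, Finset.card_union_of_disjoint h.disjoint_BC, h.cardB,
      h.cardC]
  have huniv : insert a (Sorb G a b ∪ Sorb G a c) = Finset.univ := by
    apply Finset.eq_univ_of_card
    rw [hcard, h.card]
  have := Finset.mem_univ y
  rw [← huniv, Finset.mem_insert, Finset.mem_union] at this
  exact this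

theorem R3.a_ne_b (h : R3 G a b c) : a ≠ b := by
  intro hab
  apply h.a_not_mem_B
  rw [hab]
  have := self_mem_Sorb (G := G) (a := b) b
  exact this

theorem R3.rel_irrefl (h : R3 G a b c) (x : Ω) : ¬ rel G a b x x := by
  rintro ⟨g, _, h1, h2⟩
  exact h.a_ne_b (g.injective (h1.trans h2.symm))

theorem out_eq_image {g : Equiv.Perm Ω} (hg : g ∈ G) (x : Ω) (hgx : g a = x)
    [DecidablePred fun y => rel G a b x y] :
    (univ.filter fun y => rel G a b x y) = (Sorb G a b).image g := by
  ext y
  rw [Finset.mem_filter, Finset.mem_image]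
  constructor
  · rintro ⟨_, hxy⟩
    refine ⟨g⁻¹ y, ?_, app_inv g y⟩
    rw [← rel_a_iff, ← rel_smul hg, app_inv, hgx]
    exact hxy
  · rintro ⟨z, hz, rfl⟩
    refine ⟨Finset.mem_univ _, ?_⟩
    rw [← hgx, rel_smul hg, rel_a_iff]
    exact hz

theorem R3.card_out (h : R3 G a b c) (x : Ω) [DecidablePred fun y => rel G a b x y] :
    (univ.filter fun y => rel G a b x y).card = 22 := by
  obtain ⟨g, hg, hgx⟩ := h.trans a x
  rw [out_eq_image hg x hgx, Finset.card_image_of_injective _ g.injective, h.cardB]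

theorem in_eq_image {g : Equiv.Perm Ω} (hg : g ∈ G) (y : Ω) (hgy : g a = y)
    [DecidablePred fun x => rel G a b x y] [DecidablePred fun x => rel G a b x a] :
    (univ.filter fun x => rel G a b x y) = (univ.filter fun x => rel G a b x a).image g := by
  ext x
  rw [Finset.mem_filter, Finset.mem_image]
  constructor
  · rintro ⟨_, hxy⟩
    refine ⟨g⁻¹ x, ?_, app_inv g x⟩
    rw [Finset.mem_filter]
    refine ⟨Finset.mem_univ _, ?_⟩
    rw [← rel_smul hg, app_inv, hgy]
    exact hxy
  · rintro ⟨z, hz, rfl⟩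
    rw [Finset.mem_filter] at hz
    refine ⟨Finset.mem_univ _, ?_⟩
    rw [← hgy, rel_smul hg]
    exact hz.2

/-- the orbital is self-paired -/
theorem R3.rel_b_a (h : R3 G a b c) : rel G a b b a := by
  classical
  set Nin : Finset Ω := univ.filter fun x => rel G a b x a with hNin
  have hcard : Nin.card = 22 := by
    have h1 := double_count (univ : Finset Ω) (univ : Finset Ω) (fun x y => rel G a b x y)
    have h2 : ∀ x ∈ (univ : Finset Ω), (univ.filter fun y => rel G a b x y).card = 22 :=
      fun x _ => h.card_out x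
    have h3 : ∀ y ∈ (univ : Finset Ω), (univ.filter fun x => rel G a b x y).card = Nin.card := by
      intro y _
      obtain ⟨g, hg, hgy⟩ := h.trans a y
      rw [in_eq_image hg y hgy, Finset.card_image_of_injective _ g.injective]
    rw [Finset.sum_congr rfl h2, Finset.sum_congr rfl h3, Finset.sum_const, Finset.sum_const,
      Finset.card_univ, h.card] at h1
    simp only [smul_eq_mul] at h1
    omega
  have hinv : ∀ x ∈ Nin, ∀ z ∈ Sorb G a x, z ∈ Nin := by
    intro x hx z hz
    rw [hNin, Finset.mem_filter] at hx ⊢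
    obtain ⟨s, hs, hsa, rfl⟩ := mem_Sorb.mp hz
    refine ⟨Finset.mem_univ _, ?_⟩
    have := (rel_smul (a := a) (b := b) (x := x) (y := a) hs).mpr hx.2
    rwa [hsa] at this
  have hsub : Nin ⊆ Sorb G a b := by
    intro x hx
    have hx' := hx
    rw [hNin, Finset.mem_filter] at hx'
    rcases h.cover x with rfl | hB | hC
    · exact absurd hx'.2 (h.rel_irrefl _)
    · exact hB
    · exfalso
      have hsubC : Sorb G a c ⊆ Nin := by
        intro z hz
        rw [← Sorb_eq_of_mem hC] at hz
        exact hinv x hx z hz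
      have := Finset.card_le_card hsubC
      rw [h.cardC, hcard] at this
      omega
  have heq : Nin = Sorb G a b :=
    Finset.eq_of_subset_of_card_le hsub (by rw [h.cardB, hcard])
  have hb : b ∈ Nin := by rw [heq]; exact self_mem_Sorb b
  rw [hNin, Finset.mem_filter] at hb
  exact hb.2

theorem R3.rel_symm (h : R3 G a b c) {x y : Ω} (hxy : rel G a b x y) : rel G a b y x := by
  obtain ⟨g, hg, rfl, rfl⟩ := hxy
  rw [rel_smul hg]
  exact h.rel_b_a

theorem inv_fix {s : Equiv.Perm Ω} {x : Ω} (hs : s x = x) : s⁻¹ x = x := by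
  rw [Equiv.Perm.inv_eq_iff_eq]; exact hs.symm

/-- 2-transitivity on the suborbit of size 22, general form -/
theorem R3.two' (h : R3 G a b c) {y z y' z' : Ω} (hy : y ∈ Sorb G a b) (hz : z ∈ Sorb G a b)
    (hy' : y' ∈ Sorb G a b) (hz' : z' ∈ Sorb G a b) (hyz : y ≠ z) (hyz' : y' ≠ z') :
    ∃ s ∈ G, s a = a ∧ s y = y' ∧ s z = z' := by
  obtain ⟨s₁, hs₁, hs₁a, rfl⟩ := mem_Sorb.mp hy
  obtain ⟨s₂, hs₂, hs₂a, rfl⟩ := mem_Sorb.mp hy'
  have hw : s₁⁻¹ z ∈ Sorb G a b := smul_mem_Sorb hz (G.inv_mem hs₁) (inv_fix hs₁a)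
  have hw' : s₂⁻¹ z' ∈ Sorb G a b := smul_mem_Sorb hz' (G.inv_mem hs₂) (inv_fix hs₂a)
  have hwb : s₁⁻¹ z ≠ b := by
    intro h'
    apply hyz
    rw [← h', app_inv]
  have hwb' : s₂⁻¹ z' ≠ b := by
    intro h'
    apply hyz'
    rw [← h', app_inv]
  obtain ⟨k, hk, hka, hkb, hkw⟩ := h.two _ _ hw hw' hwb hwb'
  refine ⟨s₂ * k * s₁⁻¹, G.mul_mem (G.mul_mem hs₂ hk) (G.inv_mem hs₁), ?_, ?_, ?_⟩
  · rw [Equiv.Perm.mul_apply, Equiv.Perm.mul_apply, inv_fix hs₁a, hka, hs₂a]
  · rw [Equiv.Perm.mul_apply, Equiv.Perm.mul_apply, inv_app, hkb]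
  · rw [Equiv.Perm.mul_apply, Equiv.Perm.mul_apply, hkw, app_inv]

/-- **The suborbit of size 22 is an independent set** (`λ = 0`). -/
theorem R3.indep (h : R3 G a b c) {y z : Ω} (hy : y ∈ Sorb G a b) (hz : z ∈ Sorb G a b) :
    ¬ rel G a b y z := by
  classical
  intro hyz
  have hne : y ≠ z := fun h' => h.rel_irrefl y (h' ▸ hyz)
  -- all pairs in the suborbit are related
  have hall : ∀ y' z', y' ∈ Sorb G a b → z' ∈ Sorb G a b → y' ≠ z' → rel G a b y' z' := by
    intro y' z' hy' hz' hne'
    obtain ⟨s, hs, _, rfl, rfl⟩ := h.two' hy hz hy' hz' hne hne'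
    rw [rel_smul hs]
    exact hyz
  -- closed neighbourhoods
  set N : Ω → Finset Ω := fun x => insert x (univ.filter fun w => rel G a b x w) with hN
  have hNcard : ∀ x, (N x).card = 23 := by
    intro x
    rw [hN]
    simp only
    rw [Finset.card_insert_of_notMem, h.card_out]
    rw [Finset.mem_filter]
    exact fun h' => h.rel_irrefl x h'.2
  have hNa : N a = insert a (Sorb G a b) := by
    rw [hN]
    simp only
    congr 1
  have hNimage : ∀ g ∈ G, ∀ w, N (g w) = (N w).image g := by
    intro g hg w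
    rw [hN]
    simp only
    rw [Finset.image_insert]
    congr 1
    ext v
    rw [Finset.mem_filter, Finset.mem_image]
    constructor
    · rintro ⟨_, hv⟩
      refine ⟨g⁻¹ v, ?_, app_inv g v⟩
      rw [Finset.mem_filter]
      refine ⟨Finset.mem_univ _, ?_⟩
      rw [← rel_smul hg, app_inv]
      exact hv
    · rintro ⟨u, hu, rfl⟩
      rw [Finset.mem_filter] at hu
      exact ⟨Finset.mem_univ _, (rel_smul hg).mpr hu.2⟩
  have hA : ∀ y' ∈ Sorb G a b, N y' = N a := by
    intro y' hy'
    symm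
    apply Finset.eq_of_subset_of_card_le
    · rw [hNa]
      intro w hw
      rw [Finset.mem_insert] at hw
      rw [hN]
      simp only
      rw [Finset.mem_insert, Finset.mem_filter]
      rcases hw with rfl | hw
      · right
        exact ⟨Finset.mem_univ _, h.rel_symm (rel_a_iff.mpr hy')⟩
      · by_cases hwy : w = y'
        · exact Or.inl hwy
        · right
          exact ⟨Finset.mem_univ _, hall y' w hy' hw (Ne.symm hwy)⟩
    · rw [hNcard, hNcard]
  have hB : ∀ x w, rel G a b x w → N w = N x := by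
    intro x w hxw
    obtain ⟨g, hg, rfl⟩ := h.trans a x
    have hw' : g⁻¹ w ∈ Sorb G a b := by
      rw [← rel_a_iff, ← rel_smul hg, app_inv]
      exact hxw
    have : w = g (g⁻¹ w) := (app_inv g w).symm
    rw [this, hNimage g hg, hNimage g hg, hA _ hw']
  have hC : ∀ x w, w ∈ N x → N w = N x := by
    intro x w hw
    rw [hN] at hw
    simp only at hw
    rw [Finset.mem_insert, Finset.mem_filter] at hw
    rcases hw with rfl | hw
    · rfl
    · exact hB x w hw.2
  -- the partition
  have hcover : (Finset.univ : Finset Ω) = (Finset.univ.image N).biUnion id := by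
    ext x
    simp only [Finset.mem_univ, Finset.mem_biUnion, Finset.mem_image, true_and, id, true_iff]
    refine ⟨N x, ⟨x, rfl⟩, ?_⟩
    rw [hN]
    exact Finset.mem_insert_self _ _
  have hdisj : ∀ C ∈ Finset.univ.image N, ∀ D ∈ Finset.univ.image N, C ≠ D →
      Disjoint (id C) (id D) := by
    intro C hC' D hD' hCD
    rw [Finset.mem_image] at hC' hD'
    obtain ⟨x, _, rfl⟩ := hC'
    obtain ⟨x', _, rfl⟩ := hD'
    rw [id, id, Finset.disjoint_left]
    intro w hw hw'
    exact hCD ((hC x w hw).symm.trans (hC x' w hw'))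
  have hcount := congrArg Finset.card hcover
  rw [Finset.card_biUnion hdisj, Finset.card_univ, h.card] at hcount
  have h23 : ∀ C ∈ Finset.univ.image N, (id C).card = 23 := by
    intro C hC'
    rw [Finset.mem_image] at hC'
    obtain ⟨x, _, rfl⟩ := hC'
    exact hNcard x
  rw [Finset.sum_congr rfl h23, Finset.sum_const, smul_eq_mul] at hcount
  omega

/-- a vertex of the suborbit of size 77 has exactly 6 neighbours in the suborbit of size 22 -/
theorem R3.mu (h : R3 G a b c) {y : Ω} (hy : y ∈ Sorb G a c)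
    [DecidablePred fun z => rel G a b y z] :
    ((Sorb G a b).filter fun z => rel G a b y z).card = 6 := by
  classical
  -- constant on the suborbit
  have hconst : ∀ y' ∈ Sorb G a c, ((Sorb G a b).filter fun z => rel G a b y' z).card =
      ((Sorb G a b).filter fun z => rel G a b c z).card := by
    intro y' hy'
    obtain ⟨s, hs, hsa, rfl⟩ := mem_Sorb.mp hy'
    have : ((Sorb G a b).filter fun z => rel G a b (s c) z) =
        ((Sorb G a b).filter fun z => rel G a b c z).image s := by
      ext z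
      rw [Finset.mem_filter, Finset.mem_image]
      constructor
      · rintro ⟨hz, hrel⟩
        refine ⟨s⁻¹ z, ?_, app_inv s z⟩
        rw [Finset.mem_filter]
        refine ⟨smul_mem_Sorb hz (G.inv_mem hs) (inv_fix hsa), ?_⟩
        rw [← rel_smul hs, app_inv]
        exact hrel
      · rintro ⟨w, hw, rfl⟩
        rw [Finset.mem_filter] at hw
        exact ⟨smul_mem_Sorb hw.1 hs hsa, (rel_smul hs).mpr hw.2⟩
    rw [this, Finset.card_image_of_injective _ s.injective]
  -- the other side of the double count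
  have hother : ∀ z ∈ Sorb G a b, ((Sorb G a c).filter fun y' => rel G a b y' z).card = 21 := by
    intro z hz
    have hout := h.card_out z
    have : (univ.filter fun w => rel G a b z w) =
        insert a ((Sorb G a c).filter fun y' => rel G a b y' z) := by
      ext w
      rw [Finset.mem_filter, Finset.mem_insert, Finset.mem_filter]
      constructor
      · rintro ⟨_, hzw⟩
        rcases h.cover w with rfl | hB | hC
        · exact Or.inl rfl
        · exact absurd hzw (h.indep hz hB)
        · exact Or.inr ⟨hC, h.rel_symm hzw⟩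
      · rintro (rfl | ⟨_, hwz⟩)
        · exact ⟨Finset.mem_univ _, h.rel_symm (rel_a_iff.mpr hz)⟩
        · exact ⟨Finset.mem_univ _, h.rel_symm hwz⟩
    rw [this, Finset.card_insert_of_notMem] at hout
    · omega
    · rw [Finset.mem_filter]
      exact fun h' => h.a_not_mem_C h'.1
  have hdc := double_count (Sorb G a c) (Sorb G a b) (fun y' z => rel G a b y' z)
  rw [Finset.sum_congr rfl hconst, Finset.sum_congr rfl hother, Finset.sum_const, Finset.sum_const,
    h.cardB, h.cardC] at hdc
  simp only [smul_eq_mul] at hdc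
  have h6 : ((Sorb G a b).filter fun z => rel G a b c z).card = 6 := by omega
  have := hconst y hy
  rw [h6] at this
  rw [← this]
  congr 1
  ext z
  simp only [Finset.mem_filter]

variable (G a b) in
/-- the orbital graph -/
def orbGraph : SimpleGraph Ω := SimpleGraph.fromRel (rel G a b)

theorem R3.adj_iff (h : R3 G a b c) {x y : Ω} : (orbGraph G a b).Adj x y ↔ rel G a b x y := by
  unfold orbGraph
  rw [SimpleGraph.fromRel_adj]
  constructor
  · rintro ⟨_, h' | h'⟩
    · exact h'
    · exact h.rel_symm h'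
  · intro h'
    exact ⟨fun hxy => h.rel_irrefl x (hxy ▸ h'), Or.inl h'⟩

/-- **The orbital graph is strongly regular with parameters (100, 22, 0, 6).** -/
theorem R3.isHS (h : R3 G a b c) [DecidableRel (orbGraph G a b).Adj] : IsHS (orbGraph G a b) := by
  classical
  refine ⟨h.card, ?_, ?_, ?_⟩
  · intro v
    have : nb (orbGraph G a b) v = univ.filter fun y => rel G a b v y := by
      ext y
      simp only [Finset.mem_filter, Finset.mem_univ, true_and, h.adj_iff]
    rw [this]
    exact h.card_out v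
  · rintro v w hvw z ⟨hvz, hwz⟩
    rw [h.adj_iff] at hvw hvz hwz
    obtain ⟨g, hg, rfl⟩ := h.trans a v
    have hw' : g⁻¹ w ∈ Sorb G a b := by
      rw [← rel_a_iff, ← rel_smul hg, app_inv]; exact hvw
    have hz' : g⁻¹ z ∈ Sorb G a b := by
      rw [← rel_a_iff, ← rel_smul hg, app_inv]; exact hvz
    apply h.indep hw' hz'
    rw [← rel_smul hg, app_inv, app_inv]
    exact hwz
  · intro v w hvw hna
    rw [h.adj_iff] at hna
    obtain ⟨g, hg, rfl⟩ := h.trans a v
    have hw' : g⁻¹ w ∈ Sorb G a c := by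
      rcases h.cover (g⁻¹ w) with h' | h' | h'
      · exfalso
        apply hvw
        rw [← h', app_inv]
      · exfalso
        apply hna
        rw [← rel_a_iff, ← rel_smul hg, app_inv] at h'
        exact h'
      · exact h'
    have : cn (orbGraph G a b) (g a) w =
        ((Sorb G a b).filter fun z => rel G a b (g⁻¹ w) z).image g := by
      ext z
      simp only [Finset.mem_filter, Finset.mem_univ, true_and, h.adj_iff, Finset.mem_image]
      constructor
      · rintro ⟨h1, h2⟩
        refine ⟨g⁻¹ z, ⟨?_, ?_⟩, app_inv g z⟩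
        · rw [← rel_a_iff, ← rel_smul hg, app_inv]; exact h1
        · rw [← rel_smul hg, app_inv, app_inv]; exact h2
      · rintro ⟨u, ⟨hu1, hu2⟩, rfl⟩
        refine ⟨?_, ?_⟩
        · rw [rel_smul hg, rel_a_iff]; exact hu1
        · rw [← rel_smul hg, app_inv] at hu2; exact hu2
    rw [this, Finset.card_image_of_injective _ g.injective]
    exact h.mu hw'

end

end Cfsg.Agent.Lib.Helper93.Rank3HS
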