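/-
helper93: from the hypotheses of the rank-3 recognition of the Higman–Sims group (transitive group on 100 points,
point stabiliser isomorphic to `Spor.M22`, suborbits of sizes 22 and 77) to the elementary hypotheses `R3`, and the
action on the orbital graph.
-/
import Cfsg.Agent.Lib.Helper93.Rank3HS
import Cfsg.Agent.Lib.Helper93.M22Aut

set_option autoImplicit false
set_option linter.unusedSectionVars false

namespace Cfsg.Agent.Lib.Helper93.Rank3HSGroup
open Finset Cfsg Cfsg.Agent.Lib.Helper7 Cfsg.Agent.Lib.Helper93 Cfsg.Agent.Lib.Helper93.HSCount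
  Cfsg.Agent.Lib.Helper93.Rank3HS Cfsg.Agent.Lib.Helper93.M22Aut

universe u

/-! ### `M22` on the 22 points -/

theorem M22_two_trans (y p q : ↥pts) (hp : p ≠ y) (hq : q ≠ y) :
    ∃ m : ↥Spor.M22, m • y = y ∧ m • p = q := by
  have hy' := y.2
  have hp' := p.2
  have hq' := q.2
  rw [mem_pts] at hy' hp' hq'
  have hyp : (y : GolayPt) ≠ p := fun h => hp (Subtype.ext h.symm)
  have hyq : (y : GolayPt) ≠ q := fun h => hq (Subtype.ext h.symm)
  obtain ⟨g, hg, hmap⟩ := exists_M24_map_list [none, some 0, (y : GolayPt), (p : GolayPt)]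
    [none, some 0, (y : GolayPt), (q : GolayPt)]
    (by simp [hy'.1.symm, hy'.2.symm, hp'.1.symm, hp'.2.symm, hyp])
    (by simp [hy'.1.symm, hy'.2.symm, hq'.1.symm, hq'.2.symm, hyq]) rfl (by simp)
  have h0 : g none = none := hmap 0 (by simp)
  have h1 : g (some 0) = some 0 := hmap 1 (by simp)
  have h2 : g y = y := hmap 2 (by simp)
  have h3 : g p = q := hmap 3 (by simp)
  exact ⟨⟨g, (mem_M22_iff g).mpr ⟨hg, h0, h1⟩⟩, Subtype.ext h2, Subtype.ext h3⟩

theorem M22_double_coset (y : ↥pts) {m m' : ↥Spor.M22} (hm : m • y ≠ y) (hm' : m' • y ≠ y) :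
    ∃ k k' : ↥Spor.M22, k • y = y ∧ k' • y = y ∧ m' = k * m * k' := by
  obtain ⟨k, hk1, hk2⟩ := M22_two_trans y (m • y) (m' • y) hm hm'
  refine ⟨k, (k * m)⁻¹ * m', hk1, ?_, by group⟩
  rw [mul_smul, inv_smul_eq_iff, mul_smul, hk2]

/-! ### The stabiliser of `a` -/

section
variable {Ω : Type u} [Fintype Ω] [DecidableEq Ω] (G : Subgroup (Equiv.Perm Ω)) (a b : Ω)

theorem G_smul (g : G) (x : Ω) : g • x = (g : Equiv.Perm Ω) x := rfl

theorem S_smul (s : MulAction.stabilizer G a) (x : Ω) :
    s • x = ((s : G) : Equiv.Perm Ω) x := rfl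

theorem S_fix (s : MulAction.stabilizer G a) : ((s : G) : Equiv.Perm Ω) a = a := s.2

theorem orbit_eq_Sorb (y : Ω) :
    MulAction.orbit (MulAction.stabilizer G a) y = ↑(Sorb G a y) := by
  ext z
  rw [MulAction.mem_orbit_iff, Finset.mem_coe, mem_Sorb]
  constructor
  · rintro ⟨s, rfl⟩
    exact ⟨((s : G) : Equiv.Perm Ω), (s : G).2, S_fix G a s, rfl⟩
  · rintro ⟨p, hp, hpa, rfl⟩
    exact ⟨⟨⟨p, hp⟩, hpa⟩, rfl⟩

theorem card_Sorb_eq (y : Ω) :
    (Sorb G a y).card = (MulAction.orbit (MulAction.stabilizer G a) y).ncard := by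
  rw [orbit_eq_Sorb, Set.ncard_coe_finset]

/-- 2-transitivity of the stabiliser on the suborbit of size 22 -/
theorem two_of_equiv (e : MulAction.stabilizer G a ≃* Spor.M22)
    (hb : (MulAction.orbit (MulAction.stabilizer G a) b).ncard = 22) :
    ∀ y z, y ∈ Sorb G a b → z ∈ Sorb G a b → y ≠ b → z ≠ b →
      ∃ s ∈ G, s a = a ∧ s b = b ∧ s y = z := by
  set S := MulAction.stabilizer G a with hS
  set K : Subgroup S := MulAction.stabilizer S b with hK
  have hKidx : K.index = 22 := by
    rw [hK, MulAction.index_stabilizer]; exact hb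
  set K' : Subgroup ↥Spor.M22 := K.map (e : S →* ↥Spor.M22) with hK'
  have hK'idx : K'.index = 22 := by
    rw [hK', Subgroup.index_map_equiv]; exact hKidx
  obtain ⟨y0, hy0⟩ := index_fix K' (by rw [hK'idx, card_pts])
  set T := MulAction.stabilizer ↥Spor.M22 y0 with hT
  have hTidx : T.index = 22 := by
    rw [hT, MulAction.index_stabilizer_of_transitive, card_pts]
  have hKT : K' = T := by
    apply le_antisymm hy0
    have h1 := Subgroup.relIndex_mul_index hy0
    rw [hTidx, hK'idx] at h1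
    have h2 : K'.relIndex T = 1 := by omega
    exact Subgroup.relIndex_eq_one.mp h2
  have hmemK' : ∀ s : S, (e s) ∈ T ↔ s ∈ K := by
    intro s
    rw [← hKT, hK', Subgroup.mem_map]
    constructor
    · rintro ⟨k, hk, hks⟩
      have : k = s := e.injective hks
      rw [← this]; exact hk
    · intro hs
      exact ⟨s, hs, rfl⟩
  have key : ∀ s s' : S, s ∉ K → s' ∉ K → ∃ k ∈ K, ∃ k' ∈ K, s' = k * s * k' := by
    intro s s' hs hs'
    have h1 : (e s) • y0 ≠ y0 := by
      intro h
      apply hs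
      rw [← hmemK', hT, MulAction.mem_stabilizer_iff]
      exact h
    have h2 : (e s') • y0 ≠ y0 := by
      intro h
      apply hs'
      rw [← hmemK', hT, MulAction.mem_stabilizer_iff]
      exact h
    obtain ⟨k, k', hk, hk', heq⟩ := M22_double_coset y0 h1 h2
    refine ⟨e.symm k, ?_, e.symm k', ?_, ?_⟩
    · rw [← hmemK', MulEquiv.apply_symm_apply, hT, MulAction.mem_stabilizer_iff]; exact hk
    · rw [← hmemK', MulEquiv.apply_symm_apply, hT, MulAction.mem_stabilizer_iff]; exact hk'
    · apply e.injective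
      rw [map_mul, map_mul, MulEquiv.apply_symm_apply, MulEquiv.apply_symm_apply]
      exact heq
  intro y z hy hz hyb hzb
  obtain ⟨p, hp, hpa, hpy⟩ := mem_Sorb.mp hy
  obtain ⟨p', hp', hpa', hpz⟩ := mem_Sorb.mp hz
  let s : S := ⟨⟨p, hp⟩, hpa⟩
  let s' : S := ⟨⟨p', hp'⟩, hpa'⟩
  have hs : s ∉ K := by
    intro h
    rw [hK, MulAction.mem_stabilizer_iff] at h
    exact hyb (hpy.symm.trans h)
  have hs' : s' ∉ K := by
    intro h
    rw [hK, MulAction.mem_stabilizer_iff] at h
    exact hzb (hpz.symm.trans h)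
  obtain ⟨k, hk, k', hk', heq⟩ := key s s' hs hs'
  rw [hK, MulAction.mem_stabilizer_iff] at hk hk'
  refine ⟨((k : G) : Equiv.Perm Ω), (k : G).2, S_fix G a k, hk, ?_⟩
  have h3 : s' • b = (k * s * k') • b := by rw [heq]
  rw [mul_smul, mul_smul, hk'] at h3
  have h4 : s' • b = z := hpz
  have h5 : s • b = y := hpy
  rw [h4, h5] at h3
  exact h3.symm

/-- the elementary hypotheses from the group-theoretic ones -/
theorem r3_of_hyp (hΩ : Fintype.card Ω = 100) [MulAction.IsPretransitive G Ω]
    (e : MulAction.stabilizer G a ≃* Spor.M22) (c : Ω)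
    (hb : (MulAction.orbit (MulAction.stabilizer G a) b).ncard = 22)
    (hc : (MulAction.orbit (MulAction.stabilizer G a) c).ncard = 77) : R3 G a b c where
  card := hΩ
  trans := fun x y => by
    obtain ⟨g, hg⟩ := MulAction.exists_smul_eq G x y
    exact ⟨g.1, g.2, hg⟩
  cardB := by rw [card_Sorb_eq]; exact hb
  cardC := by rw [card_Sorb_eq]; exact hc
  two := two_of_equiv G a b e hb

theorem card_G (hΩ : Fintype.card Ω = 100) [MulAction.IsPretransitive G Ω]
    (e : MulAction.stabilizer G a ≃* Spor.M22) : Nat.card G = 44352000 := by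
  have h1 := Subgroup.card_mul_index (MulAction.stabilizer G a)
  rw [MulAction.index_stabilizer_of_transitive, Nat.card_eq_fintype_card (α := Ω), hΩ,
    Nat.card_congr e.toEquiv, card_M22] at h1
  omega

/-- the action on the orbital graph -/
def toAut : G →* (orbGraph G a b ≃g orbGraph G a b) where
  toFun g :=
    { toEquiv := (g : Equiv.Perm Ω)
      map_rel_iff' := by
        intro x y
        unfold orbGraph
        rw [SimpleGraph.fromRel_adj, SimpleGraph.fromRel_adj]
        show (g : Equiv.Perm Ω) x ≠ (g : Equiv.Perm Ω) y ∧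
          (rel G a b ((g : Equiv.Perm Ω) x) ((g : Equiv.Perm Ω) y) ∨
            rel G a b ((g : Equiv.Perm Ω) y) ((g : Equiv.Perm Ω) x)) ↔ _
        rw [rel_smul g.2, rel_smul g.2, (g : Equiv.Perm Ω).injective.ne_iff] }
  map_one' := rfl
  map_mul' := fun _ _ => rfl

theorem toAut_apply (g : G) (x : Ω) : toAut G a b g x = (g : Equiv.Perm Ω) x := rfl

theorem toAut_injective : Function.Injective (toAut G a b) := by
  intro g g' h
  apply Subtype.ext
  apply Equiv.ext
  intro x
  have := congrArg (fun f : orbGraph G a b ≃g orbGraph G a b => f x) h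
  exact this

end

end Cfsg.Agent.Lib.Helper93.Rank3HSGroup
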