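/-
helper93: recognition of the Higman–Sims group as a rank 3 permutation group on 100 points.
-/
import Cfsg.Agent.Lib.Helper93.Rank3HSGroup
import Cfsg.Agent.Lib.Helper93.HSDesign
import Cfsg.Agent.Lib.Helper93.HSAut
import Cfsg.Agent.Lib.Helper93.HSIso
import Cfsg.Agent.Lib.Helper93.S22Unique
import Cfsg.Agent.Lib.Helper8.HSGraph
import Cfsg.Agent.Lib.Helper8.GraphTransport
import Cfsg.Agent.S0414

set_option autoImplicit false
set_option linter.unusedSectionVars false

namespace Cfsg.Agent.Lib.Helper93.HSRecog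
open Finset Cfsg Cfsg.Agent.Lib.Helper8 Cfsg.Agent.Lib.Helper93.HSCount
  Cfsg.Agent.Lib.Helper93.HSDesign Cfsg.Agent.Lib.Helper93.HSAut
  Cfsg.Agent.Lib.Helper93.Rank3HS Cfsg.Agent.Lib.Helper93.Rank3HSGroup

universe u

/-- two subgroups of index 2, one of them simple of order greater than 2, coincide -/
theorem eq_of_index_two {A : Type*} [Group A] [Finite A] (H K : Subgroup A) (hH : H.index = 2)
    (hK : K.index = 2) (hs : IsSimpleGroup H) (hc : 2 < Nat.card H) : H = K := by
  haveI : K.Normal := Subgroup.normal_of_index_eq_two hK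
  have hle : H ≤ K := by
    rcases (Subgroup.Normal.eq_bot_or_eq_top (inferInstance : (K.subgroupOf H).Normal)) with h | h
    · exfalso
      have h1 : K.relIndex H ∣ K.index := Subgroup.relIndex_dvd_index_of_normal K H
      rw [hK] at h1
      have h2 : K.relIndex H = Nat.card H := by
        unfold Subgroup.relIndex
        rw [h, Subgroup.index_bot]
      rw [h2] at h1
      have := Nat.le_of_dvd (by norm_num) h1
      omega
    · exact Subgroup.subgroupOf_eq_top.mp h
  apply Subgroup.eq_of_le_of_card_ge hle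
  have h1 := Subgroup.card_mul_index H
  have h2 := Subgroup.card_mul_index K
  rw [hH] at h1
  rw [hK] at h2
  omega

theorem isoHS_of_rank3 {Ω : Type u} [Fintype Ω] [DecidableEq Ω] (hΩ : Fintype.card Ω = 100)
    (G : Subgroup (Equiv.Perm Ω)) [MulAction.IsPretransitive G Ω] (a : Ω)
    (e : MulAction.stabilizer G a ≃* Cfsg.Spor.M22) (b c : Ω)
    (hb : (MulAction.orbit (MulAction.stabilizer G a) b).ncard = 22)
    (hc : (MulAction.orbit (MulAction.stabilizer G a) c).ncard = 77) : Cfsg.Spor.IsoHS G := by
  classical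
  have h := r3_of_hyp G a b hΩ e c hb hc
  haveI : DecidableRel (orbGraph G a b).Adj := Classical.decRel _
  have hΓ : Cfsg.Agent.Lib.Helper93.HSCount.IsHS (orbGraph G a b) := h.isHS
  obtain ⟨ε, hε⟩ := Cfsg.Agent.Lib.Helper93.S22Unique.setSystemIso (card_Pt hΓ a) card_P22
    (design_steiner hΓ a) B0_steiner
  let φ : orbGraph G a b ≃g pointBlockGraph B0 := (isoPBG hΓ a).trans (pbgIso ε hε)
  let ι : G →* (pointBlockGraph B0 ≃g pointBlockGraph B0) :=
    (autCongrGraph φ).toMonoidHom.comp (toAut G a b)
  have hι : Function.Injective ι := (autCongrGraph φ).injective.comp (toAut_injective G a b)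
  have hA : Nat.card (pointBlockGraph B0 ≃g pointBlockGraph B0) = 88704000 :=
    card_graphAut card_P22 B0_steiner (Cfsg.Agent.S0414.result card_P22 B0_steiner).1
  haveI : Finite (pointBlockGraph B0 ≃g pointBlockGraph B0) :=
    Nat.finite_of_card_ne_zero (by rw [hA]; norm_num)
  have eG : G ≃* ι.range := MonoidHom.ofInjective hι
  have hGr : Nat.card ι.range = 44352000 := by
    rw [← Nat.card_congr eG.toEquiv]; exact card_G G a hΩ e
  obtain ⟨hs, hH0⟩ := isHS_range
  have hidx1 : (PhiG.range).index = 2 := by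
    have := Subgroup.card_mul_index PhiG.range
    rw [hH0, hA] at this
    omega
  have hidx2 : (ι.range).index = 2 := by
    have := Subgroup.card_mul_index ι.range
    rw [hGr, hA] at this
    omega
  have heq : PhiG.range = ι.range :=
    eq_of_index_two PhiG.range ι.range hidx1 hidx2 hs (by rw [hH0]; norm_num)
  have e1 : Hstd ≃* PhiG.range := MonoidHom.ofInjective PhiG_injective
  obtain ⟨e2⟩ := Cfsg.Agent.Lib.Helper93.HSIso.exists_equiv_HS
  exact ⟨(eG.trans (MulEquiv.subgroupCongr heq.symm)).trans (e1.symm.trans e2.symm)⟩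

end Cfsg.Agent.Lib.Helper93.HSRecog
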