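import Cfsg.Agent.S5627
import Cfsg.Agent.Lib.Helper6.Plane4Ex

/-!
# Counting hyperovals in a plane of order 4

A hyperoval meets exactly 55 other hyperovals in an even number of points; hence a family of 56
hyperovals meeting pairwise evenly is determined by any one of its members.
-/

set_option autoImplicit false

namespace Cfsg.Agent.Lib.Helper93.HovCount
open Finset Cfsg Cfsg.Agent.Lib.Helper6

variable {α : Type*} [Fintype α] [DecidableEq α] {L : Set (Finset α)}

open Classical in
/-- All hyperovals. -/
noncomputable def hovs (L : Set (Finset α)) : Finset (Finset α) :=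
  Finset.univ.filter (fun H => P4Hov L H)

theorem mem_hovs {H : Finset α} : H ∈ hovs L ↔ P4Hov L H := by
  simp [hovs]

theorem card_hovs (hα : Fintype.card α = 21) (hL : IsSteinerSystem 2 5 L) :
    (hovs L).card = 168 := by
  have h := (Cfsg.Agent.S5627.result hα L hL).2.1
  have : {H : Finset α | (H.card = 6 ∧ ∀ l ∈ L, (l ∩ H).card ≤ 2)} = ↑(hovs L) := by
    ext H
    rw [Finset.mem_coe, mem_hovs]
    rfl
  rw [this, Set.ncard_coe_finset] at h
  exact h

/-- The hyperovals through a set. -/
noncomputable def hovsThrough (L : Set (Finset α)) (J : Finset α) : Finset (Finset α) :=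
  (hovs L).filter (fun H => J ⊆ H)

theorem mem_hovsThrough {J H : Finset α} : H ∈ hovsThrough L J ↔ P4Hov L H ∧ J ⊆ H := by
  simp [hovsThrough, mem_hovs]

theorem hovsThrough_empty : hovsThrough L ∅ = hovs L := by
  ext H
  simp [hovsThrough]

omit [Fintype α] in
theorem indep_mono {S S' : Finset α} (h : S ⊆ S') (hS' : ∀ l ∈ L, (l ∩ S').card ≤ 2) :
    ∀ l ∈ L, (l ∩ S).card ≤ 2 := fun l hl =>
  (Finset.card_le_card (Finset.inter_subset_inter_left h)).trans (hS' l hl)

/-- Adding an exterior point to an independent set keeps it independent. -/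
theorem indep_insert {S : Finset α} (hS : ∀ l ∈ L, (l ∩ S).card ≤ 2) {x : α}
    (hx : x ∈ p4Ext L S) : ∀ l ∈ L, (l ∩ insert x S).card ≤ 2 := by
  intro l hl
  obtain ⟨hxS, hsec⟩ := mem_p4Ext.mp hx
  by_cases h2 : 2 ≤ (l ∩ S).card
  · have hxl := hsec l hl h2
    have : l ∩ insert x S = l ∩ S := by
      ext y
      simp only [Finset.mem_inter, Finset.mem_insert]
      constructor
      · rintro ⟨hy, rfl | hy'⟩
        · exact absurd hy hxl
        · exact ⟨hy, hy'⟩
      · rintro ⟨hy, hy'⟩
        exact ⟨hy, Or.inr hy'⟩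
    rw [this]
    exact hS l hl
  · have h1 : (l ∩ insert x S).card ≤ (insert x (l ∩ S)).card := by
      apply Finset.card_le_card
      intro y hy
      simp only [Finset.mem_inter, Finset.mem_insert] at hy ⊢
      tauto
    have h3 := Finset.card_insert_le x (l ∩ S)
    omega

/-- One step of the count of hyperovals through a set. -/
theorem step (S : Finset α) :
    (hovsThrough L S).card * (6 - S.card) =
      ∑ x ∈ p4Ext L S, (hovsThrough L (insert x S)).card := by
  classical
  have hdc := Finset.sum_card_bipartiteAbove_eq_sum_card_bipartiteBelow (s := hovsThrough L S)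
    (t := p4Ext L S) (fun (H : Finset α) (x : α) => x ∈ H)
  simp only [Finset.bipartiteAbove, Finset.bipartiteBelow] at hdc
  have hleft : ∑ H ∈ hovsThrough L S, ((p4Ext L S).filter (fun x => x ∈ H)).card =
      (hovsThrough L S).card * (6 - S.card) := by
    rw [Finset.sum_const_nat]
    intro H hH
    obtain ⟨hHov, hSH⟩ := mem_hovsThrough.mp hH
    have : (p4Ext L S).filter (fun x => x ∈ H) = H \ S := by
      ext x
      simp only [Finset.mem_filter, Finset.mem_sdiff, mem_p4Ext]
      constructor
      · rintro ⟨⟨hxS, _⟩, hxH⟩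
        exact ⟨hxH, hxS⟩
      · rintro ⟨hxH, hxS⟩
        refine ⟨⟨hxS, fun l hl h2 hxl => ?_⟩, hxH⟩
        have h1 : insert x (l ∩ S) ⊆ l ∩ H := by
          intro y hy
          rw [Finset.mem_insert] at hy
          rw [Finset.mem_inter]
          rcases hy with rfl | hy
          · exact ⟨hxl, hxH⟩
          · rw [Finset.mem_inter] at hy
            exact ⟨hy.1, hSH hy.2⟩
        have h3 := Finset.card_le_card h1
        rw [Finset.card_insert_of_notMem (fun h => hxS (Finset.mem_inter.mp h).2)] at h3
        have := hHov.2 l hl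
        omega
    rw [this, Finset.card_sdiff_of_subset hSH, hHov.1]
  have hright : ∑ x ∈ p4Ext L S, ((hovsThrough L S).filter (fun H => x ∈ H)).card =
      ∑ x ∈ p4Ext L S, (hovsThrough L (insert x S)).card := by
    apply Finset.sum_congr rfl
    intro x _
    congr 1
    ext H
    simp only [Finset.mem_filter, mem_hovsThrough, Finset.insert_subset_iff]
    tauto
  rw [← hleft, hdc, hright]

/-- A quadrangle lies in exactly one hyperoval. -/
theorem card_hovsThrough_four (hα : Fintype.card α = 21) (hL : IsSteinerSystem 2 5 L)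
    {S : Finset α} (hS4 : S.card = 4) (hind : ∀ l ∈ L, (l ∩ S).card ≤ 2) :
    (hovsThrough L S).card = 1 := by
  obtain ⟨H, ⟨hH, hSH⟩, huniq⟩ := (Cfsg.Agent.S5627.result hα L hL).2.2 S ⟨hS4, hind⟩
  rw [Finset.card_eq_one]
  refine ⟨H, ?_⟩
  ext H'
  rw [mem_hovsThrough, Finset.mem_singleton]
  constructor
  · rintro ⟨hH', hSH'⟩
    exact huniq H' ⟨hH', hSH'⟩
  · rintro rfl
    exact ⟨hH, hSH⟩

/-- The exterior of an independent triple has nine points. -/
theorem card_p4Ext_three (hα : Fintype.card α = 21) (hL : IsSteinerSystem 2 5 L)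
    {T : Finset α} (hT3 : T.card = 3) (hind : ∀ l ∈ L, (l ∩ T).card ≤ 2) :
    (p4Ext L T).card = 9 := by
  obtain ⟨a, b, c, hab, hac, hbc, rfl⟩ := Finset.card_eq_three.mp hT3
  obtain ⟨A, hA, haA, hbA⟩ := p4_exists_line hL hab
  obtain ⟨B, hB, haB, hcB⟩ := p4_exists_line hL hac
  obtain ⟨C, hC, hbC, hcC⟩ := p4_exists_line hL hbc
  have hcA : c ∉ A := by
    intro h
    have hsub : ({a, b, c} : Finset α) ⊆ A ∩ {a, b, c} := by
      intro x hx
      rw [Finset.mem_inter]
      refine ⟨?_, hx⟩
      simp only [Finset.mem_insert, Finset.mem_singleton] at hx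
      rcases hx with rfl | rfl | rfl <;> assumption
    have := (Finset.card_le_card hsub).trans (hind A hA)
    rw [hT3] at this
    omega
  have hbB : b ∉ B := by
    intro h
    have hsub : ({a, b, c} : Finset α) ⊆ B ∩ {a, b, c} := by
      intro x hx
      rw [Finset.mem_inter]
      refine ⟨?_, hx⟩
      simp only [Finset.mem_insert, Finset.mem_singleton] at hx
      rcases hx with rfl | rfl | rfl <;> assumption
    have := (Finset.card_le_card hsub).trans (hind B hB)
    rw [hT3] at this
    omega
  have haC : a ∉ C := by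
    intro h
    have hsub : ({a, b, c} : Finset α) ⊆ C ∩ {a, b, c} := by
      intro x hx
      rw [Finset.mem_inter]
      refine ⟨?_, hx⟩
      simp only [Finset.mem_insert, Finset.mem_singleton] at hx
      rcases hx with rfl | rfl | rfl <;> assumption
    have := (Finset.card_le_card hsub).trans (hind C hC)
    rw [hT3] at this
    omega
  have hAB : A ≠ B := fun h => hcA (h ▸ hcB)
  have hAC : A ≠ C := fun h => hcA (h ▸ hcC)
  have hBC : B ≠ C := fun h => hbB (h ▸ hbC)
  have hA5 : A.card = 5 := hL.1 A hA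
  have hB5 : B.card = 5 := hL.1 B hB
  have hC5 : C.card = 5 := hL.1 C hC
  have iAB : A ∩ B = {a} := by
    obtain ⟨P, _, hPu⟩ := p4_exists_unique_meet hα hL hA hB hAB
    ext x
    rw [Finset.mem_inter, Finset.mem_singleton]
    constructor
    · intro hx
      rw [hPu x hx, hPu a ⟨haA, haB⟩]
    · rintro rfl
      exact ⟨haA, haB⟩
  have iAC : A ∩ C = {b} := by
    obtain ⟨P, _, hPu⟩ := p4_exists_unique_meet hα hL hA hC hAC
    ext x
    rw [Finset.mem_inter, Finset.mem_singleton]
    constructor
    · intro hx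
      rw [hPu x hx, hPu b ⟨hbA, hbC⟩]
    · rintro rfl
      exact ⟨hbA, hbC⟩
  have iBC : B ∩ C = {c} := by
    obtain ⟨P, _, hPu⟩ := p4_exists_unique_meet hα hL hB hC hBC
    ext x
    rw [Finset.mem_inter, Finset.mem_singleton]
    constructor
    · intro hx
      rw [hPu x hx, hPu c ⟨hcB, hcC⟩]
    · rintro rfl
      exact ⟨hcB, hcC⟩
  have hU1 : (A ∪ B).card = 9 := by
    have := Finset.card_union_add_card_inter A B
    rw [iAB, Finset.card_singleton, hA5, hB5] at this
    omega
  have hU2 : (A ∪ B ∪ C).card = 12 := by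
    have h := Finset.card_union_add_card_inter (A ∪ B) C
    have hi : (A ∪ B) ∩ C = {b, c} := by
      rw [Finset.union_inter_distrib_right, iAC, iBC]
      rfl
    rw [hi, Finset.card_pair hbc, hU1, hC5] at h
    omega
  have hE : p4Ext L {a, b, c} = (A ∪ B ∪ C)ᶜ := by
    ext x
    rw [mem_p4Ext, Finset.mem_compl, Finset.mem_union, Finset.mem_union]
    constructor
    · rintro ⟨_, hsec⟩
      have h2A : 2 ≤ (A ∩ {a, b, c}).card :=
        two_le_card_inter_of_mem hab haA hbA (by simp) (by simp)
      have h2B : 2 ≤ (B ∩ {a, b, c}).card :=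
        two_le_card_inter_of_mem hac haB hcB (by simp) (by simp)
      have h2C : 2 ≤ (C ∩ {a, b, c}).card :=
        two_le_card_inter_of_mem hbc hbC hcC (by simp) (by simp)
      rintro ((h | h) | h)
      · exact hsec A hA h2A h
      · exact hsec B hB h2B h
      · exact hsec C hC h2C h
    · intro hx
      push Not at hx
      obtain ⟨⟨hxA, hxB⟩, hxC⟩ := hx
      refine ⟨?_, fun l hl h2 hxl => ?_⟩
      · simp only [Finset.mem_insert, Finset.mem_singleton, not_or]
        exact ⟨fun h => hxA (h ▸ haA), fun h => hxA (h ▸ hbA), fun h => hxB (h ▸ hcB)⟩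
      · obtain ⟨u, hu, v, hv, huv⟩ := Finset.one_lt_card.mp (by omega : 1 < (l ∩ {a, b, c}).card)
        rw [Finset.mem_inter] at hu hv
        have hu' := hu.2
        have hv' := hv.2
        simp only [Finset.mem_insert, Finset.mem_singleton] at hu' hv'
        rcases hu' with rfl | rfl | rfl <;> rcases hv' with rfl | rfl | rfl
        · exact huv rfl
        · exact hxA (p4_line_unique hL hab hl hA hu.1 hv.1 haA hbA ▸ hxl)
        · exact hxB (p4_line_unique hL hac hl hB hu.1 hv.1 haB hcB ▸ hxl)
        · exact hxA (p4_line_unique hL hab hl hA hv.1 hu.1 haA hbA ▸ hxl)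
        · exact huv rfl
        · exact hxC (p4_line_unique hL hbc hl hC hu.1 hv.1 hbC hcC ▸ hxl)
        · exact hxB (p4_line_unique hL hac hl hB hv.1 hu.1 haB hcB ▸ hxl)
        · exact hxC (p4_line_unique hL hbc hl hC hv.1 hu.1 hbC hcC ▸ hxl)
        · exact huv rfl
  rw [hE, Finset.card_compl, hα, hU2]

/-- Three hyperovals pass through an independent triple. -/
theorem card_hovsThrough_three (hα : Fintype.card α = 21) (hL : IsSteinerSystem 2 5 L)
    {T : Finset α} (hT3 : T.card = 3) (hind : ∀ l ∈ L, (l ∩ T).card ≤ 2) :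
    (hovsThrough L T).card = 3 := by
  have h := step (L := L) T
  have hsum : ∑ x ∈ p4Ext L T, (hovsThrough L (insert x T)).card = 9 := by
    rw [Finset.sum_const_nat (m := 1), card_p4Ext_three hα hL hT3 hind]
    intro x hx
    apply card_hovsThrough_four hα hL
    · rw [Finset.card_insert_of_notMem (mem_p4Ext.mp hx).1, hT3]
    · exact indep_insert hind hx
  rw [hsum, hT3] at h
  omega

/-- Twelve hyperovals pass through two points. -/
theorem card_hovsThrough_two (hα : Fintype.card α = 21) (hL : IsSteinerSystem 2 5 L)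
    {a b : α} (hab : a ≠ b) : (hovsThrough L {a, b}).card = 12 := by
  have hind : ∀ l ∈ L, (l ∩ {a, b}).card ≤ 2 := fun l _ =>
    (Finset.card_le_card Finset.inter_subset_right).trans (by rw [Finset.card_pair hab])
  obtain ⟨A, hA, haA, hbA⟩ := p4_exists_line hL hab
  have hE : p4Ext L {a, b} = Aᶜ := by
    ext x
    rw [mem_p4Ext, Finset.mem_compl]
    constructor
    · rintro ⟨_, hsec⟩
      exact hsec A hA (two_le_card_inter_of_mem hab haA hbA (by simp) (by simp))
    · intro hxA
      refine ⟨?_, fun l hl h2 hxl => ?_⟩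
      · simp only [Finset.mem_insert, Finset.mem_singleton, not_or]
        exact ⟨fun h => hxA (h ▸ haA), fun h => hxA (h ▸ hbA)⟩
      · obtain ⟨u, hu, v, hv, huv⟩ := Finset.one_lt_card.mp (by omega : 1 < (l ∩ {a, b}).card)
        rw [Finset.mem_inter] at hu hv
        have hu' := hu.2
        have hv' := hv.2
        simp only [Finset.mem_insert, Finset.mem_singleton] at hu' hv'
        rcases hu' with rfl | rfl <;> rcases hv' with rfl | rfl
        · exact huv rfl
        · exact hxA (p4_line_unique hL hab hl hA hu.1 hv.1 haA hbA ▸ hxl)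
        · exact hxA (p4_line_unique hL hab hl hA hv.1 hu.1 haA hbA ▸ hxl)
        · exact huv rfl
  have h := step (L := L) {a, b}
  have hsum : ∑ x ∈ p4Ext L {a, b}, (hovsThrough L (insert x {a, b})).card = 48 := by
    rw [Finset.sum_const_nat (m := 3), hE, Finset.card_compl, hα, hL.1 A hA]
    intro x hx
    apply card_hovsThrough_three hα hL
    · rw [Finset.card_insert_of_notMem (mem_p4Ext.mp hx).1, Finset.card_pair hab]
    · exact indep_insert hind hx
  rw [hsum, Finset.card_pair hab] at h
  omega

/-- Forty-eight hyperovals pass through a point. -/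
theorem card_hovsThrough_one (hα : Fintype.card α = 21) (hL : IsSteinerSystem 2 5 L)
    (a : α) : (hovsThrough L {a}).card = 48 := by
  have hE : p4Ext L {a} = {a}ᶜ := by
    ext x
    rw [mem_p4Ext, Finset.mem_compl]
    constructor
    · rintro ⟨h, _⟩
      exact h
    · intro h
      refine ⟨h, fun l _ h2 _ => ?_⟩
      have := (Finset.card_le_card (Finset.inter_subset_right (s₁ := l) (s₂ := {a})))
      rw [Finset.card_singleton] at this
      omega
  have h := step (L := L) {a}
  have hsum : ∑ x ∈ p4Ext L {a}, (hovsThrough L (insert x {a})).card = 240 := by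
    rw [Finset.sum_const_nat (m := 12), hE, Finset.card_compl, hα, Finset.card_singleton]
    intro x hx
    rw [hE, Finset.mem_compl, Finset.mem_singleton] at hx
    exact card_hovsThrough_two hα hL hx
  rw [hsum, Finset.card_singleton] at h
  omega

/-- Double counting of the `j`-subsets of a set inside hyperovals. -/
theorem sum_choose (H0 : Finset α) (j : ℕ) :
    ∑ H ∈ hovs L, ((H0 ∩ H).card).choose j =
      ∑ J ∈ H0.powersetCard j, (hovsThrough L J).card := by
  classical
  have hdc := Finset.sum_card_bipartiteAbove_eq_sum_card_bipartiteBelow (s := hovs L)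
    (t := H0.powersetCard j) (fun (H J : Finset α) => J ⊆ H)
  simp only [Finset.bipartiteAbove, Finset.bipartiteBelow] at hdc
  have hterm : ∀ H : Finset α, ((H0.powersetCard j).filter (fun J => J ⊆ H)).card =
      ((H0 ∩ H).card).choose j := by
    intro H
    have : (H0.powersetCard j).filter (fun J => J ⊆ H) = (H0 ∩ H).powersetCard j := by
      ext J
      simp only [Finset.mem_filter, Finset.mem_powersetCard, Finset.subset_inter_iff]
      tauto
    rw [this, Finset.card_powersetCard]
  simp only [hterm] at hdc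
  exact hdc

theorem sum_choose_one (hα : Fintype.card α = 21) (hL : IsSteinerSystem 2 5 L) {H0 : Finset α}
    (hH0 : P4Hov L H0) : ∑ H ∈ hovs L, ((H0 ∩ H).card).choose 1 = 288 := by
  rw [sum_choose, Finset.sum_const_nat (m := 48), Finset.card_powersetCard, hH0.1]
  · rfl
  · intro J hJ
    rw [Finset.mem_powersetCard] at hJ
    obtain ⟨a, rfl⟩ := Finset.card_eq_one.mp hJ.2
    exact card_hovsThrough_one hα hL a

theorem sum_choose_two (hα : Fintype.card α = 21) (hL : IsSteinerSystem 2 5 L) {H0 : Finset α}
    (hH0 : P4Hov L H0) : ∑ H ∈ hovs L, ((H0 ∩ H).card).choose 2 = 180 := by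
  rw [sum_choose, Finset.sum_const_nat (m := 12), Finset.card_powersetCard, hH0.1]
  · rfl
  · intro J hJ
    rw [Finset.mem_powersetCard] at hJ
    obtain ⟨a, b, hab, rfl⟩ := Finset.card_eq_two.mp hJ.2
    exact card_hovsThrough_two hα hL hab

theorem sum_choose_three (hα : Fintype.card α = 21) (hL : IsSteinerSystem 2 5 L) {H0 : Finset α}
    (hH0 : P4Hov L H0) : ∑ H ∈ hovs L, ((H0 ∩ H).card).choose 3 = 60 := by
  rw [sum_choose, Finset.sum_const_nat (m := 3), Finset.card_powersetCard, hH0.1]
  · rfl
  · intro J hJ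
    rw [Finset.mem_powersetCard] at hJ
    exact card_hovsThrough_three hα hL hJ.2 (indep_mono hJ.1 hH0.2)

/-- Two distinct hyperovals share at most three points. -/
theorem card_inter_le_three (hα : Fintype.card α = 21) (hL : IsSteinerSystem 2 5 L)
    {H0 H : Finset α} (hH0 : P4Hov L H0) (hH : P4Hov L H) (hne : H ≠ H0) :
    (H0 ∩ H).card ≤ 3 := by
  by_contra hcon
  push Not at hcon
  obtain ⟨S, hS, hS4⟩ := Finset.exists_subset_card_eq (show 4 ≤ (H0 ∩ H).card from hcon)
  have hS0 : S ⊆ H0 := hS.trans Finset.inter_subset_left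
  have hS1 : S ⊆ H := hS.trans Finset.inter_subset_right
  have h1 := card_hovsThrough_four hα hL hS4 (indep_mono hS0 hH0.2)
  obtain ⟨K, hK⟩ := Finset.card_eq_one.mp h1
  have e0 : H0 ∈ hovsThrough L S := mem_hovsThrough.mpr ⟨hH0, hS0⟩
  have e1 : H ∈ hovsThrough L S := mem_hovsThrough.mpr ⟨hH, hS1⟩
  rw [hK, Finset.mem_singleton] at e0 e1
  exact hne (e1.trans e0.symm)

/-- A hyperoval meets exactly 55 other hyperovals in an even number of points. -/
theorem card_even_meeting (hα : Fintype.card α = 21) (hL : IsSteinerSystem 2 5 L)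
    {H0 : Finset α} (hH0 : P4Hov L H0) :
    (((hovs L).erase H0).filter (fun H => Even (H0 ∩ H).card)).card = 55 := by
  have hmem : H0 ∈ hovs L := mem_hovs.mpr hH0
  have h0 : ((hovs L).erase H0).card = 167 := by
    rw [Finset.card_erase_of_mem hmem, card_hovs hα hL]
  have h1 := Finset.add_sum_erase (hovs L) (fun H => ((H0 ∩ H).card).choose 1) hmem
  have h2 := Finset.add_sum_erase (hovs L) (fun H => ((H0 ∩ H).card).choose 2) hmem
  have h3 := Finset.add_sum_erase (hovs L) (fun H => ((H0 ∩ H).card).choose 3) hmem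
  simp only [Finset.inter_self, hH0.1] at h1 h2 h3
  rw [sum_choose_one hα hL hH0] at h1
  rw [sum_choose_two hα hL hH0] at h2
  rw [sum_choose_three hα hL hH0] at h3
  have c1 : (6 : ℕ).choose 1 = 6 := by decide
  have c2 : (6 : ℕ).choose 2 = 15 := by decide
  have c3 : (6 : ℕ).choose 3 = 20 := by decide
  rw [c1] at h1
  rw [c2] at h2
  rw [c3] at h3
  have hterm : ∑ H ∈ (hovs L).erase H0, ((if Even (H0 ∩ H).card then 1 else 0) +
      ((H0 ∩ H).card).choose 1 + 4 * ((H0 ∩ H).card).choose 3) =
      ∑ H ∈ (hovs L).erase H0, (1 + 2 * ((H0 ∩ H).card).choose 2) := by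
    apply Finset.sum_congr rfl
    intro H hH
    rw [Finset.mem_erase] at hH
    have hle := card_inter_le_three hα hL hH0 (mem_hovs.mp hH.2) hH.1
    generalize (H0 ∩ H).card = i at hle
    interval_cases i <;> decide
  rw [Finset.sum_add_distrib, Finset.sum_add_distrib, Finset.sum_add_distrib, ← Finset.mul_sum,
    ← Finset.mul_sum, Finset.sum_const, smul_eq_mul, mul_one, h0, ← Finset.card_filter] at hterm
  omega

/-- A family of 56 hyperovals meeting pairwise evenly is determined by any of its members. -/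
theorem family_eq (hα : Fintype.card α = 21) (hL : IsSteinerSystem 2 5 L) {H0 : Finset α}
    {F : Finset (Finset α)} (hF : ∀ H ∈ F, P4Hov L H)
    (hFe : ∀ H ∈ F, ∀ H' ∈ F, H ≠ H' → Even (H ∩ H').card) (hFc : F.card = 56) (h0F : H0 ∈ F) :
    F = insert H0 (((hovs L).erase H0).filter (fun H => Even (H0 ∩ H).card)) := by
  have hH0 := hF H0 h0F
  have hsub : F.erase H0 ⊆ ((hovs L).erase H0).filter (fun H => Even (H0 ∩ H).card) := by
    intro H hH
    rw [Finset.mem_erase] at hH
    rw [Finset.mem_filter, Finset.mem_erase]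
    exact ⟨⟨hH.1, mem_hovs.mpr (hF H hH.2)⟩, hFe H0 h0F H hH.2 (Ne.symm hH.1)⟩
  have heq := Finset.eq_of_subset_of_card_le hsub
    (by rw [card_even_meeting hα hL hH0, Finset.card_erase_of_mem h0F, hFc])
  rw [← heq, Finset.insert_erase h0F]

end Cfsg.Agent.Lib.Helper93.HovCount
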