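import Mathlib
import Cfsg.Prelude.Def_Spor_J3

/-!
# Packed arithmetic over the field with four elements, for the 9-dimensional module of `3·J₃`

A vector of `F9 → F` (`F` a field with four elements, `ω` a primitive cube root of unity) is coded by
a natural number `< 2 ^ 18`: the coordinate at `z` occupies the bits `2 * ix z` (coefficient of `1`)
and `2 * ix z + 1` (coefficient of `ω`).
-/

set_option autoImplicit false

namespace Cfsg.Agent.Lib.Helper93.J3

open Cfsg.Spor

/-- Multiplication by `ω` on packed vectors. -/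
def mulw (c : ℕ) : ℕ :=
  Nat.lor (Nat.xor (Nat.land c 0x2AAAA) (Nat.shiftLeft (Nat.land c 0x15555) 1))
    (Nat.shiftRight (Nat.land c 0x2AAAA) 1)

/-- Multiplication of a packed vector by the scalar coded by `d < 4`. -/
def smul (d c : ℕ) : ℕ :=
  Nat.xor (Nat.mul (Nat.land d 1) c) (Nat.mul (Nat.shiftRight d 1) (mulw c))

/-- The digit number `j` of a packed vector. -/
def digit (v j : ℕ) : ℕ := Nat.land (Nat.shiftRight v (2 * j)) 3

/-- A packed `9 × 9` matrix: its nine columns. -/
structure PM where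
  c0 : ℕ
  c1 : ℕ
  c2 : ℕ
  c3 : ℕ
  c4 : ℕ
  c5 : ℕ
  c6 : ℕ
  c7 : ℕ
  c8 : ℕ

/-- Column number `j`. -/
def PM.col (m : PM) : ℕ → ℕ
  | 0 => m.c0
  | 1 => m.c1
  | 2 => m.c2
  | 3 => m.c3
  | 4 => m.c4
  | 5 => m.c5
  | 6 => m.c6
  | 7 => m.c7
  | _ => m.c8

/-- Packed matrix times packed vector. -/
def PM.mv (m : PM) (v : ℕ) : ℕ :=
  Nat.xor (smul (digit v 0) m.c0) (Nat.xor (smul (digit v 1) m.c1) (Nat.xor (smul (digit v 2) m.c2)
    (Nat.xor (smul (digit v 3) m.c3) (Nat.xor (smul (digit v 4) m.c4) (Nat.xor (smul (digit v 5) m.c5)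
    (Nat.xor (smul (digit v 6) m.c6) (Nat.xor (smul (digit v 7) m.c7) (smul (digit v 8) m.c8))))))))

/-- A scalar multiple of `x` (the one whose lowest nonzero digit is `1`, but this is not used). -/
def norm (x : ℕ) : ℕ :=
  bif Nat.beq (Nat.land (Nat.xor x (x - 1) + 1) 0xAAAAA) 0 then mulw (mulw x)
  else bif Nat.beq (Nat.land x (Nat.xor x (x - 1) + 1)) 0 then x else mulw x

/-- The index of `z : F9`. -/
def ix (z : F9) : ℕ := 3 * z.1.val + z.2.val

theorem ix_lt (z : F9) : ix z < 9 := by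
  have h1 := ZMod.val_lt z.1
  have h2 := ZMod.val_lt z.2
  unfold ix; omega

theorem ix_injective : Function.Injective ix := by
  intro a b h
  have h1 := ZMod.val_lt a.1
  have h2 := ZMod.val_lt a.2
  have h3 := ZMod.val_lt b.1
  have h4 := ZMod.val_lt b.2
  unfold ix at h
  have e1 : a.1.val = b.1.val := by omega
  have e2 : a.2.val = b.2.val := by omega
  exact Prod.ext (ZMod.val_injective 3 e1) (ZMod.val_injective 3 e2)

theorem sum_F9 {M : Type*} [AddCommMonoid M] (f : F9 → M) :
    ∑ z, f z = f (0, 0) + f (0, 1) + f (0, 2) + f (1, 0) + f (1, 1) + f (1, 2) +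
      f (2, 0) + f (2, 1) + f (2, 2) := by
  rw [Fintype.sum_prod_type]
  have h3 : ∀ g : ZMod 3 → M, ∑ x, g x = g 0 + g 1 + g 2 := fun g => Fin.sum_univ_three g
  simp only [h3]
  abel

section field

variable {F : Type*} [Field F]

/-- `0` or `1`. -/
def bitv (b : Bool) : F := bif b then 1 else 0

/-- The scalar coded by the two lowest bits of `d`. -/
def dec2 (ω : F) (d : ℕ) : F := bitv (d.testBit 0) + ω * bitv (d.testBit 1)

/-- The vector coded by `c`. -/
def decV (ω : F) (c : ℕ) : F9 → F := fun z => dec2 ω (c >>> (2 * ix z))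

/-- The matrix coded by `m`. -/
def decM (ω : F) (m : PM) : Matrix F9 F9 F := fun w z => decV ω (m.col (ix z)) w

end field


theorem nat_xor_eq (a b : ℕ) : Nat.xor a b = a ^^^ b := rfl
theorem nat_land_eq (a b : ℕ) : Nat.land a b = a &&& b := rfl
theorem nat_lor_eq (a b : ℕ) : Nat.lor a b = a ||| b := rfl
theorem nat_shl_eq (a b : ℕ) : Nat.shiftLeft a b = a <<< b := rfl
theorem nat_shr_eq (a b : ℕ) : Nat.shiftRight a b = a >>> b := rfl

theorem testBit_H (k : ℕ) (hk : k < 20) : Nat.testBit 0x2AAAA k = decide (k % 2 = 1 ∧ k < 18) := by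
  interval_cases k <;> decide
theorem testBit_L (k : ℕ) (hk : k < 20) : Nat.testBit 0x15555 k = decide (k % 2 = 0 ∧ k < 18) := by
  interval_cases k <;> decide

theorem testBit_mulw (c t : ℕ) (ht : t < 18) :
    (mulw c).testBit t = if t % 2 = 0 then c.testBit (t + 1) else (c.testBit t ^^ c.testBit (t - 1)) := by
  simp only [mulw, nat_xor_eq, nat_land_eq, nat_lor_eq, nat_shl_eq, nat_shr_eq,
    Nat.testBit_or, Nat.testBit_xor, Nat.testBit_and, Nat.testBit_shiftLeft, Nat.testBit_shiftRight]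
  rw [testBit_H t (by omega), testBit_H (1 + t) (by omega)]
  by_cases h0 : t % 2 = 0
  · have h1 : ¬ (t % 2 = 1 ∧ t < 18) := by omega
    have h2 : ((1 + t) % 2 = 1 ∧ 1 + t < 18) := by omega
    by_cases ht1 : t ≥ 1
    · rw [testBit_L (t - 1) (by omega)]
      have h3 : ¬ ((t - 1) % 2 = 0 ∧ t - 1 < 18) := by omega
      have h2' : ((t + 1) % 2 = 1 ∧ t + 1 < 18) := by omega
      simp [h0, h1, h2, h2', h3, Nat.add_comm]
    · have : t = 0 := by omega
      subst this
      simp [h2]
  · have h1 : (t % 2 = 1 ∧ t < 18) := by omega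
    have h2 : ¬ ((1 + t) % 2 = 1 ∧ 1 + t < 18) := by omega
    have ht1 : t ≥ 1 := by omega
    rw [testBit_L (t - 1) (by omega)]
    have h3 : ((t - 1) % 2 = 0 ∧ t - 1 < 18) := by omega
    simp [h0, h1, h2, h3, ht1]


theorem mulw_lt (c : ℕ) : mulw c < 2 ^ 18 := by
  apply Nat.lt_pow_two_of_testBit
  intro i hi
  simp only [mulw, nat_xor_eq, nat_land_eq, nat_lor_eq, nat_shl_eq, nat_shr_eq,
    Nat.testBit_or, Nat.testBit_xor, Nat.testBit_and, Nat.testBit_shiftLeft, Nat.testBit_shiftRight]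
  have hH : ∀ k, 18 ≤ k → Nat.testBit 0x2AAAA k = false := fun k hk =>
    Nat.testBit_lt_two_pow (lt_of_lt_of_le (by norm_num) (Nat.pow_le_pow_right (by norm_num) hk))
  have hL : ∀ k, 17 ≤ k → Nat.testBit 0x15555 k = false := fun k hk =>
    Nat.testBit_lt_two_pow (lt_of_lt_of_le (by norm_num) (Nat.pow_le_pow_right (by norm_num) hk))
  rw [hH i hi, hH (1 + i) (by omega), hL (i - 1) (by omega)]
  simp

theorem digit_lt (v j : ℕ) : digit v j < 4 := by
  unfold digit
  rw [nat_land_eq]
  exact lt_of_le_of_lt Nat.and_le_right (by norm_num)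

theorem smul_zero' (c : ℕ) : smul 0 c = 0 := by
  simp [smul, show Nat.land 0 1 = 0 by decide, show Nat.shiftRight 0 1 = 0 by decide, nat_xor_eq]
theorem smul_one' (c : ℕ) : smul 1 c = c := by
  simp [smul, show Nat.land 1 1 = 1 by decide, show Nat.shiftRight 1 1 = 0 by decide, nat_xor_eq]
theorem smul_two' (c : ℕ) : smul 2 c = mulw c := by
  simp [smul, show Nat.land 2 1 = 0 by decide, show Nat.shiftRight 2 1 = 1 by decide, nat_xor_eq]
theorem smul_three' (c : ℕ) : smul 3 c = c ^^^ mulw c := by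
  simp [smul, show Nat.land 3 1 = 1 by decide, show Nat.shiftRight 3 1 = 1 by decide, nat_xor_eq]

section sem
variable {F : Type*} [Field F] [CharP F 2] (ω : F)

theorem two_eq_zero' : (1 : F) + 1 = 0 := by
  have := CharP.cast_eq_zero F 2
  norm_num at this
  rw [one_add_one_eq_two]; exact this

theorem bitv_xor (a b : Bool) : (bitv (a ^^ b) : F) = bitv a + bitv b := by
  cases a <;> cases b <;> simp [bitv, two_eq_zero']

theorem dec2_xor (a b : ℕ) : dec2 ω (a ^^^ b) = dec2 ω a + dec2 ω b := by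
  simp only [dec2, Nat.testBit_xor, bitv_xor]; ring

theorem decV_xor (a b : ℕ) : decV ω (a ^^^ b) = decV ω a + decV ω b := by
  funext z
  simp only [decV, Nat.shiftRight_xor_distrib, dec2_xor, Pi.add_apply]

omit [CharP F 2] in
theorem decV_zero : decV ω 0 = 0 := by
  funext z; simp [decV, dec2, bitv]

omit [CharP F 2] in
theorem decV_apply (c : ℕ) (z : F9) :
    decV ω c z = bitv (c.testBit (2 * ix z)) + ω * bitv (c.testBit (2 * ix z + 1)) := by
  simp only [decV, dec2, Nat.testBit_shiftRight, Nat.add_zero]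

variable (hω : ω ^ 2 + ω + 1 = 0)
include hω

theorem omega_sq : ω ^ 2 = 1 + ω := by
  have h2 : (1 : F) + 1 = 0 := two_eq_zero'
  have : ω ^ 2 = -(ω + 1) := by linear_combination hω
  rw [this]
  have h3 : -(ω + 1) = (1 + ω) - ((1 + 1) * (1 + ω)) := by ring
  rw [h3, h2]; ring

theorem decV_mulw (c : ℕ) : decV ω (mulw c) = ω • decV ω c := by
  funext z
  have hz := ix_lt z
  rw [Pi.smul_apply, decV_apply, decV_apply, testBit_mulw c (2 * ix z) (by omega),
    testBit_mulw c (2 * ix z + 1) (by omega)]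
  have e1 : (2 * ix z) % 2 = 0 := by omega
  have e2 : ¬ ((2 * ix z + 1) % 2 = 0) := by omega
  rw [if_pos e1, if_neg e2, bitv_xor, Nat.add_sub_cancel, smul_eq_mul]
  have := omega_sq ω hω
  linear_combination (-(bitv (c.testBit (2 * ix z + 1)))) * this

omit [CharP F 2] hω in
theorem dec2_lt_four (d : ℕ) (hd : d < 4) : dec2 ω d = 
    if d = 0 then 0 else if d = 1 then 1 else if d = 2 then ω else 1 + ω := by
  interval_cases d <;> simp [dec2, bitv, Nat.testBit]

theorem decV_smul (d c : ℕ) (hd : d < 4) : decV ω (smul d c) = dec2 ω d • decV ω c := by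
  rw [dec2_lt_four ω d hd]
  interval_cases d
  · simp [smul_zero', decV_zero]
  · simp [smul_one']
  · simp [smul_two', decV_mulw ω hω]
  · simp [smul_three', decV_xor, decV_mulw ω hω, add_smul]

omit [CharP F 2] hω in
theorem dec2_and_three (x : ℕ) : dec2 ω (x &&& 3) = dec2 ω x := by
  simp [dec2, Nat.testBit_and, show Nat.testBit 3 0 = true by decide, show Nat.testBit 3 1 = true by decide]

omit [CharP F 2] hω in
theorem dec2_digit (v : ℕ) (z : F9) : dec2 ω (digit v (ix z)) = decV ω v z := by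
  unfold digit decV
  rw [nat_land_eq, nat_shr_eq, dec2_and_three]

theorem decV_mv (m : PM) (v : ℕ) : decV ω (m.mv v) = (decM ω m).mulVec (decV ω v) := by
  funext w
  simp only [PM.mv, nat_xor_eq, decV_xor, decV_smul ω hω _ _ (digit_lt _ _), Pi.add_apply,
    Pi.smul_apply, smul_eq_mul, Matrix.mulVec, dotProduct, sum_F9, decM]
  rw [← dec2_digit ω v (0, 0), ← dec2_digit ω v (0, 1), ← dec2_digit ω v (0, 2),
    ← dec2_digit ω v (1, 0), ← dec2_digit ω v (1, 1), ← dec2_digit ω v (1, 2),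
    ← dec2_digit ω v (2, 0), ← dec2_digit ω v (2, 1), ← dec2_digit ω v (2, 2)]
  have i0 : ix (0, 0) = 0 := by decide
  have i1 : ix (0, 1) = 1 := by decide
  have i2 : ix (0, 2) = 2 := by decide
  have i3 : ix (1, 0) = 3 := by decide
  have i4 : ix (1, 1) = 4 := by decide
  have i5 : ix (1, 2) = 5 := by decide
  have i6 : ix (2, 0) = 6 := by decide
  have i7 : ix (2, 1) = 7 := by decide
  have i8 : ix (2, 2) = 8 := by decide
  simp only [i0, i1, i2, i3, i4, i5, i6, i7, i8, PM.col]
  ring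

end sem
end Cfsg.Agent.Lib.Helper93.J3
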