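import Mathlib

/-! # Element-wise facts on a group from a multiplication table on indices -/

set_option autoImplicit false

namespace Cfsg.Agent.Lib.Helper93.J3

theorem es_hyps_of_index {A : Type*} [Group A] (idx : A → ℕ) (m : ℕ → ℕ → ℕ) (i1 iz : ℕ)
    (hlt : ∀ x, idx x < 32) (hinj : Function.Injective idx)
    (hmul : ∀ x y, idx (x * y) = m (idx x) (idx y)) (hone : idx 1 = i1)
    (hsurj : ∀ i, i < 32 → ∃ x, idx x = i) (hiz : iz < 32) (hne : iz ≠ i1)
    (c_z2 : m iz iz = i1) (c_zc : ∀ i, i < 32 → m i iz = m iz i)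
    (c_cen : ∀ i, i < 32 → i = i1 ∨ i = iz ∨ ∃ k, k < 32 ∧ m i k ≠ m k i)
    (c_comm : ∀ i k, i < 32 → k < 32 → m i k = m k i ∨ m i k = m iz (m k i))
    (c_nc : ∃ i k, i < 32 ∧ k < 32 ∧ m i k ≠ m k i)
    (c_sq : ∀ i, i < 32 → m i i = i1 ∨ m i i = iz)
    (c_tri : ∀ a b c, a < 32 → b < 32 → c < 32 → m a a = i1 → m b b = i1 → m c c = i1 →
      m a b = m b a → m a c = m c a → m b c = m c b →
      a = i1 ∨ b = i1 ∨ a = b ∨ c = i1 ∨ c = a ∨ c = b ∨ c = m a b) :
    Nat.card A = 32 ∧ ∃ z : A, z ≠ 1 ∧ z * z = 1 ∧ (∀ x : A, x * z = z * x) ∧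
      (∀ x : A, (∀ y : A, x * y = y * x) → x = 1 ∨ x = z) ∧
      (∀ x y : A, x * y = y * x ∨ x * y = z * (y * x)) ∧ (∃ x y : A, x * y ≠ y * x) ∧
      (∀ x : A, x * x = 1 ∨ x * x = z) ∧
      (∀ a b c : A, a * a = 1 → b * b = 1 → c * c = 1 → a * b = b * a → a * c = c * a →
        b * c = c * b → a = 1 ∨ b = 1 ∨ a = b ∨ c = 1 ∨ c = a ∨ c = b ∨ c = a * b) := by
  have hcard : Nat.card A = 32 := by
    have hb : Function.Bijective (fun x : A => (⟨idx x, hlt x⟩ : Fin 32)) := by
      constructor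
      · intro x y h
        exact hinj (Fin.mk.inj_iff.mp h)
      · rintro ⟨i, hi⟩
        obtain ⟨x, hx⟩ := hsurj i hi
        exact ⟨x, Fin.ext hx⟩
    rw [Nat.card_eq_of_bijective _ hb, Nat.card_eq_fintype_card, Fintype.card_fin]
  refine ⟨hcard, ?_⟩
  obtain ⟨z, hz⟩ := hsurj iz hiz
  have heq : ∀ x y : A, idx x = idx y → x = y := fun x y h => hinj h
  refine ⟨z, ?_, ?_, ?_, ?_, ?_, ?_, ?_, ?_⟩
  · intro h
    apply hne
    rw [← hz, h, hone]
  · apply heq
    rw [hmul, hz, c_z2, hone]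
  · intro x
    apply heq
    rw [hmul, hmul, hz, c_zc _ (hlt x)]
  · intro x hx
    rcases c_cen (idx x) (hlt x) with h | h | ⟨k, hk, hne'⟩
    · left; apply heq; rw [h, hone]
    · right; apply heq; rw [h, hz]
    · exfalso
      obtain ⟨y, hy⟩ := hsurj k hk
      apply hne'
      rw [← hy, ← hmul, ← hmul, hx y]
  · intro x y
    rcases c_comm (idx x) (idx y) (hlt x) (hlt y) with h | h
    · left; apply heq; rw [hmul, hmul, h]
    · right; apply heq; rw [hmul, hmul, hmul, hz, h]
  · obtain ⟨i, k, hi, hk, hne'⟩ := c_nc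
    obtain ⟨x, hx⟩ := hsurj i hi
    obtain ⟨y, hy⟩ := hsurj k hk
    refine ⟨x, y, ?_⟩
    intro h
    apply hne'
    rw [← hx, ← hy, ← hmul, ← hmul, h]
  · intro x
    rcases c_sq (idx x) (hlt x) with h | h
    · left; apply heq; rw [hmul, h, hone]
    · right; apply heq; rw [hmul, h, hz]
  · intro a b c ha hb hc hab hac hbc
    have ha' : m (idx a) (idx a) = i1 := by rw [← hmul, ha, hone]
    have hb' : m (idx b) (idx b) = i1 := by rw [← hmul, hb, hone]
    have hc' : m (idx c) (idx c) = i1 := by rw [← hmul, hc, hone]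
    have hab' : m (idx a) (idx b) = m (idx b) (idx a) := by rw [← hmul, ← hmul, hab]
    have hac' : m (idx a) (idx c) = m (idx c) (idx a) := by rw [← hmul, ← hmul, hac]
    have hbc' : m (idx b) (idx c) = m (idx c) (idx b) := by rw [← hmul, ← hmul, hbc]
    rcases c_tri _ _ _ (hlt a) (hlt b) (hlt c) ha' hb' hc' hab' hac' hbc' with
      h | h | h | h | h | h | h
    · left; apply heq; rw [h, hone]
    · right; left; apply heq; rw [h, hone]
    · right; right; left; exact heq _ _ h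
    · right; right; right; left; apply heq; rw [h, hone]
    · right; right; right; right; left; exact heq _ _ h
    · right; right; right; right; right; left; exact heq _ _ h
    · right; right; right; right; right; right; apply heq; rw [h, hmul]

end Cfsg.Agent.Lib.Helper93.J3
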