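import Cfsg.Agent.Lib.Helper93.J3CenData
import Cfsg.Agent.Lib.Helper93.J3Range

/-! # Kernel evaluation of the certificates for the subgroup of order 32 -/

set_option autoImplicit false

namespace Cfsg.Agent.Lib.Helper93.J3

set_option maxRecDepth 100000 in
theorem qMul_chk : allRange 0 1024 chkQMul = true := by decide +kernel

set_option maxRecDepth 100000 in
theorem q_chk : allRange 0 32 chkQ = true := by decide +kernel

theorem qMisc_chk : chkQMisc = true := by decide +kernel

set_option maxRecDepth 100000 in
theorem qI_chk : allRange 0 32 chkQI = true := by decide +kernel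

set_option maxRecDepth 100000 in
theorem qComm_chk : allRange 0 1024 chkQComm = true := by decide +kernel

set_option maxRecDepth 100000 in
theorem qTri_chk_0 : allRange (0 + 0 * 8192) 8192 chkQTri = true := by decide +kernel
set_option maxRecDepth 100000 in
theorem qTri_chk_1 : allRange (0 + 1 * 8192) 8192 chkQTri = true := by decide +kernel
set_option maxRecDepth 100000 in
theorem qTri_chk_2 : allRange (0 + 2 * 8192) 8192 chkQTri = true := by decide +kernel
set_option maxRecDepth 100000 in
theorem qTri_chk_3 : allRange (0 + 3 * 8192) 8192 chkQTri = true := by decide +kernel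

theorem qTri_chk : ∀ n, n < 32768 → chkQTri n = true := by
  have h := allRange_blocks chkQTri 0 8192 4 (by
    intro j hj
    interval_cases j
    · exact qTri_chk_0
    · exact qTri_chk_1
    · exact qTri_chk_2
    · exact qTri_chk_3)
  intro n hn
  exact h n (Nat.zero_le n) (by omega)

theorem qNc_chk : (Nat.blt qNc1 32 && Nat.blt qNc2 32 &&
    !(Nat.beq (qMul qNc1 qNc2) (qMul qNc2 qNc1))) = true := by decide +kernel

end Cfsg.Agent.Lib.Helper93.J3
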