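import Cfsg.Agent.Lib.Helper93.J3OutData

/-! # Data: the normal subgroup of order 32 of the centraliser of the involution `t` of `3·J₃`,
and a pair of elements of orders 3 and 5 with product of order 2 normalising it -/

set_option autoImplicit false

namespace Cfsg.Agent.Lib.Helper93.J3

/-- The 32 matrices, sorted, side by side. -/
def qKRaw : ℕ := 0xd30c9f3ce88bff3df231c3a32bf8e310b2d0fbe074c2378e2f23fecb68cc70bccefb3cc43cf42bac1d3045d345487f71d5131c1531bd4d31071d0555070d0021800102cd30018200001b020840c34000019e3c9820e2e2ae09322db38a8eb8a210a290fbe0668a36082cfcaa8248ca68b3b3ab2c8438e42bac19614582051d2a609112591464e949210619055506090031c00103892001c300001e030c408240000170c024800001e0c7008240010380824030c4000058200d3000006c218030d00040b030d00821000015d38d30cba151915630512e9506c3010d350aeb05649148217ca454d74434c5f68150404145415541551c9104e53d1d25b2092395f07820109250fbe0541005100000541140105000405010500411000014140045000405144005040000540411010500000500001000010000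1000010000100001000010000131c3b3df28cafdf3ced30ca22ff2cb4238c4fbe04c70bcb68f33be78e2f4c23c8ff8f3d0cf312bac131c171d514c6f5d345d304521fd1c74134c455504b6ce824c8a8eb6083a78f22e2aca2908a213ef8129a2e09233b3a9820b9a28cfcaa38e432c84aeb0496458244464e96081658511d2a461904921155411d72c31e356849514b1418d4a5230c431c44aeb0470d15c7168f51086446585a7c451444104415541196142191a7c4571c51c3468f511044114445550460b25863bc553045c8554ef544e184420843ef81155381172f544d618e182cbc553208421844fbe0450635452d4a520c78c75cb5684b1c4430c42bac10d31535d1f6815208559247ca4514541040455504248e496c95f0744139547253d1c925082013ef810512d1563a541930cb5d38e854634d430c04aeb040100010000040100010000040000004000400001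
/-- The matrix number `i`. -/
def qK (i : ℕ) : PM := unpackM (Nat.shiftRight qKRaw (162 * i))
/-- The multiplication table, side by side. -/
def qMulRaw : ℕ := 0x929c28356534c69bed9f8e7c0ee901adb872628f6c981541e9256e23e97eec77907f8530e969a30e5be4373207450b70e55dd7e3ed8276e2482c54cd2a4f210470045cd7e2fc31113ad34acb36beffd683565929c2998e1b7dfb07751cfa8925f03af10c541e96c981a92c51f9dac83fd8ef0299d173538b732075be43a20564f5b9f6c1afc4d7c06a5e126a104702a4f28816a672d89d686223cdebfeecef579d6913110084bddfdb971046549d7956d9a6bdd8311009d69194359ddf162a4e208ddd6fdfe5317c1d8ae3dc4bd7a0f51135a70c8c4e2cdb7b2fe40148acd096eacf590720f424f95363f28af4f07b63b1c2fb8d2cdfdab818b3e22b8a132ef4a2ad03a2deb38ffbbcb5c883401262d4f734341cc553953162d567b9b7c702310211deb3ff7487414c9a4eb2ffbbcdeb38bdab49ca307b9ac5a928398a4188208e7c60775311515e336f929d06ac644e2f40d8ffec764c83f50a786a2f4e6c98a83ef3120f828eded7e28f6c1419e7c22b2d5be4e640b8bd426b245d077538e7c628a84c3fec83572538f50f2c84dc7bc83f5ec7644871343bcb541ed932c62d07c11efaf6c14d7e2838cd8ab7aa7320b7c85cb1133b84b94627ea70da5b81fc86a93dc43b165b675b17aa04096ea48acdee5f25d068a9b049f37003bcc8ebe7a9b1d24f9953760f0e87096e9159f19697f83988b8d2cb1c2ffed4e94c46c509c457abd400df4725c509fe22bb63fba00a65b8d363855e746595c1a63dc4b1d8aef6a4c6d42446274e180ffab30df62924f99a9b1d6abf1d1d0348ac12dd80879db92df4e22bbc509f7b33e894c2b1c371a5ba5821d74953a70da4627e72e3bea4811d8a7b8a1f7e540636557b9b762d56e61272c640ffbbbd66a3a0a6141890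
/-- The index of the product of the matrices number `i` and `k`. -/
def qMul (i k : ℕ) : ℕ := Nat.land (Nat.shiftRight qMulRaw (5 * (32 * i + k))) 31
/-- The index of the identity. -/
def qI1 : ℕ := 16
/-- The index of the involution `t`. -/
def qIz : ℕ := 18
/-- A pair of indices of non-commuting matrices. -/
def qNc1 : ℕ := 0
def qNc2 : ℕ := 1
/-- The element of order 3, its inverse, the element of order 5, its inverse. -/
def cA : PM := ⟨158081, 79048, 41632, 143737, 248883, 225734, 135673, 204659, 19718⟩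
def cA2 : PM := ⟨237121, 79052, 41648, 26747, 103537, 164359, 22715, 67121, 47815⟩
def cB : PM := ⟨141501, 6779, 55623, 235658, 45868, 51442, 66250, 212240, 126030⟩
def cB4 : PM := ⟨212201, 144094, 19210, 75991, 29212, 167167, 229975, 134112, 102531⟩
/-- Conjugation by the two elements on the 32 matrices. -/
def qCARaw : ℕ := 0xcfb9beeb1fbdab1448d049de11b1a02d1c412d53
def qCBRaw : ℕ := 0x517eb68b6e99a3624a90e7838d2477cd580ebce8
def qCA (i : ℕ) : ℕ := Nat.land (Nat.shiftRight qCARaw (5 * i)) 31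
def qCB (i : ℕ) : ℕ := Nat.land (Nat.shiftRight qCBRaw (5 * i)) 31
/-- Factorisations (code of the first column, index of the stabiliser part). -/
def qFcRaw : ℕ := 0xfbe06bac1555040001fbe06bac1555040001000040001aeb055541fbe040001000040001fbe06bac155507ef81aeb055541aeb05554155507ef81fbe06bac155507ef81aeb040001
def qFjRaw : ℕ := 0x86142f2e49724b9e5cda7cf3e7983c94a7f308f9ffc60a11f074afc57ca4a548ea444c1e6e43cc83a0fde6f03f18c1550ea7a3cc
def qFc (i : ℕ) : ℕ := Nat.land (Nat.shiftRight qFcRaw (18 * i)) 0x3FFFF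
def qFj (i : ℕ) : ℕ := Nat.land (Nat.shiftRight qFjRaw (13 * i)) 0x1FFF
def cAc : ℕ := 158081
def cAj : ℕ := 6208
def cBc : ℕ := 141501
def cBj : ℕ := 4547

/-- Check of the multiplication table at the pair number `n = 32 * i + k`. -/
def chkQMul (n : ℕ) : Bool :=
  pmBeq (mmul (qK (Nat.div n 32)) (qK (Nat.mod n 32))) (qK (qMul (Nat.div n 32) (Nat.mod n 32)))

/-- Checks at the matrix number `i`: order, factorisation, scalars, conjugation. -/
def chkQ (i : ℕ) : Bool :=
  (Nat.beq (i + 1) 32 || Nat.blt (pmPack (qK i)) (pmPack (qK (i + 1)))) &&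
  (mem1 (qFc i) && Nat.blt (qFj i) schD.nH && pmBeq (qK i) (mmul (schD.T (qFc i)) (schD.Hs (qFj i)))) &&
  (!(isScalarB (qK i)) || Nat.beq i qI1) &&
  pmBeq (mmul (mmul cA (qK i)) cA2) (qK (qCA i)) &&
  pmBeq (mmul (mmul cB (qK i)) cB4) (qK (qCB i))

/-- Miscellaneous checks. -/
def chkQMisc : Bool :=
  pmBeq (qK qI1) pmI && pmBeq (qK qIz) oT &&
  pmBeq (mmul cA cA) cA2 && pmBeq (mmul cA cA2) pmI &&
  pmBeq (mmul (mmul cB cB) (mmul cB cB)) cB4 && pmBeq (mmul cB cB4) pmI &&
  pmBeq (mmul (mmul cA cB) (mmul cA cB)) pmI && !(pmBeq cA pmI) &&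
  pmBeq (mmul cA oT) (mmul oT cA) && pmBeq (mmul cB oT) (mmul oT cB) &&
  (mem1 cAc && Nat.blt cAj schD.nH && pmBeq cA (mmul (schD.T cAc) (schD.Hs cAj))) &&
  (mem1 cBc && Nat.blt cBj schD.nH && pmBeq cB (mmul (schD.T cBc) (schD.Hs cBj)))

/-- Some index below `n` passes the test. -/
def anyBelow : ℕ → (ℕ → Bool) → Bool
  | 0, _ => false
  | n + 1, f => f n || anyBelow n f

/-- Index checks at `i`: range, fourth power, centre, squares, the central involution. -/
def chkQI (i : ℕ) : Bool :=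
  Nat.beq (qMul (qMul i i) (qMul i i)) qI1 &&
  (Nat.beq i qI1 || Nat.beq i qIz || anyBelow 32 (fun k => !(Nat.beq (qMul i k) (qMul k i)))) &&
  (Nat.beq (qMul i i) qI1 || Nat.beq (qMul i i) qIz) &&
  Nat.beq (qMul i qIz) (qMul qIz i) && Nat.beq (qMul i qI1) i && Nat.beq (qMul qI1 i) i

/-- Index check at the pair number `n = 32 * i + k`: commutators. -/
def chkQComm (n : ℕ) : Bool :=
  Nat.beq (qMul (Nat.div n 32) (Nat.mod n 32)) (qMul (Nat.mod n 32) (Nat.div n 32)) ||
    Nat.beq (qMul (Nat.div n 32) (Nat.mod n 32)) (qMul qIz (qMul (Nat.mod n 32) (Nat.div n 32)))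

/-- Index check at the triple number `n = 1024 * a + 32 * b + c`. -/
def chkQTri (n : ℕ) : Bool :=
  !(Nat.beq (qMul (Nat.div n 1024) (Nat.div n 1024)) qI1 &&
    Nat.beq (qMul (Nat.mod (Nat.div n 32) 32) (Nat.mod (Nat.div n 32) 32)) qI1 &&
    Nat.beq (qMul (Nat.mod n 32) (Nat.mod n 32)) qI1 &&
    Nat.beq (qMul (Nat.div n 1024) (Nat.mod (Nat.div n 32) 32))
      (qMul (Nat.mod (Nat.div n 32) 32) (Nat.div n 1024)) &&
    Nat.beq (qMul (Nat.div n 1024) (Nat.mod n 32)) (qMul (Nat.mod n 32) (Nat.div n 1024)) &&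
    Nat.beq (qMul (Nat.mod (Nat.div n 32) 32) (Nat.mod n 32))
      (qMul (Nat.mod n 32) (Nat.mod (Nat.div n 32) 32))) ||
  Nat.beq (Nat.div n 1024) qI1 || Nat.beq (Nat.mod (Nat.div n 32) 32) qI1 ||
  Nat.beq (Nat.div n 1024) (Nat.mod (Nat.div n 32) 32) || Nat.beq (Nat.mod n 32) qI1 ||
  Nat.beq (Nat.mod n 32) (Nat.div n 1024) || Nat.beq (Nat.mod n 32) (Nat.mod (Nat.div n 32) 32) ||
  Nat.beq (Nat.mod n 32) (qMul (Nat.div n 1024) (Nat.mod (Nat.div n 32) 32))

end Cfsg.Agent.Lib.Helper93.J3
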