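import Cfsg.Agent.Lib.Helper93.J3ClsSem

/-! # The class of involutions of `J₃` has 26163 elements and the centraliser has order 1920 -/

set_option autoImplicit false

namespace Cfsg.Agent.Lib.Helper93.J3

open Cfsg.Spor Matrix

section sem
variable {F : Type*} [Field F] [CharP F 2] (ω : F) (hω : ω ^ 2 + ω + 1 = 0)
include hω

/-- The involution of `J₃`. -/
noncomputable def tJ : J3 F ω := QuotientGroup.mk' (Subgroup.center ↥(threeJ3 F ω)) (tHat ω hω)

theorem tHat_ne_one [Fintype F] (hF : Fintype.card F = 4) : tHat ω hω ≠ 1 := by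
  intro h
  apply tHat_not_center ω hω hF
  rw [h]
  exact one_mem _

theorem center_cube [Fintype F] (hF : Fintype.card F = 4) :
    ∀ z ∈ Subgroup.center ↥(threeJ3 F ω), z ^ 3 = 1 := by
  intro z hz
  have hcard3 := center_card ω hω hF
  have h := pow_card_eq_one' (G := ↥(Subgroup.center ↥(threeJ3 F ω))) (x := ⟨z, hz⟩)
  rw [hcard3] at h
  exact congrArg Subtype.val h

/-- Two elements of square 1 with the same image in `J₃` are equal. -/
theorem inv_lift_unique [Fintype F] (hF : Fintype.card F = 4) (x y : ↥(threeJ3 F ω))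
    (hx : x ^ 2 = 1) (hy : y ^ 2 = 1)
    (h : QuotientGroup.mk' (Subgroup.center ↥(threeJ3 F ω)) x =
      QuotientGroup.mk' (Subgroup.center ↥(threeJ3 F ω)) y) : x = y := by
  have hz : x⁻¹ * y ∈ Subgroup.center ↥(threeJ3 F ω) := QuotientGroup.eq.mp h
  set z := x⁻¹ * y with hzdef
  have hy' : y = x * z := by rw [hzdef]; group
  have hzc := Subgroup.mem_center_iff.mp hz
  have hz2 : z ^ 2 = 1 := by
    have : (x * z) ^ 2 = x ^ 2 * z ^ 2 := by
      rw [sq, sq, sq]
      calc x * z * (x * z) = x * (z * x) * z := by group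
        _ = x * (x * z) * z := by rw [hzc x]
        _ = x * x * (z * z) := by group
    rw [← hy', hy, hx, one_mul] at this
    exact this.symm
  have hz3 := center_cube ω hω hF z hz
  have hz1 : z = 1 := by
    have : z ^ 3 = z ^ 2 * z := pow_succ z 2
    rw [hz3, hz2, one_mul] at this
    exact this.symm
  rw [hy', hz1, mul_one]

theorem card_class [Fintype F] (hF : Fintype.card F = 4) :
    Nat.card {v : J3 F ω // IsConj (tJ ω hω) v} = 26163 := by
  classical
  have hfin : Finite F := Finite.of_fintype F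
  let π := QuotientGroup.mk' (Subgroup.center ↥(threeJ3 F ω))
  have hπs : Function.Surjective π := QuotientGroup.mk'_surjective _
  -- the involutions of the table as elements
  have hex : ∀ j : Fin 26163, ∃ x : ↥(threeJ3 F ω),
      (∃ g : ↥(threeJ3 F ω), x = g * tHat ω hω * g⁻¹) ∧ mat ω x = Xm ω j := by
    intro j
    obtain ⟨g, hg⟩ := exists_conj ω hω j j.2
    exact ⟨_, ⟨g, rfl⟩, hg⟩
  choose xh hxh1 hxh2 using hex
  have hsq : ∀ j, xh j ^ 2 = 1 := by
    intro j
    obtain ⟨g, hg⟩ := hxh1 j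
    rw [hg, conj_pow, sq, tHat_sq, mul_one, mul_inv_cancel]
  let f : Fin 26163 → J3 F ω := fun j => π (xh j)
  have hf : Function.Injective f := by
    intro j j' h
    have := inv_lift_unique ω hω hF _ _ (hsq j) (hsq j') h
    have h2 : Xm ω (j : ℕ) = Xm ω (j' : ℕ) := by rw [← hxh2, ← hxh2, this]
    exact Fin.ext (Xm_injective ω hω _ _ j.2 j'.2 h2)
  have hrange : ∀ v : J3 F ω, IsConj (tJ ω hω) v ↔ v ∈ Set.range f := by
    intro v
    constructor
    · intro hv
      obtain ⟨c, hc⟩ := isConj_iff.mp hv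
      obtain ⟨g, rfl⟩ := hπs c
      set x := g * tHat ω hω * g⁻¹ with hx
      have hx2 : x ^ 2 = 1 := by
        rw [hx, conj_pow, sq, tHat_sq, mul_one, mul_inv_cancel]
      have hx1 : x ≠ 1 := by
        intro h
        apply tHat_ne_one ω hω hF
        have : tHat ω hω = g⁻¹ * x * g := by rw [hx]; group
        rw [this, h]; group
      obtain ⟨j, hj, ej⟩ := (mem_invSet_iff ω hω _).mp (involution_mem ω hω hF x hx2 hx1)
      refine ⟨⟨j, hj⟩, ?_⟩
      have : xh ⟨j, hj⟩ = x := mat_injective ω (by rw [hxh2, ej])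
      show π (xh ⟨j, hj⟩) = v
      rw [this, ← hc, hx, map_mul, map_mul, map_inv]
      rfl
    · rintro ⟨j, rfl⟩
      obtain ⟨g, hg⟩ := hxh1 j
      rw [isConj_iff]
      refine ⟨π g, ?_⟩
      show π g * π (tHat ω hω) * (π g)⁻¹ = π (xh j)
      rw [hg, map_mul, map_mul, map_inv]
  rw [Nat.card_congr (Equiv.subtypeEquivRight hrange), Nat.card_range_of_injective hf,
    Nat.card_eq_fintype_card, Fintype.card_fin]

theorem card_centralizer_tJ [Fintype F] (hF : Fintype.card F = 4) :
    Nat.card ↥(Subgroup.centralizer ({tJ ω hω} : Set (J3 F ω))) = 1920 := by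
  have hcard := card_J3 hF ω hω
  have hfinJ : Finite (J3 F ω) := Nat.finite_of_card_ne_zero (by rw [hcard]; norm_num)
  have h := Cfsg.Agent.Lib.Helper4.card_isConj_mul_card_centralizer (tJ ω hω)
  rw [card_class ω hω hF, hcard] at h
  omega

end sem

end Cfsg.Agent.Lib.Helper93.J3
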