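import Cfsg.Agent.Lib.Helper93.J3CenChk
import Cfsg.Agent.Lib.Helper93.J3CenAbs
import Cfsg.Agent.Lib.Helper93.J3ClsCount

/-! # The normal subgroup of order 32 of the centraliser of `t` in `3·J₃`, with its index map -/

set_option autoImplicit false

namespace Cfsg.Agent.Lib.Helper93.J3

open Cfsg.Spor Matrix

theorem anyBelow_spec (n : ℕ) (f : ℕ → Bool) (h : anyBelow n f = true) : ∃ k, k < n ∧ f k = true := by
  induction n with
  | zero => exact absurd h (by simp [anyBelow])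
  | succ n ih =>
    rw [anyBelow, Bool.or_eq_true] at h
    rcases h with h | h
    · exact ⟨n, Nat.lt_succ_self n, h⟩
    · obtain ⟨k, hk, hf⟩ := ih h
      exact ⟨k, Nat.lt_succ_of_lt hk, hf⟩

theorem qMul_lt (i k : ℕ) : qMul i k < 32 := by
  unfold qMul
  rw [nat_land_eq]
  exact lt_of_le_of_lt Nat.and_le_right (by norm_num)

theorem qMul_fact (i k : ℕ) (hi : i < 32) (hk : k < 32) : mmul (qK i) (qK k) = qK (qMul i k) := by
  have h := allRange_spec 0 1024 chkQMul qMul_chk (32 * i + k) (Nat.zero_le _) (by omega)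
  unfold chkQMul at h
  have e1 : Nat.div (32 * i + k) 32 = i := by
    show (32 * i + k) / 32 = i
    omega
  have e2 : Nat.mod (32 * i + k) 32 = k := by
    show (32 * i + k) % 32 = k
    omega
  rw [e1, e2] at h
  exact pmBeq_eq h

theorem q_facts (i : ℕ) (hi : i < 32) :
    (i + 1 < 32 → pmPack (qK i) < pmPack (qK (i + 1))) ∧
    (mem1 (qFc i) = true ∧ qFj i < schD.nH ∧ qK i = mmul (schD.T (qFc i)) (schD.Hs (qFj i))) ∧
    (isScalarB (qK i) = true → i = qI1) ∧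
    mmul (mmul cA (qK i)) cA2 = qK (qCA i) ∧ mmul (mmul cB (qK i)) cB4 = qK (qCB i) := by
  have h := allRange_spec 0 32 chkQ q_chk i (Nat.zero_le _) (by omega)
  unfold chkQ at h
  simp only [Bool.and_eq_true, Bool.or_eq_true, Bool.not_eq_true'] at h
  obtain ⟨⟨⟨⟨h1, ⟨h2, h3⟩, h4⟩, h5⟩, h6⟩, h7⟩ := h
  refine ⟨?_, ⟨h2, Nat.blt_eq.mp h3, pmBeq_eq h4⟩, ?_, pmBeq_eq h6, pmBeq_eq h7⟩
  · intro hi1
    rcases h1 with h1 | h1
    · have := Nat.eq_of_beq_eq_true h1; omega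
    · exact Nat.blt_eq.mp h1
  · intro hs
    rcases h5 with h5 | h5
    · rw [hs] at h5; exact absurd h5 (by decide)
    · exact Nat.eq_of_beq_eq_true h5

theorem qK_strict (i j : ℕ) (hij : i < j) (hj : j < 32) : pmPack (qK i) < pmPack (qK j) := by
  induction j with
  | zero => omega
  | succ j ih =>
    have hstep : pmPack (qK j) < pmPack (qK (j + 1)) := (q_facts j (by omega)).1 hj
    rcases Nat.lt_succ_iff_lt_or_eq.mp hij with h | h
    · exact lt_trans (ih h (by omega)) hstep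
    · rw [h]; exact hstep

theorem qK_inj (i j : ℕ) (hi : i < 32) (hj : j < 32) (h : qK i = qK j) : i = j := by
  rcases Nat.lt_trichotomy i j with h1 | h1 | h1
  · have := qK_strict i j h1 hj
    rw [h] at this; exact absurd this (lt_irrefl _)
  · exact h1
  · have := qK_strict j i h1 hi
    rw [h] at this; exact absurd this (lt_irrefl _)

theorem qK_small (i : ℕ) : (qK i).Small := unpackM_small _

theorem qI_facts (i : ℕ) (hi : i < 32) :
    qMul (qMul i i) (qMul i i) = qI1 ∧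
    (i = qI1 ∨ i = qIz ∨ ∃ k, k < 32 ∧ qMul i k ≠ qMul k i) ∧
    (qMul i i = qI1 ∨ qMul i i = qIz) ∧ qMul i qIz = qMul qIz i ∧ qMul i qI1 = i ∧
    qMul qI1 i = i := by
  have h := allRange_spec 0 32 chkQI qI_chk i (Nat.zero_le _) (by omega)
  unfold chkQI at h
  simp only [Bool.and_eq_true, Bool.or_eq_true] at h
  obtain ⟨⟨⟨⟨⟨h1, h2⟩, h3⟩, h4⟩, h5⟩, h6⟩ := h
  refine ⟨Nat.eq_of_beq_eq_true h1, ?_, ?_, Nat.eq_of_beq_eq_true h4, Nat.eq_of_beq_eq_true h5,
    Nat.eq_of_beq_eq_true h6⟩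
  · rcases h2 with (h2 | h2) | h2
    · exact Or.inl (Nat.eq_of_beq_eq_true h2)
    · exact Or.inr (Or.inl (Nat.eq_of_beq_eq_true h2))
    · obtain ⟨k, hk, hf⟩ := anyBelow_spec 32 _ h2
      refine Or.inr (Or.inr ⟨k, hk, ?_⟩)
      intro he
      rw [he] at hf
      have : Nat.beq (qMul k i) (qMul k i) = true := Nat.beq_refl _
      rw [this] at hf
      exact absurd hf (by decide)
  · rcases h3 with h3 | h3
    · exact Or.inl (Nat.eq_of_beq_eq_true h3)
    · exact Or.inr (Nat.eq_of_beq_eq_true h3)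

theorem qComm_fact (i k : ℕ) (hi : i < 32) (hk : k < 32) :
    qMul i k = qMul k i ∨ qMul i k = qMul qIz (qMul k i) := by
  have h := allRange_spec 0 1024 chkQComm qComm_chk (32 * i + k) (Nat.zero_le _) (by omega)
  unfold chkQComm at h
  have e1 : Nat.div (32 * i + k) 32 = i := by
    show (32 * i + k) / 32 = i
    omega
  have e2 : Nat.mod (32 * i + k) 32 = k := by
    show (32 * i + k) % 32 = k
    omega
  rw [e1, e2, Bool.or_eq_true] at h
  rcases h with h | h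
  · exact Or.inl (Nat.eq_of_beq_eq_true h)
  · exact Or.inr (Nat.eq_of_beq_eq_true h)

theorem qTri_fact (a b c : ℕ) (ha : a < 32) (hb : b < 32) (hc : c < 32)
    (h1 : qMul a a = qI1) (h2 : qMul b b = qI1) (h3 : qMul c c = qI1)
    (h4 : qMul a b = qMul b a) (h5 : qMul a c = qMul c a) (h6 : qMul b c = qMul c b) :
    a = qI1 ∨ b = qI1 ∨ a = b ∨ c = qI1 ∨ c = a ∨ c = b ∨ c = qMul a b := by
  have h := qTri_chk (1024 * a + 32 * b + c) (by omega)
  unfold chkQTri at h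
  have e1 : Nat.div (1024 * a + 32 * b + c) 1024 = a := by
    show (1024 * a + 32 * b + c) / 1024 = a
    omega
  have e2 : Nat.mod (Nat.div (1024 * a + 32 * b + c) 32) 32 = b := by
    show (1024 * a + 32 * b + c) / 32 % 32 = b
    omega
  have e3 : Nat.mod (1024 * a + 32 * b + c) 32 = c := by
    show (1024 * a + 32 * b + c) % 32 = c
    omega
  rw [e1, e2, e3, h1, h2, h3, h4, h5, h6] at h
  simp only [Nat.beq_refl, Bool.and_self, Bool.not_true, Bool.false_or, Bool.or_eq_true] at h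
  rcases h with (((((h | h) | h) | h) | h) | h) | h
  · exact Or.inl (Nat.eq_of_beq_eq_true h)
  · exact Or.inr (Or.inl (Nat.eq_of_beq_eq_true h))
  · exact Or.inr (Or.inr (Or.inl (Nat.eq_of_beq_eq_true h)))
  · exact Or.inr (Or.inr (Or.inr (Or.inl (Nat.eq_of_beq_eq_true h))))
  · exact Or.inr (Or.inr (Or.inr (Or.inr (Or.inl (Nat.eq_of_beq_eq_true h)))))
  · exact Or.inr (Or.inr (Or.inr (Or.inr (Or.inr (Or.inl (Nat.eq_of_beq_eq_true h))))))
  · exact Or.inr (Or.inr (Or.inr (Or.inr (Or.inr (Or.inr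
      ((Nat.eq_of_beq_eq_true h).trans h4.symm))))))

theorem qMisc_facts :
    qK qI1 = pmI ∧ qK qIz = oT ∧ mmul cA cA = cA2 ∧ mmul cA cA2 = pmI ∧
    mmul (mmul cB cB) (mmul cB cB) = cB4 ∧ mmul cB cB4 = pmI ∧
    mmul (mmul cA cB) (mmul cA cB) = pmI ∧ mmul cA oT = mmul oT cA ∧ mmul cB oT = mmul oT cB ∧
    (mem1 cAc = true ∧ cAj < schD.nH ∧ cA = mmul (schD.T cAc) (schD.Hs cAj)) ∧
    (mem1 cBc = true ∧ cBj < schD.nH ∧ cB = mmul (schD.T cBc) (schD.Hs cBj)) := by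
  have h := qMisc_chk
  unfold chkQMisc at h
  simp only [Bool.and_eq_true, Bool.not_eq_true'] at h
  obtain ⟨⟨⟨⟨⟨⟨⟨⟨⟨⟨⟨h1, h2⟩, h3⟩, h4⟩, h5⟩, h6⟩, h7⟩, _⟩, h9⟩, h10⟩, ⟨h11, h12⟩, h13⟩,
    ⟨h14, h15⟩, h16⟩ := h
  exact ⟨pmBeq_eq h1, pmBeq_eq h2, pmBeq_eq h3, pmBeq_eq h4, pmBeq_eq h5, pmBeq_eq h6, pmBeq_eq h7,
    pmBeq_eq h9, pmBeq_eq h10, ⟨h11, Nat.blt_eq.mp h12, pmBeq_eq h13⟩,
    ⟨h14, Nat.blt_eq.mp h15, pmBeq_eq h16⟩⟩

theorem cA_not_scalar : isScalarB cA = false := by decide +kernel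

theorem cA_small : cA.Small := by
  unfold PM.Small cA
  norm_num

theorem cB_small : cB.Small := by
  unfold PM.Small cB
  norm_num

theorem qIz_ne : qIz ≠ qI1 := by decide

theorem qMul_zz : qMul qIz qIz = qI1 := by decide +kernel

theorem qNc_fact : ∃ i k, i < 32 ∧ k < 32 ∧ qMul i k ≠ qMul k i := by
  have h := qNc_chk
  simp only [Bool.and_eq_true, Bool.not_eq_true'] at h
  obtain ⟨⟨h1, h2⟩, h3⟩ := h
  refine ⟨qNc1, qNc2, Nat.blt_eq.mp h1, Nat.blt_eq.mp h2, ?_⟩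
  intro he
  rw [he] at h3
  have : Nat.beq (qMul qNc2 qNc1) (qMul qNc2 qNc1) = true := Nat.beq_refl _
  rw [this] at h3
  exact absurd h3 (by decide)

section sem
variable {F : Type*} [Field F] [CharP F 2] (ω : F) (hω : ω ^ 2 + ω + 1 = 0)
include hω

theorem decM_qK_mul (i k : ℕ) (hi : i < 32) (hk : k < 32) :
    decM ω (qK i) * decM ω (qK k) = decM ω (qK (qMul i k)) := by
  rw [← decM_mmul ω hω, qMul_fact i k hi hk]

omit [CharP F 2] hω in
theorem decM_qK_one : decM ω (qK qI1) = 1 := by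
  rw [qMisc_facts.1, decM_pmI]

theorem decM_qK_mem (i : ℕ) (hi : i < 32) : decM ω (qK i) ∈ MG ω := by
  obtain ⟨_, ⟨f1, f2, f3⟩, _⟩ := q_facts i hi
  rw [f3, decM_mmul ω hω]
  exact MG_mul ω (T_mem ω hω schD schD_valid _ f1) (Hs_mem ω hω schD schD_valid _ f2)

/-- The subgroup of order 32. -/
def qSub : Subgroup ↥(threeJ3 F ω) where
  carrier := {x | ∃ i, i < 32 ∧ mat ω x = decM ω (qK i)}
  mul_mem' := by
    rintro x y ⟨i, hi, ex⟩ ⟨k, hk, ey⟩
    exact ⟨qMul i k, qMul_lt i k, by rw [mat_mul, ex, ey, decM_qK_mul ω hω i k hi hk]⟩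
  one_mem' := ⟨qI1, by decide, by rw [mat_one, decM_qK_one ω]⟩
  inv_mem' := by
    rintro x ⟨i, hi, ex⟩
    have h4 : x * x * (x * x) = 1 := by
      apply mat_injective
      rw [mat_mul, mat_mul, ex, decM_qK_mul ω hω i i hi hi,
        decM_qK_mul ω hω _ _ (qMul_lt i i) (qMul_lt i i), (qI_facts i hi).1, decM_qK_one ω,
        mat_one]
    have hinv : x⁻¹ = x * (x * x) := by
      apply inv_eq_of_mul_eq_one_right
      rw [← mul_assoc, ← mul_assoc, mul_assoc (x * x)]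
      exact h4
    refine ⟨qMul i (qMul i i), qMul_lt _ _, ?_⟩
    rw [hinv, mat_mul, mat_mul, ex, decM_qK_mul ω hω i i hi hi,
      decM_qK_mul ω hω _ _ hi (qMul_lt i i)]

theorem mem_qSub (x : ↥(threeJ3 F ω)) :
    x ∈ qSub ω hω ↔ ∃ i, i < 32 ∧ mat ω x = decM ω (qK i) := Iff.rfl

/-- The index of an element of the subgroup of order 32. -/
noncomputable def qIdx (x : ↥(qSub ω hω)) : ℕ := x.2.choose

theorem qIdx_lt (x : ↥(qSub ω hω)) : qIdx ω hω x < 32 := x.2.choose_spec.1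

theorem qIdx_spec (x : ↥(qSub ω hω)) : mat ω (x : ↥(threeJ3 F ω)) = decM ω (qK (qIdx ω hω x)) :=
  x.2.choose_spec.2

theorem qIdx_eq (x : ↥(qSub ω hω)) (i : ℕ) (hi : i < 32)
    (h : mat ω (x : ↥(threeJ3 F ω)) = decM ω (qK i)) : qIdx ω hω x = i := by
  apply qK_inj _ _ (qIdx_lt ω hω x) hi
  apply decM_injective ω hω _ _ (qK_small _) (qK_small _)
  rw [← qIdx_spec ω hω x, h]

theorem qIdx_injective : Function.Injective (qIdx ω hω) := by
  intro x y h
  apply Subtype.ext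
  apply mat_injective
  rw [qIdx_spec ω hω x, qIdx_spec ω hω y, h]

theorem qIdx_mul (x y : ↥(qSub ω hω)) :
    qIdx ω hω (x * y) = qMul (qIdx ω hω x) (qIdx ω hω y) := by
  apply qIdx_eq ω hω _ _ (qMul_lt _ _)
  rw [Subgroup.coe_mul, mat_mul, qIdx_spec ω hω x, qIdx_spec ω hω y,
    decM_qK_mul ω hω _ _ (qIdx_lt ω hω x) (qIdx_lt ω hω y)]

theorem qIdx_one : qIdx ω hω 1 = qI1 := by
  apply qIdx_eq ω hω _ _ (by decide)
  rw [Subgroup.coe_one, mat_one, decM_qK_one ω]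

theorem qIdx_surj (i : ℕ) (hi : i < 32) : ∃ x : ↥(qSub ω hω), qIdx ω hω x = i := by
  obtain ⟨x, hx⟩ := exists_of_MG ω (decM_qK_mem ω hω i hi)
  exact ⟨⟨x, i, hi, hx⟩, qIdx_eq ω hω _ i hi hx⟩

/-- The element of index `qIz` is `t`. -/
theorem tHat_mem_qSub : tHat ω hω ∈ qSub ω hω :=
  ⟨qIz, by decide, by rw [mat_tHat, qMisc_facts.2.1]⟩

/-- The subgroup of order 32 meets the centre trivially. -/
theorem qSub_center [Fintype F] (hF : Fintype.card F = 4) (x : ↥(threeJ3 F ω))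
    (hx : x ∈ qSub ω hω) (hc : x ∈ Subgroup.center ↥(threeJ3 F ω)) : x = 1 := by
  obtain ⟨i, hi, ex⟩ := hx
  have hs := (center_test ω hω hF x (qK i) (qK_small i) ex).mp hc
  have := (q_facts i hi).2.2.1 hs
  apply mat_injective
  rw [ex, this, decM_qK_one ω, mat_one]

/-- The elements of the subgroup of order 32 commute with `t`. -/
theorem qSub_comm_t (x : ↥(threeJ3 F ω)) (hx : x ∈ qSub ω hω) :
    x * tHat ω hω = tHat ω hω * x := by
  obtain ⟨i, hi, ex⟩ := hx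
  apply mat_injective
  have hz : decM ω oT = decM ω (qK qIz) := by rw [qMisc_facts.2.1]
  rw [mat_mul, mat_mul, mat_tHat, ex, hz, decM_qK_mul ω hω _ _ hi (by decide),
    decM_qK_mul ω hω _ _ (by decide) hi, (qI_facts i hi).2.2.2.1]

end sem

end Cfsg.Agent.Lib.Helper93.J3
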