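import Cfsg.Agent.Lib.Helper93.J3Schreier

/-! # The centre of `3·J₃` consists of the three scalar matrices -/

set_option autoImplicit false

namespace Cfsg.Agent.Lib.Helper93.J3

open Cfsg.Spor Matrix

/-- The packed scalar matrix `ω`. -/
def pmOmega : PM := ⟨2, 8, 32, 128, 512, 2048, 8192, 32768, 131072⟩

theorem pmOmega_col (z : F9) : pmOmega.col (ix z) = mulw (2 ^ (2 * ix z)) := by
  have hz := ix_lt z
  generalize ix z = j at hz
  interval_cases j <;> rfl

theorem wordMul_scalar : wordMul [17, 13, 9] = pmOmega :=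
  pmBeq_eq (by decide +kernel)

theorem norm_sq_ne_zero : ∀ Z : F9, Z ≠ 0 → Z.1 * Z.1 + Z.2 * Z.2 ≠ 0 := by decide

section sem
variable {F : Type*} [Field F] [CharP F 2] (ω : F) (hω : ω ^ 2 + ω + 1 = 0)
include hω

theorem decM_pmOmega : decM ω pmOmega = ω • (1 : Matrix F9 F9 F) := by
  ext w z
  unfold decM
  rw [pmOmega_col, decV_mulw ω hω, decV_single, Matrix.smul_apply, Matrix.one_apply,
    Pi.smul_apply, Pi.single_apply]

theorem MG_word (w : List ℕ) (hw : ∀ s ∈ w, s < 43) : decM ω (wordMul w) ∈ MG ω := by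
  induction w with
  | nil => rw [wordMul, decM_pmI]; exact MG_one ω
  | cons s w ih =>
    rw [wordMul, decM_mmul ω hω]
    exact MG_mul ω (MG_gen ω hω s (hw s List.mem_cons_self))
      (ih (fun t ht => hw t (List.mem_cons_of_mem _ ht)))

theorem scalar_mem_MG : ω • (1 : Matrix F9 F9 F) ∈ MG ω := by
  rw [← decM_pmOmega ω hω, ← wordMul_scalar]
  apply MG_word ω hω
  intro s hs
  simp only [List.mem_cons, List.not_mem_nil, or_false] at hs
  omega

theorem omegaPow_injective : Function.Injective (omegaPow F ω) := by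
  have h0 := omega_ne_zero ω hω
  have h1 := omega_ne_one ω hω
  have h2 : (1 : F) + ω ≠ 1 := by intro h; exact h0 (by simpa using h)
  have h3 : (1 : F) + ω ≠ ω := by intro h; simp at h
  intro a b hab
  rw [omegaPow_eq ω hω, omegaPow_eq ω hω] at hab
  apply ZMod.val_injective 3
  rcases codePow_cases a with ⟨a1, a2⟩ | ⟨a1, a2⟩ | ⟨a1, a2⟩ <;>
  rcases codePow_cases b with ⟨b1, b2⟩ | ⟨b1, b2⟩ | ⟨b1, b2⟩ <;>
  rw [a2, b2] at hab <;> rw [a1, b1] <;>
  simp only [dec2_one, dec2_two, dec2_three] at hab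
  · exact absurd hab.symm h1
  · exact absurd hab.symm h2
  · exact absurd hab h1
  · exact absurd hab.symm h3
  · exact absurd hab h2
  · exact absurd hab h3

/-- A matrix commuting with all `A_Z` and all `D_Z` is a scalar. -/
theorem central_scalar (M : Matrix F9 F9 F) (hA : ∀ Z, M * j3A F ω Z = j3A F ω Z * M)
    (hDc : ∀ Z, M * j3D F ω Z = j3D F ω Z * M) : M = (M 0 0) • (1 : Matrix F9 F9 F) := by
  classical
  have hoff : ∀ w z : F9, w ≠ z → M w z = 0 := by
    intro w z hwz
    have hZ : z - w ≠ 0 := sub_ne_zero.mpr (Ne.symm hwz)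
    have h := congrFun (congrFun (hA (z - w)) w) z
    rw [j3A, Matrix.mul_diagonal, Matrix.diagonal_mul] at h
    have hne : omegaPow F ω ((z - w).1 * z.1 + (z - w).2 * z.2) ≠
        omegaPow F ω ((z - w).1 * w.1 + (z - w).2 * w.2) := by
      intro he
      have := omegaPow_injective ω hω he
      apply norm_sq_ne_zero (z - w) hZ
      have e : (z - w).1 * (z - w).1 + (z - w).2 * (z - w).2 =
          ((z - w).1 * z.1 + (z - w).2 * z.2) - ((z - w).1 * w.1 + (z - w).2 * w.2) := by
        simp only [Prod.fst_sub, Prod.snd_sub]; ring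
      rw [e, this, sub_self]
    by_contra hM
    apply hne
    have h' : M w z * omegaPow F ω ((z - w).1 * z.1 + (z - w).2 * z.2) =
        M w z * omegaPow F ω ((z - w).1 * w.1 + (z - w).2 * w.2) := by
      rw [h, mul_comm]
    exact mul_left_cancel₀ hM h'
  have hdiag : ∀ Z : F9, M Z Z = M 0 0 := by
    intro Z
    have h := congrFun (congrFun (hDc Z) Z) 0
    rw [Matrix.mul_apply, Matrix.mul_apply] at h
    rw [Finset.sum_eq_single Z, Finset.sum_eq_single 0] at h
    · simp only [j3D, Matrix.of_apply, zero_add, if_true, j3Lam, mul_one, one_mul] at h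
      exact h
    · intro k _ hk
      rw [hoff k 0 hk, mul_zero]
    · intro h0; exact absurd (Finset.mem_univ _) h0
    · intro k _ hk
      simp only [j3D, Matrix.of_apply, zero_add]
      rw [if_neg hk, mul_zero]
    · intro h0; exact absurd (Finset.mem_univ _) h0
  ext w z
  rw [Matrix.smul_apply, Matrix.one_apply, smul_eq_mul]
  by_cases h : w = z
  · subst h; rw [if_pos rfl, mul_one, hdiag]
  · rw [if_neg h, mul_zero, hoff w z h]

end sem

end Cfsg.Agent.Lib.Helper93.J3
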