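import Cfsg.Agent.Lib.Helper93.J3OutSem5
import Cfsg.Agent.Lib.Helper93.J3ClsC0
import Cfsg.Agent.Lib.Helper93.J3ClsC1
import Cfsg.Agent.Lib.Helper93.J3ClsC2
import Cfsg.Agent.Lib.Helper4.Conj

/-! # The involutions of `J₃` form one class of 26163 elements; the centraliser has order 1920 -/

set_option autoImplicit false

namespace Cfsg.Agent.Lib.Helper93.J3

open Cfsg.Spor Matrix

theorem oSort_chk : ∀ k, k < 26163 → chkSort k = true := by
  intro j hj
  have h : j < 8721 ∨ (8721 ≤ j ∧ j < 17442) ∨ 17442 ≤ j := by omega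
  rcases h with h | h | h
  · exact oSort_part_0 j (Nat.zero_le j) (by omega)
  · exact oSort_part_1 j h.1 (by omega)
  · exact oSort_part_2 j h (by omega)

theorem oSort_facts (k : ℕ) (hk : k < 26163) :
    oSrt k < 26163 ∧ oPos k < 26163 ∧ oSrt (oPos k) = k ∧
      (k + 1 < 26163 → pmPack (oX (oSrt k)) < pmPack (oX (oSrt (k + 1)))) := by
  have h := oSort_chk k hk
  unfold chkSort at h
  simp only [Bool.and_eq_true, Bool.or_eq_true] at h
  obtain ⟨⟨⟨h1, h2⟩, h3⟩, h4⟩ := h
  refine ⟨Nat.blt_eq.mp h1, Nat.blt_eq.mp h2, Nat.eq_of_beq_eq_true h3, ?_⟩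
  intro hk1
  rcases h4 with h4 | h4
  · have := Nat.eq_of_beq_eq_true h4
    omega
  · exact Nat.blt_eq.mp h4

theorem oSort_strict (a b : ℕ) (hab : a < b) (hb : b < 26163) :
    pmPack (oX (oSrt a)) < pmPack (oX (oSrt b)) := by
  induction b with
  | zero => omega
  | succ b ih =>
    have hstep : pmPack (oX (oSrt b)) < pmPack (oX (oSrt (b + 1))) :=
      (oSort_facts b (by omega)).2.2.2 hb
    rcases Nat.lt_succ_iff_lt_or_eq.mp hab with h | h
    · exact lt_trans (ih h (by omega)) hstep
    · rw [h]; exact hstep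

theorem oX_injective (j j' : ℕ) (hj : j < 26163) (hj' : j' < 26163) (h : oX j = oX j') :
    j = j' := by
  obtain ⟨_, p1, s1, _⟩ := oSort_facts j hj
  obtain ⟨_, p2, s2, _⟩ := oSort_facts j' hj'
  have key : oPos j = oPos j' := by
    rcases Nat.lt_trichotomy (oPos j) (oPos j') with h1 | h1 | h1
    · have := oSort_strict _ _ h1 p2
      rw [s1, s2, h] at this
      exact absurd this (lt_irrefl _)
    · exact h1
    · have := oSort_strict _ _ h1 p1
      rw [s1, s2, h] at this
      exact absurd this (lt_irrefl _)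
  rw [← s1, ← s2, key]

theorem oX_small (j : ℕ) : (oX j).Small :=
  mmul_small _ _ (mmul_small _ _ (unpackM_small _))

theorem oTree_facts (i : ℕ) (hi : i < 1377) (h0 : i ≠ 0) :
    oPar i < 26163 ∧ oNxt (oPar i) / 19 = i ∧ oDep (oPar i / 19) < oDep i := by
  have h := allRange_spec 0 1377 chkTree oTree_chk i (Nat.zero_le i) (by omega)
  unfold chkTree at h
  simp only [Bool.and_eq_true, Bool.or_eq_true] at h
  rcases h with h | h
  · exact absurd (Nat.eq_of_beq_eq_true h) h0
  · obtain ⟨⟨h1, h2⟩, h3⟩ := h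
    exact ⟨Nat.blt_eq.mp h1, Nat.eq_of_beq_eq_true h2, Nat.blt_eq.mp h3⟩

section sem
variable {F : Type*} [Field F] [CharP F 2] (ω : F) (hω : ω ^ 2 + ω + 1 = 0)
include hω

theorem decM_oX (j : ℕ) : decM ω (oX j) = Xm ω j := by
  unfold oX Xm
  have hm : Nat.mod j 19 = j % 19 := rfl
  have hd : Nat.div j 19 = j / 19 := rfl
  have h19 : j % 19 < 19 := Nat.mod_lt _ (by norm_num)
  rw [hm, hd, decM_mmul ω hω, decM_mmul ω hω, decM_oYp ω hω _ (by omega),
    decM_oYp ω hω _ (by omega)]

theorem Xm_injective (j j' : ℕ) (hj : j < 26163) (hj' : j' < 26163) (h : Xm ω j = Xm ω j') :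
    j = j' := by
  apply oX_injective j j' hj hj'
  apply decM_injective ω hω _ _ (oX_small j) (oX_small j')
  rw [decM_oX ω hω, decM_oX ω hω, h]

theorem Xm_shift (i e0 e k : ℕ) (he0 : e0 < 19) (he : e < 19) (hk : (e0 + k) % 19 = e) :
    decM ω pmY ^ k * Xm ω (19 * i + e0) * decM ω pmY ^ (18 * k) = Xm ω (19 * i + e) := by
  unfold Xm
  have a1 : (19 * i + e0) % 19 = e0 := by omega
  have a2 : (19 * i + e0) / 19 = i := by omega
  have b1 : (19 * i + e) % 19 = e := by omega
  have b2 : (19 * i + e) / 19 = i := by omega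
  rw [a1, a2, b1, b2]
  simp only [mul_assoc]
  rw [← pow_add, ← mul_assoc (decM ω pmY ^ k), ← pow_add,
    Ypow_congr ω hω (a := k + e0) (b := e) (by omega),
    Ypow_congr ω hω (a := 19 - e0 + 18 * k) (b := 19 - e) (by omega)]

/-- Every involution of the table is a conjugate of `t` in `3·J₃`. -/
theorem exists_conj (j : ℕ) (hj : j < 26163) :
    ∃ g : ↥(threeJ3 F ω), mat ω (g * tHat ω hω * g⁻¹) = Xm ω j := by
  have key : ∀ d i, oDep i = d → i < 1377 → ∀ e, e < 19 →
      ∃ g : ↥(threeJ3 F ω), mat ω (g * tHat ω hω * g⁻¹) = Xm ω (19 * i + e) := by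
    intro d
    induction d using Nat.strong_induction_on with
    | _ d ih =>
      intro i hd hi e he
      by_cases h0 : i = 0
      · subst h0
        refine ⟨yHat ω hω ^ e, ?_⟩
        have hinv : (yHat ω hω ^ e)⁻¹ = yHat ω hω ^ (18 * e) := by
          apply inv_eq_of_mul_eq_one_left
          rw [← pow_add, show 18 * e + e = 19 * e by ring, pow_mul, yHat_pow, one_pow]
        rw [hinv, mat_mul, mat_mul, mat_pow, mat_pow, mat_yHat, mat_tHat]
        unfold Xm
        have a1 : (19 * 0 + e) % 19 = e := by omega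
        have a2 : (19 * 0 + e) / 19 = 0 := by omega
        rw [a1, a2, decM_oRep_zero, Ypow_congr ω hω (a := 18 * e) (b := 19 - e) (by omega)]
      · obtain ⟨t1, t2, t3⟩ := oTree_facts i hi h0
        have hp : oPar i / 19 < 1377 := by omega
        have hep : oPar i % 19 < 19 := Nat.mod_lt _ (by norm_num)
        obtain ⟨gp, hgp⟩ := ih _ (by rw [← hd]; exact t3) (oPar i / 19) rfl hp (oPar i % 19) hep
        have hjp : 19 * (oPar i / 19) + oPar i % 19 = oPar i := Nat.div_add_mod _ _
        rw [hjp] at hgp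
        obtain ⟨c1, c2⟩ := conjT ω hω (oPar i) t1
        set e0 := oNxt (oPar i) % 19 with he0
        have he0lt : e0 < 19 := Nat.mod_lt _ (by norm_num)
        have hn : oNxt (oPar i) = 19 * i + e0 := by
          have := Nat.div_add_mod (oNxt (oPar i)) 19
          rw [t2] at this
          omega
        rw [hn] at c2
        set k := e + 19 - e0 with hk
        refine ⟨yHat ω hω ^ k * tHat ω hω * gp, ?_⟩
        have hinv : (yHat ω hω ^ k)⁻¹ = yHat ω hω ^ (18 * k) := by
          apply inv_eq_of_mul_eq_one_left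
          rw [← pow_add, show 18 * k + k = 19 * k by ring, pow_mul, yHat_pow, one_pow]
        have : yHat ω hω ^ k * tHat ω hω * gp * tHat ω hω * (yHat ω hω ^ k * tHat ω hω * gp)⁻¹ =
            yHat ω hω ^ k * (tHat ω hω * (gp * tHat ω hω * gp⁻¹) * tHat ω hω) *
              yHat ω hω ^ (18 * k) := by
          rw [_root_.mul_inv_rev, _root_.mul_inv_rev, hinv, tHat_inv]
          simp only [mul_assoc]
        rw [this, mat_mul, mat_mul, mat_mul, mat_mul, hgp, mat_pow, mat_pow, mat_yHat, mat_tHat, c2]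
        exact Xm_shift ω hω i e0 e k he0lt he (by omega)
  have h19 : j % 19 < 19 := Nat.mod_lt _ (by norm_num)
  have := key _ (j / 19) rfl (by omega) (j % 19) h19
  rwa [Nat.div_add_mod] at this

end sem

end Cfsg.Agent.Lib.Helper93.J3
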