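import Mathlib
import Cfsg.Prelude.Def_Spor_J3

/-! # Matrices of prime order commuting with a fixed-point-free matrix of order 19 on `F₄⁹` -/

set_option autoImplicit false

namespace Cfsg.Agent.Lib.Helper93.J3

open Cfsg.Spor Matrix

section
variable {F : Type*} [Field F] [Fintype F]

theorem card_F9 : Fintype.card F9 = 9 := by
  rw [Fintype.card_prod, ZMod.card]

/-- A subspace invariant under a fixed-point-free matrix of order 19 is trivial or everything. -/
theorem invariant_subspace (hF : Fintype.card F = 4) (y : Matrix F9 F9 F) (hy : y ^ 19 = 1)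
    (hfix : ∀ v : F9 → F, y *ᵥ v = v → v = 0) (W : Submodule F (F9 → F))
    (hW : ∀ v ∈ W, y *ᵥ v ∈ W) : W = ⊥ ∨ W = ⊤ := by
  classical
  have : Fact (Nat.Prime 19) := ⟨by norm_num⟩
  let f : Function.End ↥W := fun v => ⟨y *ᵥ v.1, hW v.1 v.2⟩
  have hpow : ∀ (n : ℕ) (v : ↥W), ((f ^ n) v).1 = (y ^ n) *ᵥ v.1 := by
    intro n
    induction n with
    | zero => intro v; rw [pow_zero, pow_zero, Matrix.one_mulVec]; rfl
    | succ n ih =>
      intro v
      rw [pow_succ, pow_succ, ← Matrix.mulVec_mulVec]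
      show ((f ^ n) (f v)).1 = _
      rw [ih]
  have hf : f ^ 19 ^ 1 = 1 := by
    rw [pow_one]
    funext v
    apply Subtype.ext
    rw [hpow, hy, Matrix.one_mulVec]
    rfl
  have hmod := Equiv.Perm.card_fixedPoints_modEq (f := f) (p := 19) (n := 1) hf
  have hfp : Fintype.card (Function.fixedPoints f) = 1 := by
    rw [Fintype.card_eq_one_iff]
    refine ⟨⟨0, ?_⟩, ?_⟩
    · show f 0 = 0
      apply Subtype.ext
      show y *ᵥ (0 : F9 → F) = 0
      rw [Matrix.mulVec_zero]
    · rintro ⟨v, hv⟩
      apply Subtype.ext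
      apply Subtype.ext
      have hv' : f v = v := hv
      have := congrArg Subtype.val hv'
      exact hfix v.1 this
  rw [hfp, Module.card_eq_pow_finrank (K := F) (V := ↥W), hF] at hmod
  have hle : Module.finrank F ↥W ≤ 9 := by
    have := Submodule.finrank_le W
    rw [Module.finrank_fintype_fun_eq_card, card_F9] at this
    exact this
  have hk : Module.finrank F ↥W = 0 ∨ Module.finrank F ↥W = 9 := by
    generalize Module.finrank F ↥W = k at hmod hle
    interval_cases k <;> first | (left; rfl) | (right; rfl) | (exfalso; revert hmod; decide)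
  rcases hk with h0 | h9
  · left
    exact Submodule.finrank_eq_zero.mp h0
  · right
    apply Submodule.eq_top_of_finrank_eq
    rw [h9, Module.finrank_fintype_fun_eq_card, card_F9]

/-- A nonidentity matrix commuting with `y` fixes no nonzero vector. -/
theorem commuting_fix (hF : Fintype.card F = 4) (y : Matrix F9 F9 F) (hy : y ^ 19 = 1)
    (hfix : ∀ v : F9 → F, y *ᵥ v = v → v = 0) (d : Matrix F9 F9 F) (hd1 : d ≠ 1)
    (hcomm : d * y = y * d) (v : F9 → F) (hv : d *ᵥ v = v) : v = 0 := by
  let W : Submodule F (F9 → F) := LinearMap.ker (Matrix.mulVecLin (d - 1))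
  have hmemW : ∀ u : F9 → F, u ∈ W ↔ d *ᵥ u = u := by
    intro u
    rw [LinearMap.mem_ker, Matrix.mulVecLin_apply, Matrix.sub_mulVec, Matrix.one_mulVec, sub_eq_zero]
  have hW : ∀ u ∈ W, y *ᵥ u ∈ W := by
    intro u hu
    rw [hmemW] at hu ⊢
    rw [Matrix.mulVec_mulVec, hcomm, ← Matrix.mulVec_mulVec, hu]
  rcases invariant_subspace hF y hy hfix W hW with h | h
  · have : v ∈ W := (hmemW v).mpr hv
    rw [h] at this
    exact (Submodule.mem_bot F).mp this
  · exfalso
    apply hd1
    apply Matrix.toLin'.injective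
    apply LinearMap.ext
    intro u
    have : u ∈ W := by rw [h]; exact Submodule.mem_top
    rw [Matrix.toLin'_apply, Matrix.toLin'_apply, Matrix.one_mulVec]
    exact (hmemW u).mp this

/-- The order of a matrix of prime order commuting with `y` divides `4 ^ 9 - 1`. -/
theorem prime_dvd_of_commute (hF : Fintype.card F = 4) (y : Matrix F9 F9 F) (hy : y ^ 19 = 1)
    (hfix : ∀ v : F9 → F, y *ᵥ v = v → v = 0) (d : Matrix F9 F9 F) (r : ℕ) (hr : r.Prime)
    (hd : d ^ r = 1) (hd1 : d ≠ 1) (hcomm : d * y = y * d) : r ∣ 4 ^ 9 - 1 := by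
  classical
  have : Fact r.Prime := ⟨hr⟩
  let g : Function.End (F9 → F) := fun v => d *ᵥ v
  have hpow : ∀ (n : ℕ) (v : F9 → F), (g ^ n) v = (d ^ n) *ᵥ v := by
    intro n
    induction n with
    | zero => intro v; rw [pow_zero, pow_zero, Matrix.one_mulVec]; rfl
    | succ n ih =>
      intro v
      rw [pow_succ, pow_succ, ← Matrix.mulVec_mulVec]
      show (g ^ n) (g v) = _
      rw [ih]
  have hg : g ^ r ^ 1 = 1 := by
    rw [pow_one]
    funext v
    rw [hpow, hd, Matrix.one_mulVec]
    rfl
  have hmod := Equiv.Perm.card_fixedPoints_modEq (f := g) (p := r) (n := 1) hg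
  have hfp : Fintype.card (Function.fixedPoints g) = 1 := by
    rw [Fintype.card_eq_one_iff]
    refine ⟨⟨0, ?_⟩, ?_⟩
    · show g 0 = 0
      show d *ᵥ (0 : F9 → F) = 0
      rw [Matrix.mulVec_zero]
    · rintro ⟨v, hv⟩
      apply Subtype.ext
      exact commuting_fix hF y hy hfix d hd1 hcomm v hv
  rw [hfp, Fintype.card_fun, hF, card_F9] at hmod
  exact (Nat.modEq_iff_dvd' (by norm_num)).mp hmod.symm

end

end Cfsg.Agent.Lib.Helper93.J3
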