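import Cfsg.Agent.Lib.Helper93.J3CenterCard

/-! # An element of order 19 of `3·J₃` without nonzero fixed vectors -/

set_option autoImplicit false

namespace Cfsg.Agent.Lib.Helper93.J3

open Cfsg.Spor Matrix

/-- The cube of the product of the generators `30, 21, 9, 37, 30`. -/
def pmY : PM := ⟨214707, 35108, 253274, 121976, 46936, 207857, 219510, 104487, 139132⟩

/-- The inverse of `pmY + 1`. -/
def pmYW : PM := ⟨247958, 75405, 222945, 167599, 142076, 180119, 207676, 52434, 143334⟩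

/-- Sum of packed matrices. -/
def pmXor (A B : PM) : PM :=
  ⟨Nat.xor A.c0 B.c0, Nat.xor A.c1 B.c1, Nat.xor A.c2 B.c2, Nat.xor A.c3 B.c3, Nat.xor A.c4 B.c4,
    Nat.xor A.c5 B.c5, Nat.xor A.c6 B.c6, Nat.xor A.c7 B.c7, Nat.xor A.c8 B.c8⟩

/-- Powers of a packed matrix. -/
def pmPow (A : PM) : ℕ → PM
  | 0 => pmI
  | n + 1 => mmul A (pmPow A n)

theorem pmXor_col (A B : PM) (j : ℕ) : (pmXor A B).col j = A.col j ^^^ B.col j := by
  unfold PM.col pmXor
  split <;> rfl

theorem y_word : pmBeq (mmul (wordMul [30, 21, 9, 37, 30])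
    (mmul (wordMul [30, 21, 9, 37, 30]) (wordMul [30, 21, 9, 37, 30]))) pmY = true := by
  decide +kernel

theorem y_pow19 : pmBeq (pmPow pmY 19) pmI = true := by decide +kernel

theorem y_inv : pmBeq (mmul pmYW (pmXor pmY pmI)) pmI = true := by decide +kernel

theorem y_ne : pmBeq pmY pmI = false := by decide +kernel

theorem pmY_small : pmY.Small := by
  unfold PM.Small pmY
  norm_num

theorem pmI_small : pmI.Small := by
  unfold PM.Small pmI
  norm_num

section sem
variable {F : Type*} [Field F] [CharP F 2] (ω : F) (hω : ω ^ 2 + ω + 1 = 0)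
include hω

theorem decM_pmXor (A B : PM) : decM ω (pmXor A B) = decM ω A + decM ω B := by
  ext w z
  unfold decM
  rw [pmXor_col, decV_xor]
  rfl

theorem decM_pmPow (A : PM) (n : ℕ) : decM ω (pmPow A n) = decM ω A ^ n := by
  induction n with
  | zero => rw [pmPow, decM_pmI, pow_zero]
  | succ n ih => rw [pmPow, decM_mmul ω hω, ih, pow_succ']

theorem decM_pmY_pow : decM ω pmY ^ 19 = 1 := by
  rw [← decM_pmPow ω hω, pmBeq_eq y_pow19, decM_pmI]

theorem decM_pmY_mem : decM ω pmY ∈ MG ω := by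
  rw [← pmBeq_eq y_word, decM_mmul ω hω, decM_mmul ω hω]
  have h : decM ω (wordMul [30, 21, 9, 37, 30]) ∈ MG ω := by
    apply MG_word ω hω
    intro s hs
    simp only [List.mem_cons, List.not_mem_nil, or_false] at hs
    omega
  exact MG_mul ω h (MG_mul ω h h)

theorem decM_pmY_fix (v : F9 → F) (hv : decM ω pmY *ᵥ v = v) : v = 0 := by
  have h1 : decM ω (pmXor pmY pmI) *ᵥ v = 0 := by
    rw [decM_pmXor ω hω, decM_pmI, Matrix.add_mulVec, hv, Matrix.one_mulVec]
    exact CharTwo.add_self_eq_zero v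
  have h2 := congrArg (decM ω) (pmBeq_eq y_inv)
  rw [decM_mmul ω hω, decM_pmI] at h2
  calc v = (1 : Matrix F9 F9 F) *ᵥ v := (Matrix.one_mulVec v).symm
    _ = (decM ω pmYW * decM ω (pmXor pmY pmI)) *ᵥ v := by rw [h2]
    _ = 0 := by rw [← Matrix.mulVec_mulVec, h1, Matrix.mulVec_zero]

theorem decM_pmY_ne_one : decM ω pmY ≠ 1 := by
  intro h
  rw [← decM_pmI (ω := ω)] at h
  have := decM_injective ω hω _ _ pmY_small pmI_small h
  have h2 := y_ne
  rw [this] at h2
  have h3 : pmBeq pmI pmI = true := by decide +kernel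
  rw [h3] at h2
  exact Bool.noConfusion h2

theorem decM_pmY_not_scalar [Fintype F] (hF : Fintype.card F = 4) (μ : F) :
    decM ω pmY ≠ μ • (1 : Matrix F9 F9 F) := by
  intro h
  have h19 := decM_pmY_pow ω hω
  rw [h, smul_pow, one_pow] at h19
  have hμ19 : μ ^ 19 = 1 := by
    have := congrFun (congrFun h19 0) 0
    simpa using this
  have hμ0 : μ ≠ 0 := by
    intro h0; rw [h0] at hμ19; norm_num at hμ19
  have hμ3 := cube_eq_one ω hω hF μ hμ0
  have hμ1 : μ = 1 := by
    have : μ ^ 19 = (μ ^ 3) ^ 6 * μ := by ring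
    rw [this, hμ3, one_pow, one_mul] at hμ19
    exact hμ19
  rw [hμ1, one_smul] at h
  exact decM_pmY_ne_one ω hω h

end sem

end Cfsg.Agent.Lib.Helper93.J3
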