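import Cfsg.Agent.Lib.Helper93.J3Perfect
import Cfsg.Agent.Lib.Helper93.J3Y19
import Cfsg.Agent.Lib.Helper93.J3Irred

/-! # Order, centre and simplicity data of `J₃` assembled -/

set_option autoImplicit false

namespace Cfsg.Agent.Lib.Helper93.J3

open Cfsg.Spor Matrix

theorem pow_comm_central {G : Type*} [Group G] (c y z : G) (hz : ∀ g : G, g * z = z * g)
    (h : c * y = y * c * z) (n : ℕ) : c ^ n * y = y * c ^ n * z ^ n := by
  induction n with
  | zero => simp
  | succ n ih =>
    calc c ^ (n + 1) * y = c ^ n * (c * y) := by rw [pow_succ, mul_assoc]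
      _ = c ^ n * (y * c * z) := by rw [h]
      _ = (c ^ n * y) * c * z := by simp only [mul_assoc]
      _ = (y * c ^ n * z ^ n) * c * z := by rw [ih]
      _ = y * c ^ n * (z ^ n * c) * z := by simp only [mul_assoc]
      _ = y * c ^ n * (c * z ^ n) * z := by
          rw [(Commute.pow_right (show Commute c z from hz c) n).eq]
      _ = y * c ^ (n + 1) * z ^ (n + 1) := by rw [pow_succ, pow_succ]; simp only [mul_assoc]

theorem prime_three_or_nineteen (r : ℕ) (hr : r.Prime) (h1 : r ∣ 4 ^ 9 - 1) (h2 : r ∣ 50232960) :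
    r = 3 ∨ r = 19 := by
  have h : r ∣ Nat.gcd (4 ^ 9 - 1) 50232960 := Nat.dvd_gcd h1 h2
  have hg : Nat.gcd (4 ^ 9 - 1) 50232960 = 3 ^ 3 * 19 := by norm_num
  rw [hg] at h
  rcases (Nat.Prime.dvd_mul hr).mp h with h3 | h19
  · left
    exact (Nat.prime_dvd_prime_iff_eq hr (by norm_num)).mp (hr.dvd_of_dvd_pow h3)
  · right
    exact (Nat.prime_dvd_prime_iff_eq hr (by norm_num)).mp h19

section sem
variable {F : Type*} [Field F] [Fintype F] (hF : Fintype.card F = 4) (ω : F)
  (hω : ω ^ 2 + ω + 1 = 0)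
include hF hω

theorem card_J3 : Nat.card (J3 F ω) = 50232960 := by
  have := charP_two_of_card hF
  have h1 := Subgroup.card_eq_card_quotient_mul_card_subgroup (Subgroup.center ↥(threeJ3 F ω))
  rw [card_threeJ3_eq hF ω hω, center_card ω hω hF] at h1
  show Nat.card (↥(threeJ3 F ω) ⧸ Subgroup.center ↥(threeJ3 F ω)) = 50232960
  omega

theorem commutator_J3 : commutator (J3 F ω) = ⊤ := by
  have := charP_two_of_card hF
  have h := commutator_threeJ3 ω hω
  rw [commutator_def] at h ⊢
  have hs : Function.Surjective (QuotientGroup.mk' (Subgroup.center ↥(threeJ3 F ω))) :=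
    QuotientGroup.mk'_surjective _
  have := Subgroup.map_commutator (⊤ : Subgroup ↥(threeJ3 F ω)) ⊤
    (QuotientGroup.mk' (Subgroup.center ↥(threeJ3 F ω)))
  rw [h, Subgroup.map_top_of_surjective _ hs] at this
  exact this.symm

/-- The element of order 19. -/
theorem exists_y19 : ∃ y : ↥(threeJ3 F ω),
    ((y : GL F9 F) : Matrix F9 F9 F) = (haveI := charP_two_of_card hF; decM ω pmY) := by
  have := charP_two_of_card hF
  obtain ⟨g, hg, e⟩ := decM_pmY_mem ω hω
  exact ⟨⟨g, hg⟩, e⟩

theorem j3_facts : ∃ y : J3 F ω, orderOf y = 19 ∧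
    ∀ c : J3 F ω, Commute c y → ∀ r : ℕ, r.Prime → orderOf c = r → r = 3 ∨ r = 19 := by
  classical
  have hchar := charP_two_of_card hF
  have hfin : Finite F := Finite.of_fintype F
  obtain ⟨y, hyv⟩ := exists_y19 hF ω hω
  have hyv' : ((y : GL F9 F) : Matrix F9 F9 F) = decM ω pmY := hyv
  have hy19 : y ^ 19 = 1 := by
    apply ext_mat
    rw [Subgroup.coe_pow, Units.val_pow_eq_pow_val, hyv', decM_pmY_pow ω hω]
    rfl
  have hynot : y ∉ Subgroup.center ↥(threeJ3 F ω) := by
    intro hc
    have := center_scalar ω hω y hc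
    rw [hyv'] at this
    exact decM_pmY_not_scalar ω hω hF _ this
  let q := QuotientGroup.mk' (Subgroup.center ↥(threeJ3 F ω))
  have hq1 : ∀ g : ↥(threeJ3 F ω), q g = 1 ↔ g ∈ Subgroup.center ↥(threeJ3 F ω) :=
    fun g => QuotientGroup.eq_one_iff g
  have hcardJ := card_J3 hF ω hω
  have hfinJ : Finite (J3 F ω) := Nat.finite_of_card_ne_zero (by rw [hcardJ]; norm_num)
  have hp19 : Fact (Nat.Prime 19) := ⟨by norm_num⟩
  refine ⟨q y, ?_, ?_⟩
  · apply orderOf_eq_prime
    · rw [← map_pow, hy19, map_one]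
    · intro h; exact hynot ((hq1 y).mp h)
  · intro cbar hcomm r hr hord
    obtain ⟨c, rfl⟩ := QuotientGroup.mk'_surjective (Subgroup.center ↥(threeJ3 F ω)) cbar
    by_cases hr3 : r = 3
    · exact Or.inl hr3
    -- the central defect of the commutation
    have hz : (y * c)⁻¹ * (c * y) ∈ Subgroup.center ↥(threeJ3 F ω) := by
      rw [← hq1, map_mul, map_inv, map_mul, map_mul]
      have : q c * q y = q y * q c := hcomm.eq
      rw [this, inv_mul_cancel]
    set z := (y * c)⁻¹ * (c * y) with hzdef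
    have hcy : c * y = y * c * z := by rw [hzdef]; group
    have hzc : ∀ g : ↥(threeJ3 F ω), g * z = z * g := Subgroup.mem_center_iff.mp hz
    have hcard3 := center_card ω hω hF
    have hcube : ∀ t ∈ Subgroup.center ↥(threeJ3 F ω), t ^ 3 = 1 := by
      intro t ht
      have h := pow_card_eq_one' (G := ↥(Subgroup.center ↥(threeJ3 F ω))) (x := ⟨t, ht⟩)
      rw [hcard3] at h
      exact congrArg Subtype.val h
    have hc3 : c ^ 3 * y = y * c ^ 3 := by
      have := pow_comm_central c y z hzc hcy 3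
      rw [hcube z hz, mul_one] at this
      exact this
    set d := (c ^ 3) ^ 3 with hd
    have hdy : d * y = y * d := (Commute.pow_left (show Commute (c ^ 3) y from hc3) 3).eq
    have hcr : c ^ r ∈ Subgroup.center ↥(threeJ3 F ω) := by
      rw [← hq1, map_pow, ← hord, pow_orderOf_eq_one]
    have hdr : d ^ r = 1 := by
      have h9 : d ^ r = ((c ^ r) ^ 3) ^ 3 := by
        rw [hd, ← pow_mul, ← pow_mul, ← pow_mul, ← pow_mul]
        congr 1; ring
      rw [h9, hcube _ hcr, one_pow]
    have hd1 : d ≠ 1 := by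
      intro h1
      have : (q c) ^ 9 = 1 := by
        rw [← map_pow, show c ^ 9 = d by rw [hd, ← pow_mul], h1, map_one]
      have hdvd := orderOf_dvd_of_pow_eq_one this
      rw [hord] at hdvd
      have : r ∣ 3 := hr.dvd_of_dvd_pow (show r ∣ 3 ^ 2 by norm_num; exact hdvd)
      exact hr3 ((Nat.prime_dvd_prime_iff_eq hr (by norm_num)).mp this)
    -- pass to matrices
    have hD1 : ((d : GL F9 F) : Matrix F9 F9 F) ≠ 1 := by
      intro h; apply hd1; apply ext_mat; rw [h]; rfl
    have hDr : ((d : GL F9 F) : Matrix F9 F9 F) ^ r = 1 := by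
      have := congrArg (fun x : ↥(threeJ3 F ω) => ((x : GL F9 F) : Matrix F9 F9 F)) hdr
      simpa using this
    have hDY : ((d : GL F9 F) : Matrix F9 F9 F) * decM ω pmY = decM ω pmY * ((d : GL F9 F) : Matrix F9 F9 F) := by
      have := congrArg (fun x : ↥(threeJ3 F ω) => ((x : GL F9 F) : Matrix F9 F9 F)) hdy
      simp only [Subgroup.coe_mul, Units.val_mul, hyv'] at this
      exact this
    have hdiv := prime_dvd_of_commute hF (decM ω pmY) (decM_pmY_pow ω hω) (decM_pmY_fix ω hω)
      _ r hr hDr hD1 hDY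
    have hdiv2 : r ∣ 50232960 := by
      rw [← hord, ← hcardJ]
      exact orderOf_dvd_natCard _
    exact prime_three_or_nineteen r hr hdiv hdiv2

end sem

end Cfsg.Agent.Lib.Helper93.J3
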