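import Mathlib

/-! # The involution centraliser shape `2^{1+4}:A₅` as an isomorphism-invariant package -/

set_option autoImplicit false

namespace Cfsg.Agent.Lib.Helper93.J3

/-- Element-wise description of a group of order `2^7 · odd` with one class of involutions whose
involution centraliser has order 1920 and contains a normal subgroup `Q` of order 32, generated by
involutions, with centre `{1, t}`, normalised by elements `a`, `b` generating a copy of `A₅`, with
`a` acting non-trivially on `Q`. -/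
def ShapeQA5 (G : Type*) [Group G] : Prop :=
  ∃ m : ℕ, Nat.card G = 128 * m ∧ Odd m ∧
    (∀ x y : G, orderOf x = 2 → orderOf y = 2 → IsConj x y) ∧
    ∃ t : G, orderOf t = 2 ∧ Nat.card ↥(Subgroup.centralizer ({t} : Set G)) = 1920 ∧
    ∃ Q : Subgroup G, Nat.card ↥Q = 32 ∧ t ∈ Q ∧ (∀ q ∈ Q, q * t = t * q) ∧
      (∀ x ∈ Q, (∀ q ∈ Q, x * q = q * x) → x = 1 ∨ x = t) ∧
      (∀ q ∈ Q, q ∈ Subgroup.closure {x : G | x ∈ Q ∧ x ^ 2 = 1}) ∧
      ∃ a b : G, a ^ 3 = 1 ∧ b ^ 5 = 1 ∧ (a * b) ^ 2 = 1 ∧ a ≠ 1 ∧ a * t = t * a ∧ b * t = t * b ∧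
        (∀ q ∈ Q, a * q * a⁻¹ ∈ Q) ∧ (∀ q ∈ Q, b * q * b⁻¹ ∈ Q) ∧ ∃ q ∈ Q, a * q * a⁻¹ ≠ q

theorem ShapeQA5.of_equiv {G G' : Type*} [Group G] [Group G'] (e : G ≃* G')
    (h : ShapeQA5 G') : ShapeQA5 G := by
  obtain ⟨m, hcard, hm, hconj, t', ht', hC', Q', hQ', htQ', hQt', hZQ', hQgen', a', b', ha', hb',
    hab', ha1', hat', hbt', hna', hnb', q0', hq0', hact'⟩ := h
  have hes : ∀ y : G', e (e.symm y) = y := e.apply_symm_apply
  have hmemQ : ∀ x : G, x ∈ Q'.comap e.toMonoidHom ↔ e x ∈ Q' := fun x => Iff.rfl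
  refine ⟨m, ?_, hm, ?_, e.symm t', ?_, ?_, Q'.comap e.toMonoidHom, ?_, ?_, ?_, ?_, ?_, e.symm a',
    e.symm b', ?_, ?_, ?_, ?_, ?_, ?_, ?_, ?_, e.symm q0', ?_, ?_⟩
  · rw [Nat.card_congr e.toEquiv, hcard]
  · intro x y hx hy
    have h1 := hconj (e x) (e y) (by rw [MulEquiv.orderOf_eq]; exact hx)
      (by rw [MulEquiv.orderOf_eq]; exact hy)
    rw [isConj_iff] at h1 ⊢
    obtain ⟨c, hc⟩ := h1
    refine ⟨e.symm c, ?_⟩
    apply e.injective
    rw [map_mul, map_mul, map_inv, hes, hc]
  · rw [MulEquiv.orderOf_eq]; exact ht'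
  · rw [← hC']
    apply Nat.card_congr
    refine e.toEquiv.subtypeEquiv (fun x => ?_)
    rw [Subgroup.mem_centralizer_singleton_iff, Subgroup.mem_centralizer_singleton_iff]
    constructor
    · intro h
      have := congrArg e h
      rw [map_mul, map_mul, hes] at this
      exact this
    · intro h
      apply e.injective
      rw [map_mul, map_mul, hes]
      exact h
  · rw [← hQ']
    apply Nat.card_congr
    exact e.toEquiv.subtypeEquiv (fun x => Iff.rfl)
  · rw [hmemQ, hes]; exact htQ'
  · intro q hq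
    apply e.injective
    rw [map_mul, map_mul, hes]
    exact hQt' (e q) hq
  · intro x hx hc
    have h1 := hZQ' (e x) hx (fun q hq => by
      have := congrArg e (hc (e.symm q) (by rw [hmemQ, hes]; exact hq))
      rw [map_mul, map_mul, hes] at this
      exact this)
    rcases h1 with h1 | h1
    · left
      apply e.injective
      rw [h1, map_one]
    · right
      apply e.injective
      rw [h1, hes]
  · intro q hq
    have h1 := hQgen' (e q) hq
    have key : ∀ y ∈ Subgroup.closure {x : G' | x ∈ Q' ∧ x ^ 2 = 1},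
        e.symm y ∈ Subgroup.closure {x : G | x ∈ Q'.comap e.toMonoidHom ∧ x ^ 2 = 1} := by
      intro y hy
      induction hy using Subgroup.closure_induction with
      | mem y hy =>
        apply Subgroup.subset_closure
        refine ⟨by rw [hmemQ, hes]; exact hy.1, ?_⟩
        rw [← map_pow, hy.2, map_one]
      | one => rw [map_one]; exact Subgroup.one_mem _
      | mul x y _ _ hx hy => rw [map_mul]; exact Subgroup.mul_mem _ hx hy
      | inv x _ hx => rw [map_inv]; exact Subgroup.inv_mem _ hx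
    have := key _ h1
    rwa [e.symm_apply_apply] at this
  · rw [← map_pow, ha', map_one]
  · rw [← map_pow, hb', map_one]
  · rw [← map_mul, ← map_pow, hab', map_one]
  · intro h
    apply ha1'
    have := congrArg e h
    rwa [hes, map_one] at this
  · rw [← map_mul, ← map_mul, hat']
  · rw [← map_mul, ← map_mul, hbt']
  · intro q hq
    rw [hmemQ, map_mul, map_mul, map_inv, hes]
    exact hna' (e q) hq
  · intro q hq
    rw [hmemQ, map_mul, map_mul, map_inv, hes]
    exact hnb' (e q) hq
  · rw [hmemQ, hes]; exact hq0'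
  · intro h
    apply hact'
    have := congrArg e h
    rwa [map_mul, map_mul, map_inv, hes, hes] at this

end Cfsg.Agent.Lib.Helper93.J3
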