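import Cfsg.Agent.Lib.Helper93.J3CenFin
import Cfsg.Agent.Lib.Helper93.J3FusAbs

/-! # `J₃` has the involution centraliser shape package `ShapeQA5` -/

set_option autoImplicit false

namespace Cfsg.Agent.Lib.Helper93.J3

open Cfsg.Spor Matrix

/-- The element of index `i` is a product of two elements of square 1. -/
def chkQGen (i : ℕ) : Bool :=
  anyBelow 1024 (fun n => Nat.beq (qMul (Nat.div n 32) (Nat.div n 32)) qI1 &&
    Nat.beq (qMul (Nat.mod n 32) (Nat.mod n 32)) qI1 &&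
    Nat.beq (qMul (Nat.div n 32) (Nat.mod n 32)) i)

set_option maxRecDepth 100000 in
theorem qGen_chk : allRange 0 32 chkQGen = true := by decide +kernel

theorem qGen_fact (i : ℕ) (hi : i < 32) :
    ∃ j k, j < 32 ∧ k < 32 ∧ qMul j j = qI1 ∧ qMul k k = qI1 ∧ qMul j k = i := by
  have h := allRange_spec 0 32 chkQGen qGen_chk i (Nat.zero_le _) (by omega)
  unfold chkQGen at h
  obtain ⟨n, hn, hf⟩ := anyBelow_spec 1024 _ h
  simp only [Bool.and_eq_true] at hf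
  obtain ⟨⟨h1, h2⟩, h3⟩ := hf
  refine ⟨n / 32, n % 32, by omega, by omega, Nat.eq_of_beq_eq_true h1, Nat.eq_of_beq_eq_true h2,
    Nat.eq_of_beq_eq_true h3⟩

theorem qCA_moves : qCA 0 ≠ 0 := by decide +kernel

section sem
variable {F : Type*} [Field F] [CharP F 2] (ω : F) (hω : ω ^ 2 + ω + 1 = 0)
include hω

theorem card_qSub : Nat.card ↥(qSub ω hω) = 32 := by
  have hb : Function.Bijective
      (fun x : ↥(qSub ω hω) => (⟨qIdx ω hω x, qIdx_lt ω hω x⟩ : Fin 32)) := by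
    constructor
    · intro x y h
      exact qIdx_injective ω hω (Fin.mk.inj_iff.mp h)
    · rintro ⟨i, hi⟩
      obtain ⟨x, hx⟩ := qIdx_surj ω hω i hi
      exact ⟨x, Fin.ext hx⟩
  rw [Nat.card_eq_of_bijective _ hb, Nat.card_eq_fintype_card, Fintype.card_fin]

theorem qIdx_eq_one (x : ↥(qSub ω hω)) (h : qIdx ω hω x = qI1) : x = 1 :=
  qIdx_injective ω hω (by rw [h, qIdx_one])

theorem qIdx_tHat : qIdx ω hω ⟨tHat ω hω, tHat_mem_qSub ω hω⟩ = qIz := by
  apply qIdx_eq ω hω _ _ (by decide)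
  show mat ω (tHat ω hω) = _
  rw [mat_tHat, qMisc_facts.2.1]

theorem qIdx_conj_a (x : ↥(qSub ω hω)) :
    qIdx ω hω ⟨aHat ω hω * x.1 * (aHat ω hω)⁻¹, aHat_conj ω hω x.1 x.2⟩ = qCA (qIdx ω hω x) := by
  apply qIdx_eq ω hω _ _ (qCA_lt _)
  show mat ω (aHat ω hω * x.1 * (aHat ω hω)⁻¹) = _
  rw [mat_mul, mat_mul, mat_aHat, mat_aHat_inv, qIdx_spec ω hω x, ← decM_mmul ω hω,
    ← decM_mmul ω hω, (q_facts _ (qIdx_lt ω hω x)).2.2.2.1]

/-- The quotient map is injective on the subgroup of order 32. -/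
theorem pi_inj_qSub [Fintype F] (hF : Fintype.card F = 4) (x y : ↥(threeJ3 F ω))
    (hx : x ∈ qSub ω hω) (hy : y ∈ qSub ω hω)
    (h : QuotientGroup.mk' (Subgroup.center ↥(threeJ3 F ω)) x =
      QuotientGroup.mk' (Subgroup.center ↥(threeJ3 F ω)) y) : x = y := by
  have hz : x⁻¹ * y ∈ Subgroup.center ↥(threeJ3 F ω) := QuotientGroup.eq.mp h
  have := qSub_center ω hω hF (x⁻¹ * y) (mul_mem (inv_mem hx) hy) hz
  exact inv_mul_eq_one.mp this

/-- The normal subgroup of order 32 of the centraliser of `t` in `J₃`. -/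
def QJ : Subgroup (J3 F ω) :=
  (qSub ω hω).map (QuotientGroup.mk' (Subgroup.center ↥(threeJ3 F ω)))

theorem card_QJ [Fintype F] (hF : Fintype.card F = 4) : Nat.card ↥(QJ ω hω) = 32 := by
  rw [← card_qSub ω hω]
  symm
  apply Nat.card_congr
  refine Equiv.ofBijective (fun x : ↥(qSub ω hω) =>
    (⟨QuotientGroup.mk' (Subgroup.center ↥(threeJ3 F ω)) x.1,
      Subgroup.mem_map_of_mem _ x.2⟩ : ↥(QJ ω hω))) ⟨?_, ?_⟩
  · intro x y h
    exact Subtype.ext (pi_inj_qSub ω hω hF x.1 y.1 x.2 y.2 (congrArg Subtype.val h))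
  · rintro ⟨q, hq⟩
    obtain ⟨y, hy, hyq⟩ := Subgroup.mem_map.mp hq
    exact ⟨⟨y, hy⟩, Subtype.ext hyq⟩

theorem shapeQA5_J3 [Fintype F] (hF : Fintype.card F = 4) : ShapeQA5 (J3 F ω) := by
  classical
  let π := QuotientGroup.mk' (Subgroup.center ↥(threeJ3 F ω))
  have hmemQ : ∀ q ∈ QJ ω hω, ∃ x : ↥(qSub ω hω), π x.1 = q := by
    intro q hq
    obtain ⟨y, hy, hyq⟩ := Subgroup.mem_map.mp hq
    exact ⟨⟨y, hy⟩, hyq⟩
  have hQmem : ∀ x : ↥(qSub ω hω), π x.1 ∈ QJ ω hω := fun x => Subgroup.mem_map_of_mem _ x.2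
  refine ⟨392445, ?_, by decide, ?_, tJ ω hω, orderOf_tJ ω hω hF, card_centralizer_tJ ω hω hF,
    QJ ω hω, card_QJ ω hω hF, ?_, ?_, ?_, ?_, π (aHat ω hω), π (bHat ω hω), ?_, ?_, ?_, ?_, ?_, ?_,
    ?_, ?_, ?_⟩
  · rw [card_J3 hF ω hω]
  · intro x y hx hy
    exact (involution_conj_tJ ω hω hF x hx).trans (involution_conj_tJ ω hω hF y hy).symm
  · exact Subgroup.mem_map_of_mem _ (tHat_mem_qSub ω hω)
  · intro q hq
    obtain ⟨x, rfl⟩ := hmemQ q hq
    show π x.1 * π (tHat ω hω) = π (tHat ω hω) * π x.1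
    rw [← map_mul, ← map_mul, qSub_comm_t ω hω x.1 x.2]
  · intro q hq hc
    obtain ⟨x, rfl⟩ := hmemQ q hq
    rcases (qI_facts (qIdx ω hω x) (qIdx_lt ω hω x)).2.1 with h | h | ⟨k, hk, hne⟩
    · left
      rw [qIdx_eq_one ω hω x h]
      exact map_one π
    · right
      have : x = ⟨tHat ω hω, tHat_mem_qSub ω hω⟩ := qIdx_injective ω hω (by rw [h, qIdx_tHat])
      rw [this]
      rfl
    · exfalso
      obtain ⟨y, hy⟩ := qIdx_surj ω hω k hk
      apply hne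
      have h1 := hc (π y.1) (hQmem y)
      rw [← map_mul, ← map_mul] at h1
      have h2 : x * y = y * x :=
        Subtype.ext (pi_inj_qSub ω hω hF _ _ (x * y).2 (y * x).2 h1)
      rw [← hy, ← qIdx_mul, ← qIdx_mul, h2]
  · intro q hq
    obtain ⟨x, rfl⟩ := hmemQ q hq
    obtain ⟨j, k, hj, hk, hjj, hkk, hjk⟩ := qGen_fact (qIdx ω hω x) (qIdx_lt ω hω x)
    obtain ⟨y, hy⟩ := qIdx_surj ω hω j hj
    obtain ⟨z, hz⟩ := qIdx_surj ω hω k hk
    have hyy : y * y = 1 := qIdx_eq_one ω hω _ (by rw [qIdx_mul, hy, hjj])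
    have hzz : z * z = 1 := qIdx_eq_one ω hω _ (by rw [qIdx_mul, hz, hkk])
    have hx : x = y * z := qIdx_injective ω hω (by rw [qIdx_mul, hy, hz, hjk])
    have hx' : π x.1 = π y.1 * π z.1 := by
      rw [hx, ← map_mul]
      rfl
    rw [hx']
    apply Subgroup.mul_mem
    · apply Subgroup.subset_closure
      refine ⟨hQmem y, ?_⟩
      rw [pow_two, ← map_mul]
      have : y.1 * y.1 = 1 := congrArg Subtype.val hyy
      rw [this, map_one]
    · apply Subgroup.subset_closure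
      refine ⟨hQmem z, ?_⟩
      rw [pow_two, ← map_mul]
      have : z.1 * z.1 = 1 := congrArg Subtype.val hzz
      rw [this, map_one]
  · rw [← map_pow, aHat_pow, map_one]
  · rw [← map_pow, bHat_pow, map_one]
  · rw [← map_mul, ← map_pow, abHat_sq, map_one]
  · intro h
    exact aHat_not_center ω hω hF ((QuotientGroup.eq_one_iff _).mp h)
  · show π (aHat ω hω) * π (tHat ω hω) = π (tHat ω hω) * π (aHat ω hω)
    rw [← map_mul, ← map_mul, aHat_comm_t]
  · show π (bHat ω hω) * π (tHat ω hω) = π (tHat ω hω) * π (bHat ω hω)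
    rw [← map_mul, ← map_mul, bHat_comm_t]
  · intro q hq
    obtain ⟨x, rfl⟩ := hmemQ q hq
    rw [← map_inv, ← map_mul, ← map_mul]
    exact Subgroup.mem_map_of_mem _ (aHat_conj ω hω x.1 x.2)
  · intro q hq
    obtain ⟨x, rfl⟩ := hmemQ q hq
    rw [← map_inv, ← map_mul, ← map_mul]
    exact Subgroup.mem_map_of_mem _ (bHat_conj ω hω x.1 x.2)
  · obtain ⟨x, hx⟩ := qIdx_surj ω hω 0 (by norm_num)
    refine ⟨π x.1, hQmem x, ?_⟩
    intro h
    rw [← map_inv, ← map_mul, ← map_mul] at h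
    have h2 := pi_inj_qSub ω hω hF _ _ (aHat_conj ω hω x.1 x.2) x.2 h
    have h3 : (⟨aHat ω hω * x.1 * (aHat ω hω)⁻¹, aHat_conj ω hω x.1 x.2⟩ : ↥(qSub ω hω)) = x :=
      Subtype.ext h2
    have h4 := qIdx_conj_a ω hω x
    rw [h3, hx] at h4
    exact qCA_moves h4.symm

end sem

end Cfsg.Agent.Lib.Helper93.J3
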