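import Cfsg.Agent.Lib.Helper93.J3Gens
set_option autoImplicit false
namespace Cfsg.Agent.Lib.Helper93.J3
open Cfsg.Spor Matrix

/-- The element of `F9` with index `j`. -/
def unix (j : ℕ) : F9 := (((j / 3 : ℕ) : ZMod 3), ((j % 3 : ℕ) : ZMod 3))

theorem ix_unix (j : ℕ) (hj : j < 9) : ix (unix j) = j := by
  unfold ix unix
  simp only
  rw [ZMod.val_natCast, ZMod.val_natCast]
  have : j / 3 < 3 := by omega
  rw [Nat.mod_eq_of_lt this, Nat.mod_mod]
  omega

theorem unix_ne_zero (j : ℕ) (hj : j < 9) (h0 : j ≠ 0) : unix j ≠ 0 := by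
  intro h
  have := ix_unix j hj
  rw [h] at this
  exact h0 (by rw [← this]; decide)

theorem ix_ne_zero (Z : F9) (hZ : Z ≠ 0) : ix Z ≠ 0 := by
  intro h
  apply hZ
  apply ix_injective
  rw [h]; decide

section grp
variable {F : Type*} [Field F] [CharP F 2] (ω : F) (hω : ω ^ 2 + ω + 1 = 0)
include hω

theorem j3A_eq (Z : F9) : j3A F ω Z = decM ω (gen (ix Z)) :=
  eq_decM_of_digit ω _ (codeA Z) _ (j3A_apply ω hω Z) (gen_digit_A Z)

theorem j3E_eq (Z : F9) : j3E F ω Z = decM ω (gen (9 + ix Z)) :=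
  eq_decM_of_digit ω _ (codeE Z) _ (j3E_apply ω hω Z) (gen_digit_E Z)

theorem j3D_eq (Z : F9) : j3D F ω Z = decM ω (gen (18 + ix Z)) :=
  eq_decM_of_digit ω _ (codeD Z) _ (j3D_apply ω hω Z) (gen_digit_D Z)

omit [CharP F 2] hω in
theorem j3B_eq (Z : F9) (hZ : Z ≠ 0) : j3B F Z = decM ω (gen (26 + ix Z)) :=
  eq_decM_of_digit ω _ (codeB Z) _ (j3B_apply ω Z) (fun w z => gen_digit_B Z w z hZ)

omit [CharP F 2] hω in
theorem j3C_eq (Z : F9) (hZ : Z ≠ 0) : j3C F Z = decM ω (gen (34 + ix Z)) :=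
  eq_decM_of_digit ω _ (codeC Z) _ (j3C_apply ω Z) (fun w z => gen_digit_C Z w z hZ)

theorem gens_cover (M : Matrix F9 F9 F) (hM : M ∈ j3Gens F ω) : ∃ k < 43, M = decM ω (gen k) := by
  unfold j3Gens at hM
  rcases hM with (((⟨Z, rfl⟩ | ⟨Z, rfl⟩) | ⟨Z, rfl⟩) | ⟨Z, hZ, rfl⟩) | ⟨Z, hZ, rfl⟩
  · exact ⟨ix Z, by have := ix_lt Z; omega, j3A_eq ω hω Z⟩
  · exact ⟨9 + ix Z, by have := ix_lt Z; omega, j3E_eq ω hω Z⟩
  · exact ⟨18 + ix Z, by have := ix_lt Z; omega, j3D_eq ω hω Z⟩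
  · exact ⟨26 + ix Z, by have := ix_lt Z; omega, j3B_eq ω Z hZ⟩
  · exact ⟨34 + ix Z, by have := ix_lt Z; omega, j3C_eq ω Z hZ⟩

theorem gen_mem (k : ℕ) (hk : k < 43) : decM ω (gen k) ∈ j3Gens F ω := by
  unfold j3Gens
  by_cases h1 : k < 9
  · left; left; left; left
    exact ⟨unix k, by rw [j3A_eq ω hω, ix_unix k h1]⟩
  by_cases h2 : k < 18
  · left; left; left; right
    exact ⟨unix (k - 9), by rw [j3E_eq ω hω, ix_unix (k - 9) (by omega)]; congr 2; omega⟩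
  by_cases h3 : k < 27
  · left; left; right
    exact ⟨unix (k - 18), by rw [j3D_eq ω hω, ix_unix (k - 18) (by omega)]; congr 2; omega⟩
  by_cases h4 : k < 35
  · left; right
    refine ⟨unix (k - 26), unix_ne_zero _ (by omega) (by omega), ?_⟩
    rw [j3B_eq ω _ (unix_ne_zero _ (by omega) (by omega)), ix_unix (k - 26) (by omega)]
    congr 2; omega
  · right
    refine ⟨unix (k - 34), unix_ne_zero _ (by omega) (by omega), ?_⟩
    rw [j3C_eq ω _ (unix_ne_zero _ (by omega) (by omega)), ix_unix (k - 34) (by omega)]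
    congr 2; omega

theorem gen_mul_genI (k : ℕ) (hk : k < 43) : decM ω (gen k) * decM ω (genI k) = 1 := by
  have hc := invCheck_all k hk
  simp only [invCheck, Bool.and_eq_true, Nat.beq_eq_true_eq] at hc
  obtain ⟨⟨⟨⟨⟨⟨⟨⟨h0, h1⟩, h2⟩, h3⟩, h4⟩, h5⟩, h6⟩, h7⟩, h8⟩ := hc
  have key : ∀ z : F9, (gen k).mv ((genI k).mv (2 ^ (2 * ix z))) = 2 ^ (2 * ix z) := by
    intro z
    have hz := ix_lt z
    generalize ix z = j at hz
    interval_cases j
    · exact Nat.eq_of_beq_eq_true h0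
    · exact Nat.eq_of_beq_eq_true h1
    · exact Nat.eq_of_beq_eq_true h2
    · exact Nat.eq_of_beq_eq_true h3
    · exact Nat.eq_of_beq_eq_true h4
    · exact Nat.eq_of_beq_eq_true h5
    · exact Nat.eq_of_beq_eq_true h6
    · exact Nat.eq_of_beq_eq_true h7
    · exact Nat.eq_of_beq_eq_true h8
  ext w z
  have := congrFun (Matrix.mulVec_single_one (decM ω (gen k) * decM ω (genI k)) z) w
  rw [← decV_single ω, ← Matrix.mulVec_mulVec, ← decV_mv ω hω, ← decV_mv ω hω, key z, decV_single] at this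
  rw [Matrix.one_apply]
  rw [Matrix.col_apply] at this
  rw [← this, Pi.single_apply]

/-- The generator number `k` as an element of the general linear group. -/
noncomputable def genU (k : ℕ) (hk : k < 43) : GL F9 F :=
  ⟨decM ω (gen k), decM ω (genI k), gen_mul_genI ω hω k hk,
    mul_eq_one_comm.mp (gen_mul_genI ω hω k hk)⟩

theorem genU_mem (k : ℕ) (hk : k < 43) : genU ω hω k hk ∈ threeJ3 F ω :=
  Subgroup.subset_closure (gen_mem ω hω k hk)

end grp
end Cfsg.Agent.Lib.Helper93.J3
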