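import Cfsg.Agent.Lib.Helper93.J3L216Valid

/-! # A subgroup of order 8160 of `J₃` -/

set_option autoImplicit false

namespace Cfsg.Agent.Lib.Helper93.J3

open Cfsg.Spor Matrix

section sem
variable {F : Type*} [Field F] [CharP F 2] (ω : F) (hω : ω ^ 2 + ω + 1 = 0)
include hω

omit [CharP F 2] hω in
theorem MG_pow {M : Matrix F9 F9 F} (hM : M ∈ MG ω) (n : ℕ) : M ^ n ∈ MG ω := by
  induction n with
  | zero => rw [pow_zero]; exact MG_one ω
  | succ n ih => rw [pow_succ]; exact MG_mul ω ih hM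

theorem lk_kg_mem : ∀ a, a < 3 → decM ω (lkD.kg a) ∈ MG ω := by
  have h := lk_gens
  simp only [Bool.and_eq_true] at h
  obtain ⟨⟨h0, h1⟩, h2⟩ := h
  have hw : ∀ w : List ℕ, (∀ s ∈ w, s < 43) → decM ω (wordMul w) ∈ MG ω := MG_word ω hω
  intro a ha
  interval_cases a
  · show decM ω lkG0 ∈ MG ω
    rw [← pmBeq_eq h0, decM_mmul ω hω, decM_pmOmega ω hω]
    apply MG_mul ω (scalar_mem_MG ω hω)
    apply hw
    intro s hs
    simp only [lkWx, List.mem_cons, List.not_mem_nil, or_false] at hs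
    omega
  · show decM ω lkG1 ∈ MG ω
    rw [← pmBeq_eq h1, decM_pmPow ω hω]
    apply MG_pow
    apply hw
    intro s hs
    simp only [lkWt, List.mem_cons, List.not_mem_nil, or_false] at hs
    omega
  · show decM ω lkG2 ∈ MG ω
    rw [← pmBeq_eq h2, decM_pmPow ω hω]
    apply MG_pow
    apply hw
    intro s hs
    simp only [lkWtp, List.mem_cons, List.not_mem_nil, or_false] at hs
    omega

/-- The subgroup `3 × L₂(16):2`. -/
def lkSub : Subgroup ↥(threeJ3 F ω) := tabSubgroup ω lkD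

theorem card_lkSub [Finite F] : Nat.card ↥(lkSub ω) = 24480 :=
  card_tabSubgroup ω hω lkD lkD_valid (lk_kg_mem ω hω)

theorem center_le_lkSub [Fintype F] (hF : Fintype.card F = 4) :
    Subgroup.center ↥(threeJ3 F ω) ≤ lkSub ω := by
  have hfin : Finite F := Finite.of_fintype F
  have hmem := mem_tab_iff ω hω lkD lkD_valid (lk_kg_mem ω hω)
  -- the scalar ω
  have hs : ∃ s ∈ lkSub ω, ((s : GL F9 F) : Matrix F9 F9 F) = ω • (1 : Matrix F9 F9 F) := by
    obtain ⟨g, hg, e⟩ := tab_mem ω hω lkD lkD_valid (lk_kg_mem ω hω) lkJw (by decide)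
    exact ⟨g, hg, by rw [e, pmBeq_eq lk_scalar, decM_pmOmega ω hω]⟩
  obtain ⟨s, hs, es⟩ := hs
  intro z hz
  have hsc := center_scalar ω hω z hz
  set μ := ((z : GL F9 F) : Matrix F9 F9 F) 0 0 with hμ
  rcases scalar_cases ω hω hF μ with h | h | h | h
  · exfalso
    rw [h, zero_smul] at hsc
    have hu := ((z : GL F9 F)).val_inv
    rw [hsc, zero_mul] at hu
    exact zero_ne_one hu
  · have : z = 1 := ext_mat ω (by rw [hsc, h, one_smul]; rfl)
    rw [this]; exact one_mem _
  · have : z = s := ext_mat ω (by rw [hsc, h, es])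
    rw [this]; exact hs
  · have : z = s * s := ext_mat ω (by
      rw [hsc, h, Subgroup.coe_mul, Units.val_mul, es, Matrix.smul_mul, Matrix.mul_smul, one_mul,
        smul_smul])
    rw [this]; exact mul_mem hs hs

/-- `J₃` has a subgroup of order 8160. -/
theorem exists_subgroup_8160 [Fintype F] (hF : Fintype.card F = 4) :
    ∃ K : Subgroup (J3 F ω), Nat.card K = 8160 := by
  have hfin : Finite F := Finite.of_fintype F
  let f := QuotientGroup.mk' (Subgroup.center ↥(threeJ3 F ω))
  refine ⟨(lkSub ω).map f, ?_⟩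
  have hidx : ((lkSub ω).map f).index = (lkSub ω).index :=
    Subgroup.index_map_eq (lkSub ω) (QuotientGroup.mk'_surjective _)
      (by rw [QuotientGroup.ker_mk']; exact center_le_lkSub ω hω hF)
  have h1 := Subgroup.card_mul_index (lkSub ω)
  rw [card_lkSub ω hω, card_threeJ3_eq hF ω hω] at h1
  have h2 := Subgroup.card_mul_index ((lkSub ω).map f)
  have hJ : Nat.card (↥(threeJ3 F ω) ⧸ Subgroup.center ↥(threeJ3 F ω)) = 50232960 :=
    card_J3 hF ω hω
  rw [hidx, hJ] at h2
  have hi : (lkSub ω).index = 6156 := by omega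
  rw [hi] at h2
  exact Nat.eq_of_mul_eq_mul_right (by norm_num : 0 < 6156) (h2.trans (by norm_num))

end sem

end Cfsg.Agent.Lib.Helper93.J3
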