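import Cfsg.Agent.Lib.Helper93.J3L216C0
import Cfsg.Agent.Lib.Helper93.J3L216C1
import Cfsg.Agent.Lib.Helper93.J3L216C2
import Cfsg.Agent.Lib.Helper93.J3L216C3

/-! # The table of `3 × L₂(16):2` is valid -/

set_option autoImplicit false

namespace Cfsg.Agent.Lib.Helper93.J3

open Cfsg.Spor Matrix

set_option maxRecDepth 100000 in
theorem lkOrd_a : allRange 0 8192 lkD.chkOrd = true := by decide +kernel
set_option maxRecDepth 100000 in
theorem lkOrd_b : allRange 8192 8192 lkD.chkOrd = true := by decide +kernel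
set_option maxRecDepth 100000 in
theorem lkOrd_c : allRange 16384 8095 lkD.chkOrd = true := by decide +kernel

theorem lk_gens : (pmBeq (mmul pmOmega (wordMul lkWx)) lkG0 && pmBeq (pmPow (wordMul lkWt) 4) lkG1 &&
    pmBeq (pmPow (wordMul lkWtp) 3) lkG2) = true := by decide +kernel

theorem lk_scalar : pmBeq (lkD.Ks lkJw) pmOmega = true := by decide +kernel

theorem lk_cases (j : ℕ) (hj : j < 24480) :
    (0 ≤ j ∧ j < 6120) ∨ (6120 ≤ j ∧ j < 12240) ∨ (12240 ≤ j ∧ j < 18360) ∨
      (18360 ≤ j ∧ j < 24480) := by omega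

theorem lkD_valid : lkD.Valid where
  vK := by
    intro j hj
    have hj' : j < 24480 := hj
    rcases lk_cases j hj' with h | h | h | h
    · exact lkChk_quarter_0 j h.1 (by omega)
    · exact lkChk_quarter_1 j h.1 (by omega)
    · exact lkChk_quarter_2 j h.1 (by omega)
    · exact lkChk_quarter_3 j h.1 (by omega)
  vO := by
    intro j hj
    have hj' : j + 1 < 24480 := hj
    have h : j < 8192 ∨ (8192 ≤ j ∧ j < 16384) ∨ 16384 ≤ j := by omega
    rcases h with h | h | h
    · exact allRange_spec 0 8192 _ lkOrd_a j (Nat.zero_le j) (by omega)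
    · exact allRange_spec 8192 8192 _ lkOrd_b j h.1 (by omega)
    · exact allRange_spec 16384 8095 _ lkOrd_c j h (by omega)
  vj1 := by decide
  vSmall := fun j => unpackM_small _

end Cfsg.Agent.Lib.Helper93.J3
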