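import Cfsg.Agent.Lib.Helper93.J3Orbit

/-! # Lines of the 9-space of `3·J₃`: counting, scalars, and the cubic form -/

set_option autoImplicit false

namespace Cfsg.Agent.Lib.Helper93.J3

open Cfsg.Spor Matrix

/-- Number of `i` in `[a, a + 2 ^ d)` with `f i`. -/
def countRange : ℕ → ℕ → (ℕ → Bool) → ℕ
  | 0, a, f => bif f a then 1 else 0
  | d + 1, a, f => countRange d a f + countRange d (a + Nat.pow 2 d) f

theorem countRange_spec (d a : ℕ) (f : ℕ → Bool) :
    countRange d a f = ((Finset.Ico a (a + 2 ^ d)).filter (fun i => f i = true)).card := by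
  induction d generalizing a with
  | zero =>
    simp only [countRange, pow_zero]
    rw [Nat.Ico_succ_singleton]
    by_cases h : f a = true <;> simp [Finset.filter_singleton, h]
  | succ d ih =>
    rw [countRange, ih, ih]
    have h2 : Nat.pow 2 d = 2 ^ d := rfl
    rw [h2]
    have hsplit : Finset.Ico a (a + 2 ^ (d + 1)) =
        Finset.Ico a (a + 2 ^ d) ∪ Finset.Ico (a + 2 ^ d) (a + 2 ^ d + 2 ^ d) := by
      rw [Finset.Ico_union_Ico_eq_Ico (by omega) (by omega)]
      congr 1
      rw [pow_succ]; ring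
    rw [hsplit, Finset.filter_union, Finset.card_union_of_disjoint]
    apply Finset.disjoint_filter_filter
    exact Finset.Ico_disjoint_Ico_consecutive _ _ _

/-- The number of nonzero digits is even. -/
def evenw (c : ℕ) : Bool :=
  !(Bool.xor (!Nat.beq (digit c 0) 0) (Bool.xor (!Nat.beq (digit c 1) 0) (Bool.xor (!Nat.beq (digit c 2) 0)
    (Bool.xor (!Nat.beq (digit c 3) 0) (Bool.xor (!Nat.beq (digit c 4) 0) (Bool.xor (!Nat.beq (digit c 5) 0)
    (Bool.xor (!Nat.beq (digit c 6) 0) (Bool.xor (!Nat.beq (digit c 7) 0) (!Nat.beq (digit c 8) 0)))))))))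

section fld
variable {F : Type*} [Field F]

theorem charP_two_of_card [Fintype F] (hF : Fintype.card F = 4) : CharP F 2 := by
  have h4 : ((4 : ℕ) : F) = 0 := by rw [← hF]; exact Nat.cast_card_eq_zero F
  have h2 : (2 : F) = 0 := by
    have : (2 : F) * 2 = 0 := by
      have e : ((4 : ℕ) : F) = 2 * 2 := by norm_num
      rw [← e]; exact h4
    exact mul_self_eq_zero.mp this
  exact CharTwo.of_one_ne_zero_of_two_eq_zero one_ne_zero h2

variable [CharP F 2] (ω : F) (hω : ω ^ 2 + ω + 1 = 0)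
include hω

theorem scalar_cases [Fintype F] (hF : Fintype.card F = 4) (a : F) :
    a = 0 ∨ a = 1 ∨ a = ω ∨ a = ω * ω := by
  classical
  have h0 := omega_ne_zero ω hω
  have h1 := omega_ne_one ω hω
  have hsq : ω * ω = 1 + ω := by rw [← omega_sq ω hω, sq]
  have h2 : ω * ω ≠ 0 := mul_ne_zero h0 h0
  have h3 : ω * ω ≠ 1 := by
    rw [hsq]; intro h; exact h0 (by simp at h; exact h)
  have h4 : ω * ω ≠ ω := by
    rw [hsq]; intro h
    simp at h
  have hcard : ({0, 1, ω, ω * ω} : Finset F).card = 4 := by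
    rw [Finset.card_insert_of_notMem, Finset.card_insert_of_notMem, Finset.card_insert_of_notMem,
      Finset.card_singleton]
    · simpa using Ne.symm h4
    · simp only [Finset.mem_insert, Finset.mem_singleton, not_or]
      exact ⟨Ne.symm h1, Ne.symm h3⟩
    · simp only [Finset.mem_insert, Finset.mem_singleton, not_or]
      exact ⟨zero_ne_one, Ne.symm h0, Ne.symm h2⟩
  have huniv : ({0, 1, ω, ω * ω} : Finset F) = Finset.univ :=
    Finset.eq_univ_of_card _ (by rw [hcard, hF])
  have := Finset.mem_univ a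
  rw [← huniv] at this
  simpa using this

theorem cube_eq_one [Fintype F] (hF : Fintype.card F = 4) (a : F) (ha : a ≠ 0) : a ^ 3 = 1 := by
  have h0 := omega_ne_zero ω hω
  have hsq : ω * ω = 1 + ω := by rw [← omega_sq ω hω, sq]
  have hw3 : ω ^ 3 = 1 := by
    have : ω ^ 3 = ω * (ω * ω) := by ring
    rw [this, hsq, mul_add, mul_one, hsq]
    have := two_eq_zero' (F := F)
    linear_combination (ω) * this
  rcases scalar_cases ω hω hF a with h | h | h | h
  · exact absurd h ha
  · rw [h, one_pow]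
  · rw [h]; exact hw3
  · rw [h]
    have : (ω * ω) ^ 3 = (ω ^ 3) ^ 2 := by ring
    rw [this, hw3, one_pow]

end fld

section lines
variable {F : Type*} [Field F] [CharP F 2] (ω : F) (hω : ω ^ 2 + ω + 1 = 0)

omit [CharP F 2] in
theorem rel_inv {g : GL F9 F} {a b : ℕ} (h : Rel ω g a b) : Rel ω g⁻¹ b a := by
  obtain ⟨l, hl, e⟩ := h
  refine ⟨l⁻¹, inv_ne_zero hl, ?_⟩
  have hb : decV ω b = l⁻¹ • ((g : Matrix F9 F9 F) *ᵥ decV ω a) := by
    rw [e, smul_smul, inv_mul_cancel₀ hl, one_smul]
  rw [hb, Matrix.mulVec_smul, Matrix.mulVec_mulVec, ← Units.val_mul, inv_mul_cancel, Units.val_one,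
    Matrix.one_mulVec]

omit [CharP F 2] in
theorem span_of_rel {g : GL F9 F} {a b : ℕ} (h : Rel ω g a b) :
    (F ∙ ((g : Matrix F9 F9 F) *ᵥ decV ω a)) = F ∙ decV ω b := by
  obtain ⟨l, hl, e⟩ := h
  rw [e]
  exact Submodule.span_singleton_smul_eq (IsUnit.mk0 l hl) _

include hω

theorem rel_norm_right {g : GL F9 F} {a b : ℕ} (h : Rel ω g a b) : Rel ω g a (norm b) := by
  obtain ⟨l, hl, e⟩ := h
  obtain ⟨m, hm, e2⟩ := decV_norm ω hω b
  refine ⟨l * m⁻¹, mul_ne_zero hl (inv_ne_zero hm), ?_⟩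
  rw [e, e2, smul_smul, mul_assoc, inv_mul_cancel₀ hm, mul_one]

theorem rel_norm_left {g : GL F9 F} {a b : ℕ} (h : Rel ω g (norm a) b) : Rel ω g a b := by
  obtain ⟨l, hl, e⟩ := h
  obtain ⟨m, hm, e2⟩ := decV_norm ω hω a
  refine ⟨m⁻¹ * l, mul_ne_zero (inv_ne_zero hm) hl, ?_⟩
  rw [e2, Matrix.mulVec_smul] at e
  rw [← smul_smul, ← e, smul_smul, inv_mul_cancel₀ hm, one_smul]

theorem omega_cube : ω ^ 3 = 1 := by
  have hsq : ω * ω = 1 + ω := by rw [← omega_sq ω hω, sq]
  have : ω ^ 3 = ω * (ω * ω) := by ring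
  rw [this, hsq, mul_add, mul_one, hsq]
  have := two_eq_zero' (F := F)
  linear_combination (ω) * this

theorem cube_digit (c : ℕ) (z : F9) :
    (decV ω c z) ^ 3 = bitv (!Nat.beq (digit c (ix z)) 0) := by
  rw [← dec2_digit]
  have hd := digit_lt c (ix z)
  have hw3 := omega_cube ω hω
  have hsq : ω ^ 2 = 1 + ω := omega_sq ω hω
  generalize digit c (ix z) = d at hd
  interval_cases d
  · simp [dec2_zero, bitv]
  · simp [dec2_one, bitv, show Nat.beq 1 0 = false from rfl]
  · simp [dec2_two, bitv, hw3, show Nat.beq 2 0 = false from rfl]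
  · rw [dec2_three, ← hsq]
    have : (ω ^ 2) ^ 3 = (ω ^ 3) ^ 2 := by ring
    rw [this, hw3]; simp [bitv, show Nat.beq 3 0 = false from rfl]

theorem sum_cube (c : ℕ) : ∑ z, (decV ω c z) ^ 3 = bitv (!evenw c) := by
  rw [sum_F9]
  simp only [cube_digit ω hω]
  have i0 : ix ((0, 0) : F9) = 0 := rfl
  have i1 : ix ((0, 1) : F9) = 1 := rfl
  have i2 : ix ((0, 2) : F9) = 2 := rfl
  have i3 : ix ((1, 0) : F9) = 3 := rfl
  have i4 : ix ((1, 1) : F9) = 4 := rfl
  have i5 : ix ((1, 2) : F9) = 5 := rfl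
  have i6 : ix ((2, 0) : F9) = 6 := rfl
  have i7 : ix ((2, 1) : F9) = 7 := rfl
  have i8 : ix ((2, 2) : F9) = 8 := rfl
  rw [i0, i1, i2, i3, i4, i5, i6, i7, i8, evenw, Bool.not_not]
  simp only [bitv_xor]
  ring

theorem isotropic_iff (c : ℕ) : ∑ z, (decV ω c z) ^ 3 = 0 ↔ evenw c = true := by
  rw [sum_cube ω hω]
  cases evenw c <;> simp [bitv]

theorem decV_surj [Fintype F] (hF : Fintype.card F = 4) (v : F9 → F) :
    ∃ c < 2 ^ 18, decV ω c = v := by
  classical
  let f : Fin (2 ^ 18) → (F9 → F) := fun c => decV ω c.val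
  have hinj : Function.Injective f :=
    fun a b h => Fin.ext (decV_injective ω hω _ _ a.isLt b.isLt h)
  have hcard : Fintype.card (Fin (2 ^ 18)) = Fintype.card (F9 → F) := by
    rw [Fintype.card_fin, Fintype.card_fun, hF]
    have : Fintype.card F9 = 9 := by
      rw [Fintype.card_prod, ZMod.card]
    rw [this]; norm_num
  have hbij := (Fintype.bijective_iff_injective_and_card f).mpr ⟨hinj, hcard⟩
  obtain ⟨c, hc⟩ := hbij.2 v
  exact ⟨c.val, c.isLt, hc⟩

/-- The orbit of a line has as many elements as the certified set of codes. -/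
theorem orbit_ncard_of_check [Fintype F] (hF : Fintype.card F = 4)
    (mem : ℕ → Bool) (tbl : ℕ → ℕ) (root n : ℕ) (hroot : mem root = true)
    (hlt : ∀ c, mem c = true → c < 2 ^ 18)
    (hreach : ∀ c, mem c = true → reachCheck mem tbl root c = true)
    (hclosed : ∀ c, mem c = true → closedCheck mem c = true)
    (hinj : ∀ c, mem c = true → mem (mulw c) = false ∧ mem (mulw (mulw c)) = false)
    (hcount : ((Finset.range (2 ^ 18)).filter (fun c => mem c = true)).card = n) :
    {L : Submodule F (F9 → F) | ∃ g ∈ threeJ3 F ω,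
      L = F ∙ ((g : Matrix F9 F9 F) *ᵥ decV ω root)}.ncard = n := by
  classical
  have hfin : Finite F := Finite.of_fintype F
  set O : Finset ℕ := (Finset.range (2 ^ 18)).filter (fun c => mem c = true) with hO
  have hmemO : ∀ c, c ∈ O ↔ mem c = true := by
    intro c
    rw [hO, Finset.mem_filter, Finset.mem_range]
    exact ⟨fun h => h.2, fun h => ⟨hlt c h, h⟩⟩
  have hset : {L : Submodule F (F9 → F) | ∃ g ∈ threeJ3 F ω,
      L = F ∙ ((g : Matrix F9 F9 F) *ᵥ decV ω root)} =
      (fun c => (F ∙ decV ω c : Submodule F (F9 → F))) '' (O : Set ℕ) := by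
    ext L
    simp only [Set.mem_ofPred_eq, Set.mem_image, Finset.mem_coe]
    constructor
    · rintro ⟨g, hg, rfl⟩
      obtain ⟨c', hc', hrel⟩ := closed_of_check ω hω mem hclosed g hg root hroot
      exact ⟨c', (hmemO c').mpr hc', (span_of_rel ω hrel).symm⟩
    · rintro ⟨c, hc, rfl⟩
      obtain ⟨g, hg, hrel⟩ := reach_of_check ω hω mem tbl root hreach c ((hmemO c).mp hc)
      exact ⟨g, hg, (span_of_rel ω hrel).symm⟩
  rw [hset, Set.InjOn.ncard_image, Set.ncard_coe_finset, hcount]
  intro c hc c' hc' heq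
  have hc := (hmemO c).mp hc
  have hc' := (hmemO c').mp hc'
  simp only at heq
  have hmem : decV ω c ∈ (F ∙ decV ω c' : Submodule F (F9 → F)) := by
    rw [← heq]; exact Submodule.mem_span_singleton_self _
  obtain ⟨a, ha⟩ := Submodule.mem_span_singleton.mp hmem
  have hcl := hlt c hc
  have hcl' := hlt c' hc'
  rcases scalar_cases ω hω hF a with h | h | h | h
  · -- a = 0: then c = 0, but 0 is not a member
    rw [h, zero_smul] at ha
    have : c = 0 := decV_injective ω hω c 0 hcl (by norm_num) (by rw [← ha, decV_zero])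
    subst this
    have h0 : mulw 0 = 0 := rfl
    have := (hinj 0 hc).1
    rw [h0, hc] at this
    exact absurd this (by simp)
  · rw [h, one_smul] at ha
    exact (decV_injective ω hω c' c hcl' hcl ha).symm
  · rw [h, ← decV_mulw ω hω] at ha
    have : mulw c' = c := decV_injective ω hω _ _ (mulw_lt _) hcl ha
    have h2 := (hinj c' hc').1
    rw [this, hc] at h2
    exact absurd h2 (by simp)
  · rw [h, ← smul_smul, ← decV_mulw ω hω, ← decV_mulw ω hω] at ha
    have : mulw (mulw c') = c := decV_injective ω hω _ _ (mulw_lt _) hcl ha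
    have h2 := (hinj c' hc').2
    rw [this, hc] at h2
    exact absurd h2 (by simp)

end lines

end Cfsg.Agent.Lib.Helper93.J3
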