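import Cfsg.Agent.Lib.Helper93.J3Lines

/-! # Packed matrices of `3·J₃`: products, equality tests, unpacking from table entries -/

set_option autoImplicit false

namespace Cfsg.Agent.Lib.Helper93.J3

open Cfsg.Spor Matrix

/-- The packed identity matrix. -/
def pmI : PM := ⟨1, 4, 16, 64, 256, 1024, 4096, 16384, 65536⟩

/-- Product of packed matrices. -/
def mmul (A B : PM) : PM :=
  ⟨A.mv B.c0, A.mv B.c1, A.mv B.c2, A.mv B.c3, A.mv B.c4, A.mv B.c5, A.mv B.c6, A.mv B.c7, A.mv B.c8⟩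

/-- Equality test of packed matrices. -/
def pmBeq (a b : PM) : Bool :=
  Nat.beq a.c0 b.c0 && Nat.beq a.c1 b.c1 && Nat.beq a.c2 b.c2 && Nat.beq a.c3 b.c3 &&
    Nat.beq a.c4 b.c4 && Nat.beq a.c5 b.c5 && Nat.beq a.c6 b.c6 && Nat.beq a.c7 b.c7 &&
    Nat.beq a.c8 b.c8

theorem pmBeq_eq {a b : PM} (h : pmBeq a b = true) : a = b := by
  simp only [pmBeq, Bool.and_eq_true] at h
  obtain ⟨⟨⟨⟨⟨⟨⟨⟨h0, h1⟩, h2⟩, h3⟩, h4⟩, h5⟩, h6⟩, h7⟩, h8⟩ := h
  cases a; cases b
  simp only [PM.mk.injEq]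
  exact ⟨Nat.eq_of_beq_eq_true h0, Nat.eq_of_beq_eq_true h1, Nat.eq_of_beq_eq_true h2,
    Nat.eq_of_beq_eq_true h3, Nat.eq_of_beq_eq_true h4, Nat.eq_of_beq_eq_true h5,
    Nat.eq_of_beq_eq_true h6, Nat.eq_of_beq_eq_true h7, Nat.eq_of_beq_eq_true h8⟩

/-- A number attached to a packed matrix (all its columns side by side). -/
def pmPack (m : PM) : ℕ :=
  m.c0 + Nat.shiftLeft (m.c1 + Nat.shiftLeft (m.c2 + Nat.shiftLeft (m.c3 + Nat.shiftLeft (m.c4 +
    Nat.shiftLeft (m.c5 + Nat.shiftLeft (m.c6 + Nat.shiftLeft (m.c7 + Nat.shiftLeft m.c8 18) 18)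
    18) 18) 18) 18) 18) 18

/-- The packed matrix stored in a table entry (nine fields of 18 bits). -/
def unpackM (x : ℕ) : PM :=
  ⟨Nat.land x 0x3FFFF, Nat.land (Nat.shiftRight x 18) 0x3FFFF, Nat.land (Nat.shiftRight x 36) 0x3FFFF,
    Nat.land (Nat.shiftRight x 54) 0x3FFFF, Nat.land (Nat.shiftRight x 72) 0x3FFFF,
    Nat.land (Nat.shiftRight x 90) 0x3FFFF, Nat.land (Nat.shiftRight x 108) 0x3FFFF,
    Nat.land (Nat.shiftRight x 126) 0x3FFFF, Nat.land (Nat.shiftRight x 144) 0x3FFFF⟩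

/-- All columns are codes of vectors. -/
def PM.Small (m : PM) : Prop :=
  m.c0 < 2 ^ 18 ∧ m.c1 < 2 ^ 18 ∧ m.c2 < 2 ^ 18 ∧ m.c3 < 2 ^ 18 ∧ m.c4 < 2 ^ 18 ∧ m.c5 < 2 ^ 18 ∧
    m.c6 < 2 ^ 18 ∧ m.c7 < 2 ^ 18 ∧ m.c8 < 2 ^ 18

theorem land_mask_lt (y : ℕ) : Nat.land y 0x3FFFF < 2 ^ 18 := by
  rw [nat_land_eq]
  exact lt_of_le_of_lt Nat.and_le_right (by norm_num)

theorem unpackM_small (x : ℕ) : (unpackM x).Small :=
  ⟨land_mask_lt _, land_mask_lt _, land_mask_lt _, land_mask_lt _, land_mask_lt _, land_mask_lt _,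
    land_mask_lt _, land_mask_lt _, land_mask_lt _⟩

theorem mmul_col (A B : PM) (j : ℕ) : (mmul A B).col j = A.mv (B.col j) := by
  unfold PM.col mmul
  split <;> rfl

theorem pmI_col (z : F9) : pmI.col (ix z) = 2 ^ (2 * ix z) := by
  have hz := ix_lt z
  generalize ix z = j at hz
  interval_cases j <;> rfl

theorem mv_one (m : PM) : m.mv 1 = m.c0 := by
  have d0 : digit 1 0 = 1 := rfl
  have d1 : digit 1 1 = 0 := rfl
  have d2 : digit 1 2 = 0 := rfl
  have d3 : digit 1 3 = 0 := rfl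
  have d4 : digit 1 4 = 0 := rfl
  have d5 : digit 1 5 = 0 := rfl
  have d6 : digit 1 6 = 0 := rfl
  have d7 : digit 1 7 = 0 := rfl
  have d8 : digit 1 8 = 0 := rfl
  simp only [PM.mv, d0, d1, d2, d3, d4, d5, d6, d7, d8, smul_zero', smul_one', nat_xor_eq,
    Nat.xor_zero]

section sem
variable {F : Type*} [Field F] [CharP F 2] (ω : F) (hω : ω ^ 2 + ω + 1 = 0)

omit [CharP F 2] in
theorem decM_pmI : decM ω pmI = 1 := by
  ext w z
  unfold decM
  rw [pmI_col, decV_single, Matrix.one_apply, Pi.single_apply]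

include hω

theorem decM_mmul (A B : PM) : decM ω (mmul A B) = decM ω A * decM ω B := by
  ext w z
  have h1 : decM ω (mmul A B) w z = decV ω (A.mv (B.col (ix z))) w := by
    unfold decM; rw [mmul_col]
  rw [h1, decV_mv ω hω, Matrix.mul_apply]
  rfl

theorem decM_injective (a b : PM) (ha : a.Small) (hb : b.Small) (h : decM ω a = decM ω b) :
    a = b := by
  have key : ∀ j, j < 9 → a.col j = b.col j := by
    intro j hj
    have hcol : ∀ m : PM, m.Small → m.col j < 2 ^ 18 := by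
      intro m hm
      obtain ⟨h0, h1, h2, h3, h4, h5, h6, h7, h8⟩ := hm
      interval_cases j <;> assumption
    apply decV_injective ω hω _ _ (hcol a ha) (hcol b hb)
    funext w
    have := congrFun (congrFun h w) (unix j)
    unfold decM at this
    rwa [ix_unix j hj] at this
  have e0 := key 0 (by norm_num)
  have e1 := key 1 (by norm_num)
  have e2 := key 2 (by norm_num)
  have e3 := key 3 (by norm_num)
  have e4 := key 4 (by norm_num)
  have e5 := key 5 (by norm_num)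
  have e6 := key 6 (by norm_num)
  have e7 := key 7 (by norm_num)
  have e8 := key 8 (by norm_num)
  cases a; cases b
  simp only [PM.col] at e0 e1 e2 e3 e4 e5 e6 e7 e8
  simp only [PM.mk.injEq]
  exact ⟨e0, e1, e2, e3, e4, e5, e6, e7, e8⟩

end sem

end Cfsg.Agent.Lib.Helper93.J3
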