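import Cfsg.Agent.Lib.Helper93.J3Orb1Chk

/-! # Kernel evaluation of the certificate of the first orbit, part 6 -/

set_option autoImplicit false

namespace Cfsg.Agent.Lib.Helper93.J3

set_option maxRecDepth 100000 in
theorem chk1_range_6a : allRange 196608 16384 chk1 = true := by decide +kernel

set_option maxRecDepth 100000 in
theorem chk1_range_6b : allRange 212992 16384 chk1 = true := by decide +kernel

end Cfsg.Agent.Lib.Helper93.J3
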