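import Cfsg.Agent.Lib.Helper93.J3Orb1C0
import Cfsg.Agent.Lib.Helper93.J3Orb1C1
import Cfsg.Agent.Lib.Helper93.J3Orb1C2
import Cfsg.Agent.Lib.Helper93.J3Orb1C3
import Cfsg.Agent.Lib.Helper93.J3Orb1C4
import Cfsg.Agent.Lib.Helper93.J3Orb1C5
import Cfsg.Agent.Lib.Helper93.J3Orb1C6
import Cfsg.Agent.Lib.Helper93.J3Orb1C7
import Cfsg.Agent.Lib.Helper93.J3Lines

/-! # The orbit of the first basis line under `3·J₃` has 23256 elements -/

set_option autoImplicit false

namespace Cfsg.Agent.Lib.Helper93.J3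

open Cfsg.Spor Matrix

theorem chk1_all (c : ℕ) (hc : c < 262144) : chk1 c = true := by
  have h : (0 ≤ c ∧ c < 16384) ∨
      (16384 ≤ c ∧ c < 32768) ∨
      (32768 ≤ c ∧ c < 49152) ∨
      (49152 ≤ c ∧ c < 65536) ∨
      (65536 ≤ c ∧ c < 81920) ∨
      (81920 ≤ c ∧ c < 98304) ∨
      (98304 ≤ c ∧ c < 114688) ∨
      (114688 ≤ c ∧ c < 131072) ∨
      (131072 ≤ c ∧ c < 147456) ∨
      (147456 ≤ c ∧ c < 163840) ∨
      (163840 ≤ c ∧ c < 180224) ∨
      (180224 ≤ c ∧ c < 196608) ∨
      (196608 ≤ c ∧ c < 212992) ∨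
      (212992 ≤ c ∧ c < 229376) ∨
      (229376 ≤ c ∧ c < 245760) ∨
      (245760 ≤ c ∧ c < 262144) := by omega
  rcases h with h | h | h | h | h | h | h | h | h | h | h | h | h | h | h | h
  · exact allRange_spec 0 16384 chk1 chk1_range_0a c h.1 (by omega)
  · exact allRange_spec 16384 16384 chk1 chk1_range_0b c h.1 (by omega)
  · exact allRange_spec 32768 16384 chk1 chk1_range_1a c h.1 (by omega)
  · exact allRange_spec 49152 16384 chk1 chk1_range_1b c h.1 (by omega)
  · exact allRange_spec 65536 16384 chk1 chk1_range_2a c h.1 (by omega)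
  · exact allRange_spec 81920 16384 chk1 chk1_range_2b c h.1 (by omega)
  · exact allRange_spec 98304 16384 chk1 chk1_range_3a c h.1 (by omega)
  · exact allRange_spec 114688 16384 chk1 chk1_range_3b c h.1 (by omega)
  · exact allRange_spec 131072 16384 chk1 chk1_range_4a c h.1 (by omega)
  · exact allRange_spec 147456 16384 chk1 chk1_range_4b c h.1 (by omega)
  · exact allRange_spec 163840 16384 chk1 chk1_range_5a c h.1 (by omega)
  · exact allRange_spec 180224 16384 chk1 chk1_range_5b c h.1 (by omega)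
  · exact allRange_spec 196608 16384 chk1 chk1_range_6a c h.1 (by omega)
  · exact allRange_spec 212992 16384 chk1 chk1_range_6b c h.1 (by omega)
  · exact allRange_spec 229376 16384 chk1 chk1_range_7a c h.1 (by omega)
  · exact allRange_spec 245760 16384 chk1 chk1_range_7b c h.1 (by omega)

set_option maxRecDepth 100000 in
theorem count1 : countRange 18 0 mem1 = 23256 := by decide +kernel

theorem mem1_lt (c : ℕ) (h : mem1 c = true) : c < 2 ^ 18 := by
  rw [mem1, Bool.and_eq_true] at h
  exact Nat.blt_eq.mp h.1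

theorem card_mem1 : ((Finset.range (2 ^ 18)).filter (fun c => mem1 c = true)).card = 23256 := by
  have := countRange_spec 18 0 mem1
  rw [count1, Nat.zero_add] at this
  rw [this, Finset.range_eq_Ico]

theorem chk1_of_mem (c : ℕ) (h : mem1 c = true) :
    reachCheck mem1 tbl1 1 c = true ∧ closedCheck mem1 c = true ∧
      mem1 (mulw c) = false ∧ mem1 (mulw (mulw c)) = false := by
  have := chk1_all c (mem1_lt c h)
  rw [chk1, h] at this
  simpa [Bool.and_eq_true, and_assoc] using this

theorem mem1_one : mem1 1 = true := by decide +kernel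

/-- The line through the first basis vector has exactly 23256 images. -/
theorem orbit1_ncard {F : Type*} [Field F] [Fintype F] (hF : Fintype.card F = 4) (ω : F)
    (hω : ω ^ 2 + ω + 1 = 0) :
    {L : Submodule F (F9 → F) | ∃ g ∈ threeJ3 F ω,
      L = F ∙ ((g : Matrix F9 F9 F) *ᵥ (Pi.single (0 : F9) (1 : F) : F9 → F))}.ncard = 23256 := by
  haveI := charP_two_of_card hF
  have h1 : (Pi.single (0 : F9) (1 : F) : F9 → F) = decV ω 1 := by
    have := decV_single ω (0 : F9)
    have hix : ix (0 : F9) = 0 := rfl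
    rw [hix] at this
    exact this.symm
  rw [h1]
  exact orbit_ncard_of_check ω hω hF mem1 tbl1 1 23256 mem1_one mem1_lt
    (fun c h => (chk1_of_mem c h).1) (fun c h => (chk1_of_mem c h).2.1)
    (fun c h => (chk1_of_mem c h).2.2) card_mem1

end Cfsg.Agent.Lib.Helper93.J3
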