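import Cfsg.Agent.Lib.Helper93.J3Orb1Data

/-! # The certificate checked at each code, for the orbit of the first basis line -/

set_option autoImplicit false

namespace Cfsg.Agent.Lib.Helper93.J3

/-- At a member: it is reached from the root, every generator maps it to a member, and its two
other scalar multiples are not members. -/
def chk1 (c : ℕ) : Bool :=
  !mem1 c || (reachCheck mem1 tbl1 1 c && closedCheck mem1 c && !mem1 (mulw c) &&
    !mem1 (mulw (mulw c)))

end Cfsg.Agent.Lib.Helper93.J3
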