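import Cfsg.Agent.Lib.Helper93.J3Orb2C0
import Cfsg.Agent.Lib.Helper93.J3Orb2C1
import Cfsg.Agent.Lib.Helper93.J3Orb2C2
import Cfsg.Agent.Lib.Helper93.J3Orb2C3

/-! # `3·J₃` is transitive on the isotropic lines -/

set_option autoImplicit false

namespace Cfsg.Agent.Lib.Helper93.J3

open Cfsg.Spor Matrix

theorem range4_cases (c : ℕ) (hc : c < 262144) :
    (0 ≤ c ∧ c < 65536) ∨ (65536 ≤ c ∧ c < 131072) ∨ (131072 ≤ c ∧ c < 196608) ∨
      (196608 ≤ c ∧ c < 262144) := by omega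

theorem chk2_all (c : ℕ) (hc : c < 262144) : chk2 c = true := by
  rcases range4_cases c hc with h | h | h | h
  · exact chk2_range_0 c h.1 (by omega)
  · exact chk2_range_1 c h.1 (by omega)
  · exact chk2_range_2 c h.1 (by omega)
  · exact chk2_range_3 c h.1 (by omega)

theorem cov2_all (c : ℕ) (hc : c < 262144) : cov2 c = true := by
  rcases range4_cases c hc with h | h | h | h
  · exact cov2_range_0 c h.1 (by omega)
  · exact cov2_range_1 c h.1 (by omega)
  · exact cov2_range_2 c h.1 (by omega)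
  · exact cov2_range_3 c h.1 (by omega)

theorem mem2_lt (c : ℕ) (h : mem2 c = true) : c < 2 ^ 18 := by
  rw [mem2, Bool.and_eq_true] at h
  exact Nat.blt_eq.mp h.1

theorem reach2_of_mem (c : ℕ) (h : mem2 c = true) : reachCheck mem2 tbl2 4160 c = true := by
  have := chk2_all c (mem2_lt c h)
  rw [chk2, h] at this
  simpa using this

section
variable {F : Type*} [Field F] [CharP F 2] (ω : F) (hω : ω ^ 2 + ω + 1 = 0)
include hω

theorem rel_of_norm_right {g : GL F9 F} {a b : ℕ} (h : Rel ω g a (norm b)) : Rel ω g a b := by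
  obtain ⟨l, hl, e⟩ := h
  obtain ⟨m, hm, e2⟩ := decV_norm ω hω b
  refine ⟨l * m, mul_ne_zero hl hm, ?_⟩
  rw [e, e2, smul_smul]

theorem reach_isotropic [Fintype F] (hF : Fintype.card F = 4) (v : F9 → F) (hv : v ≠ 0)
    (hiso : ∑ z, (v z) ^ 3 = 0) : ∃ a, decV ω a = v ∧ ∃ g ∈ threeJ3 F ω, Rel ω g 4160 a := by
  obtain ⟨a, ha, rfl⟩ := decV_surj ω hω hF v
  refine ⟨a, rfl, ?_⟩
  have ha0 : a ≠ 0 := by
    rintro rfl
    exact hv (decV_zero ω)
  have hev : evenw a = true := (isotropic_iff ω hω a).mp hiso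
  have hcov := cov2_all a ha
  have hb : Nat.beq a 0 = false := by
    cases h : Nat.beq a 0
    · rfl
    · exact absurd (Nat.eq_of_beq_eq_true h) ha0
  rw [cov2, hb, hev] at hcov
  have hmem : mem2 (norm a) = true := by simpa using hcov
  obtain ⟨g, hg, hrel⟩ := reach_of_check ω hω mem2 tbl2 4160 reach2_of_mem (norm a) hmem
  exact ⟨g, hg, rel_of_norm_right ω hω hrel⟩

/-- The isotropic lines form a single orbit. -/
theorem isotropic_transitive [Fintype F] (hF : Fintype.card F = 4) (v w : F9 → F)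
    (hv : v ≠ 0) (hw : w ≠ 0) (hv3 : ∑ z, (v z) ^ 3 = 0) (hw3 : ∑ z, (w z) ^ 3 = 0) :
    ∃ g ∈ threeJ3 F ω, ∃ c : F, c ≠ 0 ∧ (g : Matrix F9 F9 F) *ᵥ v = c • w := by
  obtain ⟨a, rfl, ga, hga, ra⟩ := reach_isotropic ω hω hF v hv hv3
  obtain ⟨b, rfl, gb, hgb, rb⟩ := reach_isotropic ω hω hF w hw hw3
  obtain ⟨l, hl, e⟩ := rel_mul ω (rel_inv ω ra) rb
  exact ⟨gb * ga⁻¹, mul_mem hgb (inv_mem hga), l, hl, e⟩

end

end Cfsg.Agent.Lib.Helper93.J3
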