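import Cfsg.Agent.Lib.Helper93.J3Orb2Chk

/-! # Kernel evaluation of the certificates of the isotropic orbit, part 0 -/

set_option autoImplicit false

namespace Cfsg.Agent.Lib.Helper93.J3

set_option maxRecDepth 100000 in
theorem chk2_r0_0 : allRange (0 + 0 * 8192) 8192 chk2 = true := by decide +kernel

set_option maxRecDepth 100000 in
theorem chk2_r0_1 : allRange (0 + 1 * 8192) 8192 chk2 = true := by decide +kernel

set_option maxRecDepth 100000 in
theorem chk2_r0_2 : allRange (0 + 2 * 8192) 8192 chk2 = true := by decide +kernel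

set_option maxRecDepth 100000 in
theorem chk2_r0_3 : allRange (0 + 3 * 8192) 8192 chk2 = true := by decide +kernel

set_option maxRecDepth 100000 in
theorem chk2_r0_4 : allRange (0 + 4 * 8192) 8192 chk2 = true := by decide +kernel

set_option maxRecDepth 100000 in
theorem chk2_r0_5 : allRange (0 + 5 * 8192) 8192 chk2 = true := by decide +kernel

set_option maxRecDepth 100000 in
theorem chk2_r0_6 : allRange (0 + 6 * 8192) 8192 chk2 = true := by decide +kernel

set_option maxRecDepth 100000 in
theorem chk2_r0_7 : allRange (0 + 7 * 8192) 8192 chk2 = true := by decide +kernel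

theorem chk2_range_0 : ∀ c, 0 ≤ c → c < 0 + 8 * 8192 → chk2 c = true := by
  apply allRange_split
  intro j hj
  interval_cases j
  · exact chk2_r0_0
  · exact chk2_r0_1
  · exact chk2_r0_2
  · exact chk2_r0_3
  · exact chk2_r0_4
  · exact chk2_r0_5
  · exact chk2_r0_6
  · exact chk2_r0_7

set_option maxRecDepth 100000 in
theorem cov2_r0_0 : allRange (0 + 0 * 8192) 8192 cov2 = true := by decide +kernel

set_option maxRecDepth 100000 in
theorem cov2_r0_1 : allRange (0 + 1 * 8192) 8192 cov2 = true := by decide +kernel

set_option maxRecDepth 100000 in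
theorem cov2_r0_2 : allRange (0 + 2 * 8192) 8192 cov2 = true := by decide +kernel

set_option maxRecDepth 100000 in
theorem cov2_r0_3 : allRange (0 + 3 * 8192) 8192 cov2 = true := by decide +kernel

set_option maxRecDepth 100000 in
theorem cov2_r0_4 : allRange (0 + 4 * 8192) 8192 cov2 = true := by decide +kernel

set_option maxRecDepth 100000 in
theorem cov2_r0_5 : allRange (0 + 5 * 8192) 8192 cov2 = true := by decide +kernel

set_option maxRecDepth 100000 in
theorem cov2_r0_6 : allRange (0 + 6 * 8192) 8192 cov2 = true := by decide +kernel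

set_option maxRecDepth 100000 in
theorem cov2_r0_7 : allRange (0 + 7 * 8192) 8192 cov2 = true := by decide +kernel

theorem cov2_range_0 : ∀ c, 0 ≤ c → c < 0 + 8 * 8192 → cov2 c = true := by
  apply allRange_split
  intro j hj
  interval_cases j
  · exact cov2_r0_0
  · exact cov2_r0_1
  · exact cov2_r0_2
  · exact cov2_r0_3
  · exact cov2_r0_4
  · exact cov2_r0_5
  · exact cov2_r0_6
  · exact cov2_r0_7

end Cfsg.Agent.Lib.Helper93.J3
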