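import Cfsg.Agent.Lib.Helper93.J3Orb2Data
import Cfsg.Agent.Lib.Helper93.J3Lines

/-! # The certificates checked at each code, for the orbit of isotropic lines -/

set_option autoImplicit false

namespace Cfsg.Agent.Lib.Helper93.J3

/-- At a member: it is reached from the root `e₁ + e₋₁`. -/
def chk2 (c : ℕ) : Bool := !mem2 c || reachCheck mem2 tbl2 4160 c

/-- Every nonzero code with an even number of nonzero digits has its normal form in the set. -/
def cov2 (c : ℕ) : Bool := Nat.beq c 0 || !evenw c || mem2 (norm c)

/-- Consecutive ranges of the same length. -/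
theorem allRange_split (f : ℕ → Bool) (a n k : ℕ)
    (h : ∀ j < k, allRange (a + j * n) n f = true) :
    ∀ c, a ≤ c → c < a + k * n → f c = true := by
  intro c hc1 hc2
  obtain ⟨d, rfl⟩ := Nat.exists_eq_add_of_le hc1
  have hd : d < k * n := by omega
  have hn : 0 < n := by
    rcases Nat.eq_zero_or_pos n with h0 | h0
    · subst h0; simp at hd
    · exact h0
  have hj : d / n < k := Nat.div_lt_of_lt_mul (by rwa [Nat.mul_comm] at hd)
  have h1 := Nat.div_add_mod d n
  have h2 := Nat.mod_lt d hn
  have h3 : d / n * n = n * (d / n) := Nat.mul_comm _ _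
  exact allRange_spec _ _ f (h _ hj) (a + d) (by omega) (by omega)

end Cfsg.Agent.Lib.Helper93.J3
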