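import Cfsg.Agent.Lib.Helper93.J3Group
set_option autoImplicit false
namespace Cfsg.Agent.Lib.Helper93.J3
open Cfsg.Spor Matrix

/-- `f n` for all `n` below the bound. -/
def allBelow : ℕ → (ℕ → Bool) → Bool
  | 0, _ => true
  | n + 1, f => f n && allBelow n f

theorem allBelow_spec (n : ℕ) (f : ℕ → Bool) (h : allBelow n f = true) : ∀ i < n, f i = true := by
  induction n with
  | zero => intro i hi; omega
  | succ n ih =>
    rw [allBelow, Bool.and_eq_true] at h
    intro i hi
    rcases Nat.lt_succ_iff_lt_or_eq.mp hi with h' | rfl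
    · exact ih h.2 i h'
    · exact h.1

/-- `f n` for all `a ≤ n < a + len`. -/
def allRange (a len : ℕ) (f : ℕ → Bool) : Bool := allBelow len (fun i => f (a + i))

theorem allRange_spec (a len : ℕ) (f : ℕ → Bool) (h : allRange a len f = true) :
    ∀ i, a ≤ i → i < a + len → f i = true := by
  intro i h1 h2
  have := allBelow_spec len _ h (i - a) (by omega)
  simpa [Nat.add_sub_cancel' h1] using this

theorem norm_cases (x : ℕ) : norm x = x ∨ norm x = mulw x ∨ norm x = mulw (mulw x) := by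
  unfold norm
  cases Nat.beq (Nat.land (Nat.xor x (x - 1) + 1) 0xAAAAA) 0
  · cases Nat.beq (Nat.land x (Nat.xor x (x - 1) + 1)) 0
    · right; left; rfl
    · left; rfl
  · right; right; rfl

/-- The depth field of a table entry. -/
def eDepth (e : ℕ) : ℕ := Nat.land e 63
/-- The generator field of a table entry. -/
def eGen (e : ℕ) : ℕ := Nat.land (Nat.shiftRight e 6) 63
/-- The parent field of a table entry. -/
def ePar (e : ℕ) : ℕ := Nat.shiftRight e 12

/-- The certificate at `c`: it is the root, or its parent is a member of smaller depth from which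
a generator leads to `c`. -/
def reachCheck (mem : ℕ → Bool) (tbl : ℕ → ℕ) (root c : ℕ) : Bool :=
  Nat.beq c root ||
    (mem (ePar (tbl c)) && Nat.blt (eDepth (tbl (ePar (tbl c)))) (eDepth (tbl c)) &&
      Nat.blt (eGen (tbl c)) 43 && Nat.beq (norm ((gen (eGen (tbl c))).mv (ePar (tbl c)))) c)

/-- All generators map `c` into the set. -/
def closedCheck (mem : ℕ → Bool) (c : ℕ) : Bool :=
  allBelow 43 (fun k => mem (norm ((gen k).mv c)))

section orbit
variable {F : Type*} [Field F] [CharP F 2] (ω : F) (hω : ω ^ 2 + ω + 1 = 0)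

/-- `g` maps the line of `a` to the line of `b`. -/
def Rel (g : GL F9 F) (a b : ℕ) : Prop :=
  ∃ l : F, l ≠ 0 ∧ (g : Matrix F9 F9 F) *ᵥ decV ω a = l • decV ω b

omit [CharP F 2] in
theorem rel_one (a : ℕ) : Rel ω (1 : GL F9 F) a a := ⟨1, one_ne_zero, by simp⟩

omit [CharP F 2] in
theorem rel_mul {g h : GL F9 F} {a b c : ℕ} (h1 : Rel ω h a b) (h2 : Rel ω g b c) :
    Rel ω (g * h) a c := by
  obtain ⟨l1, hl1, e1⟩ := h1
  obtain ⟨l2, hl2, e2⟩ := h2
  refine ⟨l1 * l2, mul_ne_zero hl1 hl2, ?_⟩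
  rw [Units.val_mul, ← Matrix.mulVec_mulVec, e1, Matrix.mulVec_smul, e2, smul_smul]

include hω

theorem decV_norm (x : ℕ) : ∃ m : F, m ≠ 0 ∧ decV ω (norm x) = m • decV ω x := by
  have h0 := omega_ne_zero ω hω
  rcases norm_cases x with h | h | h
  · exact ⟨1, one_ne_zero, by rw [h, one_smul]⟩
  · exact ⟨ω, h0, by rw [h, decV_mulw ω hω]⟩
  · exact ⟨ω * ω, mul_ne_zero h0 h0, by rw [h, decV_mulw ω hω, decV_mulw ω hω, smul_smul]⟩

theorem rel_gen (k : ℕ) (hk : k < 43) (p : ℕ) :
    Rel ω (genU ω hω k hk) p (norm ((gen k).mv p)) := by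
  obtain ⟨m, hm, e⟩ := decV_norm ω hω ((gen k).mv p)
  refine ⟨m⁻¹, inv_ne_zero hm, ?_⟩
  rw [e, smul_smul, inv_mul_cancel₀ hm, one_smul, decV_mv ω hω]
  rfl

/-- Reachability from the root. -/
def Reach (r c : ℕ) : Prop := ∃ g ∈ threeJ3 F ω, Rel ω g r c

theorem reach_of_check (mem : ℕ → Bool) (tbl : ℕ → ℕ) (root : ℕ)
    (h : ∀ c, mem c = true → reachCheck mem tbl root c = true) :
    ∀ c, mem c = true → Reach ω root c := by
  have key : ∀ n c, eDepth (tbl c) = n → mem c = true → Reach ω root c := by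
    intro n
    induction n using Nat.strong_induction_on with
    | _ n ih =>
      intro c hn hc
      have hcheck := h c hc
      rw [reachCheck, Bool.or_eq_true] at hcheck
      rcases hcheck with h1 | h1
      · have : c = root := Nat.eq_of_beq_eq_true h1
        subst this
        exact ⟨1, one_mem _, rel_one ω c⟩
      · simp only [Bool.and_eq_true] at h1
        obtain ⟨⟨⟨hp, hd⟩, hk⟩, hstep⟩ := h1
        have hd' : eDepth (tbl (ePar (tbl c))) < n := by
          rw [← hn]; exact Nat.blt_eq.mp hd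
        have hk' : eGen (tbl c) < 43 := Nat.blt_eq.mp hk
        obtain ⟨g, hg, hrel⟩ := ih _ hd' (ePar (tbl c)) rfl hp
        have hstep' := Nat.eq_of_beq_eq_true hstep
        refine ⟨genU ω hω _ hk' * g, mul_mem (genU_mem ω hω _ hk') hg, ?_⟩
        have := rel_mul ω hrel (rel_gen ω hω _ hk' (ePar (tbl c)))
        rwa [hstep'] at this
  intro c hc
  exact key _ c rfl hc


theorem closed_of_check [Finite F] (mem : ℕ → Bool)
    (h : ∀ c, mem c = true → closedCheck mem c = true) :
    ∀ g ∈ threeJ3 F ω, ∀ c, mem c = true → ∃ c', mem c' = true ∧ Rel ω g c c' := by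
  intro g hg
  have hone : ∀ c, mem c = true → ∃ c', mem c' = true ∧ Rel ω (1 : GL F9 F) c c' :=
    fun c hc => ⟨c, hc, rel_one ω c⟩
  have hmul : ∀ x y : GL F9 F,
      (∀ c, mem c = true → ∃ c', mem c' = true ∧ Rel ω x c c') →
      (∀ c, mem c = true → ∃ c', mem c' = true ∧ Rel ω y c c') →
      ∀ c, mem c = true → ∃ c', mem c' = true ∧ Rel ω (x * y) c c' := by
    intro x y hx hy c hc
    obtain ⟨c1, hc1, r1⟩ := hy c hc
    obtain ⟨c2, hc2, r2⟩ := hx c1 hc1
    exact ⟨c2, hc2, rel_mul ω r1 r2⟩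
  have hpow : ∀ (x : GL F9 F) (n : ℕ),
      (∀ c, mem c = true → ∃ c', mem c' = true ∧ Rel ω x c c') →
      ∀ c, mem c = true → ∃ c', mem c' = true ∧ Rel ω (x ^ n) c c' := by
    intro x n hx
    induction n with
    | zero => rw [pow_zero]; exact hone
    | succ n ih => rw [pow_succ]; exact hmul _ _ ih hx
  unfold threeJ3 at hg
  induction hg using Subgroup.closure_induction with
  | mem x hx =>
    obtain ⟨k, hk, e⟩ := gens_cover ω hω _ hx
    have hx' : x = genU ω hω k hk := Units.ext e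
    intro c hc
    refine ⟨norm ((gen k).mv c), ?_, ?_⟩
    · exact allBelow_spec 43 _ (h c hc) k hk
    · rw [hx']; exact rel_gen ω hω k hk c
  | one => exact hone
  | mul x y _ _ hx hy => exact hmul x y hx hy
  | inv x _ hx =>
    have hpos : 0 < orderOf x := orderOf_pos x
    have hinv : x⁻¹ = x ^ (orderOf x - 1) := by
      apply inv_eq_of_mul_eq_one_left
      rw [← pow_succ, Nat.sub_add_cancel hpos, pow_orderOf_eq_one]
    rw [hinv]
    exact hpow x _ hx

end orbit
end Cfsg.Agent.Lib.Helper93.J3
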