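import Mathlib

/-! # Abstract lemmas for the outer automorphism group of `J₃` -/

set_option autoImplicit false

namespace Cfsg.Agent.Lib.Helper93.J3

open scoped commutatorElement

/-- An involution is conjugate into any subgroup of order `2 ^ 7` when `2 ^ 7` is the full power of 2. -/
theorem sylow_conj_into {G : Type*} [Group G] [Finite G] (S : Subgroup G) (m : ℕ)
    (hS : Nat.card S = 2 ^ 7) (hG : Nat.card G = 2 ^ 7 * m) (hm : ¬ 2 ∣ m)
    (x : G) (hx : x ^ 2 = 1) : ∃ g : G, g * x * g⁻¹ ∈ S := by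
  have : Fact (Nat.Prime 2) := ⟨Nat.prime_two⟩
  have hm0 : m ≠ 0 := by
    rintro rfl
    exact hm (dvd_zero 2)
  have hfac : (Nat.card G).factorization 2 = 7 := by
    rw [hG, Nat.factorization_mul (by positivity) hm0, Finsupp.add_apply,
      Nat.Prime.factorization_pow Nat.prime_two, Nat.factorization_eq_zero_of_not_dvd hm]
    simp
  let P : Sylow 2 G := Sylow.ofCard S (by rw [hS, hfac])
  have hx2 : IsPGroup 2 (Subgroup.zpowers x) := by
    rintro ⟨y, hy⟩
    refine ⟨1, ?_⟩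
    obtain ⟨k, rfl⟩ := Subgroup.mem_zpowers_iff.mp hy
    apply Subtype.ext
    simp only [pow_one, Subgroup.coe_pow, Subgroup.coe_one]
    rw [← zpow_natCast, ← zpow_mul, mul_comm, zpow_mul, zpow_natCast, hx, one_zpow]
  obtain ⟨Q, hQ⟩ := hx2.exists_le_sylow
  obtain ⟨g, hg⟩ := MulAction.exists_smul_eq G Q P
  refine ⟨g, ?_⟩
  have hxQ : x ∈ (Q : Subgroup G) := hQ (Subgroup.mem_zpowers x)
  have h2 : g * x * g⁻¹ ∈ ((g • Q : Sylow 2 G) : Subgroup G) := by
    rw [Sylow.coe_subgroup_smul]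
    exact ⟨x, hxQ, rfl⟩
  rw [hg] at h2
  exact h2

/-- An automorphism of a perfect group which is trivial modulo the centre is trivial. -/
theorem eq_of_central_diff {G : Type*} [Group G] (hperf : commutator G = ⊤) (γ : G ≃* G)
    (h : ∀ x, γ x * x⁻¹ ∈ Subgroup.center G) (x : G) : γ x = x := by
  have hf : ∃ f : G →* G, (∀ x, f x = γ x * x⁻¹) ∧ ∀ a b, Commute (f a) (f b) := by
    refine ⟨MonoidHom.mk' (fun x => γ x * x⁻¹) ?_, fun x => rfl, ?_⟩
    · intro a b
      simp only [map_mul, mul_inv_rev]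
      have hb := Subgroup.mem_center_iff.mp (h b)
      calc γ a * γ b * (b⁻¹ * a⁻¹) = γ a * (γ b * b⁻¹) * a⁻¹ := by group
        _ = (γ b * b⁻¹) * γ a * a⁻¹ := by rw [hb (γ a)]
        _ = γ a * a⁻¹ * (γ b * b⁻¹) := by
          rw [mul_assoc, ← hb (γ a * a⁻¹)]
    · intro a b
      exact (Subgroup.mem_center_iff.mp (h b) _)
  obtain ⟨f, hf, hc⟩ := hf
  have hle : commutator G ≤ f.ker := by
    rw [commutator_def, Subgroup.commutator_le]
    intro a _ b _
    rw [MonoidHom.mem_ker, map_commutatorElement]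
    exact commutatorElement_eq_one_iff_commute.mpr (hc a b)
  have hx : x ∈ f.ker := hle (by rw [hperf]; trivial)
  have hx1 : f x = 1 := hx
  have h3 : γ x * x⁻¹ = 1 := by rw [← hf x, hx1]
  exact mul_inv_eq_one.mp h3

/-- An involution of a quotient by a subgroup of exponent 3 lifts to an element of square 1. -/
theorem lift_involution {G : Type*} [Group G] (Z : Subgroup G) [Z.Normal]
    (hZ : ∀ z ∈ Z, z ^ 3 = 1) (xbar : G ⧸ Z) (hx : xbar ^ 2 = 1) :
    ∃ x : G, (x : G ⧸ Z) = xbar ∧ x ^ 2 = 1 := by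
  obtain ⟨x0, rfl⟩ := QuotientGroup.mk_surjective xbar
  have h2 : x0 ^ 2 ∈ Z := by
    rw [← QuotientGroup.eq_one_iff, QuotientGroup.mk_pow]
    exact hx
  refine ⟨x0 ^ 3, ?_, ?_⟩
  · rw [QuotientGroup.mk_pow, pow_succ, hx, one_mul]
  · rw [← pow_mul, show 3 * 2 = 2 * 3 by norm_num, pow_mul]
    exact hZ _ h2

end Cfsg.Agent.Lib.Helper93.J3
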