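import Cfsg.Agent.Lib.Helper93.J3OutSem3

/-! # An automorphism of `3·J₃` inverting its centre: the Frobenius map followed by a permutation
of the basis -/

set_option autoImplicit false

namespace Cfsg.Agent.Lib.Helper93.J3

open Cfsg.Spor Matrix

/-- The Frobenius map on packed vectors. -/
def frobV (c : ℕ) : ℕ := Nat.xor c (Nat.shiftRight (Nat.land c 0x2AAAA) 1)

/-- The Frobenius map on packed matrices. -/
def frobM (M : PM) : PM :=
  ⟨frobV M.c0, frobV M.c1, frobV M.c2, frobV M.c3, frobV M.c4, frobV M.c5, frobV M.c6, frobV M.c7,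
    frobV M.c8⟩

/-- The permutation matrix of the conjugation of the field with 9 elements. -/
def pmPi : PM := ⟨1, 16, 4, 64, 1024, 256, 4096, 65536, 16384⟩

/-- The automorphism on packed matrices. -/
def alphaPM (M : PM) : PM := mmul (mmul pmPi (frobM M)) pmPi

/-- The images of the generators, as words. -/
def aW : ℕ → List ℕ
  | 0 => [0] | 1 => [1] | 2 => [2] | 3 => [6] | 4 => [7] | 5 => [8] | 6 => [3] | 7 => [4] | 8 => [5]
  | 9 => [9, 9] | 10 => [11, 11] | 11 => [10, 10] | 12 => [12, 12] | 13 => [14, 14]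
  | 14 => [13, 13] | 15 => [15, 15] | 16 => [17, 17] | 17 => [16, 16]
  | 18 => [0] | 19 => [20] | 20 => [19] | 21 => [21] | 22 => [23] | 23 => [22] | 24 => [24]
  | 25 => [26] | 26 => [25] | 27 => [28] | 28 => [27] | 29 => [0] | 30 => [31] | 31 => [30]
  | 32 => [32] | 33 => [34] | 34 => [33] | 35 => [36] | 36 => [35] | 37 => [37] | 38 => [39]
  | 39 => [38] | 40 => [40] | 41 => [42] | 42 => [41]
  | _ => []

theorem alpha_chk : allRange 0 43
    (fun k => pmBeq (alphaPM (gen k)) (wordMul (aW k)) && (aW k).all (fun s => Nat.blt s 43)) =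
      true := by decide +kernel

theorem pmPi_sq : pmBeq (mmul pmPi pmPi) pmI = true := by decide +kernel

theorem alpha_omega : pmBeq (alphaPM pmOmega) pmOmega2 = true := by decide +kernel

theorem frobM_col (M : PM) (j : ℕ) : (frobM M).col j = frobV (M.col j) := by
  unfold PM.col frobM
  split <;> rfl

theorem testBit_frobV (c t : ℕ) (ht : t < 18) :
    (frobV c).testBit t = if t % 2 = 0 then (c.testBit t ^^ c.testBit (t + 1)) else c.testBit t := by
  simp only [frobV, nat_xor_eq, nat_land_eq, nat_shr_eq, Nat.testBit_xor, Nat.testBit_and,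
    Nat.testBit_shiftRight]
  rw [testBit_H (1 + t) (by omega)]
  by_cases h0 : t % 2 = 0
  · have h2 : ((1 + t) % 2 = 1 ∧ 1 + t < 18) := by omega
    have h2' : ((t + 1) % 2 = 1 ∧ t + 1 < 18) := by omega
    simp [h0, h2, h2', Nat.add_comm]
  · have h2 : ¬ ((1 + t) % 2 = 1 ∧ 1 + t < 18) := by omega
    simp [h0, h2]

section sem
variable {F : Type*} [Field F] [CharP F 2] (ω : F) (hω : ω ^ 2 + ω + 1 = 0)
include hω

theorem decV_frobV (c : ℕ) (z : F9) : decV ω (frobV c) z = (decV ω c z) ^ 2 := by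
  have hz := ix_lt z
  rw [decV_apply, decV_apply, testBit_frobV c (2 * ix z) (by omega),
    testBit_frobV c (2 * ix z + 1) (by omega)]
  have e1 : (2 * ix z) % 2 = 0 := by omega
  have e2 : ¬ ((2 * ix z + 1) % 2 = 0) := by omega
  rw [if_pos e1, if_neg e2, bitv_xor]
  have hsq := omega_sq ω hω
  have h2 : (1 : F) + 1 = 0 := two_eq_zero'
  have hb : ∀ b : Bool, (bitv b : F) ^ 2 = bitv b := by
    intro b; cases b <;> simp [bitv]
  have hb0 := hb (c.testBit (2 * ix z))
  have hb1 := hb (c.testBit (2 * ix z + 1))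
  set a := (bitv (c.testBit (2 * ix z)) : F)
  set b := (bitv (c.testBit (2 * ix z + 1)) : F)
  have : (a + ω * b) ^ 2 = a ^ 2 + ω ^ 2 * b ^ 2 + (1 + 1) * (a * ω * b) := by ring
  rw [this, h2, zero_mul, add_zero, hb0, hb1, hsq]
  ring

theorem decM_frobM (P : PM) (w z : F9) : decM ω (frobM P) w z = (decM ω P w z) ^ 2 := by
  unfold decM
  rw [frobM_col, decV_frobV ω hω]

end sem

end Cfsg.Agent.Lib.Helper93.J3
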