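import Cfsg.Agent.Lib.Helper93.J3OutAlpha

/-! # The automorphism of `3·J₃` inverting the centre, as a group automorphism -/

set_option autoImplicit false

namespace Cfsg.Agent.Lib.Helper93.J3

open Cfsg.Spor Matrix

section sem
variable {F : Type*} [Field F] [CharP F 2] (ω : F) (hω : ω ^ 2 + ω + 1 = 0)
include hω

/-- The entrywise square of a product of matrices (characteristic 2). -/
theorem sq_map_mul (A B : Matrix F9 F9 F) :
    (A * B).map (fun x => x ^ 2) = A.map (fun x => x ^ 2) * B.map (fun x => x ^ 2) := by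
  have : ExpChar F 2 := ExpChar.prime Nat.prime_two
  have hf : (fun x : F => x ^ 2) = ⇑(frobenius F 2) := by
    funext x; rw [frobenius_def]
  rw [hf]
  exact Matrix.map_mul

theorem decM_alphaPM (P : PM) :
    decM ω (alphaPM P) = decM ω pmPi * (decM ω P).map (fun x => x ^ 2) * decM ω pmPi := by
  unfold alphaPM
  rw [decM_mmul ω hω, decM_mmul ω hω]
  congr 2
  ext w z
  rw [decM_frobM ω hω, Matrix.map_apply]

theorem decM_pmPi_sq : decM ω pmPi * decM ω pmPi = 1 := by
  rw [← decM_mmul ω hω, pmBeq_eq pmPi_sq, decM_pmI]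

/-- The map on matrices. -/
noncomputable def alphaMat : Matrix F9 F9 F →* Matrix F9 F9 F where
  toFun M := decM ω pmPi * M.map (fun x => x ^ 2) * decM ω pmPi
  map_one' := by
    have : (1 : Matrix F9 F9 F).map (fun x => x ^ 2) = 1 := by
      ext i j
      rw [Matrix.map_apply, Matrix.one_apply]
      split <;> simp
    rw [this, mul_one, decM_pmPi_sq ω hω]
  map_mul' := by
    intro A B
    rw [sq_map_mul ω hω]
    have h := decM_pmPi_sq ω hω
    calc decM ω pmPi * (A.map (fun x => x ^ 2) * B.map (fun x => x ^ 2)) * decM ω pmPi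
        = decM ω pmPi * A.map (fun x => x ^ 2) * 1 * B.map (fun x => x ^ 2) * decM ω pmPi := by
          simp only [mul_assoc, one_mul]
      _ = decM ω pmPi * A.map (fun x => x ^ 2) * decM ω pmPi *
            (decM ω pmPi * B.map (fun x => x ^ 2) * decM ω pmPi) := by
          rw [← h]; simp only [mul_assoc]

theorem alphaMat_apply (M : Matrix F9 F9 F) :
    alphaMat ω hω M = decM ω pmPi * M.map (fun x => x ^ 2) * decM ω pmPi := rfl

theorem alphaMat_decM (P : PM) : alphaMat ω hω (decM ω P) = decM ω (alphaPM P) := by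
  rw [alphaMat_apply, decM_alphaPM ω hω]

theorem alphaMat_injective : Function.Injective (alphaMat ω hω) := by
  intro A B h
  rw [alphaMat_apply, alphaMat_apply] at h
  have h2 := decM_pmPi_sq ω hω
  have h3 : A.map (fun x => x ^ 2) = B.map (fun x => x ^ 2) := by
    have := congrArg (fun M => decM ω pmPi * M * decM ω pmPi) h
    simp only [mul_assoc] at this
    rw [h2, mul_one, mul_one] at this
    simp only [← mul_assoc] at this
    rw [h2, one_mul, one_mul] at this
    exact this
  ext i j
  have := congrFun (congrFun h3 i) j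
  simp only [Matrix.map_apply] at this
  have h4 : (A i j - B i j) ^ 2 = 0 := by
    have h2' : (1 : F) + 1 = 0 := two_eq_zero'
    have : (A i j - B i j) ^ 2 = A i j ^ 2 - B i j ^ 2 - (1 + 1) * (A i j * B i j - B i j ^ 2) := by
      ring
    rw [this, h2', zero_mul, sub_zero, ‹A i j ^ 2 = B i j ^ 2›, sub_self]
  exact sub_eq_zero.mp (pow_eq_zero_iff (by norm_num) |>.mp h4)

/-- The images of the elements of `3·J₃` are in `3·J₃`. -/
theorem alpha_mem (g : GL F9 F) (hg : g ∈ threeJ3 F ω) :
    Units.map (alphaMat ω hω) g ∈ threeJ3 F ω := by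
  have hle : threeJ3 F ω ≤ (threeJ3 F ω).comap (Units.map (alphaMat ω hω)) := by
    unfold threeJ3
    rw [Subgroup.closure_le]
    intro x hx
    obtain ⟨k, hk, e⟩ := gens_cover ω hω _ hx
    show Units.map (alphaMat ω hω) x ∈ Subgroup.closure _
    have hc := allRange_spec 0 43 _ alpha_chk k (Nat.zero_le k) (by omega)
    simp only [Bool.and_eq_true] at hc
    obtain ⟨c1, c2⟩ := hc
    have hW : decM ω (wordMul (aW k)) ∈ MG ω := by
      apply MG_word ω hω
      intro s hs
      exact Nat.blt_eq.mp (List.all_eq_true.mp c2 s hs)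
    obtain ⟨h, hh, eh⟩ := hW
    have : Units.map (alphaMat ω hω) x = h := by
      apply Units.ext
      rw [Units.coe_map, e, alphaMat_decM ω hω, pmBeq_eq c1, eh]
    rw [this]
    exact hh
  exact hle hg

/-- There is an automorphism of `3·J₃` moving a central element. -/
theorem exists_aut_moving_center [Fintype F] (hF : Fintype.card F = 4) :
    ∃ (a : ↥(threeJ3 F ω) ≃* ↥(threeJ3 F ω)) (z : ↥(threeJ3 F ω)),
      z ∈ Subgroup.center ↥(threeJ3 F ω) ∧ a z ≠ z := by
  classical
  have hfin : Finite F := Finite.of_fintype F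
  have hcard := card_threeJ3_eq hF ω hω
  have hfinG : Finite ↥(threeJ3 F ω) := Nat.finite_of_card_ne_zero (by rw [hcard]; norm_num)
  let a0 : ↥(threeJ3 F ω) →* ↥(threeJ3 F ω) :=
    ((Units.map (alphaMat ω hω)).comp (threeJ3 F ω).subtype).codRestrict (threeJ3 F ω)
      (fun g => alpha_mem ω hω g.1 g.2)
  have ha0 : ∀ g : ↥(threeJ3 F ω), mat ω (a0 g) = alphaMat ω hω (mat ω g) := fun g => rfl
  have hinj : Function.Injective a0 := by
    intro g h e
    apply mat_injective
    apply alphaMat_injective ω hω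
    rw [← ha0, ← ha0, e]
  have hbij : Function.Bijective a0 := Finite.injective_iff_bijective.mp hinj
  let a : ↥(threeJ3 F ω) ≃* ↥(threeJ3 F ω) := MulEquiv.ofBijective a0 hbij
  obtain ⟨z, hz⟩ := exists_of_MG ω (scalar_mem_MG ω hω)
  refine ⟨a, z, scalar_central ω z ω hz, ?_⟩
  intro h
  have h1 : mat ω (a z) = decM ω pmOmega2 := by
    show mat ω (a0 z) = _
    rw [ha0, hz, ← decM_pmOmega ω hω, alphaMat_decM ω hω, pmBeq_eq alpha_omega]
  rw [h, hz, decM_pmOmega2 ω hω] at h1
  have h2 := congrFun (congrFun h1 0) 0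
  simp only [Matrix.smul_apply, Matrix.one_apply_eq, smul_eq_mul, mul_one] at h2
  have h0 := omega_ne_zero ω hω
  have h1' := omega_ne_one ω hω
  apply h1'
  have : ω * 1 = ω * ω := by rw [mul_one]; exact h2
  exact (mul_left_cancel₀ h0 this).symm

end sem

end Cfsg.Agent.Lib.Helper93.J3
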