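import Cfsg.Agent.Lib.Helper93.J3OutData
import Cfsg.Agent.Lib.Helper93.J3Range

/-! # Kernel evaluation of the conjugation table of the involutions of `3·J₃`, part 2 -/

set_option autoImplicit false

namespace Cfsg.Agent.Lib.Helper93.J3

set_option maxRecDepth 100000 in
theorem oNxt_q2_0 : allRange (17442 + 0 * 513) 513 chkNxt = true := by decide +kernel

set_option maxRecDepth 100000 in
theorem oNxt_q2_1 : allRange (17442 + 1 * 513) 513 chkNxt = true := by decide +kernel

set_option maxRecDepth 100000 in
theorem oNxt_q2_2 : allRange (17442 + 2 * 513) 513 chkNxt = true := by decide +kernel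

set_option maxRecDepth 100000 in
theorem oNxt_q2_3 : allRange (17442 + 3 * 513) 513 chkNxt = true := by decide +kernel

set_option maxRecDepth 100000 in
theorem oNxt_q2_4 : allRange (17442 + 4 * 513) 513 chkNxt = true := by decide +kernel

set_option maxRecDepth 100000 in
theorem oNxt_q2_5 : allRange (17442 + 5 * 513) 513 chkNxt = true := by decide +kernel

set_option maxRecDepth 100000 in
theorem oNxt_q2_6 : allRange (17442 + 6 * 513) 513 chkNxt = true := by decide +kernel

set_option maxRecDepth 100000 in
theorem oNxt_q2_7 : allRange (17442 + 7 * 513) 513 chkNxt = true := by decide +kernel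

set_option maxRecDepth 100000 in
theorem oNxt_q2_8 : allRange (17442 + 8 * 513) 513 chkNxt = true := by decide +kernel

set_option maxRecDepth 100000 in
theorem oNxt_q2_9 : allRange (17442 + 9 * 513) 513 chkNxt = true := by decide +kernel

set_option maxRecDepth 100000 in
theorem oNxt_q2_10 : allRange (17442 + 10 * 513) 513 chkNxt = true := by decide +kernel

set_option maxRecDepth 100000 in
theorem oNxt_q2_11 : allRange (17442 + 11 * 513) 513 chkNxt = true := by decide +kernel

set_option maxRecDepth 100000 in
theorem oNxt_q2_12 : allRange (17442 + 12 * 513) 513 chkNxt = true := by decide +kernel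

set_option maxRecDepth 100000 in
theorem oNxt_q2_13 : allRange (17442 + 13 * 513) 513 chkNxt = true := by decide +kernel

set_option maxRecDepth 100000 in
theorem oNxt_q2_14 : allRange (17442 + 14 * 513) 513 chkNxt = true := by decide +kernel

set_option maxRecDepth 100000 in
theorem oNxt_q2_15 : allRange (17442 + 15 * 513) 513 chkNxt = true := by decide +kernel

set_option maxRecDepth 100000 in
theorem oNxt_q2_16 : allRange (17442 + 16 * 513) 513 chkNxt = true := by decide +kernel

theorem oNxt_part_2 : ∀ j, 17442 ≤ j → j < 17442 + 17 * 513 → chkNxt j = true := by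
  apply allRange_blocks
  intro j hj
  interval_cases j
  · exact oNxt_q2_0
  · exact oNxt_q2_1
  · exact oNxt_q2_2
  · exact oNxt_q2_3
  · exact oNxt_q2_4
  · exact oNxt_q2_5
  · exact oNxt_q2_6
  · exact oNxt_q2_7
  · exact oNxt_q2_8
  · exact oNxt_q2_9
  · exact oNxt_q2_10
  · exact oNxt_q2_11
  · exact oNxt_q2_12
  · exact oNxt_q2_13
  · exact oNxt_q2_14
  · exact oNxt_q2_15
  · exact oNxt_q2_16

end Cfsg.Agent.Lib.Helper93.J3
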