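import Cfsg.Agent.Lib.Helper93.J3OutSyl
import Cfsg.Agent.Lib.Helper93.J3Range

/-! # Kernel evaluation of the small certificates for the outer automorphism group of `J₃` -/

set_option autoImplicit false

namespace Cfsg.Agent.Lib.Helper93.J3

set_option maxRecDepth 100000 in
theorem oYp_chk : allRange 0 19 chkYp = true := by decide +kernel

theorem oMisc_chk : (pmBeq (oYp 0) pmI && pmBeq (oYp 19) pmI && pmBeq (oRep 0) oT &&
    pmBeq oT (gen 37)) = true := by decide +kernel

set_option maxRecDepth 100000 in
theorem oM_chk : allRange 0 361 chkM = true := by decide +kernel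

set_option maxRecDepth 100000 in
theorem oRef_chk_0 : allRange (0 + 0 * 459) 459 chkRef = true := by decide +kernel
set_option maxRecDepth 100000 in
theorem oRef_chk_1 : allRange (0 + 1 * 459) 459 chkRef = true := by decide +kernel
set_option maxRecDepth 100000 in
theorem oRef_chk_2 : allRange (0 + 2 * 459) 459 chkRef = true := by decide +kernel

theorem oRef_chk : ∀ i, i < 1377 → chkRef i = true := by
  have h := allRange_blocks chkRef 0 459 3 (by
    intro j hj
    interval_cases j
    · exact oRef_chk_0
    · exact oRef_chk_1
    · exact oRef_chk_2)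
  intro i hi
  exact h i (Nat.zero_le i) (by omega)

theorem oGW_chk : (pmBeq (evalW oT oGW9) (gen 9) && pmBeq (evalW oT oGW21) (gen 21) &&
    pmBeq (evalW oT oGW30) (gen 30)) = true := by decide +kernel

theorem oU_chk : (pmBeq (mmul oU pmY) (mmul (oYp 4) oU) && mem1 oUc && Nat.blt oUj schD.nH &&
    pmBeq oU (mmul (schD.T oUc) (schD.Hs oUj))) = true := by decide +kernel

set_option maxRecDepth 100000 in
theorem syl_chk : allRange 0 128 sylD.chk = true := by decide +kernel

set_option maxRecDepth 100000 in
theorem syl_ord : allRange 0 127 sylD.chkOrd = true := by decide +kernel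

set_option maxRecDepth 100000 in
theorem syl_inv : allRange 0 128 chkSylInv = true := by decide +kernel

theorem syl_gen : allRange 0 3 chkSylGen = true := by decide +kernel

end Cfsg.Agent.Lib.Helper93.J3
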