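import Cfsg.Agent.Lib.Helper93.J3OutChk
import Cfsg.Agent.Lib.Helper93.J3OutC0
import Cfsg.Agent.Lib.Helper93.J3OutC1
import Cfsg.Agent.Lib.Helper93.J3OutC2

/-! # Semantics of the packed data for the outer automorphism group of `J₃`: basic facts -/

set_option autoImplicit false

namespace Cfsg.Agent.Lib.Helper93.J3

open Cfsg.Spor Matrix

theorem smul_digit_lt (v j c : ℕ) (hc : c < 2 ^ 18) : smul (digit v j) c < 2 ^ 18 := by
  unfold smul digit
  simp only [nat_land_eq, nat_xor_eq, nat_shr_eq]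
  have hd : (v >>> (2 * j)) &&& 3 ≤ 3 := Nat.and_le_right
  generalize (v >>> (2 * j)) &&& 3 = d at hd
  have hm := mulw_lt c
  apply Nat.xor_lt_two_pow
  · have h1 : d &&& 1 ≤ 1 := Nat.and_le_right
    show (d &&& 1) * c < 2 ^ 18
    interval_cases h : (d &&& 1) <;> omega
  · have h2 : d >>> 1 ≤ 1 := by
      rw [Nat.shiftRight_eq_div_pow]; omega
    show (d >>> 1) * mulw c < 2 ^ 18
    interval_cases h : (d >>> 1) <;> omega

theorem mv_lt (A : PM) (hA : A.Small) (v : ℕ) : A.mv v < 2 ^ 18 := by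
  obtain ⟨h0, h1, h2, h3, h4, h5, h6, h7, h8⟩ := hA
  unfold PM.mv
  simp only [nat_xor_eq]
  exact Nat.xor_lt_two_pow (smul_digit_lt _ _ _ h0) (Nat.xor_lt_two_pow (smul_digit_lt _ _ _ h1)
    (Nat.xor_lt_two_pow (smul_digit_lt _ _ _ h2) (Nat.xor_lt_two_pow (smul_digit_lt _ _ _ h3)
    (Nat.xor_lt_two_pow (smul_digit_lt _ _ _ h4) (Nat.xor_lt_two_pow (smul_digit_lt _ _ _ h5)
    (Nat.xor_lt_two_pow (smul_digit_lt _ _ _ h6) (Nat.xor_lt_two_pow (smul_digit_lt _ _ _ h7)
    (smul_digit_lt _ _ _ h8))))))))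

theorem mmul_small (A B : PM) (hA : A.Small) : (mmul A B).Small := by
  unfold mmul PM.Small
  exact ⟨mv_lt A hA _, mv_lt A hA _, mv_lt A hA _, mv_lt A hA _, mv_lt A hA _, mv_lt A hA _,
    mv_lt A hA _, mv_lt A hA _, mv_lt A hA _⟩

theorem oT_small : oT.Small := by
  unfold PM.Small oT
  norm_num

theorem pmOmega_small : pmOmega.Small := by
  unfold PM.Small pmOmega
  norm_num

theorem pmOmega2_small : pmOmega2.Small := by
  unfold PM.Small pmOmega2
  norm_num

theorem pmPow_small (A : PM) (hA : A.Small) (n : ℕ) : (pmPow A n).Small := by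
  cases n with
  | zero => exact pmI_small
  | succ n => exact mmul_small _ _ hA

theorem evalW_small (x : PM) (hx : x.Small) (w : List ℕ) : (evalW x w).Small := by
  cases w with
  | nil => exact pmI_small
  | cons a l => exact mmul_small _ _ (mmul_small _ _ hx)

theorem oT_sq : pmBeq (mmul oT oT) pmI = true := by decide +kernel

theorem pmOmega2_eq : pmBeq (mmul pmOmega pmOmega) pmOmega2 = true := by decide +kernel

theorem oNxt_chk : ∀ j, j < 26163 → chkNxt j = true := by
  intro j hj
  have h : j < 8721 ∨ (8721 ≤ j ∧ j < 17442) ∨ 17442 ≤ j := by omega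
  rcases h with h | h | h
  · exact oNxt_part_0 j (Nat.zero_le j) (by omega)
  · exact oNxt_part_1 j h.1 (by omega)
  · exact oNxt_part_2 j h (by omega)

section sem
variable {F : Type*} [Field F] [CharP F 2] (ω : F) (hω : ω ^ 2 + ω + 1 = 0)
include hω

theorem decM_pmOmega2 : decM ω pmOmega2 = (ω * ω) • (1 : Matrix F9 F9 F) := by
  rw [← pmBeq_eq pmOmega2_eq, decM_mmul ω hω, decM_pmOmega ω hω, Matrix.smul_mul, Matrix.mul_smul,
    one_mul, smul_smul]

/-- A packed matrix passing the test is a nonzero scalar. -/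
theorem scalar_of_test (P : PM) (h : isScalarB P = true) :
    ∃ μ : F, decM ω P = μ • (1 : Matrix F9 F9 F) := by
  unfold isScalarB at h
  simp only [Bool.or_eq_true] at h
  rcases h with (h | h) | h
  · exact ⟨1, by rw [pmBeq_eq h, decM_pmI, one_smul]⟩
  · exact ⟨ω, by rw [pmBeq_eq h, decM_pmOmega ω hω]⟩
  · exact ⟨ω * ω, by rw [pmBeq_eq h, decM_pmOmega2 ω hω]⟩

/-- A small packed matrix which is a nonzero scalar passes the test. -/
theorem test_of_scalar [Fintype F] (hF : Fintype.card F = 4) (P : PM) (hP : P.Small) (μ : F)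
    (hμ : μ ≠ 0) (h : decM ω P = μ • (1 : Matrix F9 F9 F)) : isScalarB P = true := by
  unfold isScalarB
  simp only [Bool.or_eq_true]
  rcases scalar_cases ω hω hF μ with h0 | h1 | h2 | h3
  · exact absurd h0 hμ
  · left; left
    have : P = pmI := decM_injective ω hω _ _ hP pmI_small (by rw [h, h1, one_smul, decM_pmI])
    rw [this]; decide
  · left; right
    have : P = pmOmega := decM_injective ω hω _ _ hP pmOmega_small (by
      rw [h, h2, decM_pmOmega ω hω])
    rw [this]; decide
  · right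
    have : P = pmOmega2 := decM_injective ω hω _ _ hP pmOmega2_small (by
      rw [h, h3, decM_pmOmega2 ω hω])
    rw [this]; decide

theorem decM_oYp (e : ℕ) (he : e ≤ 19) : decM ω (oYp e) = decM ω pmY ^ e := by
  induction e with
  | zero =>
    have h := oMisc_chk
    simp only [Bool.and_eq_true] at h
    rw [pmBeq_eq h.1.1.1, decM_pmI, pow_zero]
  | succ e ih =>
    have h := allRange_spec 0 19 chkYp oYp_chk e (Nat.zero_le e) (by omega)
    unfold chkYp at h
    rw [pmBeq_eq h, decM_mmul ω hω, ih (by omega), pow_succ']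

theorem decM_oT_sq : decM ω oT * decM ω oT = 1 := by
  rw [← decM_mmul ω hω, pmBeq_eq oT_sq, decM_pmI]

theorem decM_oT_mem : decM ω oT ∈ MG ω := by
  have h := oMisc_chk
  simp only [Bool.and_eq_true] at h
  rw [pmBeq_eq h.2]
  exact MG_gen ω hω 37 (by norm_num)

omit [CharP F 2] hω in
theorem decM_oRep_zero : decM ω (oRep 0) = decM ω oT := by
  have h := oMisc_chk
  simp only [Bool.and_eq_true] at h
  rw [pmBeq_eq h.1.2]

theorem decM_oM (a b : ℕ) (ha : a < 19) (hb : b < 19) :
    decM ω (oM a b) = decM ω pmY ^ (19 - a) * decM ω oT * decM ω pmY ^ b := by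
  have h := allRange_spec 0 361 chkM oM_chk (19 * a + b) (Nat.zero_le _) (by omega)
  unfold chkM at h
  have e1 : Nat.div (19 * a + b) 19 = a := by
    show (19 * a + b) / 19 = a
    omega
  have e2 : Nat.mod (19 * a + b) 19 = b := by
    show (19 * a + b) % 19 = b
    omega
  rw [e1, e2] at h
  rw [pmBeq_eq h, decM_mmul ω hω, decM_mmul ω hω, decM_oYp ω hω _ (by omega),
    decM_oYp ω hω _ (by omega)]

/-- The value of a word on matrices. -/
def evalM (X Y : Matrix F9 F9 F) : List ℕ → Matrix F9 F9 F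
  | [] => 1
  | a :: l => X * Y ^ a * evalM X Y l

omit [CharP F 2] hω in
theorem evalM_nil (X Y : Matrix F9 F9 F) : evalM X Y [] = 1 := rfl

omit [CharP F 2] hω in
theorem evalM_cons (X Y : Matrix F9 F9 F) (a : ℕ) (l : List ℕ) :
    evalM X Y (a :: l) = X * Y ^ a * evalM X Y l := rfl

theorem decM_evalW (x : PM) (w : List ℕ) (hw : ∀ a ∈ w, a ≤ 19) :
    decM ω (evalW x w) = evalM (decM ω x) (decM ω pmY) w := by
  induction w with
  | nil => rw [evalW, decM_pmI, evalM_nil]
  | cons a l ih =>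
    rw [evalW, decM_mmul ω hω, decM_mmul ω hω, decM_oYp ω hω a (hw a List.mem_cons_self),
      ih (fun b hb => hw b (List.mem_cons_of_mem _ hb)), evalM_cons]

end sem

end Cfsg.Agent.Lib.Helper93.J3
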