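import Cfsg.Agent.Lib.Helper93.J3OutSem1

/-! # The table of involutions of `3·J₃` is closed under conjugation by `t` and by the element of
order 19 -/

set_option autoImplicit false

namespace Cfsg.Agent.Lib.Helper93.J3

open Cfsg.Spor Matrix

section sem
variable {F : Type*} [Field F] [CharP F 2] (ω : F) (hω : ω ^ 2 + ω + 1 = 0)

/-- The involution number `j` of the table, as a matrix. -/
def Xm (j : ℕ) : Matrix F9 F9 F :=
  decM ω pmY ^ (j % 19) * decM ω (oRep (j / 19)) * decM ω pmY ^ (19 - j % 19)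

/-- The set of involutions of the table. -/
def invSet : Set (Matrix F9 F9 F) :=
  {M | ∃ i e : ℕ, i < 1377 ∧ M = decM ω pmY ^ e * decM ω (oRep i) * decM ω pmY ^ (18 * e)}

include hω

theorem Ypow_mod (a : ℕ) : decM ω pmY ^ a = decM ω pmY ^ (a % 19) :=
  pow_eq_pow_mod a (decM_pmY_pow ω hω)

theorem Ypow_congr {a b : ℕ} (h : a % 19 = b % 19) : decM ω pmY ^ a = decM ω pmY ^ b := by
  rw [Ypow_mod ω hω a, Ypow_mod ω hω b, h]

theorem Ypow_cancel {a b : ℕ} (h : (a + b) % 19 = 0) : decM ω pmY ^ a * decM ω pmY ^ b = 1 := by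
  rw [← pow_add, Ypow_mod ω hω, h, pow_zero]

theorem Ypow_cancel_left {a b : ℕ} (h : (a + b) % 19 = 0) (M : Matrix F9 F9 F) :
    decM ω pmY ^ a * (decM ω pmY ^ b * M) = M := by
  rw [← mul_assoc, Ypow_cancel ω hω h, one_mul]

theorem Xm_mem (j : ℕ) (hj : j < 26163) : Xm ω j ∈ invSet ω := by
  refine ⟨j / 19, j % 19, by omega, ?_⟩
  unfold Xm
  rw [Ypow_congr ω hω (a := 19 - j % 19) (b := 18 * (j % 19)) (by omega)]

theorem mem_invSet_iff (M : Matrix F9 F9 F) : M ∈ invSet ω ↔ ∃ j, j < 26163 ∧ M = Xm ω j := by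
  constructor
  · rintro ⟨i, e, hi, rfl⟩
    refine ⟨19 * i + e % 19, by omega, ?_⟩
    unfold Xm
    have e1 : (19 * i + e % 19) % 19 = e % 19 := by omega
    have e2 : (19 * i + e % 19) / 19 = i := by omega
    rw [e1, e2, ← Ypow_mod ω hω e,
      Ypow_congr ω hω (a := 19 - e % 19) (b := 18 * e) (by omega)]
  · rintro ⟨j, hj, rfl⟩
    exact Xm_mem ω hω j hj

theorem conjT_direct (j j' : ℕ)
    (E : pmBeq (mmul (mmul (oM (Nat.mod j' 19) (Nat.mod j 19)) (oRep (Nat.div j 19)))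
      (oM (Nat.mod j 19) (Nat.mod j' 19))) (oRep (Nat.div j' 19)) = true) :
    decM ω oT * Xm ω j * decM ω oT = Xm ω j' := by
  have hm : ∀ n : ℕ, Nat.mod n 19 = n % 19 := fun n => rfl
  have hd : ∀ n : ℕ, Nat.div n 19 = n / 19 := fun n => rfl
  have E' := congrArg (decM ω) (pmBeq_eq E)
  simp only [hm, hd] at E'
  have he : j % 19 < 19 := Nat.mod_lt _ (by norm_num)
  have he' : j' % 19 < 19 := Nat.mod_lt _ (by norm_num)
  rw [decM_mmul ω hω, decM_mmul ω hω, decM_oM ω hω _ _ he' he, decM_oM ω hω _ _ he he'] at E'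
  unfold Xm
  rw [← E']
  simp only [mul_assoc]
  rw [Ypow_cancel_left ω hω (by omega), Ypow_cancel ω hω (by omega), mul_one]

theorem conjT (j : ℕ) (hj : j < 26163) :
    oNxt j < 26163 ∧ decM ω oT * Xm ω j * decM ω oT = Xm ω (oNxt j) := by
  have h := oNxt_chk j hj
  unfold chkNxt at h
  simp only [Bool.and_eq_true, Bool.or_eq_true] at h
  obtain ⟨⟨h1, h2⟩, h3⟩ := h
  have h1' : oNxt j < 26163 := Nat.blt_eq.mp h1
  have h2' : oNxt (oNxt j) = j := Nat.eq_of_beq_eq_true h2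
  refine ⟨h1', ?_⟩
  rcases h3 with h3 | h3
  · -- use the check at `oNxt j`
    have hlt : oNxt j < j := Nat.blt_eq.mp h3
    have h' := oNxt_chk (oNxt j) h1'
    unfold chkNxt at h'
    simp only [Bool.and_eq_true, Bool.or_eq_true] at h'
    obtain ⟨_, h4⟩ := h'
    rw [h2'] at h4
    rcases h4 with h4 | h4
    · have := Nat.blt_eq.mp h4
      omega
    · have key := conjT_direct ω hω (oNxt j) j h4
      rw [← key]
      have hT := decM_oT_sq ω hω
      calc decM ω oT * (decM ω oT * Xm ω (oNxt j) * decM ω oT) * decM ω oT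
          = (decM ω oT * decM ω oT) * Xm ω (oNxt j) * (decM ω oT * decM ω oT) := by
            simp only [mul_assoc]
        _ = Xm ω (oNxt j) := by rw [hT, one_mul, mul_one]
  · exact conjT_direct ω hω j (oNxt j) h3

theorem invSet_T (M : Matrix F9 F9 F) (hM : M ∈ invSet ω) :
    decM ω oT * M * decM ω oT ∈ invSet ω := by
  obtain ⟨j, hj, rfl⟩ := (mem_invSet_iff ω hω M).mp hM
  obtain ⟨h1, h2⟩ := conjT ω hω j hj
  rw [h2]
  exact Xm_mem ω hω _ h1

omit [CharP F 2] hω in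
theorem invSet_Y (M : Matrix F9 F9 F) (hM : M ∈ invSet ω) :
    decM ω pmY * M * decM ω pmY ^ 18 ∈ invSet ω := by
  obtain ⟨i, e, hi, rfl⟩ := hM
  refine ⟨i, e + 1, hi, ?_⟩
  rw [pow_succ' (decM ω pmY) e, show 18 * (e + 1) = 18 * e + 18 by ring, pow_add]
  simp only [mul_assoc]

theorem invSet_Yinv (M : Matrix F9 F9 F) (hM : M ∈ invSet ω) :
    decM ω pmY ^ 18 * M * decM ω pmY ∈ invSet ω := by
  obtain ⟨i, e, hi, rfl⟩ := hM
  refine ⟨i, 18 + e, hi, ?_⟩
  rw [pow_add (decM ω pmY) 18 e,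
    Ypow_congr ω hω (a := 18 * (18 + e)) (b := 18 * e + 1) (by omega),
    pow_succ (decM ω pmY) (18 * e)]
  simp only [mul_assoc]

omit [CharP F 2] hω in
theorem oT_mem_invSet : decM ω oT ∈ invSet ω := by
  refine ⟨0, 0, by norm_num, ?_⟩
  rw [pow_zero, one_mul, mul_one, decM_oRep_zero]

end sem

end Cfsg.Agent.Lib.Helper93.J3
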