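import Cfsg.Agent.Lib.Helper93.J3OutSem2
import Cfsg.Agent.Lib.Helper93.J3OutAbs

/-! # Every involution of `3·J₃` is in the table -/

set_option autoImplicit false

namespace Cfsg.Agent.Lib.Helper93.J3

open Cfsg.Spor Matrix

theorem syl_valid : sylD.Valid where
  vK := fun j hj => allRange_spec 0 128 _ syl_chk j (Nat.zero_le j) (by
    have : sylD.n = 128 := rfl
    omega)
  vO := fun j hj => allRange_spec 0 127 _ syl_ord j (Nat.zero_le j) (by
    have : sylD.n = 128 := rfl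
    omega)
  vj1 := by decide
  vSmall := fun j => unpackM_small _

section matdef
variable {F : Type*} [Field F] (ω : F)

/-- The matrix of an element of `3·J₃`. -/
def mat (g : ↥(threeJ3 F ω)) : Matrix F9 F9 F := ((g : GL F9 F) : Matrix F9 F9 F)

theorem mat_mul (a b : ↥(threeJ3 F ω)) : mat ω (a * b) = mat ω a * mat ω b := by
  unfold mat
  rw [Subgroup.coe_mul, Units.val_mul]

theorem mat_one : mat ω (1 : ↥(threeJ3 F ω)) = 1 := rfl

theorem mat_pow (a : ↥(threeJ3 F ω)) (n : ℕ) : mat ω (a ^ n) = mat ω a ^ n := by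
  unfold mat
  rw [Subgroup.coe_pow, Units.val_pow_eq_pow_val]

theorem mat_injective {a b : ↥(threeJ3 F ω)} (h : mat ω a = mat ω b) : a = b := ext_mat ω h

theorem mat_mem (a : ↥(threeJ3 F ω)) : mat ω a ∈ MG ω := ⟨a.1, a.2, rfl⟩

theorem exists_of_MG {M : Matrix F9 F9 F} (h : M ∈ MG ω) : ∃ g : ↥(threeJ3 F ω), mat ω g = M := by
  obtain ⟨g, hg, e⟩ := h
  exact ⟨⟨g, hg⟩, e⟩

end matdef

section sem
variable {F : Type*} [Field F] [CharP F 2] (ω : F) (hω : ω ^ 2 + ω + 1 = 0)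
include hω

/-- The element of order 19. -/
noncomputable def yHat : ↥(threeJ3 F ω) := (exists_of_MG ω (decM_pmY_mem ω hω)).choose

/-- The involution. -/
noncomputable def tHat : ↥(threeJ3 F ω) := (exists_of_MG ω (decM_oT_mem ω hω)).choose

theorem mat_yHat : mat ω (yHat ω hω) = decM ω pmY :=
  (exists_of_MG ω (decM_pmY_mem ω hω)).choose_spec

theorem mat_tHat : mat ω (tHat ω hω) = decM ω oT :=
  (exists_of_MG ω (decM_oT_mem ω hω)).choose_spec

theorem yHat_pow : yHat ω hω ^ 19 = 1 := by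
  apply mat_injective
  rw [mat_pow, mat_yHat, decM_pmY_pow ω hω, mat_one]

theorem yHat_inv : (yHat ω hω)⁻¹ = yHat ω hω ^ 18 := by
  apply inv_eq_of_mul_eq_one_left
  rw [← pow_succ, yHat_pow]

theorem tHat_sq : tHat ω hω * tHat ω hω = 1 := by
  apply mat_injective
  rw [mat_mul, mat_tHat, decM_oT_sq ω hω, mat_one]

theorem tHat_inv : (tHat ω hω)⁻¹ = tHat ω hω :=
  inv_eq_of_mul_eq_one_left (tHat_sq ω hω)

theorem syl_kg_mem : ∀ a, a < 3 → decM ω (sylD.kg a) ∈ MG ω := by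
  intro a ha
  have h := allRange_spec 0 3 chkSylGen syl_gen a (Nat.zero_le a) (by omega)
  unfold chkSylGen at h
  simp only [Bool.and_eq_true] at h
  obtain ⟨⟨h1, h2⟩, h3⟩ := h
  rw [pmBeq_eq h3, decM_mmul ω hω]
  exact MG_mul ω (T_mem ω hω schD schD_valid _ h1) (Hs_mem ω hω schD schD_valid _ (Nat.blt_eq.mp h2))

/-- The Sylow 2-subgroup. -/
def sylSub : Subgroup ↥(threeJ3 F ω) := tabSubgroup ω sylD

theorem card_sylSub [Finite F] : Nat.card ↥(sylSub ω) = 128 :=
  card_tabSubgroup ω hω sylD syl_valid (syl_kg_mem ω hω)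

/-- Every involution of `3·J₃` is conjugate to `t`. -/
theorem inv_conj_t [Fintype F] (hF : Fintype.card F = 4) (x : ↥(threeJ3 F ω)) (hx : x ^ 2 = 1)
    (hx1 : x ≠ 1) : ∃ g : ↥(threeJ3 F ω), g * x * g⁻¹ = tHat ω hω := by
  have hfin : Finite F := Finite.of_fintype F
  have hcard := card_threeJ3_eq hF ω hω
  have hfinG : Finite ↥(threeJ3 F ω) := Nat.finite_of_card_ne_zero (by rw [hcard]; norm_num)
  obtain ⟨g, hg⟩ := sylow_conj_into (sylSub ω) 1177335 (by rw [card_sylSub ω hω]; norm_num)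
    (by rw [hcard]; norm_num) (by norm_num) x hx
  obtain ⟨j, hj, ej⟩ := (mem_tab_iff ω hω sylD syl_valid (syl_kg_mem ω hω) _).mp hg
  have hj' : j < 128 := hj
  have hc := allRange_spec 0 128 chkSylInv syl_inv j (Nat.zero_le j) (by omega)
  unfold chkSylInv at hc
  simp only [Bool.and_eq_true, Bool.or_eq_true, Bool.not_eq_true'] at hc
  obtain ⟨⟨h1, h2⟩, h3⟩ := hc
  have h2' : sylSq j < 128 := Nat.blt_eq.mp h2
  -- the square of the conjugate is 1
  have hsq : (g * x * g⁻¹) ^ 2 = 1 := by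
    rw [conj_pow, hx, mul_one, mul_inv_cancel]
  have hne : g * x * g⁻¹ ≠ 1 := by
    intro h
    apply hx1
    have : x = g⁻¹ * (g * x * g⁻¹) * g := by group
    rw [this, h]; group
  have ej' : mat ω (g * x * g⁻¹) = decM ω (sylD.Ks j) := ej
  have hK2 : decM ω (sylD.Ks (sylSq j)) = decM ω (sylD.Ks sylD.j1) := by
    rw [← pmBeq_eq h1, decM_mmul ω hω, ← ej', ← mat_mul, ← sq, hsq, mat_one,
      sylD.Ks_j1 syl_valid, decM_pmI]
  have hsqj : sylSq j = sylD.j1 :=
    sylD.inj syl_valid _ _ h2' syl_valid.vj1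
      (decM_injective ω hω _ _ (syl_valid.vSmall _) (syl_valid.vSmall _) hK2)
  have hjne : j ≠ sylD.j1 := by
    intro h
    apply hne
    apply mat_injective
    rw [ej', h, sylD.Ks_j1 syl_valid, decM_pmI, mat_one]
  rcases h3 with (h3 | h3) | h3
  · rw [hsqj] at h3
    have : Nat.beq sylD.j1 sylD.j1 = true := Nat.beq_refl _
    rw [this] at h3
    exact absurd h3 (by decide)
  · exact absurd (Nat.eq_of_beq_eq_true h3) hjne
  · obtain ⟨h4, h5⟩ := h3
    have hW : decM ω (wordMul (sylW j)) ∈ MG ω := by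
      apply MG_word ω hω
      intro s hs
      have := List.all_eq_true.mp h5 s hs
      exact Nat.blt_eq.mp this
    obtain ⟨w, hw⟩ := exists_of_MG ω hW
    have e := congrArg (decM ω) (pmBeq_eq h4)
    rw [decM_mmul ω hω, decM_mmul ω hω, ← hw, ← ej', ← mat_tHat ω hω, ← mat_mul, ← mat_mul] at e
    have e' := mat_injective ω e
    refine ⟨w⁻¹ * g, ?_⟩
    have : w⁻¹ * g * x * (w⁻¹ * g)⁻¹ = w⁻¹ * (g * x * g⁻¹ * w) := by group
    rw [this, e']
    group

end sem

end Cfsg.Agent.Lib.Helper93.J3
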