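import Cfsg.Agent.Lib.Helper93.J3OutSem3

/-! # `3·J₃` is generated by `t` and the element of order 19; all involutions are in the table -/

set_option autoImplicit false

namespace Cfsg.Agent.Lib.Helper93.J3

open Cfsg.Spor Matrix

section sem
variable {F : Type*} [Field F] [CharP F 2] (ω : F) (hω : ω ^ 2 + ω + 1 = 0)
include hω

/-- A set of matrices closed under left multiplication by the four generators `9, 21, 30, 37` is
closed under left multiplication by `3·J₃`. -/
theorem gen_induction [Finite F] (X : Set (Matrix F9 F9 F))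
    (hgen : ∀ s ∈ spList, ∀ M ∈ X, decM ω (gen s) * M ∈ X)
    (g : GL F9 F) (hg : g ∈ threeJ3 F ω) : ∀ M ∈ X, (g : Matrix F9 F9 F) * M ∈ X := by
  have hword : ∀ w : List ℕ, (∀ s ∈ w, s ∈ spList) → ∀ M ∈ X, decM ω (wordMul w) * M ∈ X := by
    intro w
    induction w with
    | nil => intro _ M hM; rw [wordMul, decM_pmI, one_mul]; exact hM
    | cons s w ih =>
      intro hw M hM
      rw [wordMul, decM_mmul ω hω, mul_assoc]
      exact hgen s (hw s List.mem_cons_self) _
        (ih (fun t ht => hw t (List.mem_cons_of_mem _ ht)) M hM)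
  have hall : ∀ k, k < 43 → ∀ M ∈ X, decM ω (gen k) * M ∈ X := by
    intro k hk M hM
    have h := schD_valid.vW k hk
    simp only [SchTables.chkW, Bool.and_eq_true, List.all_eq_true] at h
    obtain ⟨h1, h2⟩ := h
    rw [← pmBeq_eq h1]
    apply hword _ _ M hM
    intro s hs
    have := h2 s hs
    simpa using this
  have hpow : ∀ (x : GL F9 F) (n : ℕ),
      (∀ M ∈ X, (x : Matrix F9 F9 F) * M ∈ X) →
      ∀ M ∈ X, ((x ^ n : GL F9 F) : Matrix F9 F9 F) * M ∈ X := by
    intro x n hx
    induction n with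
    | zero => intro M hM; rw [pow_zero, Units.val_one, one_mul]; exact hM
    | succ n ih =>
      intro M hM
      rw [pow_succ, Units.val_mul, mul_assoc]
      exact ih _ (hx M hM)
  unfold threeJ3 at hg
  induction hg using Subgroup.closure_induction with
  | mem x hx =>
    obtain ⟨k, hk, e⟩ := gens_cover ω hω _ hx
    intro M hM
    rw [e]
    exact hall k hk M hM
  | one => intro M hM; rw [Units.val_one, one_mul]; exact hM
  | mul x y _ _ hx hy =>
    intro M hM
    rw [Units.val_mul, mul_assoc]
    exact hx _ (hy M hM)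
  | inv x _ hx =>
    have hpos : 0 < orderOf x := orderOf_pos x
    have hinv : x⁻¹ = x ^ (orderOf x - 1) := by
      apply inv_eq_of_mul_eq_one_left
      rw [← pow_succ, Nat.sub_add_cancel hpos, pow_orderOf_eq_one]
    rw [hinv]
    exact hpow x _ hx

/-- The value of a word in the group. -/
def evalG {G : Type*} [Group G] (x y : G) : List ℕ → G
  | [] => 1
  | a :: l => x * y ^ a * evalG x y l

omit [CharP F 2] hω in
theorem mat_evalG (x y : ↥(threeJ3 F ω)) (w : List ℕ) :
    mat ω (evalG x y w) = evalM (mat ω x) (mat ω y) w := by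
  induction w with
  | nil => rfl
  | cons a l ih => rw [evalG, mat_mul, mat_mul, mat_pow, ih, evalM_cons]

omit [CharP F 2] hω in
theorem evalG_mem {G : Type*} [Group G] (x y : G) (K : Subgroup G) (hx : x ∈ K) (hy : y ∈ K)
    (w : List ℕ) : evalG x y w ∈ K := by
  induction w with
  | nil => exact one_mem K
  | cons a l ih => exact mul_mem (mul_mem hx (pow_mem hy a)) ih

omit [CharP F 2] hω in
theorem map_evalG {G H : Type*} [Group G] [Group H] (f : G →* H) (x y : G) (w : List ℕ) :
    f (evalG x y w) = evalG (f x) (f y) w := by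
  induction w with
  | nil => exact map_one f
  | cons a l ih => rw [evalG, map_mul, map_mul, map_pow, ih, evalG]

theorem mat_evalG_tHat (w : List ℕ) (hw : ∀ a ∈ w, a ≤ 19) :
    mat ω (evalG (tHat ω hω) (yHat ω hω) w) = decM ω (evalW oT w) := by
  rw [mat_evalG, mat_tHat, mat_yHat, decM_evalW ω hω oT w hw]

/-- `3·J₃` is generated by `t` and the element of order 19. -/
theorem closure_ty [Finite F] :
    Subgroup.closure {yHat ω hω, tHat ω hω} = (⊤ : Subgroup ↥(threeJ3 F ω)) := by
  rw [eq_top_iff]
  rintro ⟨g, hg⟩ _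
  set K := Subgroup.closure {yHat ω hω, tHat ω hω} with hK
  have hy : yHat ω hω ∈ K := Subgroup.subset_closure (by simp)
  have ht : tHat ω hω ∈ K := Subgroup.subset_closure (by simp)
  let X : Set (Matrix F9 F9 F) := {M | ∃ k ∈ K, mat ω k = M}
  have hgw := oGW_chk
  simp only [Bool.and_eq_true] at hgw
  obtain ⟨⟨g9, g21⟩, g30⟩ := hgw
  have hmisc := oMisc_chk
  simp only [Bool.and_eq_true] at hmisc
  have hword : ∀ w : List ℕ, (∀ a ∈ w, a ≤ 19) → ∀ s, pmBeq (evalW oT w) (gen s) = true →
      ∀ M ∈ X, decM ω (gen s) * M ∈ X := by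
    intro w hw s hs M hM
    obtain ⟨k, hk, rfl⟩ := hM
    refine ⟨evalG (tHat ω hω) (yHat ω hω) w * k, mul_mem (evalG_mem _ _ K ht hy w) hk, ?_⟩
    rw [mat_mul, mat_evalG_tHat ω hω w hw, pmBeq_eq hs]
  have hgen : ∀ s ∈ spList, ∀ M ∈ X, decM ω (gen s) * M ∈ X := by
    intro s hs
    simp only [spList, List.mem_cons, List.not_mem_nil, or_false] at hs
    rcases hs with rfl | rfl | rfl | rfl
    · exact hword oGW9 (by decide) 9 g9
    · exact hword oGW21 (by decide) 21 g21
    · exact hword oGW30 (by decide) 30 g30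
    · intro M hM
      obtain ⟨k, hk, rfl⟩ := hM
      refine ⟨tHat ω hω * k, mul_mem ht hk, ?_⟩
      rw [mat_mul, mat_tHat, pmBeq_eq hmisc.2]
  have h1 : (1 : Matrix F9 F9 F) ∈ X := ⟨1, one_mem K, rfl⟩
  have := gen_induction ω hω X hgen g hg 1 h1
  rw [mul_one] at this
  obtain ⟨k, hk, ek⟩ := this
  have : (⟨g, hg⟩ : ↥(threeJ3 F ω)) = k := mat_injective ω ek.symm
  rw [this]
  exact hk

/-- The table of involutions is closed under conjugation. -/
theorem conj_invSet [Finite F] (g x : ↥(threeJ3 F ω)) (hx : mat ω x ∈ invSet ω) :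
    mat ω (g * x * g⁻¹) ∈ invSet ω := by
  have key : ∀ g : ↥(threeJ3 F ω), g ∈ Subgroup.closure {yHat ω hω, tHat ω hω} →
      (∀ x : ↥(threeJ3 F ω), mat ω x ∈ invSet ω → mat ω (g * x * g⁻¹) ∈ invSet ω) ∧
      (∀ x : ↥(threeJ3 F ω), mat ω x ∈ invSet ω → mat ω (g⁻¹ * x * g) ∈ invSet ω) := by
    intro g hg
    induction hg using Subgroup.closure_induction with
    | mem a ha =>
      simp only [Set.mem_insert_iff, Set.mem_singleton_iff] at ha
      rcases ha with rfl | rfl
      · constructor
        · intro x hx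
          rw [yHat_inv ω hω, mat_mul, mat_mul, mat_pow, mat_yHat]
          exact invSet_Y ω _ hx
        · intro x hx
          rw [yHat_inv ω hω, mat_mul, mat_mul, mat_pow, mat_yHat]
          exact invSet_Yinv ω hω _ hx
      · constructor
        · intro x hx
          rw [tHat_inv ω hω, mat_mul, mat_mul, mat_tHat]
          exact invSet_T ω hω _ hx
        · intro x hx
          rw [tHat_inv ω hω, mat_mul, mat_mul, mat_tHat]
          exact invSet_T ω hω _ hx
    | one =>
      constructor
      · intro x hx; rw [one_mul, inv_one, mul_one]; exact hx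
      · intro x hx; rw [inv_one, one_mul, mul_one]; exact hx
    | mul a b _ _ ha hb =>
      constructor
      · intro x hx
        have : a * b * x * (a * b)⁻¹ = a * (b * x * b⁻¹) * a⁻¹ := by group
        rw [this]
        exact ha.1 _ (hb.1 _ hx)
      · intro x hx
        have : (a * b)⁻¹ * x * (a * b) = b⁻¹ * (a⁻¹ * x * a) * b := by group
        rw [this]
        exact hb.2 _ (ha.2 _ hx)
    | inv a _ ha =>
      constructor
      · intro x hx; rw [inv_inv]; exact ha.2 x hx
      · intro x hx; rw [inv_inv]; exact ha.1 x hx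
  exact (key g (by rw [closure_ty ω hω]; trivial)).1 x hx

/-- Every involution of `3·J₃` is in the table. -/
theorem involution_mem [Fintype F] (hF : Fintype.card F = 4) (x : ↥(threeJ3 F ω)) (hx : x ^ 2 = 1)
    (hx1 : x ≠ 1) : mat ω x ∈ invSet ω := by
  have hfin : Finite F := Finite.of_fintype F
  obtain ⟨g, hg⟩ := inv_conj_t ω hω hF x hx hx1
  have : x = g⁻¹ * tHat ω hω * g⁻¹⁻¹ := by rw [← hg]; group
  rw [this]
  apply conj_invSet ω hω
  rw [mat_tHat]
  exact oT_mem_invSet ω

end sem

end Cfsg.Agent.Lib.Helper93.J3
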