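import Cfsg.Agent.Lib.Helper93.J3OutSem4
import Cfsg.Prelude.Def_KGroupFacts

/-! # Rigidity: an automorphism of `J₃` fixing the element of order 19 is inner -/

set_option autoImplicit false

namespace Cfsg.Agent.Lib.Helper93.J3

open Cfsg.Spor Matrix

theorem aut_eq_one_of_fix {G : Type*} [Group G] (β : MulAut G) (y t : G)
    (h : Subgroup.closure {y, t} = ⊤) (hy : β y = y) (ht : β t = t) : β = 1 := by
  ext z
  have hz : z ∈ Subgroup.closure {y, t} := by rw [h]; trivial
  show β z = z
  induction hz using Subgroup.closure_induction with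
  | mem a ha =>
    simp only [Set.mem_insert_iff, Set.mem_singleton_iff] at ha
    rcases ha with rfl | rfl
    · exact hy
    · exact ht
  | one => exact map_one β
  | mul a b _ _ ha hb => rw [map_mul, ha, hb]
  | inv a _ ha => rw [map_inv, ha]

theorem oWord_le (n : ℕ) (hn : n < 16) : ∀ a ∈ oWord n, a ≤ 19 := by
  interval_cases n <;> decide

theorem oT_not_scalar : isScalarB oT = false := by decide +kernel

section sem
variable {F : Type*} [Field F] [CharP F 2] (ω : F) (hω : ω ^ 2 + ω + 1 = 0)
include hω

/-- Membership in the centre is decided by the scalar test. -/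
theorem center_test [Fintype F] (hF : Fintype.card F = 4) (g : ↥(threeJ3 F ω)) (P : PM)
    (hP : P.Small) (hg : mat ω g = decM ω P) :
    g ∈ Subgroup.center ↥(threeJ3 F ω) ↔ isScalarB P = true := by
  constructor
  · intro hc
    have hs := center_scalar ω hω g hc
    have hs' : decM ω P = (mat ω g 0 0) • (1 : Matrix F9 F9 F) := by rw [← hg]; exact hs
    apply test_of_scalar ω hω hF P hP _ _ hs'
    intro h0
    have hu := ((g : GL F9 F)).val_inv
    have : ((g : GL F9 F) : Matrix F9 F9 F) = 0 := by
      have := hs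
      unfold mat at h0
      rw [h0, zero_smul] at this
      exact this
    rw [this, zero_mul] at hu
    exact zero_ne_one hu
  · intro ht
    obtain ⟨μ, hμ⟩ := scalar_of_test ω hω P ht
    exact scalar_central ω g μ (by rw [← hμ, ← hg]; rfl)

theorem tHat_not_center [Fintype F] (hF : Fintype.card F = 4) :
    tHat ω hω ∉ Subgroup.center ↥(threeJ3 F ω) := by
  intro h
  have := (center_test ω hω hF (tHat ω hω) oT oT_small (mat_tHat ω hω)).mp h
  rw [oT_not_scalar] at this
  exact Bool.noConfusion this

theorem yHat_not_center [Fintype F] (hF : Fintype.card F = 4) :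
    yHat ω hω ∉ Subgroup.center ↥(threeJ3 F ω) := by
  intro hc
  have := center_scalar ω hω (yHat ω hω) hc
  have h2 : decM ω pmY = (mat ω (yHat ω hω) 0 0) • (1 : Matrix F9 F9 F) := by
    rw [← mat_yHat ω hω]; exact this
  exact decM_pmY_not_scalar ω hω hF _ h2

/-- The rigidity theorem. -/
theorem rigid [Fintype F] (hF : Fintype.card F = 4) :
    ∃ y u : J3 F ω, orderOf y = 19 ∧ u * y * u⁻¹ = y ^ 4 ∧
      ∀ β : MulAut (J3 F ω), β y = y → β ∈ Cfsg.Inn (J3 F ω) := by
  classical
  have hfin : Finite F := Finite.of_fintype F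
  let π := QuotientGroup.mk' (Subgroup.center ↥(threeJ3 F ω))
  have hπ1 : ∀ g : ↥(threeJ3 F ω), π g = 1 ↔ g ∈ Subgroup.center ↥(threeJ3 F ω) :=
    fun g => QuotientGroup.eq_one_iff g
  have hπs : Function.Surjective π := QuotientGroup.mk'_surjective _
  have hcard3 := center_card ω hω hF
  have hcube : ∀ z ∈ Subgroup.center ↥(threeJ3 F ω), z ^ 3 = 1 := by
    intro z hz
    have h := pow_card_eq_one' (G := ↥(Subgroup.center ↥(threeJ3 F ω))) (x := ⟨z, hz⟩)
    rw [hcard3] at h
    exact congrArg Subtype.val h
  have hp19 : Fact (Nat.Prime 19) := ⟨by norm_num⟩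
  -- the element u
  have hu := oU_chk
  simp only [Bool.and_eq_true] at hu
  obtain ⟨⟨⟨u1, u2⟩, u3⟩, u4⟩ := hu
  have hUmem : decM ω oU ∈ MG ω := by
    rw [pmBeq_eq u4, decM_mmul ω hω]
    exact MG_mul ω (T_mem ω hω schD schD_valid _ u2)
      (Hs_mem ω hω schD schD_valid _ (Nat.blt_eq.mp u3))
  obtain ⟨uh, huh⟩ := exists_of_MG ω hUmem
  have huy : uh * yHat ω hω = yHat ω hω ^ 4 * uh := by
    apply mat_injective
    rw [mat_mul, mat_mul, mat_pow, huh, mat_yHat, ← decM_oYp ω hω 4 (by norm_num),
      ← decM_mmul ω hω, ← decM_mmul ω hω, pmBeq_eq u1]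
  have hgen : Subgroup.closure {π (yHat ω hω), π (tHat ω hω)} = (⊤ : Subgroup (J3 F ω)) := by
    have h1 := closure_ty ω hω
    have h2 := MonoidHom.map_closure π {yHat ω hω, tHat ω hω}
    rw [h1, Subgroup.map_top_of_surjective π hπs, Set.image_pair] at h2
    exact h2.symm
  refine ⟨π (yHat ω hω), π uh, ?_, ?_, ?_⟩
  · apply orderOf_eq_prime
    · rw [← map_pow, yHat_pow, map_one]
    · intro h; exact yHat_not_center ω hω hF ((hπ1 _).mp h)
  · rw [← map_inv, ← map_mul, ← map_mul, ← map_pow, huy, mul_inv_cancel_right]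
  · intro β hβ
    set y := π (yHat ω hω) with hy
    set t := π (tHat ω hω) with ht
    -- the image of t
    have ht2 : (β t) ^ 2 = 1 := by
      rw [← map_pow, ht, ← map_pow, sq, tHat_sq, map_one, map_one]
    have ht1 : β t ≠ 1 := by
      intro h
      have : t = 1 := by
        have := congrArg β.symm h
        simpa using this
      exact tHat_not_center ω hω hF ((hπ1 _).mp this)
    obtain ⟨x, hx, hx2⟩ := lift_involution (Subgroup.center ↥(threeJ3 F ω)) hcube (β t) ht2
    have hx' : π x = β t := hx
    have hx1 : x ≠ 1 := by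
      intro h
      apply ht1
      rw [← hx', h, map_one]
    obtain ⟨i, e, hi, hxm⟩ := involution_mem ω hω hF x hx2 hx1
    -- conjugate back by a power of y
    set p := yHat ω hω ^ e with hp
    set q := yHat ω hω ^ (18 * e) with hq
    have hqp : q * p = 1 := by
      rw [hq, hp, ← pow_add, show 18 * e + e = 19 * e by ring, pow_mul, yHat_pow, one_pow]
    have hpq : p * q = 1 := by
      rw [hq, hp, ← pow_add, show e + 18 * e = 19 * e by ring, pow_mul, yHat_pow, one_pow]
    have hqinv : q = p⁻¹ := eq_inv_of_mul_eq_one_left hqp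
    set x' := q * x * p with hx'def
    have hx'm : mat ω x' = decM ω (oRep i) := by
      rw [hx'def, mat_mul, mat_mul, hxm, hq, hp, mat_pow, mat_pow, mat_yHat]
      simp only [mul_assoc]
      rw [Ypow_cancel ω hω (by omega), mul_one, Ypow_cancel_left ω hω (by omega)]
    -- the modified automorphism
    set β' : MulAut (J3 F ω) := (MulAut.conj (π p))⁻¹ * β with hβ'
    have hβ'y : β' y = y := by
      rw [hβ', MulAut.mul_apply, hβ, MulAut.conj_inv_apply, hp, map_pow, ← hy]
      rw [mul_assoc, ← pow_succ', pow_succ, ← mul_assoc, inv_mul_cancel, one_mul]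
    have hβ't : β' t = π x' := by
      rw [hβ', MulAut.mul_apply, MulAut.conj_inv_apply, ← hx', hx'def, map_mul, map_mul, hqinv,
        map_inv]
    -- the representative is the first one
    have hi0 : i = 0 := by
      by_contra hne
      have hc := oRef_chk i hi
      unfold chkRef at hc
      have hb : Nat.beq i 0 = false := by
        cases hb : Nat.beq i 0 with
        | true => exact absurd (Nat.eq_of_beq_eq_true hb) hne
        | false => rfl
      rw [hb, Bool.false_or] at hc
      set n := Nat.land (oRef i) 15 with hn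
      set k := Nat.shiftRight (oRef i) 4 with hk
      have hn16 : n < 16 := by
        rw [hn, nat_land_eq]
        exact lt_of_le_of_lt Nat.and_le_right (by norm_num)
      have hw := oWord_le n hn16
      set w := oWord n with hwdef
      set A := evalG x' (yHat ω hω) w with hA
      set B := evalG (tHat ω hω) (yHat ω hω) w with hB
      have hAm : mat ω (A ^ k) = decM ω (pmPow (evalW (oRep i) w) k) := by
        rw [mat_pow, hA, mat_evalG, hx'm, mat_yHat, decM_pmPow ω hω, decM_evalW ω hω _ w hw]
      have hBm : mat ω (B ^ k) = decM ω (pmPow (evalW oT w) k) := by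
        rw [mat_pow, hB, mat_evalG, mat_tHat, mat_yHat, decM_pmPow ω hω, decM_evalW ω hω _ w hw]
      have hAB : β' (π B) = π A := by
        rw [hB, hA, map_evalG π, map_evalG π]
        have := map_evalG β'.toMonoidHom (π (tHat ω hω)) (π (yHat ω hω)) w
        simp only [MulEquiv.toMonoidHom_eq_coe, MonoidHom.coe_coe] at this
        rw [this, ← ht, ← hy, hβ't, hβ'y]
      have hiff : (π A) ^ k = 1 ↔ (π B) ^ k = 1 := by
        rw [← hAB, ← map_pow]
        exact ⟨fun h => by
          have := congrArg β'.symm h
          simpa using this, fun h => by rw [h, map_one]⟩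
      have hAc := center_test ω hω hF (A ^ k) (pmPow (evalW (oRep i) w) k)
        (pmPow_small _ (evalW_small _ (show (oRep i).Small from unpackM_small _) w) k) hAm
      have hBc := center_test ω hω hF (B ^ k) _ (pmPow_small _ (evalW_small _ oT_small w) k) hBm
      rw [← hπ1, map_pow] at hAc hBc
      have : isScalarB (pmPow (evalW (oRep i) w) k) = isScalarB (pmPow (evalW oT w) k) := by
        rw [Bool.eq_iff_iff, ← hAc, ← hBc]
        exact hiff
      rw [this] at hc
      simp at hc
    have hx't : x' = tHat ω hω := by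
      apply mat_injective
      rw [hx'm, hi0, decM_oRep_zero, mat_tHat]
    have hβ'1 : β' = 1 := by
      apply aut_eq_one_of_fix β' y t hgen hβ'y
      rw [hβ't, hx't]
    refine ⟨π p, ?_⟩
    have : β = MulAut.conj (π p) * β' := by rw [hβ']; group
    rw [this, hβ'1, mul_one]

end sem

end Cfsg.Agent.Lib.Helper93.J3
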