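import Cfsg.Agent.Lib.Helper93.J3SchValid

/-! # `3·J₃` is perfect -/

set_option autoImplicit false

namespace Cfsg.Agent.Lib.Helper93.J3

open Cfsg.Spor Matrix
open scoped commutatorElement

/-- The packed commutator of two generators. -/
def pmComm (a b : ℕ) : PM := mmul (mmul (mmul (gen a) (gen b)) (genI a)) (genI b)

theorem perf_f1 : pmBeq (pmComm 30 9) (gen 9) = true := by decide +kernel
theorem perf_f2 : pmBeq (mmul (pmComm 2 32) (pmComm 24 32)) (gen 21) = true := by decide +kernel
theorem perf_f3 : pmBeq (mmul (pmComm 1 32) (pmComm 40 1)) (gen 37) = true := by decide +kernel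
theorem perf_f4 : pmBeq (pmComm 37 30) (mmul (genI 30) (genI 30)) = true := by decide +kernel
theorem perf_f5 : pmBeq (mmul (mmul (gen 30) (pmComm 21 35)) (mmul (mmul (gen 30) (pmComm 21 35))
    (mmul (mmul (gen 30) (pmComm 21 35)) (mmul (mmul (gen 30) (pmComm 21 35))
      (mmul (gen 30) (pmComm 21 35)))))) pmI = true := by decide +kernel

section sem
variable {F : Type*} [Field F] [CharP F 2] (ω : F) (hω : ω ^ 2 + ω + 1 = 0)
include hω

/-- The generator number `k` as an element of the group `3·J₃`. -/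
noncomputable def gam (k : ℕ) (hk : k < 43) : ↥(threeJ3 F ω) :=
  ⟨genU ω hω k hk, genU_mem ω hω k hk⟩

theorem gam_val (k : ℕ) (hk : k < 43) :
    (((gam ω hω k hk : ↥(threeJ3 F ω)) : GL F9 F) : Matrix F9 F9 F) = decM ω (gen k) := rfl

theorem gam_inv_val (k : ℕ) (hk : k < 43) :
    ((((gam ω hω k hk)⁻¹ : ↥(threeJ3 F ω)) : GL F9 F) : Matrix F9 F9 F) = decM ω (genI k) := rfl

omit [CharP F 2] hω in
theorem ext_mat {x y : ↥(threeJ3 F ω)}
    (h : ((x : GL F9 F) : Matrix F9 F9 F) = ((y : GL F9 F) : Matrix F9 F9 F)) : x = y :=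
  Subtype.ext (Units.ext h)

theorem comm_val (a b : ℕ) (ha : a < 43) (hb : b < 43) :
    (((⁅gam ω hω a ha, gam ω hω b hb⁆ : ↥(threeJ3 F ω)) : GL F9 F) : Matrix F9 F9 F) =
      decM ω (pmComm a b) := by
  rw [commutatorElement_def, pmComm, decM_mmul ω hω, decM_mmul ω hω, decM_mmul ω hω]
  simp only [Subgroup.coe_mul, Units.val_mul, gam_val, gam_inv_val]

theorem gam9_mem : gam ω hω 9 (by norm_num) ∈ commutator ↥(threeJ3 F ω) := by
  have e : gam ω hω 9 (by norm_num) = ⁅gam ω hω 30 (by norm_num), gam ω hω 9 (by norm_num)⁆ := by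
    apply ext_mat
    rw [comm_val, gam_val, pmBeq_eq perf_f1]
  rw [e, commutator_def]
  exact Subgroup.commutator_mem_commutator (Subgroup.mem_top _) (Subgroup.mem_top _)

theorem gam21_mem : gam ω hω 21 (by norm_num) ∈ commutator ↥(threeJ3 F ω) := by
  have e : gam ω hω 21 (by norm_num) =
      ⁅gam ω hω 2 (by norm_num), gam ω hω 32 (by norm_num)⁆ *
        ⁅gam ω hω 24 (by norm_num), gam ω hω 32 (by norm_num)⁆ := by
    apply ext_mat
    rw [Subgroup.coe_mul, Units.val_mul, comm_val, comm_val, gam_val, ← decM_mmul ω hω,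
      pmBeq_eq perf_f2]
  rw [e, commutator_def]
  exact mul_mem (Subgroup.commutator_mem_commutator (Subgroup.mem_top _) (Subgroup.mem_top _))
    (Subgroup.commutator_mem_commutator (Subgroup.mem_top _) (Subgroup.mem_top _))

theorem gam37_mem : gam ω hω 37 (by norm_num) ∈ commutator ↥(threeJ3 F ω) := by
  have e : gam ω hω 37 (by norm_num) =
      ⁅gam ω hω 1 (by norm_num), gam ω hω 32 (by norm_num)⁆ *
        ⁅gam ω hω 40 (by norm_num), gam ω hω 1 (by norm_num)⁆ := by
    apply ext_mat
    rw [Subgroup.coe_mul, Units.val_mul, comm_val, comm_val, gam_val, ← decM_mmul ω hω,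
      pmBeq_eq perf_f3]
  rw [e, commutator_def]
  exact mul_mem (Subgroup.commutator_mem_commutator (Subgroup.mem_top _) (Subgroup.mem_top _))
    (Subgroup.commutator_mem_commutator (Subgroup.mem_top _) (Subgroup.mem_top _))

theorem gam30_mem : gam ω hω 30 (by norm_num) ∈ commutator ↥(threeJ3 F ω) := by
  set b := gam ω hω 30 (by norm_num) with hb
  set x : ↥(threeJ3 F ω) := ⁅gam ω hω 21 (by norm_num), gam ω hω 35 (by norm_num)⁆ with hx
  have hxK : x ∈ commutator ↥(threeJ3 F ω) := by
    rw [commutator_def]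
    exact Subgroup.commutator_mem_commutator (Subgroup.mem_top _) (Subgroup.mem_top _)
  have hsq : b⁻¹ * b⁻¹ ∈ commutator ↥(threeJ3 F ω) := by
    have e : b⁻¹ * b⁻¹ = ⁅gam ω hω 37 (by norm_num), b⁆ := by
      apply ext_mat
      rw [hb, comm_val, Subgroup.coe_mul, Units.val_mul, gam_inv_val, ← decM_mmul ω hω,
        pmBeq_eq perf_f4]
    rw [e, commutator_def]
    exact Subgroup.commutator_mem_commutator (Subgroup.mem_top _) (Subgroup.mem_top _)
  have h5 : (b * x) * ((b * x) * ((b * x) * ((b * x) * (b * x)))) = 1 := by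
    apply ext_mat
    have hbx : (((b * x : ↥(threeJ3 F ω)) : GL F9 F) : Matrix F9 F9 F) =
        decM ω (mmul (gen 30) (pmComm 21 35)) := by
      rw [Subgroup.coe_mul, Units.val_mul, hx, comm_val, hb, gam_val, ← decM_mmul ω hω]
    simp only [Subgroup.coe_mul, Units.val_mul] at hbx ⊢
    rw [hbx, ← decM_mmul ω hω, ← decM_mmul ω hω, ← decM_mmul ω hω, ← decM_mmul ω hω,
      pmBeq_eq perf_f5, decM_pmI]
    rfl
  -- pass to the quotient by the commutator subgroup
  let q := QuotientGroup.mk' (commutator ↥(threeJ3 F ω))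
  have hqx : q x = 1 := (QuotientGroup.eq_one_iff x).mpr hxK
  have hq2 : q b⁻¹ * q b⁻¹ = 1 := by
    rw [← map_mul]; exact (QuotientGroup.eq_one_iff _).mpr hsq
  have hq5 : q b * (q b * (q b * (q b * q b))) = 1 := by
    have := congrArg q h5
    simp only [map_mul, hqx, mul_one, map_one] at this
    exact this
  have hq1 : q b = 1 := by
    have hinv : q b⁻¹ = (q b)⁻¹ := map_inv q b
    rw [hinv] at hq2
    have h2 : q b * q b = 1 := by
      have := congrArg (fun t => q b * q b * t) hq2
      simp only [mul_one] at this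
      rw [← this]; group
    calc q b = q b * (q b * q b) * (q b * q b) := by rw [h2, mul_one, mul_one]
      _ = q b * (q b * (q b * (q b * q b))) := by group
      _ = 1 := hq5
  exact (QuotientGroup.eq_one_iff b).mp hq1

/-- Every word in the four generators lies in the commutator subgroup. -/
theorem word_mem_commutator (w : List ℕ) (hw : ∀ s ∈ w, s ∈ spList) :
    ∃ g ∈ commutator ↥(threeJ3 F ω),
      (((g : ↥(threeJ3 F ω)) : GL F9 F) : Matrix F9 F9 F) = decM ω (wordMul w) := by
  induction w with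
  | nil => exact ⟨1, one_mem _, by rw [wordMul, decM_pmI]; rfl⟩
  | cons s w ih =>
    obtain ⟨g, hg, e⟩ := ih (fun t ht => hw t (List.mem_cons_of_mem _ ht))
    have hs := hw s List.mem_cons_self
    simp only [spList, List.mem_cons, List.not_mem_nil, or_false] at hs
    rw [wordMul, decM_mmul ω hω, ← e]
    rcases hs with rfl | rfl | rfl | rfl
    · exact ⟨_, mul_mem (gam9_mem ω hω) hg, rfl⟩
    · exact ⟨_, mul_mem (gam21_mem ω hω) hg, rfl⟩
    · exact ⟨_, mul_mem (gam30_mem ω hω) hg, rfl⟩
    · exact ⟨_, mul_mem (gam37_mem ω hω) hg, rfl⟩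

/-- `3·J₃` is perfect. -/
theorem commutator_threeJ3 : commutator ↥(threeJ3 F ω) = ⊤ := by
  rw [eq_top_iff]
  rintro ⟨x, hx⟩ _
  have key : ∀ (g : GL F9 F) (hg : g ∈ threeJ3 F ω),
      (⟨g, hg⟩ : ↥(threeJ3 F ω)) ∈ commutator ↥(threeJ3 F ω) := by
    intro g hg
    unfold threeJ3 at hg
    induction hg using Subgroup.closure_induction with
    | mem y hy =>
      obtain ⟨k, hk, e⟩ := gens_cover ω hω _ hy
      have h := schD_valid.vW k hk
      simp only [SchTables.chkW, Bool.and_eq_true, List.all_eq_true] at h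
      obtain ⟨h1, h2⟩ := h
      obtain ⟨g, hg, eg⟩ := word_mem_commutator ω hω (schD.wordOf k)
        (fun s hs => by simpa using h2 s hs)
      have : (⟨y, Subgroup.subset_closure hy⟩ : ↥(threeJ3 F ω)) = g := by
        apply ext_mat
        rw [eg, pmBeq_eq h1]
        exact e
      rw [this]; exact hg
    | one => exact one_mem _
    | mul a b ha hb iha ihb => exact mul_mem iha ihb
    | inv a ha iha => exact inv_mem iha
  exact key x hx

end sem

end Cfsg.Agent.Lib.Helper93.J3
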