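import Cfsg.Agent.Lib.Helper93.J3Mat
import Cfsg.Agent.Lib.Helper93.J3Orb1

/-! # The order of `3·J₃` from a verified transversal and stabiliser table (Schreier's lemma) -/

set_option autoImplicit false

namespace Cfsg.Agent.Lib.Helper93.J3

open Cfsg.Spor Matrix

/-- Product of the generators along a word. -/
def wordMul : List ℕ → PM
  | [] => pmI
  | s :: w => mmul (gen s) (wordMul w)

/-- The generators used for the Schreier generators. -/
def spList : List ℕ := [9, 21, 30, 37]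

/-- The tables of a Schreier certificate. -/
structure SchTables where
  /-- transversal, indexed by the code of a line of the orbit -/
  T : ℕ → PM
  /-- elements of the stabiliser -/
  Hs : ℕ → PM
  /-- number of elements of the stabiliser -/
  nH : ℕ
  /-- index of the identity -/
  j1 : ℕ
  /-- two generators of the stabiliser -/
  hg : ℕ → PM
  /-- depth, parent and generator in the spanning tree of the stabiliser -/
  hdep : ℕ → ℕ
  hpar : ℕ → ℕ
  hgen : ℕ → ℕ
  /-- multiplication table by the two generators -/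
  hmul : ℕ → ℕ → ℕ
  /-- index of the Schreier generator -/
  sidx : ℕ → ℕ → ℕ
  /-- sources of the two generators of the stabiliser -/
  gc : ℕ → ℕ
  gs : ℕ → ℕ
  /-- words for the 43 generators -/
  wordOf : ℕ → List ℕ

namespace SchTables
variable (D : SchTables)

/-- Check of the transversal at a code. -/
def chkT (c : ℕ) : Bool :=
  Nat.beq (norm (D.T c).c0) c &&
    (bif Nat.beq c 1 then pmBeq (D.T c) pmI
     else pmBeq (D.T c) (mmul (gen (eGen (tbl1 c))) (D.T (ePar (tbl1 c)))))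

/-- Check of the stabiliser table at an index. -/
def chkH (j : ℕ) : Bool :=
  Nat.beq (norm (D.Hs j).c0) 1 &&
  (bif Nat.beq j D.j1 then pmBeq (D.Hs j) pmI
   else (Nat.blt (D.hpar j) D.nH && Nat.blt (D.hdep (D.hpar j)) (D.hdep j) &&
     Nat.blt (D.hgen j) 2 && pmBeq (D.Hs j) (mmul (D.hg (D.hgen j)) (D.Hs (D.hpar j))))) &&
  (Nat.blt (D.hmul j 0) D.nH && pmBeq (mmul (D.hg 0) (D.Hs j)) (D.Hs (D.hmul j 0))) &&
  (Nat.blt (D.hmul j 1) D.nH && pmBeq (mmul (D.hg 1) (D.Hs j)) (D.Hs (D.hmul j 1)))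

/-- The table of the stabiliser is strictly increasing. -/
def chkOrd (j : ℕ) : Bool := Nat.blt (pmPack (D.Hs j)) (pmPack (D.Hs (j + 1)))

/-- Check of a Schreier generator. -/
def chkS (s c : ℕ) : Bool :=
  Nat.blt (D.sidx c s) D.nH &&
    pmBeq (mmul (gen s) (D.T c)) (mmul (D.T (norm ((gen s).mv c))) (D.Hs (D.sidx c s)))

/-- Check of a generator of the stabiliser. -/
def chkG (a : ℕ) : Bool :=
  mem1 (D.gc a) && Nat.blt (D.gs a) 43 &&
    pmBeq (mmul (gen (D.gs a)) (D.T (D.gc a)))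
      (mmul (D.T (norm ((gen (D.gs a)).mv (D.gc a)))) (D.hg a))

/-- Check of the word of a generator. -/
def chkW (k : ℕ) : Bool :=
  pmBeq (wordMul (D.wordOf k)) (gen k) && (D.wordOf k).all (fun s => spList.contains s)

/-- All the checks hold. -/
structure Valid : Prop where
  vT : ∀ c, mem1 c = true → D.chkT c = true
  vH : ∀ j, j < D.nH → D.chkH j = true
  vO : ∀ j, j + 1 < D.nH → D.chkOrd j = true
  vS : ∀ s ∈ spList, ∀ c, mem1 c = true → D.chkS s c = true
  vG : ∀ a, a < 2 → D.chkG a = true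
  vW : ∀ k, k < 43 → D.chkW k = true
  vj1 : D.j1 < D.nH
  vSmall : ∀ j, (D.Hs j).Small

end SchTables

section code
variable (D : SchTables) (hD : D.Valid)
include hD

theorem T_root : D.T 1 = pmI := by
  have h := hD.vT 1 mem1_one
  simp only [SchTables.chkT, Bool.and_eq_true] at h
  have h2 := h.2
  have : Nat.beq 1 1 = true := rfl
  rw [this] at h2
  exact pmBeq_eq h2

theorem T_col (c : ℕ) (hc : mem1 c = true) : norm (D.T c).c0 = c := by
  have h := hD.vT c hc
  simp only [SchTables.chkT, Bool.and_eq_true] at h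
  exact Nat.eq_of_beq_eq_true h.1

theorem Hs_facts (j : ℕ) (hj : j < D.nH) :
    norm (D.Hs j).c0 = 1 ∧
    ((j = D.j1 ∧ D.Hs j = pmI) ∨ (D.hpar j < D.nH ∧ D.hdep (D.hpar j) < D.hdep j ∧ D.hgen j < 2 ∧
      D.Hs j = mmul (D.hg (D.hgen j)) (D.Hs (D.hpar j)))) ∧
    (D.hmul j 0 < D.nH ∧ mmul (D.hg 0) (D.Hs j) = D.Hs (D.hmul j 0)) ∧
    (D.hmul j 1 < D.nH ∧ mmul (D.hg 1) (D.Hs j) = D.Hs (D.hmul j 1)) := by
  have h := hD.vH j hj
  simp only [SchTables.chkH, Bool.and_eq_true] at h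
  obtain ⟨⟨⟨h1, h2⟩, h3, h4⟩, h5, h6⟩ := h
  refine ⟨Nat.eq_of_beq_eq_true h1, ?_, ⟨Nat.blt_eq.mp h3, pmBeq_eq h4⟩, ⟨Nat.blt_eq.mp h5, pmBeq_eq h6⟩⟩
  cases hb : Nat.beq j D.j1 with
  | true =>
    rw [hb] at h2
    exact Or.inl ⟨Nat.eq_of_beq_eq_true hb, pmBeq_eq h2⟩
  | false =>
    rw [hb] at h2
    simp only [cond_false, Bool.and_eq_true] at h2
    obtain ⟨⟨⟨a1, a2⟩, a3⟩, a4⟩ := h2
    exact Or.inr ⟨Nat.blt_eq.mp a1, Nat.blt_eq.mp a2, Nat.blt_eq.mp a3, pmBeq_eq a4⟩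

end code

section sem
variable {F : Type*} [Field F] [CharP F 2] (ω : F) (hω : ω ^ 2 + ω + 1 = 0)

/-- The matrices of the elements of `3·J₃`. -/
def MG : Set (Matrix F9 F9 F) := {M | ∃ g ∈ threeJ3 F ω, (g : Matrix F9 F9 F) = M}

omit [CharP F 2] in
theorem MG_one : (1 : Matrix F9 F9 F) ∈ MG ω := ⟨1, one_mem _, rfl⟩

omit [CharP F 2] in
theorem MG_mul {M N : Matrix F9 F9 F} (hM : M ∈ MG ω) (hN : N ∈ MG ω) : M * N ∈ MG ω := by
  obtain ⟨g, hg, rfl⟩ := hM
  obtain ⟨h, hh, rfl⟩ := hN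
  exact ⟨g * h, mul_mem hg hh, rfl⟩

omit [CharP F 2] in
theorem MG_cancel {A B : Matrix F9 F9 F} (hA : A ∈ MG ω) (hAB : A * B ∈ MG ω) : B ∈ MG ω := by
  obtain ⟨g, hg, rfl⟩ := hA
  obtain ⟨h, hh, e⟩ := hAB
  refine ⟨g⁻¹ * h, mul_mem (inv_mem hg) hh, ?_⟩
  rw [Units.val_mul, e, ← mul_assoc, ← Units.val_mul, inv_mul_cancel, Units.val_one, one_mul]

include hω

theorem MG_gen (k : ℕ) (hk : k < 43) : decM ω (gen k) ∈ MG ω :=
  ⟨genU ω hω k hk, genU_mem ω hω k hk, rfl⟩

variable (D : SchTables) (hD : D.Valid)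
include hD

theorem T_mem : ∀ c, mem1 c = true → decM ω (D.T c) ∈ MG ω := by
  have key : ∀ n c, eDepth (tbl1 c) = n → mem1 c = true → decM ω (D.T c) ∈ MG ω := by
    intro n
    induction n using Nat.strong_induction_on with
    | _ n ih =>
      intro c hn hc
      have h := hD.vT c hc
      simp only [SchTables.chkT, Bool.and_eq_true] at h
      have h2 := h.2
      cases hb : Nat.beq c 1 with
      | true =>
        rw [hb] at h2
        rw [pmBeq_eq h2, decM_pmI]
        exact MG_one ω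
      | false =>
        rw [hb] at h2
        have hr := (chk1_of_mem c hc).1
        rw [reachCheck, hb, Bool.false_or] at hr
        simp only [Bool.and_eq_true] at hr
        obtain ⟨⟨⟨hp, hd⟩, hk⟩, _⟩ := hr
        have hd' : eDepth (tbl1 (ePar (tbl1 c))) < n := by
          rw [← hn]; exact Nat.blt_eq.mp hd
        have hk' : eGen (tbl1 c) < 43 := Nat.blt_eq.mp hk
        rw [pmBeq_eq h2, decM_mmul ω hω]
        exact MG_mul ω (MG_gen ω hω _ hk') (ih _ hd' _ rfl hp)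
  intro c hc
  exact key _ c rfl hc

theorem hg_mem (a : ℕ) (ha : a < 2) : decM ω (D.hg a) ∈ MG ω := by
  have h := hD.vG a ha
  simp only [SchTables.chkG, Bool.and_eq_true] at h
  obtain ⟨⟨hm, hs⟩, he⟩ := h
  have hs' : D.gs a < 43 := Nat.blt_eq.mp hs
  have hcl := (chk1_of_mem _ hm).2.1
  have hm' : mem1 (norm ((gen (D.gs a)).mv (D.gc a))) = true := allBelow_spec 43 _ hcl _ hs'
  have e := congrArg (decM ω) (pmBeq_eq he)
  rw [decM_mmul ω hω, decM_mmul ω hω] at e
  apply MG_cancel ω (T_mem ω hω D hD _ hm')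
  rw [← e]
  exact MG_mul ω (MG_gen ω hω _ hs') (T_mem ω hω D hD _ hm)

theorem Hs_mem : ∀ j, j < D.nH → decM ω (D.Hs j) ∈ MG ω := by
  have key : ∀ n j, D.hdep j = n → j < D.nH → decM ω (D.Hs j) ∈ MG ω := by
    intro n
    induction n using Nat.strong_induction_on with
    | _ n ih =>
      intro j hn hj
      obtain ⟨_, h2, _, _⟩ := Hs_facts D hD j hj
      rcases h2 with ⟨_, e⟩ | ⟨hp, hd, hg, e⟩
      · rw [e, decM_pmI]; exact MG_one ω
      · rw [e, decM_mmul ω hω]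
        exact MG_mul ω (hg_mem ω hω D hD _ hg) (ih _ (by rw [← hn]; exact hd) _ rfl hp)
  intro j hj
  exact key _ j rfl hj

theorem hg_mul_Hs (a : ℕ) (ha : a < 2) (j : ℕ) (hj : j < D.nH) :
    ∃ k, k < D.nH ∧ decM ω (D.hg a) * decM ω (D.Hs j) = decM ω (D.Hs k) := by
  obtain ⟨_, _, h0, h1⟩ := Hs_facts D hD j hj
  interval_cases a
  · exact ⟨_, h0.1, by rw [← decM_mmul ω hω, h0.2]⟩
  · exact ⟨_, h1.1, by rw [← decM_mmul ω hω, h1.2]⟩

theorem Hs_mul : ∀ i, i < D.nH → ∀ j, j < D.nH →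
    ∃ k, k < D.nH ∧ decM ω (D.Hs i) * decM ω (D.Hs j) = decM ω (D.Hs k) := by
  have key : ∀ n i, D.hdep i = n → i < D.nH → ∀ j, j < D.nH →
      ∃ k, k < D.nH ∧ decM ω (D.Hs i) * decM ω (D.Hs j) = decM ω (D.Hs k) := by
    intro n
    induction n using Nat.strong_induction_on with
    | _ n ih =>
      intro i hn hi j hj
      obtain ⟨_, h2, _, _⟩ := Hs_facts D hD i hi
      rcases h2 with ⟨_, e⟩ | ⟨hp, hd, hg, e⟩
      · exact ⟨j, hj, by rw [e, decM_pmI, one_mul]⟩
      · obtain ⟨k', hk', e'⟩ := ih _ (by rw [← hn]; exact hd) _ rfl hp j hj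
        obtain ⟨k, hk, e''⟩ := hg_mul_Hs ω hω D hD _ hg k' hk'
        exact ⟨k, hk, by rw [e, decM_mmul ω hω, mul_assoc, e', e'']⟩
  intro i hi
  exact key _ i rfl hi

/-- The set of products of a transversal element and a stabiliser element. -/
def XS : Set (Matrix F9 F9 F) :=
  {M | ∃ c j, mem1 c = true ∧ j < D.nH ∧ M = decM ω (D.T c) * decM ω (D.Hs j)}

omit [CharP F 2] hω hD in
theorem mem_XS (M : Matrix F9 F9 F) :
    M ∈ XS ω D ↔ ∃ c j, mem1 c = true ∧ j < D.nH ∧ M = decM ω (D.T c) * decM ω (D.Hs j) :=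
  Iff.rfl

theorem XS_one : (1 : Matrix F9 F9 F) ∈ XS ω D := by
  refine ⟨1, D.j1, mem1_one, hD.vj1, ?_⟩
  obtain ⟨_, h2, _, _⟩ := Hs_facts D hD D.j1 hD.vj1
  have e : D.Hs D.j1 = pmI := by
    rcases h2 with ⟨_, e⟩ | ⟨_, hd, _, _⟩
    · exact e
    · -- impossible only if the table says otherwise; but chkH with j = j1 takes the first branch
      have h := hD.vH D.j1 hD.vj1
      simp only [SchTables.chkH, Bool.and_eq_true] at h
      have hb : Nat.beq D.j1 D.j1 = true := Nat.beq_refl _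
      rw [hb] at h
      exact pmBeq_eq h.1.1.2
  rw [T_root D hD, e, decM_pmI, one_mul]

theorem XS_gen (s : ℕ) (hs : s ∈ spList) (M : Matrix F9 F9 F) (hM : M ∈ XS ω D) :
    decM ω (gen s) * M ∈ XS ω D := by
  obtain ⟨c, j, hc, hj, rfl⟩ := hM
  have h := hD.vS s hs c hc
  simp only [SchTables.chkS, Bool.and_eq_true] at h
  obtain ⟨h1, h2⟩ := h
  have h1' : D.sidx c s < D.nH := Nat.blt_eq.mp h1
  have hs43 : s < 43 := by
    simp only [spList, List.mem_cons, List.not_mem_nil, or_false] at hs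
    omega
  have hcl := (chk1_of_mem _ hc).2.1
  have hm' : mem1 (norm ((gen s).mv c)) = true := allBelow_spec 43 _ hcl _ hs43
  have e := congrArg (decM ω) (pmBeq_eq h2)
  rw [decM_mmul ω hω, decM_mmul ω hω] at e
  obtain ⟨k, hk, e'⟩ := Hs_mul ω hω D hD _ h1' j hj
  refine ⟨_, k, hm', hk, ?_⟩
  rw [← mul_assoc, e, mul_assoc, e']

theorem XS_word (w : List ℕ) (hw : ∀ s ∈ w, s ∈ spList) (M : Matrix F9 F9 F) (hM : M ∈ XS ω D) :
    decM ω (wordMul w) * M ∈ XS ω D := by
  induction w with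
  | nil => rw [wordMul, decM_pmI, one_mul]; exact hM
  | cons s w ih =>
    rw [wordMul, decM_mmul ω hω, mul_assoc]
    exact XS_gen ω hω D hD s (hw s (List.mem_cons_self)) _
      (ih (fun t ht => hw t (List.mem_cons_of_mem _ ht)))

theorem XS_gen_all (k : ℕ) (hk : k < 43) (M : Matrix F9 F9 F) (hM : M ∈ XS ω D) :
    decM ω (gen k) * M ∈ XS ω D := by
  have h := hD.vW k hk
  simp only [SchTables.chkW, Bool.and_eq_true, List.all_eq_true] at h
  obtain ⟨h1, h2⟩ := h
  rw [← pmBeq_eq h1]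
  apply XS_word ω hω D hD _ _ M hM
  intro s hs
  have := h2 s hs
  simpa using this

theorem XS_closed [Finite F] (g : GL F9 F) (hg : g ∈ threeJ3 F ω) :
    ∀ M ∈ XS ω D, (g : Matrix F9 F9 F) * M ∈ XS ω D := by
  have hpow : ∀ (x : GL F9 F) (n : ℕ),
      (∀ M ∈ XS ω D, (x : Matrix F9 F9 F) * M ∈ XS ω D) →
      ∀ M ∈ XS ω D, ((x ^ n : GL F9 F) : Matrix F9 F9 F) * M ∈ XS ω D := by
    intro x n hx
    induction n with
    | zero => intro M hM; rw [pow_zero, Units.val_one, one_mul]; exact hM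
    | succ n ih =>
      intro M hM
      rw [pow_succ, Units.val_mul, mul_assoc]
      exact ih _ (hx M hM)
  unfold threeJ3 at hg
  induction hg using Subgroup.closure_induction with
  | mem x hx =>
    obtain ⟨k, hk, e⟩ := gens_cover ω hω _ hx
    intro M hM
    rw [e]
    exact XS_gen_all ω hω D hD k hk M hM
  | one => intro M hM; rw [Units.val_one, one_mul]; exact hM
  | mul x y _ _ hx hy =>
    intro M hM
    rw [Units.val_mul, mul_assoc]
    exact hx _ (hy M hM)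
  | inv x _ hx =>
    have hpos : 0 < orderOf x := orderOf_pos x
    have hinv : x⁻¹ = x ^ (orderOf x - 1) := by
      apply inv_eq_of_mul_eq_one_left
      rw [← pow_succ, Nat.sub_add_cancel hpos, pow_orderOf_eq_one]
    rw [hinv]
    exact hpow x _ hx

theorem MG_eq_XS [Finite F] : MG ω = XS ω D := by
  ext M
  constructor
  · rintro ⟨g, hg, rfl⟩
    have := XS_closed ω hω D hD g hg 1 (XS_one ω hω D hD)
    rwa [mul_one] at this
  · rintro ⟨c, j, hc, hj, rfl⟩
    exact MG_mul ω (T_mem ω hω D hD c hc) (Hs_mem ω hω D hD j hj)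

end sem

end Cfsg.Agent.Lib.Helper93.J3
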