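import Cfsg.Agent.Lib.Helper93.J3Base
set_option autoImplicit false
namespace Cfsg.Agent.Lib.Helper93.J3
open Cfsg.Spor

section sem2
variable {F : Type*} [Field F] [CharP F 2] (ω : F) (hω : ω ^ 2 + ω + 1 = 0)
include hω

theorem omega_ne_zero : ω ≠ 0 := by
  intro h; rw [h] at hω; simp at hω

theorem omega_ne_one : ω ≠ 1 := by
  intro h; rw [h] at hω
  have h2 : (1 : F) + 1 = 0 := two_eq_zero'
  have : (1 : F) = 0 := by
    have : (1 : F) ^ 2 + 1 + 1 = (1 + 1) + 1 := by ring
    rw [this, h2] at hω; simpa using hω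
  exact one_ne_zero this

theorem bitv_eq_of (a a' b b' : Bool)
    (h : (bitv a : F) + ω * bitv b = bitv a' + ω * bitv b') : a = a' ∧ b = b' := by
  have h0 := omega_ne_zero ω hω
  have h1 := omega_ne_one ω hω
  have h2 : (1 : F) + 1 = 0 := two_eq_zero'
  have h' : (bitv (a ^^ a') : F) = ω * bitv (b ^^ b') := by
    rw [bitv_xor, bitv_xor]
    linear_combination h + (bitv a' - ω * bitv b) * h2
  have hb : (b ^^ b') = false := by
    by_contra hb
    have hb' : (b ^^ b') = true := by simpa using hb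
    rw [hb'] at h'
    cases hx : (a ^^ a')
    · rw [hx] at h'; simp [bitv] at h'; exact h0 h'.symm
    · rw [hx] at h'; simp [bitv] at h'; exact h1 h'.symm
  rw [hb] at h'
  have ha : (a ^^ a') = false := by
    cases hx : (a ^^ a')
    · rfl
    · rw [hx] at h'; simp [bitv] at h'
  constructor
  · revert ha; cases a <;> cases a' <;> simp
  · revert hb; cases b <;> cases b' <;> simp

theorem decV_injective (a b : ℕ) (ha : a < 2 ^ 18) (hb : b < 2 ^ 18)
    (h : decV ω a = decV ω b) : a = b := by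
  apply Nat.eq_of_testBit_eq
  intro i
  by_cases hi : i < 18
  · -- i = 2 * j + r
    have key : ∀ z : F9, a.testBit (2 * ix z) = b.testBit (2 * ix z) ∧
        a.testBit (2 * ix z + 1) = b.testBit (2 * ix z + 1) := by
      intro z
      have hz := congrFun h z
      rw [decV_apply, decV_apply] at hz
      exact bitv_eq_of ω hω _ _ _ _ hz
    -- find z with ix z = i / 2
    obtain ⟨z, hz⟩ : ∃ z : F9, ix z = i / 2 := by
      refine ⟨(((i / 2 / 3 : ℕ) : ZMod 3), ((i / 2 % 3 : ℕ) : ZMod 3)), ?_⟩
      unfold ix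
      simp only
      rw [ZMod.val_natCast, ZMod.val_natCast]
      have : i / 2 / 3 < 3 := by omega
      rw [Nat.mod_eq_of_lt this, Nat.mod_mod]
      omega
    rcases Nat.mod_two_eq_zero_or_one i with h0 | h1
    · have : i = 2 * ix z := by omega
      rw [this]; exact (key z).1
    · have : i = 2 * ix z + 1 := by omega
      rw [this]; exact (key z).2
  · have hi' : 18 ≤ i := by omega
    rw [Nat.testBit_lt_two_pow (lt_of_lt_of_le ha (Nat.pow_le_pow_right (by norm_num) hi')),
      Nat.testBit_lt_two_pow (lt_of_lt_of_le hb (Nat.pow_le_pow_right (by norm_num) hi'))]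

omit [CharP F 2] hω in
theorem decV_single (z : F9) : decV ω (2 ^ (2 * ix z)) = Pi.single z 1 := by
  funext w
  rw [decV_apply, Nat.testBit_two_pow, Nat.testBit_two_pow]
  by_cases hwz : w = z
  · subst hwz
    have : ¬ (2 * ix w = 2 * ix w + 1) := by omega
    simp [bitv, this]
  · have h1 : ¬ (2 * ix z = 2 * ix w) := by
      intro h; exact hwz (ix_injective (by omega)).symm
    have h2 : ¬ (2 * ix z = 2 * ix w + 1) := by omega
    simp [bitv, h1, h2, Pi.single_apply, hwz]

end sem2

/-! ### The generators, as code matrices -/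

/-- The code of `ω ^ n`. -/
def codePow (n : ZMod 3) : ℕ := if n = 0 then 1 else if n = 1 then 2 else 3

def codeA (Z w z : F9) : ℕ := if w = z then codePow (Z.1 * w.1 + Z.2 * w.2) else 0

def codeE (Z w z : F9) : ℕ := if w = z then codePow ((Z.1 - w.1) ^ 2 + (Z.2 - w.2) ^ 2) else 0

def codeLam (Z z : F9) : ℕ :=
  if z = 0 then 1
  else if F9.div Z z = F9.I - F9.one then 2
  else if F9.div Z z = -F9.I - F9.one then 3
  else 1

def codeD (Z w z : F9) : ℕ := if w = z + Z then codeLam Z z else 0

def codeB (Z w z : F9) : ℕ := if w = F9.mul Z z then 1 else 0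

def codeC (Z w z : F9) : ℕ :=
  if z = 0 then (if w = 0 then 1 else 0)
  else if w = -F9.div Z z ∨ w = F9.mul F9.I (F9.div Z z) ∨ w = -F9.mul F9.I (F9.div Z z) then 1 else 0

theorem codePow_cases : ∀ n : ZMod 3, (n.val = 0 ∧ codePow n = 1) ∨ (n.val = 1 ∧ codePow n = 2) ∨
    (n.val = 2 ∧ codePow n = 3) := by decide

section gens
variable {F : Type*} [Field F] (ω : F)

theorem dec2_zero : dec2 ω 0 = 0 := by simp [dec2, bitv]
theorem dec2_one : dec2 ω 1 = 1 := by
  simp [dec2, bitv, show Nat.testBit 1 1 = false by decide]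
theorem dec2_two : dec2 ω 2 = ω := by
  simp [dec2, bitv, show Nat.testBit 2 1 = true by decide]
theorem dec2_three : dec2 ω 3 = 1 + ω := by
  simp [dec2, bitv, show Nat.testBit 3 1 = true by decide]

variable [CharP F 2] (hω : ω ^ 2 + ω + 1 = 0)
include hω

theorem omegaPow_eq (n : ZMod 3) : omegaPow F ω n = dec2 ω (codePow n) := by
  unfold omegaPow
  rcases codePow_cases n with ⟨h1, h2⟩ | ⟨h1, h2⟩ | ⟨h1, h2⟩
  · rw [h1, h2, dec2_one, pow_zero]
  · rw [h1, h2, dec2_two, pow_one]
  · rw [h1, h2, dec2_three, omega_sq ω hω]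

theorem j3A_apply (Z w z : F9) : j3A F ω Z w z = dec2 ω (codeA Z w z) := by
  unfold j3A codeA
  rw [Matrix.diagonal_apply]
  split_ifs
  · exact omegaPow_eq ω hω _
  · exact (dec2_zero ω).symm

theorem j3E_apply (Z w z : F9) : j3E F ω Z w z = dec2 ω (codeE Z w z) := by
  unfold j3E codeE
  rw [Matrix.diagonal_apply]
  split_ifs
  · exact omegaPow_eq ω hω _
  · exact (dec2_zero ω).symm

theorem j3Lam_eq (Z z : F9) : j3Lam F ω Z z = dec2 ω (codeLam Z z) := by
  unfold j3Lam codeLam
  split_ifs
  · exact (dec2_one ω).symm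
  · exact (dec2_two ω).symm
  · rw [dec2_three, omega_sq ω hω]
  · exact (dec2_one ω).symm

theorem j3D_apply (Z w z : F9) : j3D F ω Z w z = dec2 ω (codeD Z w z) := by
  unfold j3D codeD
  rw [Matrix.of_apply]
  split_ifs
  · exact j3Lam_eq ω hω _ _
  · exact (dec2_zero ω).symm

omit [CharP F 2] hω in
theorem j3B_apply (Z w z : F9) : j3B F Z w z = dec2 ω (codeB Z w z) := by
  unfold j3B codeB
  rw [Matrix.of_apply]
  split_ifs
  · exact (dec2_one ω).symm
  · exact (dec2_zero ω).symm

omit [CharP F 2] hω in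
theorem j3C_apply (Z w z : F9) : j3C F Z w z = dec2 ω (codeC Z w z) := by
  unfold j3C codeC
  rw [Matrix.of_apply]
  split_ifs <;> first | exact (dec2_one ω).symm | exact (dec2_zero ω).symm

omit [CharP F 2] hω in
/-- A matrix whose entries are given by a code function agrees with a packed matrix whose digits are
the same codes. -/
theorem eq_decM_of_digit (M : Matrix F9 F9 F) (code : F9 → F9 → ℕ) (m : PM)
    (h1 : ∀ w z, M w z = dec2 ω (code w z))
    (h2 : ∀ w z, digit (m.col (ix z)) (ix w) = code w z) : M = decM ω m := by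
  funext w z
  rw [h1, ← h2, dec2_digit, decM]

end gens
end Cfsg.Agent.Lib.Helper93.J3
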