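import Cfsg.Agent.Lib.Helper93.J3Final

/-! # Subgroups of `3·J₃` given by a closed table of packed matrices -/

set_option autoImplicit false

namespace Cfsg.Agent.Lib.Helper93.J3

open Cfsg.Spor Matrix

/-- A table of packed matrices with three generators, a spanning tree and a multiplication table. -/
structure TabGroup where
  /-- the elements -/
  Ks : ℕ → PM
  /-- the number of elements -/
  n : ℕ
  /-- the index of the identity -/
  j1 : ℕ
  /-- the three generators -/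
  kg : ℕ → PM
  /-- depth, parent and generator in the spanning tree -/
  kdep : ℕ → ℕ
  kpar : ℕ → ℕ
  kgen : ℕ → ℕ
  /-- left multiplication by the generators -/
  kmul : ℕ → ℕ → ℕ

namespace TabGroup
variable (D : TabGroup)

/-- Check of the table at an index. -/
def chk (j : ℕ) : Bool :=
  (bif Nat.beq j D.j1 then pmBeq (D.Ks j) pmI
   else (Nat.blt (D.kpar j) D.n && Nat.blt (D.kdep (D.kpar j)) (D.kdep j) &&
     Nat.blt (D.kgen j) 3 && pmBeq (D.Ks j) (mmul (D.kg (D.kgen j)) (D.Ks (D.kpar j))))) &&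
  (Nat.blt (D.kmul j 0) D.n && pmBeq (mmul (D.kg 0) (D.Ks j)) (D.Ks (D.kmul j 0))) &&
  (Nat.blt (D.kmul j 1) D.n && pmBeq (mmul (D.kg 1) (D.Ks j)) (D.Ks (D.kmul j 1))) &&
  (Nat.blt (D.kmul j 2) D.n && pmBeq (mmul (D.kg 2) (D.Ks j)) (D.Ks (D.kmul j 2)))

/-- The table is strictly increasing. -/
def chkOrd (j : ℕ) : Bool := Nat.blt (pmPack (D.Ks j)) (pmPack (D.Ks (j + 1)))

/-- All the checks hold. -/
structure Valid : Prop where
  vK : ∀ j, j < D.n → D.chk j = true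
  vO : ∀ j, j + 1 < D.n → D.chkOrd j = true
  vj1 : D.j1 < D.n
  vSmall : ∀ j, (D.Ks j).Small

variable (hD : D.Valid)
include hD

theorem facts (j : ℕ) (hj : j < D.n) :
    ((j = D.j1 ∧ D.Ks j = pmI) ∨ (D.kpar j < D.n ∧ D.kdep (D.kpar j) < D.kdep j ∧ D.kgen j < 3 ∧
      D.Ks j = mmul (D.kg (D.kgen j)) (D.Ks (D.kpar j)))) ∧
    ∀ a, a < 3 → D.kmul j a < D.n ∧ mmul (D.kg a) (D.Ks j) = D.Ks (D.kmul j a) := by
  have h := hD.vK j hj
  simp only [chk, Bool.and_eq_true] at h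
  obtain ⟨⟨⟨h2, h3, h4⟩, h5, h6⟩, h7, h8⟩ := h
  refine ⟨?_, ?_⟩
  · cases hb : Nat.beq j D.j1 with
    | true =>
      rw [hb] at h2
      exact Or.inl ⟨Nat.eq_of_beq_eq_true hb, pmBeq_eq h2⟩
    | false =>
      rw [hb] at h2
      simp only [cond_false, Bool.and_eq_true] at h2
      obtain ⟨⟨⟨a1, a2⟩, a3⟩, a4⟩ := h2
      exact Or.inr ⟨Nat.blt_eq.mp a1, Nat.blt_eq.mp a2, Nat.blt_eq.mp a3, pmBeq_eq a4⟩
  · intro a ha
    interval_cases a
    · exact ⟨Nat.blt_eq.mp h3, pmBeq_eq h4⟩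
    · exact ⟨Nat.blt_eq.mp h5, pmBeq_eq h6⟩
    · exact ⟨Nat.blt_eq.mp h7, pmBeq_eq h8⟩

theorem Ks_j1 : D.Ks D.j1 = pmI := by
  have h := hD.vK D.j1 hD.vj1
  simp only [chk, Bool.and_eq_true] at h
  have hb : Nat.beq D.j1 D.j1 = true := Nat.beq_refl _
  rw [hb] at h
  exact pmBeq_eq h.1.1.1

theorem strict (i j : ℕ) (hij : i < j) (hj : j < D.n) : pmPack (D.Ks i) < pmPack (D.Ks j) := by
  induction j with
  | zero => omega
  | succ j ih =>
    have hstep : pmPack (D.Ks j) < pmPack (D.Ks (j + 1)) := Nat.blt_eq.mp (hD.vO j hj)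
    rcases Nat.lt_succ_iff_lt_or_eq.mp hij with h | h
    · exact lt_trans (ih h (by omega)) hstep
    · rw [h]; exact hstep

theorem inj (i j : ℕ) (hi : i < D.n) (hj : j < D.n) (h : D.Ks i = D.Ks j) : i = j := by
  rcases Nat.lt_trichotomy i j with h1 | h1 | h1
  · have := strict D hD i j h1 hj
    rw [h] at this; exact absurd this (lt_irrefl _)
  · exact h1
  · have := strict D hD j i h1 hi
    rw [h] at this; exact absurd this (lt_irrefl _)

end TabGroup

section sem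
variable {F : Type*} [Field F] [CharP F 2] (ω : F) (hω : ω ^ 2 + ω + 1 = 0)
variable (D : TabGroup)

/-- The subgroup generated by the three generators of the table. -/
def tabSubgroup : Subgroup ↥(threeJ3 F ω) :=
  Subgroup.closure {g | ∃ a, a < 3 ∧ ((g : GL F9 F) : Matrix F9 F9 F) = decM ω (D.kg a)}

variable (hD : D.Valid) (hkg : ∀ a, a < 3 → decM ω (D.kg a) ∈ MG ω)
include hω hD hkg

theorem tab_mem : ∀ j, j < D.n → ∃ g ∈ tabSubgroup ω D,
    ((g : GL F9 F) : Matrix F9 F9 F) = decM ω (D.Ks j) := by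
  have key : ∀ m j, D.kdep j = m → j < D.n → ∃ g ∈ tabSubgroup ω D,
      ((g : GL F9 F) : Matrix F9 F9 F) = decM ω (D.Ks j) := by
    intro m
    induction m using Nat.strong_induction_on with
    | _ m ih =>
      intro j hm hj
      rcases (D.facts hD j hj).1 with ⟨_, e⟩ | ⟨hp, hd, hg, e⟩
      · exact ⟨1, one_mem _, by rw [e, decM_pmI]; rfl⟩
      · obtain ⟨g, hg', eg⟩ := ih _ (by rw [← hm]; exact hd) _ rfl hp
        obtain ⟨x, hx, ex⟩ := hkg _ hg
        have hxmem : (⟨x, hx⟩ : ↥(threeJ3 F ω)) ∈ tabSubgroup ω D :=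
          Subgroup.subset_closure ⟨_, hg, ex⟩
        refine ⟨⟨x, hx⟩ * g, mul_mem hxmem hg', ?_⟩
        rw [e, decM_mmul ω hω, Subgroup.coe_mul, Units.val_mul, eg]
        exact congrArg (· * _) ex
  intro j hj
  exact key _ j rfl hj

theorem tab_closed [Finite F] (g : ↥(threeJ3 F ω)) (hg : g ∈ tabSubgroup ω D) :
    ∀ j, j < D.n → ∃ j', j' < D.n ∧
      ((g : GL F9 F) : Matrix F9 F9 F) * decM ω (D.Ks j) = decM ω (D.Ks j') := by
  have hpow : ∀ (x : ↥(threeJ3 F ω)) (m : ℕ),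
      (∀ j, j < D.n → ∃ j', j' < D.n ∧
        ((x : GL F9 F) : Matrix F9 F9 F) * decM ω (D.Ks j) = decM ω (D.Ks j')) →
      ∀ j, j < D.n → ∃ j', j' < D.n ∧
        (((x ^ m : ↥(threeJ3 F ω)) : GL F9 F) : Matrix F9 F9 F) * decM ω (D.Ks j) =
          decM ω (D.Ks j') := by
    intro x m hx
    induction m with
    | zero =>
      intro j hj
      exact ⟨j, hj, by rw [pow_zero]; simp⟩
    | succ m ih =>
      intro j hj
      obtain ⟨j1, hj1, e1⟩ := hx j hj
      obtain ⟨j2, hj2, e2⟩ := ih j1 hj1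
      refine ⟨j2, hj2, ?_⟩
      rw [pow_succ, Subgroup.coe_mul, Units.val_mul, mul_assoc, e1, e2]
  unfold tabSubgroup at hg
  induction hg using Subgroup.closure_induction with
  | mem x hx =>
    obtain ⟨a, ha, e⟩ := hx
    intro j hj
    obtain ⟨h1, h2⟩ := (D.facts hD j hj).2 a ha
    exact ⟨_, h1, by rw [e, ← decM_mmul ω hω, h2]⟩
  | one => intro j hj; exact ⟨j, hj, by simp⟩
  | mul x y _ _ hx hy =>
    intro j hj
    obtain ⟨j1, hj1, e1⟩ := hy j hj
    obtain ⟨j2, hj2, e2⟩ := hx j1 hj1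
    exact ⟨j2, hj2, by rw [Subgroup.coe_mul, Units.val_mul, mul_assoc, e1, e2]⟩
  | inv x _ hx =>
    have hpos : 0 < orderOf x := orderOf_pos x
    have hinv : x⁻¹ = x ^ (orderOf x - 1) := by
      apply inv_eq_of_mul_eq_one_left
      rw [← pow_succ, Nat.sub_add_cancel hpos, pow_orderOf_eq_one]
    rw [hinv]
    exact hpow x _ hx

theorem tab_table [Finite F] (g : ↥(threeJ3 F ω)) (hg : g ∈ tabSubgroup ω D) :
    ∃ j, j < D.n ∧ ((g : GL F9 F) : Matrix F9 F9 F) = decM ω (D.Ks j) := by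
  obtain ⟨j, hj, e⟩ := tab_closed ω hω D hD hkg g hg D.j1 hD.vj1
  rw [D.Ks_j1 hD, decM_pmI, mul_one] at e
  exact ⟨j, hj, e⟩

theorem mem_tab_iff [Finite F] (g : ↥(threeJ3 F ω)) :
    g ∈ tabSubgroup ω D ↔ ∃ j, j < D.n ∧ ((g : GL F9 F) : Matrix F9 F9 F) = decM ω (D.Ks j) := by
  constructor
  · exact tab_table ω hω D hD hkg g
  · rintro ⟨j, hj, e⟩
    obtain ⟨g', hg', e'⟩ := tab_mem ω hω D hD hkg j hj
    have : g = g' := ext_mat ω (by rw [e, e'])
    rw [this]; exact hg'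

theorem card_tabSubgroup [Finite F] : Nat.card ↥(tabSubgroup ω D) = D.n := by
  classical
  let Φ : ↥(tabSubgroup ω D) → Matrix F9 F9 F :=
    fun g => (((g : ↥(threeJ3 F ω)) : GL F9 F) : Matrix F9 F9 F)
  have hΦ : Function.Injective Φ := by
    intro a b h
    exact Subtype.ext (ext_mat ω h)
  let φ : ℕ → Matrix F9 F9 F := fun j => decM ω (D.Ks j)
  have hrange : Set.range Φ = φ '' ((Finset.range D.n : Finset ℕ) : Set ℕ) := by
    ext M
    simp only [Set.mem_range, Set.mem_image, Finset.mem_coe, Finset.mem_range]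
    constructor
    · rintro ⟨g, rfl⟩
      obtain ⟨j, hj, e⟩ := tab_table ω hω D hD hkg g.1 g.2
      exact ⟨j, hj, e.symm⟩
    · rintro ⟨j, hj, rfl⟩
      obtain ⟨g, hg, e⟩ := tab_mem ω hω D hD hkg j hj
      exact ⟨⟨g, hg⟩, e⟩
  have hinj : Set.InjOn φ ((Finset.range D.n : Finset ℕ) : Set ℕ) := by
    intro i hi j hj h
    simp only [Finset.mem_coe, Finset.mem_range] at hi hj
    exact D.inj hD i j hi hj (decM_injective ω hω _ _ (hD.vSmall i) (hD.vSmall j) h)
  rw [← Nat.card_range_of_injective hΦ, Nat.card_coe_set_eq, hrange, Set.InjOn.ncard_image hinj,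
    Set.ncard_coe_finset, Finset.card_range]

end sem

end Cfsg.Agent.Lib.Helper93.J3
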