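import Cfsg.Agent.Lib.Helper93.M22Index

/-!
# The automorphism group of the octads through two points

`A22` is the group of permutations fixing `none` and `some 0` and permuting the octads through
these two points (the hexads of the Steiner system `S(3,6,22)`).  Its order is at most `887040`.
-/

set_option autoImplicit false

namespace Cfsg.Agent.Lib.Helper93.M22Hexads
open Cfsg Cfsg.Agent.Lib.Helper7 Cfsg.Agent.Lib.Helper93 Cfsg.Agent.Lib.Helper92.PermCount
  Cfsg.Agent.Lib.Helper92.M24Index Cfsg.Agent.Lib.Helper92.M24Aut Cfsg.Agent.Lib.Helper92.AutPerm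
  Cfsg.Agent.Lib.Helper93.M22Index
open scoped Pointwise

/-- The octads through the two points. -/
def H2 : Set (Finset GolayPt) :=
  {o | o ∈ octads ∧ (none : GolayPt) ∈ o ∧ (some 0 : GolayPt) ∈ o}

/-- The permutations fixing the two points and preserving the octads through them. -/
def A22 : Subgroup (Equiv.Perm GolayPt) :=
  (MulAction.stabilizer (Equiv.Perm GolayPt) H2 ⊓
    MulAction.stabilizer (Equiv.Perm GolayPt) (none : GolayPt)) ⊓
    MulAction.stabilizer (Equiv.Perm GolayPt) (some 0 : GolayPt)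

theorem mem_A22_iff {τ : Equiv.Perm GolayPt} :
    τ ∈ A22 ↔ τ • H2 = H2 ∧ τ none = none ∧ τ (some 0) = some 0 := by
  unfold A22
  rw [Subgroup.mem_inf, Subgroup.mem_inf, MulAction.mem_stabilizer_iff,
    MulAction.mem_stabilizer_iff, MulAction.mem_stabilizer_iff, and_assoc]
  rfl

theorem smul_mem_H2 {τ : Equiv.Perm GolayPt} (hτ : τ ∈ A22) {o : Finset GolayPt} (ho : o ∈ H2) :
    τ • o ∈ H2 := by
  have h := (mem_A22_iff.mp hτ).1
  rw [← h]
  exact Set.smul_mem_smul_set ho

theorem mem_A22_of_maps {τ : Equiv.Perm GolayPt} (ha : τ none = none) (hb : τ (some 0) = some 0)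
    (h : ∀ o ∈ octads, (none : GolayPt) ∈ o → (some 0 : GolayPt) ∈ o → τ • o ∈ octads) :
    τ ∈ A22 := by
  rw [mem_A22_iff]
  refine ⟨?_, ha, hb⟩
  have hsub : τ • H2 ⊆ H2 := by
    rintro _ ⟨o, ho, rfl⟩
    refine ⟨h o ho.1 ho.2.1 ho.2.2, ?_, ?_⟩
    · have : τ • (none : GolayPt) ∈ τ • o := Finset.smul_mem_smul_finset ho.2.1
      rw [Equiv.Perm.smul_def, ha] at this
      exact this
    · have : τ • (some 0 : GolayPt) ∈ τ • o := Finset.smul_mem_smul_finset ho.2.2
      rw [Equiv.Perm.smul_def, hb] at this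
      exact this
  apply Set.eq_of_subset_of_ncard_le hsub ?_ (Set.toFinite _)
  have : τ • H2 = (fun s : Finset GolayPt => τ • s) '' H2 := rfl
  rw [this, Set.ncard_image_of_injective _ (MulAction.injective τ)]

theorem fixesAll_A22 : FixesAll A22 {none, some 0} := by
  intro j hj q hq
  rw [Finset.mem_insert, Finset.mem_singleton] at hq
  obtain ⟨_, h1, h2⟩ := mem_A22_iff.mp hj
  rcases hq with rfl | rfl
  · exact h1
  · exact h2

/-- An element of `A22` fixing five points of an octad through the two points fixes the octad. -/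
theorem smul_eq_of_fixes_five {τ : Equiv.Perm GolayPt} (hτ : τ ∈ A22) {X : Finset GolayPt}
    (hX : X ∈ H2) {S : Finset GolayPt} (hSX : S ⊆ X) (hS5 : 5 ≤ S.card)
    (hfix : ∀ q ∈ S, τ q = q) : τ • X = X := by
  have h1 := smul_mem_H2 hτ hX
  symm
  apply octad_eq_of_five hX.1 h1.1
  refine le_trans hS5 (Finset.card_le_card ?_)
  intro q hq
  rw [Finset.mem_inter]
  refine ⟨hSX hq, ?_⟩
  have : τ • q ∈ τ • X := Finset.smul_mem_smul_finset (hSX hq)
  rw [Equiv.Perm.smul_def, hfix q hq] at this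
  exact this

theorem apply_mem_of_smul_eq {τ : Equiv.Perm GolayPt} {X : Finset GolayPt} (h : τ • X = X)
    {q : GolayPt} (hq : q ∈ X) : τ q ∈ X := by
  have : τ • q ∈ τ • X := Finset.smul_mem_smul_finset hq
  rw [h] at this
  exact this

theorem exists_octad_five {l : List GolayPt} (hl : l.Nodup) (h5 : l.length = 5) :
    ∃ O ∈ octads, ∀ p ∈ l, p ∈ O := by
  have : l.toFinset.card = 5 := by rw [List.toFinset_card_of_nodup hl, h5]
  obtain ⟨O, ⟨hO, hsub⟩, _⟩ := octads_steiner.2 _ this
  exact ⟨O, hO, fun p hp => hsub (List.mem_toFinset.mpr hp)⟩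

/-- For an octad `X` through the two points and two points `o`, `q` outside it, and a point `x`
of `X` other than the two points: the octad `O` through `none, some 0, o, q, x` meets `X` in four
points, and any element of `A22` fixing `X` pointwise and `o` fixes `O`. -/
theorem exists_octad_aux {τ : Equiv.Perm GolayPt} (hτ : τ ∈ A22) {X : Finset GolayPt}
    (hX : X ∈ H2) (hfixX : ∀ p ∈ X, τ p = p) {o : GolayPt} (ho : o ∉ X) (hfo : τ o = o)
    {q : GolayPt} (hqX : q ∉ X) (hqo : q ≠ o) {x : GolayPt} (hxX : x ∈ X) (hxa : x ≠ none)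
    (hxb : x ≠ some 0) :
    ∃ O ∈ H2, o ∈ O ∧ q ∈ O ∧ x ∈ O ∧ (O ∩ X).card = 4 ∧ τ • O = O := by
  have ha : (none : GolayPt) ∈ X := hX.2.1
  have hb : (some 0 : GolayPt) ∈ X := hX.2.2
  have hoa : o ≠ none := fun h => ho (h ▸ ha)
  have hob : o ≠ some 0 := fun h => ho (h ▸ hb)
  have hox : o ≠ x := fun h => ho (h ▸ hxX)
  have hqa : q ≠ none := fun h => hqX (h ▸ ha)
  have hqb : q ≠ some 0 := fun h => hqX (h ▸ hb)
  have hqx : q ≠ x := fun h => hqX (h ▸ hxX)
  have hnodup : ([none, some 0, o, q, x] : List GolayPt).Nodup := by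
    simp only [List.nodup_cons, List.mem_cons, List.not_mem_nil, or_false, not_or,
      List.nodup_nil, and_true, not_false_eq_true]
    refine ⟨⟨by decide, hoa.symm, hqa.symm, hxa.symm⟩, ⟨hob.symm, hqb.symm, hxb.symm⟩,
      ⟨hqo.symm, hox⟩, hqx⟩
  obtain ⟨O, hO, hmem⟩ := exists_octad_five hnodup rfl
  have hOa : (none : GolayPt) ∈ O := hmem _ (by simp)
  have hOb : (some 0 : GolayPt) ∈ O := hmem _ (by simp)
  have hOo : o ∈ O := hmem _ (by simp)
  have hOq : q ∈ O := hmem _ (by simp)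
  have hOx : x ∈ O := hmem _ (by simp)
  have hOH : O ∈ H2 := ⟨hO, hOa, hOb⟩
  have h3 : 3 ≤ (O ∩ X).card := by
    have hsub : ({none, some 0, x} : Finset GolayPt) ⊆ O ∩ X := by
      intro p hp
      simp only [Finset.mem_insert, Finset.mem_singleton] at hp
      rcases hp with rfl | rfl | rfl
      · exact Finset.mem_inter.mpr ⟨hOa, ha⟩
      · exact Finset.mem_inter.mpr ⟨hOb, hb⟩
      · exact Finset.mem_inter.mpr ⟨hOx, hxX⟩
    have hc : ({none, some 0, x} : Finset GolayPt).card = 3 := by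
      rw [Finset.card_insert_of_notMem, Finset.card_pair hxb.symm]
      rw [Finset.mem_insert, Finset.mem_singleton, not_or]
      exact ⟨by decide, hxa.symm⟩
    exact hc ▸ Finset.card_le_card hsub
  have h4 : (O ∩ X).card = 4 := by
    rcases octad_inter_cases hO hX.1 with h | h | h | h
    · omega
    · exact h
    · omega
    · exact absurd (h ▸ hOo) ho
  refine ⟨O, hOH, hOo, hOq, hOx, h4, ?_⟩
  apply smul_eq_of_fixes_five hτ hOH (S := insert o (O ∩ X))
  · intro p hp
    rw [Finset.mem_insert] at hp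
    rcases hp with rfl | hp
    · exact hOo
    · exact (Finset.mem_inter.mp hp).1
  · rw [Finset.card_insert_of_notMem (fun h => ho (Finset.mem_inter.mp h).2), h4]
  · intro p hp
    rw [Finset.mem_insert] at hp
    rcases hp with rfl | hp
    · exact hfo
    · exact hfixX p (Finset.mem_inter.mp hp).2

/-- An element of `A22` fixing an octad through the two points pointwise, and one more point, is
trivial. -/
theorem eq_one_of_fixes_octad_and_point {τ : Equiv.Perm GolayPt} (hτ : τ ∈ A22)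
    {X : Finset GolayPt} (hX : X ∈ H2) (hfixX : ∀ p ∈ X, τ p = p) {o : GolayPt} (ho : o ∉ X)
    (hfo : τ o = o) : τ = 1 := by
  apply Equiv.ext
  intro q
  show τ q = q
  by_cases hqX : q ∈ X
  · exact hfixX q hqX
  by_cases hqo : q = o
  · rw [hqo]; exact hfo
  have ha : (none : GolayPt) ∈ X := hX.2.1
  have hb : (some 0 : GolayPt) ∈ X := hX.2.2
  have hX8 : X.card = 8 := octads_steiner.1 X hX.1
  -- a first point of `X`
  obtain ⟨x1, hx1X, hx1⟩ : ∃ x1 ∈ X, x1 ∉ ({none, some 0} : Finset GolayPt) := by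
    apply Finset.exists_mem_notMem_of_card_lt_card
    rw [hX8]
    exact lt_of_le_of_lt (Finset.card_le_two) (by norm_num)
  rw [Finset.mem_insert, Finset.mem_singleton, not_or] at hx1
  obtain ⟨O1, hO1, hO1o, hO1q, hO1x, hI1, hτ1⟩ :=
    exists_octad_aux hτ hX hfixX ho hfo hqX hqo hx1X hx1.1 hx1.2
  -- a second point of `X`, outside `O1`
  obtain ⟨x2, hx2X, hx2⟩ : ∃ x2 ∈ X, x2 ∉ O1 ∩ X := by
    apply Finset.exists_mem_notMem_of_card_lt_card
    rw [hX8, hI1]; norm_num
  have hx2O1 : x2 ∉ O1 := fun h => hx2 (Finset.mem_inter.mpr ⟨h, hx2X⟩)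
  have hx2a : x2 ≠ none := fun h => hx2O1 (h ▸ hO1.2.1)
  have hx2b : x2 ≠ some 0 := fun h => hx2O1 (h ▸ hO1.2.2)
  obtain ⟨O2, hO2, hO2o, hO2q, hO2x, hI2, hτ2⟩ :=
    exists_octad_aux hτ hX hfixX ho hfo hqX hqo hx2X hx2a hx2b
  have hne : O1 ≠ O2 := fun h => hx2O1 (h ▸ hO2x)
  have hle4 : (O1 ∩ O2).card ≤ 4 := by
    by_contra hcon
    push Not at hcon
    exact hne (octad_eq_of_five hO1.1 hO2.1 hcon)
  have hoa : o ≠ none := fun h => ho (h ▸ ha)
  have hob : o ≠ some 0 := fun h => ho (h ▸ hb)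
  have hqa : q ≠ none := fun h => hqX (h ▸ ha)
  have hqb : q ≠ some 0 := fun h => hqX (h ▸ hb)
  have hsub : ({none, some 0, o, q} : Finset GolayPt) ⊆ O1 ∩ O2 := by
    intro p hp
    simp only [Finset.mem_insert, Finset.mem_singleton] at hp
    rcases hp with rfl | rfl | rfl | rfl
    · exact Finset.mem_inter.mpr ⟨hO1.2.1, hO2.2.1⟩
    · exact Finset.mem_inter.mpr ⟨hO1.2.2, hO2.2.2⟩
    · exact Finset.mem_inter.mpr ⟨hO1o, hO2o⟩
    · exact Finset.mem_inter.mpr ⟨hO1q, hO2q⟩
  have hc4 : ({none, some 0, o, q} : Finset GolayPt).card = 4 := by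
    rw [Finset.card_insert_of_notMem, Finset.card_insert_of_notMem,
      Finset.card_pair (Ne.symm hqo)]
    · rw [Finset.mem_insert, Finset.mem_singleton, not_or]
      exact ⟨hob.symm, hqb.symm⟩
    · rw [Finset.mem_insert, Finset.mem_insert, Finset.mem_singleton, not_or, not_or]
      exact ⟨by decide, hoa.symm, hqa.symm⟩
  have heq : ({none, some 0, o, q} : Finset GolayPt) = O1 ∩ O2 :=
    Finset.eq_of_subset_of_card_le hsub (by rw [hc4]; exact hle4)
  have hmem : τ q ∈ O1 ∩ O2 :=
    Finset.mem_inter.mpr ⟨apply_mem_of_smul_eq hτ1 hO1q, apply_mem_of_smul_eq hτ2 hO2q⟩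
  rw [← heq] at hmem
  simp only [Finset.mem_insert, Finset.mem_singleton] at hmem
  obtain ⟨_, hτa, hτb⟩ := mem_A22_iff.mp hτ
  rcases hmem with h | h | h | h
  · exact absurd (τ.injective (h.trans hτa.symm)) hqa
  · exact absurd (τ.injective (h.trans hτb.symm)) hqb
  · exact absurd (τ.injective (h.trans hfo.symm)) hqo
  · exact h

theorem sdiff_invariant {J : Subgroup (Equiv.Perm GolayPt)} {S X : Finset GolayPt}
    (hf : FixesAll J S) (hX : ∀ g ∈ J, ∀ q ∈ X, g q ∈ X) :
    ∀ g ∈ J, ∀ q ∈ X \ S, g q ∈ X \ S := by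
  intro g hg q hq
  rw [Finset.mem_sdiff] at hq ⊢
  refine ⟨hX g hg q hq.1, fun h => hq.2 ?_⟩
  have h1 : g⁻¹ (g q) = g q := hf g⁻¹ (J.inv_mem hg) _ h
  have h2 : g⁻¹ (g q) = q := by simp
  rw [h2] at h1
  rw [h1]; exact h

/-- The base octad, through `none, 0, 1, 2, 3`. -/
def X0 : Finset GolayPt := Cfsg.Agent.Lib.Helper7.setOf octO

theorem X0_mem_H2 : X0 ∈ H2 :=
  ⟨setOf_mem_octads (by decide), mem_setOf.mpr (by decide), mem_setOf.mpr (by decide)⟩

/-- The order of `A22` is at most `887040`. -/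
theorem card_A22_le : Nat.card A22 ≤ 887040 := by
  have hX := X0_mem_H2
  have hf0 := fixesAll_A22
  have hf1 := hf0.inf_stabilizer (some 1)
  have hf2 := hf1.inf_stabilizer (some 2)
  have hf3 := hf2.inf_stabilizer (some 3)
  have hf4 := hf3.inf_stabilizer (some 5)
  have hf5 := hf4.inf_stabilizer (some 14)
  have hf6 := hf5.inf_stabilizer (some 17)
  have hf7 := hf6.inf_stabilizer (some 4)
  have hm0 := card_eq_orb_mul A22 (some 1)
  have hm1 := card_eq_orb_mul (A22 ⊓ MulAction.stabilizer (Equiv.Perm GolayPt) (some 1 : GolayPt))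
    (some 2)
  have hm2 := card_eq_orb_mul ((A22 ⊓ MulAction.stabilizer (Equiv.Perm GolayPt) (some 1 : GolayPt))
    ⊓ MulAction.stabilizer (Equiv.Perm GolayPt) (some 2 : GolayPt)) (some 3)
  set J3 := ((A22 ⊓ MulAction.stabilizer (Equiv.Perm GolayPt) (some 1 : GolayPt))
    ⊓ MulAction.stabilizer (Equiv.Perm GolayPt) (some 2 : GolayPt))
    ⊓ MulAction.stabilizer (Equiv.Perm GolayPt) (some 3 : GolayPt) with hJ3
  have hJ3A : J3 ≤ A22 := inf_le_left.trans (inf_le_left.trans inf_le_left)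
  have hm3 := card_eq_orb_mul J3 (some 5)
  have hm4 := card_eq_orb_mul (J3 ⊓ MulAction.stabilizer (Equiv.Perm GolayPt) (some 5 : GolayPt))
    (some 14)
  have hm5 := card_eq_orb_mul ((J3 ⊓ MulAction.stabilizer (Equiv.Perm GolayPt) (some 5 : GolayPt))
    ⊓ MulAction.stabilizer (Equiv.Perm GolayPt) (some 14 : GolayPt)) (some 17)
  have hm6 := card_eq_orb_mul (((J3 ⊓ MulAction.stabilizer (Equiv.Perm GolayPt) (some 5 : GolayPt))
    ⊓ MulAction.stabilizer (Equiv.Perm GolayPt) (some 14 : GolayPt))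
    ⊓ MulAction.stabilizer (Equiv.Perm GolayPt) (some 17 : GolayPt)) (some 4)
  -- orbit bounds
  have hb0 := hf0.card_orb_le (s := some 1) (by decide)
  have hb1 := hf1.card_orb_le (s := some 2) (by decide)
  have hb2 := hf2.card_orb_le (s := some 3) (by decide)
  have hb6 := hf6.card_orb_le (s := some 4) (by decide)
  have hc0 : ({none, some 0} : Finset GolayPt).card = 2 := by decide
  have hc1 : (insert (some 1) ({none, some 0} : Finset GolayPt)).card = 3 := by decide
  have hc2 : (insert (some 2) (insert (some 1) ({none, some 0} : Finset GolayPt))).card = 4 := by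
    decide
  have hc6 : (insert (some 17) (insert (some 14) (insert (some 5) (insert (some 3)
      (insert (some 2) (insert (some 1) ({none, some 0} : Finset GolayPt))))))).card = 8 := by
    decide
  rw [hc0] at hb0
  rw [hc1] at hb1
  rw [hc2] at hb2
  rw [hc6] at hb6
  -- invariance of the base octad under `J3`
  have hXinv : ∀ g ∈ J3, ∀ q ∈ X0, g q ∈ X0 := by
    intro g hg q hq
    have h := smul_eq_of_fixes_five (hJ3A hg) hX
      (S := insert (some 3) (insert (some 2) (insert (some 1) ({none, some 0} : Finset GolayPt))))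
      (by decide) (by decide) (fun p hp => hf3 g hg p hp)
    exact apply_mem_of_smul_eq h hq
  have hb3 : (orb J3 (some 5)).card ≤ 3 := by
    have hsub := orb_subset (J := J3) (x := some 5)
      (B := X0 \ insert (some 3) (insert (some 2) (insert (some 1) ({none, some 0} : Finset GolayPt))))
      (by decide) (sdiff_invariant hf3 hXinv)
    exact le_trans (Finset.card_le_card hsub) (by decide)
  have hb4 : (orb (J3 ⊓ MulAction.stabilizer (Equiv.Perm GolayPt) (some 5 : GolayPt))
      (some 14)).card ≤ 2 := by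
    have hsub := orb_subset (J := J3 ⊓ MulAction.stabilizer (Equiv.Perm GolayPt) (some 5 : GolayPt))
      (x := some 14)
      (B := X0 \ insert (some 5) (insert (some 3) (insert (some 2) (insert (some 1)
        ({none, some 0} : Finset GolayPt)))))
      (by decide) (sdiff_invariant hf4 (fun g hg => hXinv g hg.1))
    exact le_trans (Finset.card_le_card hsub) (by decide)
  have hb5 : (orb ((J3 ⊓ MulAction.stabilizer (Equiv.Perm GolayPt) (some 5 : GolayPt))
      ⊓ MulAction.stabilizer (Equiv.Perm GolayPt) (some 14 : GolayPt)) (some 17)).card ≤ 1 := by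
    have hsub := orb_subset
      (J := (J3 ⊓ MulAction.stabilizer (Equiv.Perm GolayPt) (some 5 : GolayPt))
        ⊓ MulAction.stabilizer (Equiv.Perm GolayPt) (some 14 : GolayPt))
      (x := some 17)
      (B := X0 \ insert (some 14) (insert (some 5) (insert (some 3) (insert (some 2) (insert (some 1)
        ({none, some 0} : Finset GolayPt))))))
      (by decide) (sdiff_invariant hf5 (fun g hg => hXinv g hg.1.1))
    exact le_trans (Finset.card_le_card hsub) (by decide)
  -- the last group is trivial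
  have h7 : Nat.card ↥((((J3 ⊓ MulAction.stabilizer (Equiv.Perm GolayPt) (some 5 : GolayPt))
      ⊓ MulAction.stabilizer (Equiv.Perm GolayPt) (some 14 : GolayPt))
      ⊓ MulAction.stabilizer (Equiv.Perm GolayPt) (some 17 : GolayPt))
      ⊓ MulAction.stabilizer (Equiv.Perm GolayPt) (some 4 : GolayPt)) = 1 := by
    rw [Subgroup.card_eq_one, eq_bot_iff]
    intro g hg
    rw [Subgroup.mem_bot]
    have hgA : g ∈ A22 := hJ3A hg.1.1.1.1
    apply eq_one_of_fixes_octad_and_point hgA hX (o := some 4)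
    · intro p hp
      apply hf7 g hg p
      revert p
      decide
    · decide
    · exact hf7 g hg _ (by decide)
  rw [h7] at hm6
  have e6 := hm6
  rw [mul_one] at e6
  have e6' : Nat.card ↥(((J3 ⊓ MulAction.stabilizer (Equiv.Perm GolayPt) (some 5 : GolayPt))
      ⊓ MulAction.stabilizer (Equiv.Perm GolayPt) (some 14 : GolayPt))
      ⊓ MulAction.stabilizer (Equiv.Perm GolayPt) (some 17 : GolayPt)) ≤ 16 := by
    rw [e6]; omega
  have e5 : Nat.card ↥((J3 ⊓ MulAction.stabilizer (Equiv.Perm GolayPt) (some 5 : GolayPt))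
      ⊓ MulAction.stabilizer (Equiv.Perm GolayPt) (some 14 : GolayPt)) ≤ 1 * 16 := by
    rw [hm5]; exact Nat.mul_le_mul hb5 e6'
  have e4 : Nat.card ↥(J3 ⊓ MulAction.stabilizer (Equiv.Perm GolayPt) (some 5 : GolayPt))
      ≤ 2 * (1 * 16) := by
    rw [hm4]; exact Nat.mul_le_mul hb4 e5
  have e3 : Nat.card ↥J3 ≤ 3 * (2 * (1 * 16)) := by
    rw [hm3]; exact Nat.mul_le_mul hb3 e4
  have e2 : Nat.card ↥((A22 ⊓ MulAction.stabilizer (Equiv.Perm GolayPt) (some 1 : GolayPt))
      ⊓ MulAction.stabilizer (Equiv.Perm GolayPt) (some 2 : GolayPt)) ≤ 20 * (3 * (2 * (1 * 16))) := by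
    rw [hm2]; exact Nat.mul_le_mul (by omega) e3
  have e1 : Nat.card ↥(A22 ⊓ MulAction.stabilizer (Equiv.Perm GolayPt) (some 1 : GolayPt))
      ≤ 21 * (20 * (3 * (2 * (1 * 16)))) := by
    rw [hm1]; exact Nat.mul_le_mul (by omega) e2
  have e0 : Nat.card ↥A22 ≤ 22 * (21 * (20 * (3 * (2 * (1 * 16))))) := by
    rw [hm0]; exact Nat.mul_le_mul (by omega) e1
  exact le_trans e0 (by norm_num)

end Cfsg.Agent.Lib.Helper93.M22Hexads
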