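import Cfsg.Agent.Lib.Helper93.OctadJoint

/-!
# The pointwise stabilizer of an octad acts freely on the octads meeting it in two points
-/

set_option autoImplicit false
open scoped Pointwise
open Cfsg

namespace Cfsg.Agent.Lib.Helper93
open Cfsg.Agent.Lib.Helper7 Cfsg.Agent.Lib.Helper92

/-- Table check: the involution `octStabElem q` stabilizes no octad meeting the base octad in two
points. -/
def k0OK (q : ℕ) : Bool :=
  (rootK2 :: codesK2).all fun m => !mapsInto (wComp q ((uT 5 q).getD 5 0)) m m

theorem k0_check : ∀ q < 24, orbitOK 5 q = true → q ≠ 4 → k0OK q = true := by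
  decide +kernel

theorem matches_octStabElem (q : ℕ) :
    Matches (octStabElem q) (wComp q ((uT 5 q).getD 5 0)) := matches_wP q _

/-- Base case of `eq_one_of_fix_octad_stab`. -/
theorem eq_one_of_fix_octO_stab {g : Equiv.Perm GolayPt} (hg : g ∈ fixM24 (setOf octO))
    {o : Finset GolayPt} (ho : o ∈ octads) (h2 : (setOf octO ∩ o).card = 2) (hgo : g • o = o) :
    g = 1 := by
  obtain ⟨q, hq, hok, rfl⟩ := eq_octStabElem_of_mem hg
  by_cases hq4 : q = 4
  · subst hq4
    exact eq_one_of_mem_fixM24_octO hg ((octStabElem_spec hq hok).2.1)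
  · exfalso
    have hk := k0_check q hq hok hq4
    obtain ⟨c, hc, h8, rfl⟩ := exists_enc_of_mem_octads ho
    have hmem : enc c ∈ rootK2 :: codesK2 := by
      have := tourK2_complete c hc h8 (by rw [← card_inter_setOf, Finset.inter_comm, h2])
      simpa using this
    have h1 := (List.all_eq_true.mp hk) (enc c) hmem
    have hcomp := mapsInto_complete (matches_octStabElem q) (m := enc c) (m' := enc c)
      (fun p hp => by
        have := (apply_mem_perm_smul_finset (octStabElem q) (setOf (enc c)) p).mpr hp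
        rwa [hgo] at this)
    rw [hcomp] at h1
    exact absurd h1 (by decide)

/-- An element of `M24` fixing an octad `o'` pointwise and stabilizing an octad `o` that meets `o'`
in exactly two points is trivial. -/
theorem eq_one_of_fix_octad_stab {o o' : Finset GolayPt} (ho : o ∈ octads) (ho' : o' ∈ octads)
    (h2 : (o ∩ o').card = 2) {g : Equiv.Perm GolayPt} (hg : g ∈ fixM24 o') (hgo : g • o = o) :
    g = 1 := by
  obtain ⟨σ, hσ⟩ := exists_M24_smul_octad ho' (setOf_mem_octads isOctadMask_octO)
  rw [M24_smul_finset_def] at hσ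
  have h1 : (σ : Equiv.Perm GolayPt) * g * (σ : Equiv.Perm GolayPt)⁻¹ ∈ fixM24 (setOf octO) := by
    rw [← hσ, conj_mem_fixM24 σ.2]
    have : (σ : Equiv.Perm GolayPt)⁻¹ * ((σ : Equiv.Perm GolayPt) * g *
        (σ : Equiv.Perm GolayPt)⁻¹) * (σ : Equiv.Perm GolayPt) = g := by group
    rw [this]
    exact hg
  have h3 : ((σ : Equiv.Perm GolayPt) * g * (σ : Equiv.Perm GolayPt)⁻¹) •
      ((σ : Equiv.Perm GolayPt) • o) = (σ : Equiv.Perm GolayPt) • o := by
    rw [mul_smul, mul_smul, inv_smul_smul, hgo]
  have h4 := eq_one_of_fix_octO_stab h1 (smul_mem_octads σ.2 ho)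
    (by rw [← hσ, ← smul_inter_finset, card_perm_smul_finset, Finset.inter_comm, h2]) h3
  have : g = (σ : Equiv.Perm GolayPt)⁻¹ * ((σ : Equiv.Perm GolayPt) * g *
      (σ : Equiv.Perm GolayPt)⁻¹) * (σ : Equiv.Perm GolayPt) := by group
  rw [this, h4]
  group

end Cfsg.Agent.Lib.Helper93
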