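import Cfsg.Agent.Lib.Helper93.OctadPairTour
import Cfsg.Agent.Lib.Helper93.OctadK0
import Cfsg.Agent.Lib.Helper92.OctadSplit

/-!
# Facts about the octads disjoint from a given octad (for the 15 trios through an octad)
-/

set_option autoImplicit false
open scoped Pointwise
open Cfsg

namespace Cfsg.Agent.Lib.Helper93
open Cfsg.Agent.Lib.Helper7 Cfsg.Agent.Lib.Helper92

/-- Move an octad to the base octad. -/
theorem exists_perm_to_octO {o : Finset GolayPt} (ho : o ∈ octads) :
    ∃ σ ∈ M24, σ • o = setOf octO := by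
  obtain ⟨σ, hσ⟩ := exists_M24_smul_octad ho (setOf_mem_octads isOctadMask_octO)
  exact ⟨σ, σ.2, hσ⟩

theorem disjoint_iff_card_inter {s t : Finset GolayPt} : Disjoint s t ↔ (s ∩ t).card = 0 := by
  rw [Finset.card_eq_zero, Finset.disjoint_iff_inter_eq_empty]

theorem smul_disjoint_iff (g : Equiv.Perm GolayPt) (s t : Finset GolayPt) :
    Disjoint (g • s) (g • t) ↔ Disjoint s t := by
  rw [disjoint_iff_card_inter, disjoint_iff_card_inter, ← smul_inter_finset, card_perm_smul_finset]

/-! ### Pairs -/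

/-- Reachability of a pair of octads from the root pair. -/
def ReachP (root m : ℕ) : Prop :=
  ∃ g ∈ M24, g • setOf octO = setOf octO ∧
    g • Helper7.setOf (root % 16777216) = Helper7.setOf (m % 16777216) ∧
    g • Helper7.setOf (root / 16777216) = Helper7.setOf (m / 16777216)

theorem reachP_refl (root : ℕ) : ReachP root root :=
  ⟨1, one_mem _, one_smul _ _, one_smul _ _, one_smul _ _⟩

theorem chkPair_sound (root g a b : ℕ) (h : chkPair g a b = true) (ha : ReachP root a) :
    ReachP root b := by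
  unfold chkPair at h
  split at h
  · exact absurd h (by decide)
  · rename_i t ht
    simp only [Bool.and_eq_true] at h
    obtain ⟨σ, hσ, hσO, hm⟩ := osTabs_spec t (List.mem_of_getElem? ht)
    obtain ⟨u, hu, huO, hua1, hua2⟩ := ha
    refine ⟨σ * u, mul_mem hσ hu, ?_, ?_, ?_⟩
    · rw [mul_smul, huO, hσO]
    · rw [mul_smul, hua1]
      exact smul_setOf_eq_of_mapsInto hm h.1.1 (Nat.le_of_ble_eq_true h.1.2)
    · rw [mul_smul, hua2]
      exact smul_setOf_eq_of_mapsInto hm h.2.1 (Nat.le_of_ble_eq_true h.2.2)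

theorem reachP_of_tour : ∀ m, m = rootP ∨ m ∈ tourCodes tourP → ReachP rootP m := by
  intro m hm
  rcases hm with rfl | hm
  · exact reachP_refl _
  · refine tourRun_sound (R := ReachP rootP) (fun g a b => chkPair_sound rootP g a b) tourP [rootP]
      ?_ tourP_run m hm
    intro a ha
    rw [List.mem_singleton] at ha
    subst ha
    exact reachP_refl _

theorem list30_props {m : ℕ} (hm : m ∈ rootK0 :: codesK0) :
    setOf m ∈ octads ∧ Disjoint (setOf octO) (setOf m) ∧ m < 16777216 := by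
  obtain ⟨⟨h1, h2⟩, h3⟩ := codesK0_props m hm
  refine ⟨setOf_mem_octads h1, ?_, by norm_num at h3 ⊢; exact h3⟩
  rw [disjoint_iff_card_inter, Finset.inter_comm, card_inter_setOf, h2]

theorem mem_list30 {o₁ : Finset GolayPt} (ho₁ : o₁ ∈ octads) (hd : Disjoint (setOf octO) o₁) :
    ∃ m ∈ rootK0 :: codesK0, o₁ = setOf m := by
  obtain ⟨c, hc, h8, rfl⟩ := exists_enc_of_mem_octads ho₁
  refine ⟨enc c, ?_, rfl⟩
  have h0 : pc (enc c &&& octO) = 0 := by
    rw [← card_inter_setOf, Finset.inter_comm, ← disjoint_iff_card_inter]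
    exact hd
  have := tourK0_complete c hc h8 h0
  simpa using this

/-- Base case: the stabilizer of the base octad is transitive on ordered pairs of octads disjoint
from it that meet each other in four points. -/
theorem exists_stab_octO_map_pair {o₁ o₂ o₁' o₂' : Finset GolayPt} (h₁ : o₁ ∈ octads)
    (h₂ : o₂ ∈ octads) (h₁' : o₁' ∈ octads) (h₂' : o₂' ∈ octads)
    (hd₁ : Disjoint (setOf octO) o₁) (hd₂ : Disjoint (setOf octO) o₂)
    (hd₁' : Disjoint (setOf octO) o₁') (hd₂' : Disjoint (setOf octO) o₂')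
    (h4 : (o₁ ∩ o₂).card = 4) (h4' : (o₁' ∩ o₂').card = 4) :
    ∃ g ∈ M24, g • setOf octO = setOf octO ∧ g • o₁ = o₁' ∧ g • o₂ = o₂' := by
  have key : ∀ {a b : Finset GolayPt}, a ∈ octads → b ∈ octads → Disjoint (setOf octO) a →
      Disjoint (setOf octO) b → (a ∩ b).card = 4 →
      ∃ g ∈ M24, g • setOf octO = setOf octO ∧ g • Helper7.setOf (rootP % 16777216) = a ∧
        g • Helper7.setOf (rootP / 16777216) = b := by
    intro a b ha hb hda hdb hab
    obtain ⟨m, hm, rfl⟩ := mem_list30 ha hda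
    obtain ⟨n, hn, rfl⟩ := mem_list30 hb hdb
    rw [card_inter_setOf] at hab
    have hmem := tourP_complete m hm n hn hab
    have hmem' : m + 16777216 * n = rootP ∨ m + 16777216 * n ∈ tourCodes tourP := by
      rw [tourCodes_tourP]
      simpa using hmem
    obtain ⟨g, hg, hgO, hg1, hg2⟩ := reachP_of_tour _ hmem'
    have hmlt := (list30_props hm).2.2
    have e1 : (m + 16777216 * n) % 16777216 = m := by omega
    have e2 : (m + 16777216 * n) / 16777216 = n := by omega
    rw [e1] at hg1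
    rw [e2] at hg2
    exact ⟨g, hg, hgO, hg1, hg2⟩
  obtain ⟨u, hu, huO, hu1, hu2⟩ := key h₁ h₂ hd₁ hd₂ h4
  obtain ⟨v, hv, hvO, hv1, hv2⟩ := key h₁' h₂' hd₁' hd₂' h4'
  refine ⟨v * u⁻¹, mul_mem hv (inv_mem hu), ?_, ?_, ?_⟩
  · rw [mul_smul, inv_smul_eq_iff.mpr huO.symm, hvO]
  · rw [mul_smul, inv_smul_eq_iff.mpr hu1.symm, hv1]
  · rw [mul_smul, inv_smul_eq_iff.mpr hu2.symm, hv2]

/-- The stabilizer of an octad `o` is transitive on ordered pairs of octads disjoint from `o` that
meet each other in four points. -/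
theorem exists_stab_octad_map_pair {o o₁ o₂ o₁' o₂' : Finset GolayPt} (ho : o ∈ octads)
    (h₁ : o₁ ∈ octads) (h₂ : o₂ ∈ octads) (h₁' : o₁' ∈ octads) (h₂' : o₂' ∈ octads)
    (hd₁ : Disjoint o o₁) (hd₂ : Disjoint o o₂) (hd₁' : Disjoint o o₁') (hd₂' : Disjoint o o₂')
    (h4 : (o₁ ∩ o₂).card = 4) (h4' : (o₁' ∩ o₂').card = 4) :
    ∃ g ∈ M24, g • o = o ∧ g • o₁ = o₁' ∧ g • o₂ = o₂' := by
  obtain ⟨σ, hσM, hσ⟩ := exists_perm_to_octO ho
  obtain ⟨u, hu, huO, hu1, hu2⟩ := exists_stab_octO_map_pair (smul_mem_octads hσM h₁)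
    (smul_mem_octads hσM h₂) (smul_mem_octads hσM h₁') (smul_mem_octads hσM h₂')
    (by rw [← hσ, smul_disjoint_iff]; exact hd₁) (by rw [← hσ, smul_disjoint_iff]; exact hd₂)
    (by rw [← hσ, smul_disjoint_iff]; exact hd₁') (by rw [← hσ, smul_disjoint_iff]; exact hd₂')
    (by rw [← smul_inter_finset, card_perm_smul_finset, h4])
    (by rw [← smul_inter_finset, card_perm_smul_finset, h4'])
  refine ⟨σ⁻¹ * u * σ, mul_mem (mul_mem (inv_mem hσM) hu) hσM, ?_, ?_, ?_⟩
  · rw [mul_smul, mul_smul, hσ, huO, inv_smul_eq_iff, hσ]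
  · rw [mul_smul, mul_smul, hu1, inv_smul_smul]
  · rw [mul_smul, mul_smul, hu2, inv_smul_smul]

/-! ### The pointwise stabilizer preserves each parallel class -/

/-- The image of `m` under the table `t` is disjoint from `m`. -/
def disjImage (t : List ℕ) (m : ℕ) : Bool :=
  (List.range 24).all fun i => !m.testBit i || !m.testBit (t.getD i 0)

theorem disjImage_sound {σ : Equiv.Perm GolayPt} {t : List ℕ} (h : Matches σ t) {m : ℕ}
    (hm : disjImage t m = true) : Disjoint (σ • setOf m) (setOf m) := by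
  rw [Finset.disjoint_left]
  intro p hp hp'
  rw [mem_perm_smul_finset] at hp
  rw [mem_setOf] at hp hp'
  simp only [disjImage, List.all_eq_true, List.mem_range, Bool.or_eq_true, Bool.not_eq_eq_eq_not,
    Bool.not_true] at hm
  have h1 := hm (idx (σ.symm p)) (idx_lt _)
  have h2 := h (σ.symm p)
  rw [Equiv.apply_symm_apply] at h2
  rw [← h2, hp'] at h1
  rcases h1 with h1 | h1
  · rw [hp] at h1; exact absurd h1 (by decide)
  · exact absurd h1 (by decide)

theorem k1_check : ∀ q < 24, orbitOK 5 q = true →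
    ((rootK0 :: codesK0).all fun m => mapsInto (wComp q ((uT 5 q).getD 5 0)) m m ||
      disjImage (wComp q ((uT 5 q).getD 5 0)) m) = true := by
  decide +kernel

theorem fix_octO_disjoint {g : Equiv.Perm GolayPt} (hg : g ∈ fixM24 (setOf octO))
    {o₁ : Finset GolayPt} (ho₁ : o₁ ∈ octads) (hd : Disjoint (setOf octO) o₁) :
    g • o₁ = o₁ ∨ Disjoint (g • o₁) o₁ := by
  obtain ⟨q, hq, hok, rfl⟩ := eq_octStabElem_of_mem hg
  obtain ⟨m, hm, rfl⟩ := mem_list30 ho₁ hd
  have h1 := List.all_eq_true.mp (k1_check q hq hok) m hm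
  rw [Bool.or_eq_true] at h1
  rcases h1 with h1 | h1
  · left
    exact smul_setOf_eq_of_mapsInto (matches_octStabElem q) h1 le_rfl
  · right
    exact disjImage_sound (matches_octStabElem q) h1

/-- An element fixing an octad `o` pointwise maps an octad disjoint from `o` to itself or to an
octad disjoint from it. -/
theorem fix_octad_disjoint {o : Finset GolayPt} (ho : o ∈ octads) {g : Equiv.Perm GolayPt}
    (hg : g ∈ fixM24 o) {o₁ : Finset GolayPt} (ho₁ : o₁ ∈ octads) (hd : Disjoint o o₁) :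
    g • o₁ = o₁ ∨ Disjoint (g • o₁) o₁ := by
  obtain ⟨σ, hσM, hσ⟩ := exists_perm_to_octO ho
  have h1 : σ * g * σ⁻¹ ∈ fixM24 (setOf octO) := by
    rw [← hσ, conj_mem_fixM24 hσM]
    have : σ⁻¹ * (σ * g * σ⁻¹) * σ = g := by group
    rw [this]
    exact hg
  have h2 := fix_octO_disjoint h1 (smul_mem_octads hσM ho₁)
    (by rw [← hσ, smul_disjoint_iff]; exact hd)
  have e : (σ * g * σ⁻¹) • σ • o₁ = σ • g • o₁ := by
    rw [mul_smul, mul_smul, inv_smul_smul]
  rw [e] at h2
  rcases h2 with h2 | h2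
  · left
    exact smul_left_cancel σ h2
  · right
    rwa [smul_disjoint_iff] at h2

/-! ### Separation -/

/-- Boolean form of the separation check. -/
def sepOK (a b c : ℕ) : Bool :=
  octO.testBit a || octO.testBit b || octO.testBit c || a == c || b == c ||
    ((rootK0 :: codesK0).any fun m => m.testBit a && m.testBit b && !m.testBit c)

theorem sep_check_aux : ((List.range 24).all fun a => (List.range 24).all fun b =>
    (List.range 24).all fun c => sepOK a b c) = true := by
  decide +kernel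

theorem sep_check : ∀ a < 24, ∀ b < 24, ∀ c < 24, octO.testBit a = false → octO.testBit b = false →
    octO.testBit c = false → a ≠ c → b ≠ c →
    ((rootK0 :: codesK0).any fun m => m.testBit a && m.testBit b && !m.testBit c) = true := by
  intro a ha b hb c hc h1 h2 h3 h4 h5
  have h := sep_check_aux
  simp only [List.all_eq_true, List.mem_range] at h
  have := h a ha b hb c hc
  unfold sepOK at this
  simp only [h1, h2, h3, Bool.false_or, Bool.or_eq_true, beq_iff_eq] at this
  rcases this with (h6 | h6) | h6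
  · exact absurd h6 h4
  · exact absurd h6 h5
  · exact h6

theorem sep_octO {p₀ p p' : GolayPt} (h₀ : p₀ ∉ setOf octO) (h : p ∉ setOf octO)
    (h' : p' ∉ setOf octO) (h₀' : p₀ ≠ p') (hpp' : p ≠ p') :
    ∃ o₁ ∈ octads, Disjoint (setOf octO) o₁ ∧ p₀ ∈ o₁ ∧ p ∈ o₁ ∧ p' ∉ o₁ := by
  rw [mem_setOf, Bool.not_eq_true] at h₀ h h'
  have hc := sep_check (idx p₀) (idx_lt _) (idx p) (idx_lt _) (idx p') (idx_lt _) h₀ h h'
    (fun e => h₀' (idx_injective e)) (fun e => hpp' (idx_injective e))
  rw [List.any_eq_true] at hc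
  obtain ⟨m, hm, hb⟩ := hc
  simp only [Bool.and_eq_true, Bool.not_eq_eq_eq_not, Bool.not_true] at hb
  obtain ⟨ho, hd, _⟩ := list30_props hm
  refine ⟨setOf m, ho, hd, mem_setOf.mpr hb.1.1, mem_setOf.mpr hb.1.2, ?_⟩
  rw [mem_setOf, hb.2]
  decide

/-- Octads disjoint from `o` separate the points outside `o`. -/
theorem sep_octad {o : Finset GolayPt} (ho : o ∈ octads) {p₀ p p' : GolayPt} (h₀ : p₀ ∉ o)
    (h : p ∉ o) (h' : p' ∉ o) (h₀' : p₀ ≠ p') (hpp' : p ≠ p') :
    ∃ o₁ ∈ octads, Disjoint o o₁ ∧ p₀ ∈ o₁ ∧ p ∈ o₁ ∧ p' ∉ o₁ := by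
  obtain ⟨σ, hσM, hσ⟩ := exists_perm_to_octO ho
  have hout : ∀ {x : GolayPt}, x ∉ o → σ x ∉ setOf octO := by
    intro x hx
    rw [← hσ, apply_mem_perm_smul_finset]
    exact hx
  obtain ⟨o₁, ho₁, hd, m₀, m, m'⟩ := sep_octO (hout h₀) (hout h) (hout h')
    (fun e => h₀' (σ.injective e)) (fun e => hpp' (σ.injective e))
  refine ⟨σ⁻¹ • o₁, smul_mem_octads (inv_mem hσM) ho₁, ?_, ?_, ?_, ?_⟩
  · rw [← smul_disjoint_iff σ, hσ, smul_inv_smul]
    exact hd
  · rw [← apply_mem_perm_smul_finset σ, smul_inv_smul]; exact m₀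
  · rw [← apply_mem_perm_smul_finset σ, smul_inv_smul]; exact m
  · rw [← apply_mem_perm_smul_finset σ, smul_inv_smul]; exact m'

/-! ### Intersections of octads -/

theorem octad_inter_cases {o o' : Finset GolayPt} (ho : o ∈ octads) (ho' : o' ∈ octads) :
    (o ∩ o').card = 0 ∨ (o ∩ o').card = 4 ∨ (o ∩ o').card = 2 ∨ o = o' := by
  obtain ⟨σ, hσM, hσ⟩ := exists_perm_to_octO ho
  obtain ⟨c, hc, h8, hceq⟩ := exists_enc_of_mem_octads (smul_mem_octads hσM ho')
  have hcard : (o ∩ o').card = pc (enc c &&& octO) := by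
    rw [← card_inter_setOf, ← hceq, ← hσ, Finset.inter_comm, ← smul_inter_finset,
      card_perm_smul_finset]
  rcases octO_inter_cases c hc h8 with h0 | h0 | h0 | h0
  · left; rw [hcard, h0]
  · right; left; rw [hcard, h0]
  · right; right; left; rw [hcard, h0]
  · right; right; right
    rw [h0, ← hσ] at hceq
    exact (smul_left_cancel σ hceq).symm

end Cfsg.Agent.Lib.Helper93
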