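import Cfsg.Agent.Lib.Helper92.M23Aut
import Cfsg.Agent.Lib.Helper93.OctadTrioBase

/-!
# Subgroups of `M22` of index 22 fix a point; basic facts on `M22` acting on 22 points
-/

set_option autoImplicit false

namespace Cfsg.Agent.Lib.Helper93.M22Index
open Cfsg Cfsg.Agent.Lib.Helper7 Cfsg.Agent.Lib.Helper93 Cfsg.Agent.Lib.Helper92.PermCount
  Cfsg.Agent.Lib.Helper92.M24Index Cfsg.Agent.Lib.Helper92.M24Aut Cfsg.Agent.Lib.Helper92.AutPerm
open scoped Pointwise

/-- A subgroup of `M24` fixing five points has order at most 48. -/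
theorem card_le_of_fixesAll_five {J : Subgroup (Equiv.Perm GolayPt)} (hJ : J ≤ M24)
    {S : Finset GolayPt} (hS : 5 ≤ S.card) (hfix : FixesAll J S) : Nat.card J ≤ 48 := by
  obtain ⟨x, hx⟩ := exists_emb_of_five_le_card hS
  obtain ⟨h, hh, hmap⟩ := exists_map_emb_to_base (le_refl 5) x
  have hmem : ∀ g ∈ J, h * g * h⁻¹ ∈ Gst 5 := by
    intro g hg
    rw [mem_Gst]
    refine ⟨M24.mul_mem (M24.mul_mem hh (hJ hg)) (M24.inv_mem hh), ?_⟩
    intro j hj
    have h0 := hmap ⟨j, hj⟩
    have h1 : h⁻¹ (bp j) = x ⟨j, hj⟩ := by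
      rw [Equiv.Perm.inv_eq_iff_eq]; exact h0.symm
    rw [Equiv.Perm.mul_apply, Equiv.Perm.mul_apply, h1, hfix g hg _ (hx _), h0]
  rw [← card_Gst_5]
  apply Nat.card_le_card_of_injective (fun g : J => (⟨h * g * h⁻¹, hmem g g.2⟩ : Gst 5))
  intro g g' hgg
  have h1 : h * (g : Equiv.Perm GolayPt) * h⁻¹ = h * (g' : Equiv.Perm GolayPt) * h⁻¹ :=
    congrArg Subtype.val hgg
  apply Subtype.ext
  have h2 : (g : Equiv.Perm GolayPt) = h⁻¹ * (h * g * h⁻¹) * h := by group
  rw [h2, h1]; group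

/-- A subgroup of a two-point stabilizer of `M24` of the order of `M21` fixes a third point. -/
theorem exists_fixed_of_card_20160 {J : Subgroup (Equiv.Perm GolayPt)} (hJ : J ≤ M24)
    {a b : GolayPt} (hab : a ≠ b) (hx : FixesAll J {a, b}) (hcard : Nat.card J = 20160) :
    ∃ y, y ∉ ({a, b} : Finset GolayPt) ∧ ∀ g ∈ J, g y = y := by
  have : Fact (Nat.Prime 7) := ⟨by norm_num⟩
  have : Fact (Nat.Prime 5) := ⟨by norm_num⟩
  have hS2 : ({a, b} : Finset GolayPt).card = 2 := Finset.card_pair hab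
  obtain ⟨u, huJ, hu⟩ := exists_orderOf_eq_prime J 7 (by rw [hcard]; norm_num)
  obtain ⟨f, hfJ, hf⟩ := exists_orderOf_eq_prime J 5 (by rw [hcard]; norm_num)
  obtain ⟨w, hw, hfixu⟩ := exists_fixPts_eq_insert (hx.subset_fixPts huJ)
    (by rw [card_fixPts_7 (hJ huJ) hu, hS2])
  have hmod7 := card_orb_mod_of_insert hx huJ hu hw hfixu
  have hle := hx.card_orb_le hw
  rw [hS2] at hle
  have hmul := card_eq_orb_mul J w
  rw [hcard] at hmul
  have hpos := card_orb_pos J w
  have hmod5 := card_orb_mod hfJ hf w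
  have hf2 : (fixIn f (orb J w)).card ≤ 2 := by
    have hsub : fixIn f (orb J w) ⊆ fixPts f \ {a, b} := by
      intro q hq
      rw [mem_fixIn] at hq
      rw [Finset.mem_sdiff]
      exact ⟨mem_fixPts.mpr hq.2, hx.not_mem_orb hw hq.1⟩
    have h1 := Finset.card_le_card hsub
    rw [Finset.card_sdiff_of_subset (hx.subset_fixPts hfJ), card_fixPts_5 (hJ hfJ) hf, hS2] at h1
    exact h1
  have hcases : (orb J w).card = 1 ∨ (orb J w).card = 15 := by
    have h22 : (orb J w).card ≠ 22 := by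
      intro h; rw [h] at hmul; omega
    have h8 : (orb J w).card ≠ 8 := by
      intro h; rw [h] at hmod5; omega
    omega
  rcases hcases with h1 | h15
  · exact ⟨w, hw, fixes_of_card_orb_eq_one h1⟩
  · exfalso
    have hdisj : Disjoint (orb J w) {a, b} :=
      Finset.disjoint_left.mpr (fun q hq => hx.not_mem_orb hw hq)
    set B' : Finset GolayPt := (orb J w ∪ {a, b})ᶜ with hB'
    have hB'card : B'.card = 7 := by
      rw [hB', Finset.card_compl, Finset.card_union_of_disjoint hdisj, h15, hS2]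
      decide
    have hinv : ∀ g ∈ J, ∀ q ∈ B', g q ∈ B' := by
      intro g hg q hq
      rw [hB', Finset.mem_compl, Finset.mem_union, not_or] at hq ⊢
      refine ⟨fun h => hq.1 ((apply_mem_orb_iff hg q).mp h), fun h => hq.2 ?_⟩
      have h1 : g⁻¹ (g q) = g q := hx g⁻¹ (J.inv_mem hg) _ h
      have h2 : g⁻¹ (g q) = q := by simp
      rw [h2] at h1
      rw [h1]; exact h
    have hnotab : ∀ q ∈ B', q ∉ ({a, b} : Finset GolayPt) := by
      intro q hq
      rw [hB', Finset.mem_compl, Finset.mem_union, not_or] at hq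
      exact hq.2
    obtain ⟨T, hTB, hT3⟩ := Finset.exists_subset_card_eq (s := B') (n := 3)
      (by rw [hB'card]; norm_num)
    obtain ⟨x1, x2, x3, h12, h13, h23, rfl⟩ := Finset.card_eq_three.mp hT3
    have hx1 : x1 ∈ B' := hTB (by simp)
    have hx2 : x2 ∈ B' := hTB (by simp)
    have hx3 : x3 ∈ B' := hTB (by simp)
    have hm1 := card_eq_orb_mul J x1
    have hm2 := card_eq_orb_mul (J ⊓ MulAction.stabilizer (Equiv.Perm GolayPt) x1) x2
    have hm3 := card_eq_orb_mul ((J ⊓ MulAction.stabilizer (Equiv.Perm GolayPt) x1) ⊓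
      MulAction.stabilizer (Equiv.Perm GolayPt) x2) x3
    have ho1 : (orb J x1).card ≤ 7 := hB'card ▸ Finset.card_le_card (orb_subset hx1 hinv)
    have ho2 : (orb (J ⊓ MulAction.stabilizer (Equiv.Perm GolayPt) x1) x2).card ≤ 7 :=
      hB'card ▸ Finset.card_le_card (orb_subset hx2 (fun g hg => hinv g hg.1))
    have ho3 : (orb ((J ⊓ MulAction.stabilizer (Equiv.Perm GolayPt) x1) ⊓
        MulAction.stabilizer (Equiv.Perm GolayPt) x2) x3).card ≤ 7 :=
      hB'card ▸ Finset.card_le_card (orb_subset hx3 (fun g hg => hinv g hg.1.1))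
    have hf3 := ((hx.inf_stabilizer x1).inf_stabilizer x2).inf_stabilizer x3
    have hc5 : 5 ≤ (insert x3 (insert x2 (insert x1 ({a, b} : Finset GolayPt)))).card := by
      rw [Finset.card_insert_of_notMem, Finset.card_insert_of_notMem,
        Finset.card_insert_of_notMem (hnotab x1 hx1), hS2]
      · rw [Finset.mem_insert, not_or]
        exact ⟨fun h => h12 h.symm, hnotab x2 hx2⟩
      · rw [Finset.mem_insert, Finset.mem_insert, not_or, not_or]
        exact ⟨fun h => h23 h.symm, fun h => h13 h.symm, hnotab x3 hx3⟩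
    have h48 := card_le_of_fixesAll_five
      (inf_le_left.trans (inf_le_left.trans (inf_le_left.trans hJ))) hc5 hf3
    have : Nat.card J ≤ 7 * (7 * (7 * 48)) := by
      rw [hm1, hm2, hm3]
      exact Nat.mul_le_mul ho1 (Nat.mul_le_mul ho2 (Nat.mul_le_mul ho3 h48))
    omega

end Cfsg.Agent.Lib.Helper93.M22Index
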