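import Mathlib
import Cfsg.Agent.Lib.Helper93.M24Extra
import Cfsg.Agent.Lib.Helper7.M24OctStab

/-!
# Five and six points in `M24` (helper93)

The pointwise stabilizer of five points has order 48; it is transitive on the three remaining points
of the octad through them and (already its subgroup fixing the octad pointwise) on the sixteen points
outside that octad.
-/

set_option autoImplicit false

namespace Cfsg.Agent.Lib.Helper93

open Cfsg Cfsg.Agent.Lib.Helper7
open scoped Pointwise

/-- The first five base points `∞, 0, 1, 2, 3`. -/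
def B5 : Finset GolayPt := setOf base5Mask

theorem mem_B5_iff (p : GolayPt) : p ∈ B5 ↔ ∃ j < 5, p = bp j := by
  constructor
  · intro hp
    rw [B5, mem_setOf] at hp
    obtain ⟨j, hj, hjq⟩ := mem_base5 (idx p) (idx_lt p) hp
    refine ⟨j, hj, ?_⟩
    unfold bp
    rw [hjq, pt_idx]
  · rintro ⟨j, hj, rfl⟩
    have : ∀ j < 5, bp j ∈ B5 := by decide
    exact this j hj

theorem card_B5 : B5.card = 5 := by
  rw [B5, card_setOf]; decide

theorem B5_subset_octO : B5 ⊆ setOf octO := by
  intro p hp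
  obtain ⟨j, hj, rfl⟩ := (mem_B5_iff p).mp hp
  exact bp_mem_setOf_octO (by omega) (by omega)

theorem fixM24_B5_eq : fixM24 B5 = Gst 5 := by
  ext g
  rw [mem_fixM24, mem_Gst]
  constructor
  · rintro ⟨hg, hfix⟩
    exact ⟨hg, fun j hj => hfix _ ((mem_B5_iff _).mpr ⟨j, hj, rfl⟩)⟩
  · rintro ⟨hg, hfix⟩
    refine ⟨hg, fun p hp => ?_⟩
    obtain ⟨j, hj, rfl⟩ := (mem_B5_iff p).mp hp
    exact hfix j hj

theorem card_fixM24_B5 : Nat.card (fixM24 B5) = 48 := by
  rw [fixM24_B5_eq]; exact card_Gst_5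

/-- Any five points can be moved onto the base points by an element of `M24`. -/
theorem exists_map_to_B5 (s : Finset GolayPt) (hs : s.card = 5) : ∃ z ∈ M24, z • s = B5 := by
  have hl : s.toList.Nodup := s.nodup_toList
  have hlen : s.toList.length = 5 := by rw [Finset.length_toList, hs]
  obtain ⟨z, hz, hzl⟩ := exists_map_to_base 5 le_rfl (fun j => s.toList.getD j none) (by
    intro a ha b hb hab
    rw [List.getD_eq_getElem _ _ (by omega), List.getD_eq_getElem _ _ (by omega)] at hab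
    exact (hl.getElem_inj_iff).mp hab)
  refine ⟨z, hz, ?_⟩
  apply Finset.eq_of_subset_of_card_le
  · intro q hq
    rw [Finset.mem_smul_finset] at hq
    obtain ⟨p, hp, rfl⟩ := hq
    obtain ⟨i, hi, hpi⟩ := List.getElem_of_mem (Finset.mem_toList.mpr hp)
    have h1 := hzl i (by omega)
    simp only [List.getD_eq_getElem _ _ hi, hpi] at h1
    rw [Equiv.Perm.smul_def, h1]
    exact (mem_B5_iff _).mpr ⟨i, by omega, rfl⟩
  · rw [card_B5, Finset.card_smul_finset, hs]

/-- The pointwise stabilizer of five points has order 48. -/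
theorem card_fixM24_five (s : Finset GolayPt) (hs : s.card = 5) : Nat.card (fixM24 s) = 48 := by
  obtain ⟨z, hz, hzs⟩ := exists_map_to_B5 s hs
  rw [← Nat.card_congr (fixM24ConjEquiv hz s), hzs, card_fixM24_B5]

theorem fixM24_mono {s t : Finset GolayPt} (h : s ⊆ t) : fixM24 t ≤ fixM24 s := by
  intro g hg
  rw [mem_fixM24] at hg ⊢
  exact ⟨hg.1, fun p hp => hg.2 p (h hp)⟩

/-- Base case: the pointwise stabilizer of `octO` is transitive on the points outside. -/
theorem exists_fix_octO_outside {a b : GolayPt} (ha : a ∉ setOf octO) (hb : b ∉ setOf octO) :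
    ∃ g ∈ fixM24 (setOf octO), g a = b := by
  rw [mem_setOf, Bool.not_eq_true] at ha hb
  obtain ⟨ha1, ha2, _⟩ := octStabElem_spec (idx_lt a) (orbitOK_5 _ (idx_lt a) ha)
  obtain ⟨hb1, hb2, _⟩ := octStabElem_spec (idx_lt b) (orbitOK_5 _ (idx_lt b) hb)
  rw [pt_idx] at ha2 hb2
  refine ⟨(octStabElem (idx b))⁻¹ * octStabElem (idx a),
    (fixM24 _).mul_mem ((fixM24 _).inv_mem hb1) ha1, ?_⟩
  rw [Equiv.Perm.mul_apply, ha2, ← hb2]
  simp

/-- The pointwise stabilizer of an octad is transitive on the sixteen points outside it. -/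
theorem exists_fix_octad_outside {o : Finset GolayPt} (ho : o ∈ octads) {a b : GolayPt}
    (ha : a ∉ o) (hb : b ∉ o) : ∃ g ∈ fixM24 o, g a = b := by
  obtain ⟨σ, hσ⟩ := exists_M24_smul_octad (setOf_mem_octads isOctadMask_octO) ho
  rw [M24_smul_finset_def] at hσ
  subst hσ
  have ha' : (σ : Equiv.Perm GolayPt)⁻¹ a ∉ setOf octO := by
    intro h
    apply ha
    rw [mem_perm_smul_finset]
    exact h
  have hb' : (σ : Equiv.Perm GolayPt)⁻¹ b ∉ setOf octO := by
    intro h
    apply hb
    rw [mem_perm_smul_finset]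
    exact h
  obtain ⟨g, hg, hgab⟩ := exists_fix_octO_outside ha' hb'
  refine ⟨(σ : Equiv.Perm GolayPt) * g * (σ : Equiv.Perm GolayPt)⁻¹, ?_, ?_⟩
  · rw [conj_mem_fixM24 σ.2]
    have : (σ : Equiv.Perm GolayPt)⁻¹ * ((σ : Equiv.Perm GolayPt) * g * (σ : Equiv.Perm GolayPt)⁻¹) *
        (σ : Equiv.Perm GolayPt) = g := by group
    rw [this]; exact hg
  · rw [Equiv.Perm.mul_apply, Equiv.Perm.mul_apply, hgab]
    simp

/-- Base case: the stabilizer of the five base points is transitive on the other three points of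
`octO`. -/
theorem exists_fix_B5_inside {a b : GolayPt} (ha : a ∈ setOf octO) (ha' : a ∉ B5)
    (hb : b ∈ setOf octO) (hb' : b ∉ B5) : ∃ g ∈ fixM24 B5, g a = b := by
  have key : ∀ c : GolayPt, c ∈ setOf octO → c ∉ B5 →
      ∃ u ∈ M24, (∀ j < 6, u (bp j) = bp j) ∧ u c = bp 6 := by
    intro c hc hc'
    rw [mem_setOf] at hc
    have hne : ∀ j < 5, baseL.getD j 0 ≠ idx c := by
      intro j hj h
      apply hc'
      refine (mem_B5_iff c).mpr ⟨j, hj, ?_⟩
      unfold bp
      rw [h, pt_idx]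
    obtain ⟨u, hu, hufix, huc⟩ := exists_chain_elem (i := 6) (by decide) (idx_lt c)
      (orbitOK_6 _ (idx_lt c) hc hne)
    rw [pt_idx] at huc
    exact ⟨u, genH_le_M24 hu, hufix, huc⟩
  obtain ⟨ua, hua, hafix, hac⟩ := key a ha ha'
  obtain ⟨ub, hub, hbfix, hbc⟩ := key b hb hb'
  have hmem : ∀ u ∈ M24, (∀ j < 6, u (bp j) = bp j) → u ∈ fixM24 B5 := by
    intro u hu hfix
    rw [mem_fixM24]
    refine ⟨hu, fun p hp => ?_⟩
    obtain ⟨j, hj, rfl⟩ := (mem_B5_iff p).mp hp
    exact hfix j (by omega)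
  refine ⟨ub⁻¹ * ua, (fixM24 _).mul_mem ((fixM24 _).inv_mem (hmem ub hub hbfix)) (hmem ua hua hafix), ?_⟩
  rw [Equiv.Perm.mul_apply, hac, ← hbc]
  simp

/-- An element fixing five points of an octad preserves the octad. -/
theorem smul_octad_of_mem_fixM24 {o s : Finset GolayPt} (ho : o ∈ octads) (hso : s ⊆ o)
    (hs : s.card = 5) {g : Equiv.Perm GolayPt} (hg : g ∈ fixM24 s) : g • o = o := by
  rw [mem_fixM24] at hg
  exact smul_octad_eq_of_fixes hg.1 ho hso (by omega) hg.2

/-- The stabilizer of five points of an octad is transitive on its other three points. -/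
theorem exists_fix_five_inside {o s : Finset GolayPt} (ho : o ∈ octads) (hso : s ⊆ o)
    (hs : s.card = 5) {a b : GolayPt} (ha : a ∈ o) (ha' : a ∉ s) (hb : b ∈ o) (hb' : b ∉ s) :
    ∃ g ∈ fixM24 s, g a = b := by
  obtain ⟨z, hz, hzs⟩ := exists_map_to_B5 s hs
  have hzo : z • o = setOf octO := by
    apply octad_eq_of_five (smul_mem_octads hz ho) (setOf_mem_octads isOctadMask_octO)
    have hsub : B5 ⊆ z • o ∩ setOf octO := by
      intro p hp
      rw [Finset.mem_inter]
      refine ⟨?_, B5_subset_octO hp⟩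
      rw [← hzs] at hp
      exact Finset.smul_finset_subset_smul_finset hso hp
    calc 5 = B5.card := card_B5.symm
      _ ≤ _ := Finset.card_le_card hsub
  have hmem : ∀ c : GolayPt, c ∈ o → c ∉ s → z c ∈ setOf octO ∧ z c ∉ B5 := by
    intro c hc hc'
    constructor
    · rw [← hzo]
      exact (apply_mem_perm_smul_finset z o c).mpr hc
    · rw [← hzs]
      intro h
      exact hc' ((apply_mem_perm_smul_finset z s c).mp h)
  obtain ⟨g, hg, hgab⟩ := exists_fix_B5_inside (hmem a ha ha').1 (hmem a ha ha').2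
    (hmem b hb hb').1 (hmem b hb hb').2
  refine ⟨z⁻¹ * g * z, ?_, ?_⟩
  · rw [← hzs] at hg
    exact (conj_mem_fixM24 hz s).mp hg
  · rw [Equiv.Perm.mul_apply, Equiv.Perm.mul_apply, hgab]
    simp

end Cfsg.Agent.Lib.Helper93
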