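import Mathlib
import Cfsg.Agent.Lib.Helper93.M24Six

/-!
# Six-point sets in `M24` (helper93)

Pointwise stabilizers of 6-sets (order 16 inside an octad, order 3 otherwise) and the fact that
`M24` induces the full symmetric group on every 6-set.
-/

set_option autoImplicit false

namespace Cfsg.Agent.Lib.Helper93

open Cfsg Cfsg.Agent.Lib.Helper7
open scoped Pointwise

theorem exists_octad_of_five (s : Finset GolayPt) (hs : s.card = 5) : ∃ o ∈ octads, s ⊆ o := by
  obtain ⟨o, ⟨ho, hso⟩, _⟩ := octads_steiner.2 s hs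
  exact ⟨o, ho, hso⟩

theorem octad_unique_of_five {s o o' : Finset GolayPt} (hs : s.card = 5) (ho : o ∈ octads)
    (ho' : o' ∈ octads) (hso : s ⊆ o) (hso' : s ⊆ o') : o = o' := by
  apply octad_eq_of_five ho ho'
  calc 5 = s.card := hs.symm
    _ ≤ _ := Finset.card_le_card (Finset.subset_inter hso hso')

theorem card_octad {o : Finset GolayPt} (ho : o ∈ octads) : o.card = 8 := ho.2

/-- A 6-set inside an octad has pointwise stabilizer of order 16. -/
theorem card_fixM24_six_inside {o E : Finset GolayPt} (ho : o ∈ octads) (hE : E.card = 6)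
    (hEo : E ⊆ o) : Nat.card (fixM24 E) = 16 := by
  obtain ⟨r, hr⟩ : E.Nonempty := by rw [← Finset.card_pos]; omega
  have hs : (E.erase r).card = 5 := by rw [Finset.card_erase_of_mem hr, hE]
  have hsE : E.erase r ⊆ E := Finset.erase_subset _ _
  have h16 := (fixM24_octad ho).1
  have h48 := card_fixM24_five _ hs
  have d1 : 16 ∣ Nat.card (fixM24 E) := h16 ▸ Subgroup.card_dvd_of_le (fixM24_mono hEo)
  have d2 : Nat.card (fixM24 E) ∣ 48 := h48 ▸ Subgroup.card_dvd_of_le (fixM24_mono hsE)
  have hne : Nat.card (fixM24 E) ≠ 48 := by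
    intro h
    have heq : fixM24 E = fixM24 (E.erase r) :=
      Subgroup.eq_of_le_of_card_ge (fixM24_mono hsE) (by rw [h, h48])
    -- a point of the octad outside `E`
    obtain ⟨r', hr'o, hr'E⟩ : ∃ r' ∈ o, r' ∉ E := by
      apply Finset.exists_mem_notMem_of_card_lt_card
      rw [card_octad ho, hE]; decide
    obtain ⟨g, hg, hgr⟩ := exists_fix_five_inside ho (hsE.trans hEo) hs (hEo hr)
      (Finset.notMem_erase r E) hr'o (fun h => hr'E (hsE h))
    rw [← heq, mem_fixM24] at hg
    rw [hg.2 r hr] at hgr
    exact hr'E (hgr ▸ hr)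
  obtain ⟨k, hk⟩ := d1
  rw [hk] at d2 hne ⊢
  have hk3 : k ∣ 3 := by
    have : 16 * k ∣ 16 * 3 := d2
    exact Nat.dvd_of_mul_dvd_mul_left (by decide) this
  rcases (Nat.dvd_prime Nat.prime_three).mp hk3 with rfl | rfl
  · rfl
  · exact absurd rfl hne

/-- A 6-set not contained in the octad through five of its points has pointwise stabilizer of
order 3. -/
theorem card_fixM24_six_outside {o s : Finset GolayPt} (ho : o ∈ octads) (hs : s.card = 5)
    (hso : s ⊆ o) {r : GolayPt} (hr : r ∉ o) : Nat.card (fixM24 (insert r s)) = 3 := by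
  have h48 := card_fixM24_five s hs
  have h := card_eq_card_mul_card_inf_stabilizer (fixM24 s) r (Finset.univ \ o)
    (by
      intro g hg
      have hgo := smul_octad_of_mem_fixM24 ho hso hs hg
      rw [Finset.mem_sdiff]
      refine ⟨Finset.mem_univ _, fun h => hr ?_⟩
      rw [← hgo] at h
      exact (apply_mem_perm_smul_finset g o r).mp h)
    (by
      intro q hq
      rw [Finset.mem_sdiff] at hq
      obtain ⟨u, hu, huq⟩ := exists_fix_octad_outside ho hq.2 hr
      exact ⟨u, fixM24_mono hso hu, huq⟩)
  have hcard : (Finset.univ \ o).card = 16 := by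
    rw [Finset.card_sdiff_of_subset (Finset.subset_univ _), Finset.card_univ, card_octad ho]
    decide
  have heq : fixM24 s ⊓ MulAction.stabilizer (Equiv.Perm GolayPt) r = fixM24 (insert r s) := by
    ext g
    rw [Subgroup.mem_inf, mem_fixM24, mem_fixM24, MulAction.mem_stabilizer_iff]
    constructor
    · rintro ⟨⟨hg, hfix⟩, hgr⟩
      refine ⟨hg, fun p hp => ?_⟩
      rw [Finset.mem_insert] at hp
      rcases hp with rfl | hp
      · exact hgr
      · exact hfix p hp
    · rintro ⟨hg, hfix⟩
      exact ⟨⟨hg, fun p hp => hfix p (Finset.mem_insert_of_mem hp)⟩,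
        hfix r (Finset.mem_insert_self r s)⟩
  rw [heq, h48, hcard] at h
  omega

/-- `M24` induces every permutation on every 6-set. -/
theorem exists_M24_extend_six (E : Finset GolayPt) (hE : E.card = 6) (σ : Equiv.Perm ↥E) :
    ∃ g ∈ M24, ∀ p : ↥E, g p = σ p := by
  classical
  obtain ⟨r, hr⟩ : E.Nonempty := by rw [← Finset.card_pos]; omega
  set s := E.erase r with hsdef
  have hs : s.card = 5 := by rw [Finset.card_erase_of_mem hr, hE]
  have hsE : s ⊆ E := Finset.erase_subset _ _
  have hrs : r ∉ s := Finset.notMem_erase r E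
  -- the permutation as a function on points
  set f : GolayPt → GolayPt := fun p => if h : p ∈ E then ((σ ⟨p, h⟩ : ↥E) : GolayPt) else p with hf
  have hfE : ∀ p (hp : p ∈ E), f p = ((σ ⟨p, hp⟩ : ↥E) : GolayPt) := fun p hp => by
    simp only [hf, hp, dif_pos]
  have hfmem : ∀ p ∈ E, f p ∈ E := fun p hp => by rw [hfE p hp]; exact (σ ⟨p, hp⟩).2
  have hfinj : ∀ p ∈ E, ∀ q ∈ E, f p = f q → p = q := by
    intro p hp q hq h
    rw [hfE p hp, hfE q hq] at h
    have := σ.injective (Subtype.ext h)
    exact congrArg Subtype.val this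
  -- map five points by 5-transitivity
  have hl : s.toList.Nodup := s.nodup_toList
  have hlen : s.toList.length = 5 := by rw [Finset.length_toList, hs]
  have hl' : (s.toList.map f).Nodup := by
    apply List.Nodup.map_on _ hl
    intro a ha b hb hab
    exact hfinj a (hsE (Finset.mem_toList.mp ha)) b (hsE (Finset.mem_toList.mp hb)) hab
  obtain ⟨g0, hg0, hg0l⟩ := exists_M24_map_list s.toList (s.toList.map f) hl hl'
    (by rw [List.length_map]) (by omega)
  have hg0s : ∀ p ∈ s, g0 p = f p := by
    intro p hp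
    obtain ⟨i, hi, hpi⟩ := List.getElem_of_mem (Finset.mem_toList.mpr hp)
    have h1 := hg0l i hi
    rw [List.getD_eq_getElem _ _ hi, List.getD_eq_getElem _ _ (by rw [List.length_map]; exact hi),
      List.getElem_map, hpi] at h1
    exact h1
  -- the image five-set
  set s' := s.image f with hs'def
  have hs' : s'.card = 5 := by
    rw [Finset.card_image_of_injOn, hs]
    intro a ha b hb hab
    exact hfinj a (hsE ha) b (hsE hb) hab
  have hs'E : s' ⊆ E := by
    intro q hq
    rw [Finset.mem_image] at hq
    obtain ⟨p, hp, rfl⟩ := hq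
    exact hfmem p (hsE hp)
  have hr's' : f r ∉ s' := by
    intro h
    rw [Finset.mem_image] at h
    obtain ⟨p, hp, hpr⟩ := h
    have := hfinj p (hsE hp) r hr hpr
    exact hrs (this ▸ hp)
  have hg0r : g0 r ∉ s' := by
    intro h
    rw [Finset.mem_image] at h
    obtain ⟨p, hp, hpr⟩ := h
    rw [← hg0s p hp] at hpr
    exact hrs (g0.injective hpr ▸ hp)
  have hEeq : E = insert (f r) s' := by
    symm
    apply Finset.eq_of_subset_of_card_le
    · intro q hq
      rw [Finset.mem_insert] at hq
      rcases hq with rfl | hq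
      · exact hfmem r hr
      · exact hs'E hq
    · rw [Finset.card_insert_of_notMem hr's', hs', hE]
  -- an element fixing `s'` pointwise and moving `g0 r` to `f r`
  have hu : ∃ u ∈ M24, (∀ q ∈ s', u q = q) ∧ u (g0 r) = f r := by
    obtain ⟨o, ho, hso⟩ := exists_octad_of_five s hs
    obtain ⟨o', ho', hso'⟩ := exists_octad_of_five s' hs'
    have hg0o : g0 • o = o' := by
      apply smul_octad_eq_of_maps hg0 ho ho' hso (by omega)
      intro p hp
      rw [hg0s p hp]
      exact hso' (Finset.mem_image_of_mem f hp)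
    by_cases hro : r ∈ o
    · -- `E` lies in the octad `o`
      have hEo : E ⊆ o := by
        intro p hp
        by_cases hpr : p = r
        · rw [hpr]; exact hro
        · exact hso (Finset.mem_erase.mpr ⟨hpr, hp⟩)
      have hoo' : o = o' := octad_unique_of_five hs' ho ho' (hs'E.trans hEo) hso'
      have h1 : g0 r ∈ o' := by
        rw [← hg0o]; exact (apply_mem_perm_smul_finset g0 o r).mpr hro
      have h2 : f r ∈ o' := by rw [← hoo']; exact hEo (hfmem r hr)
      obtain ⟨u, hu, hur⟩ := exists_fix_five_inside ho' hso' hs' h1 hg0r h2 hr's'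
      rw [mem_fixM24] at hu
      exact ⟨u, hu.1, hu.2, hur⟩
    · -- no octad contains `E`
      have h1 : g0 r ∉ o' := by
        rw [← hg0o]
        intro h
        exact hro ((apply_mem_perm_smul_finset g0 o r).mp h)
      have h2 : f r ∉ o' := by
        intro h
        -- then `E ⊆ o'`, so `g0⁻¹ • o'` ... contradiction via uniqueness
        have hEo' : E ⊆ o' := by
          rw [hEeq]
          intro q hq
          rw [Finset.mem_insert] at hq
          rcases hq with rfl | hq
          · exact h
          · exact hso' hq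
        have : o = o' := octad_unique_of_five hs ho ho' hso (hsE.trans hEo')
        exact hro (this ▸ hEo' hr)
      obtain ⟨u, hu, hur⟩ := exists_fix_octad_outside ho' h1 h2
      rw [mem_fixM24] at hu
      exact ⟨u, hu.1, fun q hq => hu.2 q (hso' hq), hur⟩
  obtain ⟨u, hu, hufix, hur⟩ := hu
  refine ⟨u * g0, M24.mul_mem hu hg0, ?_⟩
  intro p
  rw [Equiv.Perm.mul_apply, ← hfE p.1 p.2]
  by_cases hpr : (p : GolayPt) = r
  · rw [hpr, hur]
  · have hps : (p : GolayPt) ∈ s := Finset.mem_erase.mpr ⟨hpr, p.2⟩
    rw [hg0s _ hps]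
    exact hufix _ (Finset.mem_image_of_mem f hps)

end Cfsg.Agent.Lib.Helper93
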