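/-
helper93: project S2140 (helper99, minimal index of PSL_n(q)), modules S2140-[H1-N3EVEN] and S2140-[H1-N3ODD]:
the `H¹`-vanishing step in dimension `3`.
-/
import Mathlib
import Cfsg.Agent.Lib.Helper99.MinIdx.Defs

set_option autoImplicit false

namespace Cfsg.Agent.Lib.Helper93.MinIdx

open Module MulAction Cfsg.Agent.Lib.Helper99.MinIdx

variable {F : Type*} [Field F] {V : Type*} [AddCommGroup V] [Module F V]

/-- In dimension `3`: a vector `a` outside `F e` and a non-zero functional `ν` killing `e` and `a`;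
every functional killing `e` and `a` is a multiple of `ν`. -/
theorem exists_flag3 [FiniteDimensional F V] (hn : finrank F V = 3) {e : V} (he : e ≠ 0) :
    ∃ (a : V) (ν : Dual F V), a ∉ Submodule.span F {e} ∧ ν ≠ 0 ∧ ν e = 0 ∧ ν a = 0 ∧
      ∀ ψ : Dual F V, ψ e = 0 → ψ a = 0 → ∃ c : F, ψ = c • ν := by
  -- a vector outside `F e`
  obtain ⟨a, ha⟩ : ∃ a : V, a ∉ Submodule.span F {e} := by
    by_contra hcon
    rw [not_exists] at hcon
    have hcon : ∀ x : V, x ∈ Submodule.span F {e} := fun x => not_not.1 (hcon x)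
    have htop : Submodule.span F {e} = ⊤ := by
      rw [eq_top_iff]
      intro x _
      exact hcon x
    have h1 : finrank F (Submodule.span F {e}) = 1 := finrank_span_singleton he
    rw [htop, finrank_top, hn] at h1
    omega
  have hli : LinearIndependent F ![a, e] := by
    rw [linearIndependent_fin2]
    refine ⟨he, fun c hc => ?_⟩
    apply ha
    rw [Submodule.mem_span_singleton]
    exact ⟨c, hc⟩
  set W : Submodule F V := Submodule.span F (Set.range ![a, e]) with hW
  have haW : a ∈ W := Submodule.subset_span ⟨0, rfl⟩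
  have heW : e ∈ W := Submodule.subset_span ⟨1, rfl⟩
  have hWrank : finrank F W = 2 := by
    rw [hW, finrank_span_eq_card hli, Fintype.card_fin]
  have hArank : finrank F W.dualAnnihilator = 1 := by
    have := Subspace.finrank_add_finrank_dualAnnihilator_eq W
    omega
  obtain ⟨ν', hν'⟩ : ∃ x : W.dualAnnihilator, x ≠ 0 := by
    have hne : W.dualAnnihilator ≠ ⊥ := by
      intro hbot
      rw [hbot, finrank_bot] at hArank
      omega
    obtain ⟨b, hb, hb0⟩ := Submodule.exists_mem_ne_zero_of_ne_bot hne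
    refine ⟨⟨b, hb⟩, fun h => hb0 ?_⟩
    exact congrArg Subtype.val h
  have hν'mem := (Submodule.mem_dualAnnihilator ν'.1).1 ν'.2
  refine ⟨a, ν'.1, ha, ?_, hν'mem e heW, hν'mem a haW, ?_⟩
  · intro h0
    apply hν'
    exact Subtype.ext h0
  · intro ψ hψe hψa
    have hψ : ψ ∈ W.dualAnnihilator := by
      rw [Submodule.mem_dualAnnihilator]
      have hle : W ≤ LinearMap.ker ψ := by
        rw [hW, Submodule.span_le]
        rintro _ ⟨i, rfl⟩
        fin_cases i
        · exact hψa
        · exact hψe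
      intro w hw
      exact hle hw
    obtain ⟨c, hc⟩ := (finrank_eq_one_iff_of_nonzero' ν' hν').1 hArank ⟨ψ, hψ⟩
    refine ⟨c, ?_⟩
    have := congrArg Subtype.val hc
    exact this.symm

/-- `ρ 1 = 0` from the cocycle law -/
theorem rho_one {e : V} (ρ : SpecialLinearGroup F V → Dual F V)
    (hcoc : ∀ g g', g e = e → g' e = e → ∀ x, ρ (g * g') x = ρ g x + ρ g' (g⁻¹ x)) (x : V) :
    ρ 1 x = 0 := by
  have h := hcoc 1 1 rfl rfl x
  rw [mul_one, inv_one] at h
  have h1 : (1 : SpecialLinearGroup F V) x = x := rfl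
  rw [h1] at h
  exact left_eq_add.1 h

/-- [H1-N3EVEN] -/
theorem h1_three_even [FiniteDimensional F V] (hn : finrank F V = 3) (h2 : (2 : F) = 0)
    {e : V} (he : e ≠ 0)
    (ρ : SpecialLinearGroup F V → Dual F V) (hρe : ∀ g, g e = e → ρ g e = 0)
    (hcoc : ∀ g g', g e = e → g' e = e → ∀ x, ρ (g * g') x = ρ g x + ρ g' (g⁻¹ x)) :
    ∃ (a : V) (ν : Dual F V) (c : F), a ∉ Submodule.span F {e} ∧ ν ≠ 0 ∧ ν e = 0 ∧ ν a = 0 ∧
      ρ (tv a ν) = c • ν := by
  obtain ⟨a, ν, ha, hν, hνe, hνa, hspan⟩ := exists_flag3 hn he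
  have hge : tv a ν e = e := by
    rw [tv_apply hνa, hνe, zero_smul, add_zero]
  have hgg : tv a ν * tv a ν = 1 := by
    rw [tv_mul_same_right hνa hνa]
    have : a + a = 0 := by
      rw [← two_smul F a, h2, zero_smul]
    rw [this, tv_zero_left]
  have hginv : (tv a ν)⁻¹ = tv a ν := inv_eq_of_mul_eq_one_left hgg
  have hρa : ρ (tv a ν) a = 0 := by
    obtain ⟨x, hx⟩ : ∃ x, ν x ≠ 0 := by
      by_contra hall
      rw [not_exists] at hall
      apply hν
      ext x
      exact not_not.1 (hall x)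
    have h := hcoc (tv a ν) (tv a ν) hge hge x
    rw [hgg, rho_one ρ hcoc, hginv, tv_apply hνa, map_add, map_smul, smul_eq_mul] at h
    have h3 : ρ (tv a ν) x + ρ (tv a ν) x = 0 := by
      rw [← two_mul, h2, zero_mul]
    have h4 : ν x * ρ (tv a ν) a = 0 := by
      linear_combination -h - h3
    rcases mul_eq_zero.1 h4 with h5 | h5
    · exact absurd h5 hx
    · exact h5
  obtain ⟨c, hc⟩ := hspan (ρ (tv a ν)) (hρe _ hge) hρa
  exact ⟨a, ν, c, ha, hν, hνe, hνa, hc⟩

theorem sl_inv_apply_apply (z : SpecialLinearGroup F V) (x : V) : z⁻¹ (z x) = x := by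
  change (z⁻¹ * z) x = x
  rw [inv_mul_cancel]
  rfl

/-- [H1-N3ODD] -/
theorem h1_three_odd [FiniteDimensional F V] (hn : finrank F V = 3) (h2 : (2 : F) ≠ 0)
    {e : V} (he : e ≠ 0)
    (ρ : SpecialLinearGroup F V → Dual F V) (hρe : ∀ g, g e = e → ρ g e = 0)
    (hcoc : ∀ g g', g e = e → g' e = e → ∀ x, ρ (g * g') x = ρ g x + ρ g' (g⁻¹ x)) :
    ∃ (a : V) (ν : Dual F V) (c : F), a ∉ Submodule.span F {e} ∧ ν ≠ 0 ∧ ν e = 0 ∧ ν a = 0 ∧
      ρ (tv a ν) = c • ν := by
  obtain ⟨a, ν, ha, hν, hνe, hνa, hspan⟩ := exists_flag3 hn he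
  have hge : tv a ν e = e := by
    rw [tv_apply hνa, hνe, zero_smul, add_zero]
  -- a functional `ε` with `ε e = 1`, `ε a = 0`
  have hea : e ∉ Submodule.span F {a} := by
    intro hmem
    obtain ⟨c, hc⟩ := Submodule.mem_span_singleton.1 hmem
    have hc0 : c ≠ 0 := by
      rintro rfl
      rw [zero_smul] at hc
      exact he hc.symm
    apply ha
    rw [Submodule.mem_span_singleton]
    refine ⟨c⁻¹, ?_⟩
    rw [← hc, smul_smul, inv_mul_cancel₀ hc0, one_smul]
  obtain ⟨f, hfe, hf⟩ := Submodule.exists_dual_map_eq_bot_of_notMem hea inferInstance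
  have hfa : f a = 0 := by
    have hmem : f a ∈ (Submodule.span F {a}).map f :=
      Submodule.mem_map_of_mem (Submodule.mem_span_singleton_self a)
    rw [hf] at hmem
    exact (Submodule.mem_bot F).1 hmem
  set ε : Dual F V := (f e)⁻¹ • f with hε
  have hεe : ε e = 1 := by
    rw [hε, LinearMap.smul_apply, smul_eq_mul, inv_mul_cancel₀ hfe]
  have hεa : ε a = 0 := by
    rw [hε, LinearMap.smul_apply, hfa, smul_zero]
  -- the element `z`: `e ↦ e`, `x ↦ -x` on `ker ε`
  set zl : V →ₗ[F] V := (-1 : F) • LinearMap.transvection ((-2 : F) • ε) e with hzl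
  have hzl_apply : ∀ x, zl x = -x + (2 * ε x) • e := by
    intro x
    rw [hzl, LinearMap.smul_apply, LinearMap.transvection.apply, LinearMap.smul_apply, smul_eq_mul,
      smul_add, smul_smul]
    rw [neg_one_smul]
    congr 1
    congr 1
    ring
  have hdet : LinearMap.det zl = 1 := by
    rw [hzl, LinearMap.det_smul, LinearMap.transvection.det, hn, LinearMap.smul_apply, hεe]
    simp only [smul_eq_mul, mul_one]
    ring
  have hunit : IsUnit (LinearMap.det zl) := by
    rw [hdet]
    exact isUnit_one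
  set z : SpecialLinearGroup F V := ⟨LinearMap.equivOfIsUnitDet hunit, by
    rw [← Units.val_inj, LinearEquiv.coe_det, LinearMap.coe_equivOfIsUnitDet, hdet]
    rfl⟩ with hzdef
  have hz : ∀ x, z x = -x + (2 * ε x) • e := by
    intro x
    have : z x = zl x := LinearMap.equivOfIsUnitDet_apply hunit x
    rw [this, hzl_apply]
  have hze : z e = e := by
    rw [hz, hεe, mul_one, two_smul]
    abel
  have hza : z a = -a := by
    rw [hz, hεa, mul_zero, zero_smul, add_zero]
  have hzna : z (-a) = a := by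
    rw [hz, map_neg, hεa, neg_zero, mul_zero, zero_smul, add_zero, neg_neg]
  have hzinva : z⁻¹ a = -a := by
    have := sl_inv_apply_apply z (-a)
    rwa [hzna] at this
  have hνz : ∀ x, (-ν) (z x) = ν x := by
    intro x
    rw [hz, LinearMap.neg_apply, map_add, map_smul, hνe, smul_zero, add_zero, map_neg, neg_neg]
  -- `z` commutes with `g = tv a ν`
  have hconj : z * tv a ν * z⁻¹ = tv a ν := by
    rw [tv_conj z hνa hνz, hza]
    have h1 : tv (-a) (-ν) = tv ((-1 : F) • a) (-ν) := by rw [neg_one_smul]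
    rw [h1, tv_smul_left]
    have h3 : ((-1 : F) • (-ν) : Dual F V) = ν := by
      ext x
      simp
    rw [h3]
  have hcomm : z * tv a ν = tv a ν * z := by
    have := congrArg (fun w => w * z) hconj
    simpa [mul_assoc] using this
  have hginva : (tv a ν)⁻¹ a = a := by
    rw [tv_inv hνa, tv_apply (by simp [hνa] : (-ν) a = 0), LinearMap.neg_apply, hνa, neg_zero, zero_smul,
      add_zero]
  have k1 := hcoc z (tv a ν) hze hge a
  have k2 := hcoc (tv a ν) z hge hze a
  rw [hzinva, map_neg] at k1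
  rw [hginva] at k2
  rw [hcomm, k2] at k1
  have hρa : ρ (tv a ν) a = 0 := by
    have h3 : (2 : F) * ρ (tv a ν) a = 0 := by linear_combination k1
    rcases mul_eq_zero.1 h3 with h4 | h4
    · exact absurd h4 h2
    · exact h4
  obtain ⟨c, hc⟩ := hspan (ρ (tv a ν)) (hρe _ hge) hρa
  exact ⟨a, ν, c, ha, hν, hνe, hνa, hc⟩

end Cfsg.Agent.Lib.Helper93.MinIdx
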