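/-
helper93: project S2140 (helper99, minimal index of PSL_n(q)), module S2140-[ORBQ]: all orbits have the same size `c`.
-/
import Mathlib

set_option autoImplicit false

namespace Cfsg.Agent.Lib.Helper93.MinIdx

open MulAction

/-- Burnside's lemma when all non-identity elements have the same number `φ` of fixed points:
`#orbits * |Q| = N + (|Q| - 1) φ` (in `Nat.card` form). -/
theorem burnside_const {Q Ω : Type*} [Group Q] [Finite Q] [MulAction Q Ω] [Finite Ω] (φ : ℕ)
    (hfix : ∀ x : Q, x ≠ 1 → Nat.card (fixedBy Ω x) = φ) :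
    Nat.card (orbitRel.Quotient Q Ω) * Nat.card Q = Nat.card Ω + (Nat.card Q - 1) * φ := by
  classical
  have := Fintype.ofFinite Q
  have := Fintype.ofFinite Ω
  have hB := MulAction.sum_card_fixedBy_eq_card_orbits_mul_card_group Q Ω
  rw [Nat.card_eq_fintype_card, Nat.card_eq_fintype_card, Nat.card_eq_fintype_card, ← hB]
  rw [← Finset.add_sum_erase Finset.univ _ (Finset.mem_univ (1 : Q))]
  congr 1
  · rw [← Nat.card_eq_fintype_card, ← Nat.card_eq_fintype_card]
    have : fixedBy Ω (1 : Q) = Set.univ := fixedBy_one_eq_univ (M := Q) (α := Ω)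
    rw [this]
    exact Nat.card_congr (Equiv.Set.univ Ω)
  · rw [Finset.sum_const_nat (m := φ)]
    · rw [Finset.card_erase_of_mem (Finset.mem_univ _), Finset.card_univ]
    · intro x hx
      rw [← Nat.card_eq_fintype_card]
      exact hfix x (Finset.ne_of_mem_erase hx)

/-- the points are the disjoint union of the orbits (in `Nat.card` form) -/
theorem card_eq_sum_orbits {Q Ω : Type*} [Group Q] [MulAction Q Ω] [Finite Ω]
    [Fintype (orbitRel.Quotient Q Ω)] :
    Nat.card Ω = ∑ o : orbitRel.Quotient Q Ω, Nat.card o.orbit := by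
  classical
  have := Fintype.ofFinite Ω
  rw [Nat.card_congr (selfEquivSigmaOrbits' Q Ω), Nat.card_eq_fintype_card, Fintype.card_sigma]
  refine Finset.sum_congr rfl fun o _ => ?_
  rw [Nat.card_eq_fintype_card]

/-- [ORBQ] -/
theorem orbit_card_eq {Q Ω : Type*} [Group Q] [Finite Q] [MulAction Q Ω] [Finite Ω] (φ c t : ℕ)
    (hfix : ∀ x : Q, x ≠ 1 → Nat.card (fixedBy Ω x) = φ)
    (hN : Nat.card Ω = φ + Nat.card Q) (hc : 2 ≤ c) (hQ : Nat.card Q = (c - 1) * t + 1)
    (hlt : Nat.card Ω < Nat.card Q + t)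
    (hsz : ∀ ω : Ω, (∀ x : Q, x • ω = ω) ∨ Nat.card (orbit Q ω) ≤ c) :
    ∀ ω : Ω, Nat.card (orbit Q ω) = c := by
  classical
  have : Fintype (orbitRel.Quotient Q Ω) := Fintype.ofFinite _
  obtain ⟨d, rfl⟩ : ∃ d, c = d + 1 := ⟨c - 1, by omega⟩
  have hd : 1 ≤ d := by omega
  rw [Nat.add_sub_cancel] at hQ
  -- every orbit has at most `d + 1` points
  have hle : ∀ o : orbitRel.Quotient Q Ω, Nat.card o.orbit ≤ d + 1 := by
    intro o
    induction o using Quotient.inductionOn' with
    | h ω =>
      rw [orbitRel.Quotient.orbit_mk]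
      rcases hsz ω with h | h
      · have : orbit Q ω = {ω} := by
          ext y
          constructor
          · rintro ⟨x, rfl⟩
            exact h x
          · rintro rfl
            exact mem_orbit_self _
        rw [this, Nat.card_coe_set_eq, Set.ncard_singleton]
        omega
      · exact h
  -- the number of orbits
  have hB := burnside_const (Q := Q) (Ω := Ω) φ hfix
  have hQpos : 0 < Nat.card Q := Nat.card_pos
  have ha : Nat.card (orbitRel.Quotient Q Ω) = φ + 1 := by
    have h1 : Nat.card (orbitRel.Quotient Q Ω) * Nat.card Q = (φ + 1) * Nat.card Q := by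
      rw [hB, hN]
      obtain ⟨m, hm⟩ : ∃ m, Nat.card Q = m + 1 := ⟨Nat.card Q - 1, by omega⟩
      rw [hm, Nat.add_sub_cancel]
      ring
    exact Nat.eq_of_mul_eq_mul_right hQpos h1
  -- the sum of the orbit sizes
  have hsum := card_eq_sum_orbits (Q := Q) (Ω := Ω)
  have hφt : φ + 1 ≤ t := by omega
  have hNge : (φ + 1) * (d + 1) ≤ Nat.card Ω := by
    rw [hN, hQ]
    nlinarith [Nat.mul_le_mul_left d hφt]
  have hsum_le : ∑ o : orbitRel.Quotient Q Ω, Nat.card o.orbit ≤
      ∑ _o : orbitRel.Quotient Q Ω, (d + 1) := Finset.sum_le_sum fun o _ => hle o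
  have hconst : ∑ _o : orbitRel.Quotient Q Ω, (d + 1) = (φ + 1) * (d + 1) := by
    rw [Finset.sum_const, Finset.card_univ, ← Nat.card_eq_fintype_card, ha, smul_eq_mul]
  have heq : ∑ o : orbitRel.Quotient Q Ω, Nat.card o.orbit =
      ∑ _o : orbitRel.Quotient Q Ω, (d + 1) := by
    apply le_antisymm hsum_le
    rw [hconst, ← hsum]
    exact hNge
  have hall := (Finset.sum_eq_sum_iff_of_le (fun o _ => hle o)).1 heq
  intro ω
  have := hall (Quotient.mk'' ω) (Finset.mem_univ _)
  rwa [orbitRel.Quotient.orbit_mk] at this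

end Cfsg.Agent.Lib.Helper93.MinIdx
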