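/-
helper93: project S2140 (helper99, minimal index of PSL_n(q)), module S2140-[REG]: if some point has trivial
stabiliser (a regular orbit), every point outside that orbit is fixed by the whole group.
-/
import Mathlib

set_option autoImplicit false

namespace Cfsg.Agent.Lib.Helper93.MinIdx

open MulAction

/-- [REG] -/
theorem reg_orbit {Q Ω : Type*} [Group Q] [Finite Q] [MulAction Q Ω] [Finite Ω] (φ : ℕ)
    (hfix : ∀ x : Q, x ≠ 1 → Nat.card (fixedBy Ω x) = φ)
    (hN : Nat.card Ω = φ + Nat.card Q) (ω₀ : Ω) (h0 : stabilizer Q ω₀ = ⊥) (ω : Ω) :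
    ω ∈ orbit Q ω₀ ∨ ∀ x : Q, x • ω = ω := by
  by_cases hω : ω ∈ orbit Q ω₀
  · exact Or.inl hω
  refine Or.inr fun x => ?_
  by_cases hx : x = 1
  · rw [hx, one_smul]
  -- the orbit of `ω₀` has `|Q|` points
  have horb : (orbit Q ω₀).ncard = Nat.card Q := by
    rw [← MulAction.index_stabilizer, h0, Subgroup.index_bot]
  -- so its complement has `φ` points
  have hcompl : ((orbit Q ω₀)ᶜ).ncard = φ := by
    have := Set.ncard_add_ncard_compl (orbit Q ω₀)
    omega
  -- the fixed points of `x` avoid the orbit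
  have hsub : fixedBy Ω x ⊆ (orbit Q ω₀)ᶜ := by
    intro y hy hyo
    obtain ⟨q, rfl⟩ := hyo
    have hy' : x • q • ω₀ = q • ω₀ := hy
    have hmem : q⁻¹ * x * q ∈ stabilizer Q ω₀ := by
      rw [mem_stabilizer_iff, mul_smul, mul_smul, hy', inv_smul_smul]
    rw [h0, Subgroup.mem_bot] at hmem
    apply hx
    have : x = q * (q⁻¹ * x * q) * q⁻¹ := by group
    rw [this, hmem, mul_one, mul_inv_cancel]
  have hcard : ((orbit Q ω₀)ᶜ).ncard ≤ (fixedBy Ω x).ncard := by
    rw [hcompl, ← Nat.card_coe_set_eq, hfix x hx]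
  have heq : fixedBy Ω x = (orbit Q ω₀)ᶜ := Set.eq_of_subset_of_ncard_le hsub hcard
  have : ω ∈ fixedBy Ω x := by
    rw [heq]
    exact hω
  exact this

end Cfsg.Agent.Lib.Helper93.MinIdx
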