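import Cfsg.Agent.S5550
import Cfsg.Agent.Lib.Helper6.Steiner

/-!
# Completing sets to octads

* `exists_octad_avoiding`: octads through a small set avoiding a few points;
* `complete_octad_one`: an 8-set off a point `a` meeting every octad through `a` evenly is an octad;
* `complete_octad_two`: a 7-set off two points `a, b` meeting every octad through `a, b` oddly
  becomes an octad after adding `a` or after adding `b`.
-/

set_option autoImplicit false

namespace Cfsg.Agent.Lib.Helper93.OctadComplete
open Cfsg Cfsg.Agent.Lib.Helper7 Cfsg.Agent.Lib.Helper6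
open Cfsg.Agent.Lib.Helper93 (supp ind supp_ind ind_supp supp_add mem_supp)

/-! ### Octads through small sets -/

theorem card_GolayPt' : Fintype.card GolayPt = 24 := by decide

theorem card_octads_through_one (a : GolayPt) : (blocksThrough octads {a}).card = 253 := by
  have := card_blocksThrough_mul octads_steiner {a} (by simp)
  rw [card_GolayPt', Finset.card_singleton] at this
  have h1 : (8 - 1 : ℕ).choose (5 - 1) = 35 := by decide
  have h2 : (24 - 1 : ℕ).choose (5 - 1) = 8855 := by decide
  rw [h1, h2] at this
  omega

theorem card_octads_through_two {J : Finset GolayPt} (hJ : J.card = 2) :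
    (blocksThrough octads J).card = 77 := by
  have := card_blocksThrough_mul octads_steiner J (by omega)
  rw [card_GolayPt', hJ] at this
  have h1 : (8 - 2 : ℕ).choose (5 - 2) = 20 := by decide
  have h2 : (24 - 2 : ℕ).choose (5 - 2) = 1540 := by decide
  rw [h1, h2] at this
  omega

theorem card_octads_through_three {J : Finset GolayPt} (hJ : J.card = 3) :
    (blocksThrough octads J).card = 21 := by
  have := card_blocksThrough_mul octads_steiner J (by omega)
  rw [card_GolayPt', hJ] at this
  have h1 : (8 - 3 : ℕ).choose (5 - 3) = 10 := by decide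
  have h2 : (24 - 3 : ℕ).choose (5 - 3) = 210 := by decide
  rw [h1, h2] at this
  omega

theorem card_octads_through_four {J : Finset GolayPt} (hJ : J.card = 4) :
    (blocksThrough octads J).card = 5 := by
  have := card_blocksThrough_mul octads_steiner J (by omega)
  rw [card_GolayPt', hJ] at this
  have h1 : (8 - 4 : ℕ).choose (5 - 4) = 4 := by decide
  have h2 : (24 - 4 : ℕ).choose (5 - 4) = 20 := by decide
  rw [h1, h2] at this
  omega

/-- If the octads through `J` outnumber those through `J` and a point of `Y`, some octad through
`J` avoids `Y`. -/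
theorem exists_octad_avoiding {J Y : Finset GolayPt} {lam lam' : ℕ}
    (hlam : (blocksThrough octads J).card = lam)
    (hlam' : ∀ y ∈ Y, (blocksThrough octads (insert y J)).card = lam')
    (hlt : Y.card * lam' < lam) : ∃ o ∈ octads, J ⊆ o ∧ ∀ y ∈ Y, y ∉ o := by
  classical
  set bad : Finset (Finset GolayPt) := Y.biUnion (fun y => blocksThrough octads (insert y J))
    with hbad
  have hcard : bad.card ≤ Y.card * lam' := by
    refine le_trans Finset.card_biUnion_le ?_
    rw [Finset.sum_const_nat hlam']
  obtain ⟨o, ho, hob⟩ := Finset.exists_mem_notMem_of_card_lt_card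
    (show bad.card < (blocksThrough octads J).card by omega)
  rw [mem_blocksThrough] at ho
  refine ⟨o, ho.1, ho.2, fun y hy hyo => hob ?_⟩
  rw [hbad, Finset.mem_biUnion]
  refine ⟨y, hy, mem_blocksThrough.mpr ⟨ho.1, ?_⟩⟩
  intro z hz
  rw [Finset.mem_insert] at hz
  rcases hz with rfl | hz
  · exact hyo
  · exact ho.2 hz

/-! ### Code sets -/

/-- The indicator word of the set is a code word. -/
def IsCodeSet (X : Finset GolayPt) : Prop := ind X ∈ golayCode

theorem octad_isCodeSet {o : Finset GolayPt} (ho : o ∈ octads) : IsCodeSet o := by
  obtain ⟨w, hw, hs, _⟩ := (mem_octads_iff o).mp ho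
  unfold IsCodeSet
  rw [← hs, ← supp_eq_support₂, ind_supp]
  exact hw

theorem isCodeSet_octad {X : Finset GolayPt} (hX : IsCodeSet X) (h8 : X.card = 8) :
    X ∈ octads := by
  rw [mem_octads_iff]
  exact ⟨ind X, hX, by rw [← supp_eq_support₂, supp_ind], h8⟩

theorem isCodeSet_inter_even {X o : Finset GolayPt} (hX : IsCodeSet X) (ho : o ∈ octads) :
    Even (X ∩ o).card := by
  have h := golay_orth (ind X) (ind o) hX (octad_isCodeSet ho)
  have := Cfsg.Agent.Lib.Helper93.even_card_inter_of_dot_eq_zero h
  rwa [supp_ind, supp_ind] at this

/-- Every set differs from a code set by at most four points. -/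
theorem exists_light (s : Finset GolayPt) :
    ∃ t : Finset GolayPt, t.card ≤ 4 ∧ IsCodeSet (symmDiff t s) := by
  obtain ⟨A, hA, _, ⟨u, hu⟩⟩ := Cfsg.Agent.S5550.exists_light_set (ind s)
  obtain ⟨huC, hu4⟩ := (hA u).mp hu
  refine ⟨supp u, ?_, ?_⟩
  · rw [← Cfsg.Agent.Lib.Helper93.hammingNorm_eq_card_supp]; exact hu4
  · unfold IsCodeSet
    rw [Cfsg.Agent.Lib.Helper93.sub_eq_add_zmod2] at huC
    have : ind (symmDiff (supp u) s) = u + ind s := by
      apply Cfsg.Agent.Lib.Helper93.supp_injective
      rw [supp_ind, supp_add, supp_ind]
    rw [this]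
    exact huC

theorem inter_symmDiff_parity (t s o : Finset GolayPt) :
    ((symmDiff t s) ∩ o).card + 2 * ((t ∩ o) ∩ (s ∩ o)).card = (t ∩ o).card + (s ∩ o).card := by
  have : (symmDiff t s) ∩ o = symmDiff (t ∩ o) (s ∩ o) := by
    ext x
    simp only [Finset.mem_inter, Finset.mem_symmDiff]
    tauto
  rw [this]
  exact Cfsg.Agent.Lib.Helper93.card_symmDiff_add _ _

/-! ### Light sets orthogonal to the octads through one or two points -/

/-- A set of at most four points meeting every octad through `a` evenly is empty. -/
theorem light_orth_one {S : Finset GolayPt} (hS : S.card ≤ 4) (a : GolayPt)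
    (h : ∀ o ∈ octads, a ∈ o → Even (S ∩ o).card) : S = ∅ := by
  by_contra hne
  obtain ⟨x0, hx0⟩ := Finset.nonempty_iff_ne_empty.mpr hne
  by_cases haS : a ∈ S
  · -- an octad through `a` avoiding the rest of `S`
    have hY : (S.erase a).card ≤ 3 := by rw [Finset.card_erase_of_mem haS]; omega
    obtain ⟨o, ho, hJo, hav⟩ := exists_octad_avoiding (J := {a}) (Y := S.erase a)
      (card_octads_through_one a)
      (fun y hy => card_octads_through_two
        (by rw [Finset.card_pair (Finset.mem_erase.mp hy).1]))
      (by nlinarith)
    have hao : a ∈ o := hJo (Finset.mem_singleton_self a)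
    have : S ∩ o = {a} := by
      ext z
      rw [Finset.mem_inter, Finset.mem_singleton]
      constructor
      · rintro ⟨hzS, hzo⟩
        by_contra hza
        exact hav z (Finset.mem_erase.mpr ⟨hza, hzS⟩) hzo
      · rintro rfl
        exact ⟨haS, hao⟩
    have hev := h o ho hao
    rw [this, Finset.card_singleton] at hev
    exact absurd hev (by decide)
  · -- an octad through `a` and `x0` avoiding the rest of `S`
    have hax : a ≠ x0 := fun h' => haS (h' ▸ hx0)
    have hY : (S.erase x0).card ≤ 3 := by rw [Finset.card_erase_of_mem hx0]; omega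
    obtain ⟨o, ho, hJo, hav⟩ := exists_octad_avoiding (J := {a, x0}) (Y := S.erase x0)
      (card_octads_through_two (Finset.card_pair hax))
      (fun y hy => card_octads_through_three (by
        rw [Finset.card_insert_of_notMem, Finset.card_pair hax]
        rw [Finset.mem_insert, Finset.mem_singleton, not_or]
        exact ⟨fun h' => haS (h' ▸ (Finset.mem_erase.mp hy).2), (Finset.mem_erase.mp hy).1⟩))
      (by nlinarith)
    have hao : a ∈ o := hJo (by simp)
    have hxo : x0 ∈ o := hJo (by simp)
    have : S ∩ o = {x0} := by
      ext z
      rw [Finset.mem_inter, Finset.mem_singleton]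
      constructor
      · rintro ⟨hzS, hzo⟩
        by_contra hzx
        exact hav z (Finset.mem_erase.mpr ⟨hzx, hzS⟩) hzo
      · rintro rfl
        exact ⟨hx0, hxo⟩
    have hev := h o ho hao
    rw [this, Finset.card_singleton] at hev
    exact absurd hev (by decide)

/-- A set of at most four points meeting every octad through `a` and `b` evenly is empty or
`{a, b}`. -/
theorem light_orth_two {S : Finset GolayPt} (hS : S.card ≤ 4) {a b : GolayPt} (hab : a ≠ b)
    (h : ∀ o ∈ octads, a ∈ o → b ∈ o → Even (S ∩ o).card) : S = ∅ ∨ S = {a, b} := by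
  have hS' : ∀ y ∈ S \ {a, b}, y ≠ a ∧ y ≠ b ∧ y ∈ S := by
    intro y hy
    rw [Finset.mem_sdiff, Finset.mem_insert, Finset.mem_singleton, not_or] at hy
    exact ⟨hy.2.1, hy.2.2, hy.1⟩
  by_cases hk : (a ∈ S ↔ b ∈ S)
  · -- both or none of `a`, `b` in `S`
    rcases Finset.eq_empty_or_nonempty (S \ {a, b}) with hemp | ⟨x, hx⟩
    · by_cases haS : a ∈ S
      · right
        have hbS := hk.mp haS
        ext z
        rw [Finset.mem_insert, Finset.mem_singleton]
        constructor
        · intro hz
          by_contra hcon
          rw [not_or] at hcon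
          have : z ∈ S \ {a, b} := by
            rw [Finset.mem_sdiff, Finset.mem_insert, Finset.mem_singleton, not_or]
            exact ⟨hz, hcon⟩
          rw [hemp] at this
          exact absurd this (Finset.notMem_empty z)
        · rintro (rfl | rfl)
          · exact haS
          · exact hbS
      · left
        have hbS : b ∉ S := fun hb => haS (hk.mpr hb)
        rw [Finset.eq_empty_iff_forall_notMem]
        intro z hz
        have : z ∈ S \ {a, b} := by
          rw [Finset.mem_sdiff, Finset.mem_insert, Finset.mem_singleton, not_or]
          exact ⟨hz, fun h' => haS (h' ▸ hz), fun h' => hbS (h' ▸ hz)⟩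
        rw [hemp] at this
        exact absurd this (Finset.notMem_empty z)
    · exfalso
      obtain ⟨hxa, hxb, hxS⟩ := hS' x hx
      have hJ3 : ({a, b, x} : Finset GolayPt).card = 3 := by
        rw [Finset.card_insert_of_notMem, Finset.card_pair (Ne.symm hxb)]
        rw [Finset.mem_insert, Finset.mem_singleton, not_or]
        exact ⟨hab, Ne.symm hxa⟩
      have hY : ((S \ {a, b}).erase x).card ≤ 3 := by
        rw [Finset.card_erase_of_mem hx]
        have := Finset.card_le_card (Finset.sdiff_subset (s := S) (t := {a, b}))
        omega
      obtain ⟨o, ho, hJo, hav⟩ := exists_octad_avoiding (J := {a, b, x})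
        (Y := (S \ {a, b}).erase x) (card_octads_through_three hJ3)
        (fun y hy => card_octads_through_four (by
          rw [Finset.card_insert_of_notMem, hJ3]
          have hy' := Finset.mem_erase.mp hy
          obtain ⟨hya, hyb, _⟩ := hS' y hy'.2
          rw [Finset.mem_insert, Finset.mem_insert, Finset.mem_singleton, not_or, not_or]
          exact ⟨hya, hyb, hy'.1⟩))
        (by nlinarith)
      have hao : a ∈ o := hJo (by simp)
      have hbo : b ∈ o := hJo (by simp)
      have hxo : x ∈ o := hJo (by simp)
      have hev := h o ho hao hbo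
      by_cases haS : a ∈ S
      · have hbS := hk.mp haS
        have : S ∩ o = {a, b, x} := by
          ext z
          rw [Finset.mem_inter]
          constructor
          · rintro ⟨hzS, hzo⟩
            by_contra hcon
            simp only [Finset.mem_insert, Finset.mem_singleton, not_or] at hcon
            refine hav z (Finset.mem_erase.mpr ⟨hcon.2.2, ?_⟩) hzo
            rw [Finset.mem_sdiff, Finset.mem_insert, Finset.mem_singleton, not_or]
            exact ⟨hzS, hcon.1, hcon.2.1⟩
          · intro hz
            simp only [Finset.mem_insert, Finset.mem_singleton] at hz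
            rcases hz with rfl | rfl | rfl
            · exact ⟨haS, hao⟩
            · exact ⟨hbS, hbo⟩
            · exact ⟨hxS, hxo⟩
        rw [this, hJ3] at hev
        exact absurd hev (by decide)
      · have hbS : b ∉ S := fun hb => haS (hk.mpr hb)
        have : S ∩ o = {x} := by
          ext z
          rw [Finset.mem_inter, Finset.mem_singleton]
          constructor
          · rintro ⟨hzS, hzo⟩
            by_contra hzx
            refine hav z (Finset.mem_erase.mpr ⟨hzx, ?_⟩) hzo
            rw [Finset.mem_sdiff, Finset.mem_insert, Finset.mem_singleton, not_or]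
            exact ⟨hzS, fun h' => haS (h' ▸ hzS), fun h' => hbS (h' ▸ hzS)⟩
          · rintro rfl
            exact ⟨hxS, hxo⟩
        rw [this, Finset.card_singleton] at hev
        exact absurd hev (by decide)
  · -- exactly one of `a`, `b` in `S`
    exfalso
    have hK : (a ∈ S ∧ b ∉ S) ∨ (a ∉ S ∧ b ∈ S) := by tauto
    have hY : (S \ {a, b}).card ≤ 3 := by
      have hsub : S \ {a, b} ⊆ S.erase (if a ∈ S then a else b) := by
        intro y hy
        obtain ⟨hya, hyb, hyS⟩ := hS' y hy
        rw [Finset.mem_erase]
        refine ⟨?_, hyS⟩
        split_ifs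
        · exact hya
        · exact hyb
      have hmem : (if a ∈ S then a else b) ∈ S := by
        rcases hK with ⟨h1, _⟩ | ⟨h1, h2⟩
        · rw [if_pos h1]; exact h1
        · rw [if_neg h1]; exact h2
      have := Finset.card_le_card hsub
      rw [Finset.card_erase_of_mem hmem] at this
      omega
    obtain ⟨o, ho, hJo, hav⟩ := exists_octad_avoiding (J := {a, b}) (Y := S \ {a, b})
      (card_octads_through_two (Finset.card_pair hab))
      (fun y hy => card_octads_through_three (by
        obtain ⟨hya, hyb, _⟩ := hS' y hy
        rw [Finset.card_insert_of_notMem, Finset.card_pair hab]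
        rw [Finset.mem_insert, Finset.mem_singleton, not_or]
        exact ⟨hya, hyb⟩))
      (by nlinarith)
    have hao : a ∈ o := hJo (by simp)
    have hbo : b ∈ o := hJo (by simp)
    have hev := h o ho hao hbo
    have hsub : ∀ z, z ∈ S → z ∈ o → z = a ∨ z = b := by
      intro z hzS hzo
      by_contra hcon
      rw [not_or] at hcon
      refine hav z ?_ hzo
      rw [Finset.mem_sdiff, Finset.mem_insert, Finset.mem_singleton, not_or]
      exact ⟨hzS, hcon⟩
    rcases hK with ⟨h1, h2⟩ | ⟨h1, h2⟩
    · have : S ∩ o = {a} := by
        ext z
        rw [Finset.mem_inter, Finset.mem_singleton]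
        constructor
        · rintro ⟨hzS, hzo⟩
          rcases hsub z hzS hzo with rfl | rfl
          · rfl
          · exact absurd hzS h2
        · rintro rfl
          exact ⟨h1, hao⟩
      rw [this, Finset.card_singleton] at hev
      exact absurd hev (by decide)
    · have : S ∩ o = {b} := by
        ext z
        rw [Finset.mem_inter, Finset.mem_singleton]
        constructor
        · rintro ⟨hzS, hzo⟩
          rcases hsub z hzS hzo with rfl | rfl
          · exact absurd hzS h1
          · rfl
        · rintro rfl
          exact ⟨h2, hbo⟩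
      rw [this, Finset.card_singleton] at hev
      exact absurd hev (by decide)

/-! ### Completing to octads -/

/-- An 8-set meeting every octad through `a` evenly is an octad. -/
theorem complete_octad_one {O : Finset GolayPt} (h8 : O.card = 8) (a : GolayPt)
    (h : ∀ o ∈ octads, a ∈ o → Even (O ∩ o).card) : O ∈ octads := by
  obtain ⟨t, ht4, htC⟩ := exists_light O
  have ht : t = ∅ := by
    apply light_orth_one ht4 a
    intro o ho hao
    have h1 := isCodeSet_inter_even htC ho
    have h2 := h o ho hao
    have h3 := inter_symmDiff_parity t O o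
    rcases h1 with ⟨m1, hm1⟩
    rcases h2 with ⟨m2, hm2⟩
    rw [Nat.even_iff]
    omega
  rw [ht] at htC
  have : symmDiff (∅ : Finset GolayPt) O = O := bot_symmDiff O
  rw [this] at htC
  exact isCodeSet_octad htC h8

/-- A 7-set off `a` and `b` meeting every octad through `a` and `b` oddly becomes an octad by
adding `a` or by adding `b`. -/
theorem complete_octad_two {H : Finset GolayPt} (h7 : H.card = 7) {a b : GolayPt} (hab : a ≠ b)
    (haH : a ∉ H) (hbH : b ∉ H)
    (h : ∀ o ∈ octads, a ∈ o → b ∈ o → Odd (H ∩ o).card) :
    insert a H ∈ octads ∨ insert b H ∈ octads := by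
  obtain ⟨t, ht4, htC⟩ := exists_light (insert a H)
  have ht : t = ∅ ∨ t = {a, b} := by
    apply light_orth_two ht4 hab
    intro o ho hao hbo
    have h1 := isCodeSet_inter_even htC ho
    have h2 := h o ho hao hbo
    have h3 := inter_symmDiff_parity t (insert a H) o
    have h4 : (insert a H ∩ o).card = (H ∩ o).card + 1 := by
      rw [Finset.insert_inter_of_mem hao, Finset.card_insert_of_notMem]
      exact fun h' => haH (Finset.mem_inter.mp h').1
    rcases h1 with ⟨m1, hm1⟩
    rcases h2 with ⟨m2, hm2⟩
    rw [Nat.even_iff]
    omega
  rcases ht with ht | ht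
  · left
    rw [ht] at htC
    have : symmDiff (∅ : Finset GolayPt) (insert a H) = insert a H := bot_symmDiff _
    rw [this] at htC
    exact isCodeSet_octad htC (by rw [Finset.card_insert_of_notMem haH, h7])
  · right
    rw [ht] at htC
    have : symmDiff ({a, b} : Finset GolayPt) (insert a H) = insert b H := by
      ext z
      simp only [Finset.mem_symmDiff, Finset.mem_insert, Finset.mem_singleton]
      constructor
      · rintro (⟨h1, h2⟩ | ⟨h1, h2⟩)
        · rcases h1 with rfl | rfl
          · exact absurd (Or.inl rfl) h2
          · exact Or.inl rfl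
        · rcases h1 with rfl | h1
          · exact absurd (Or.inl rfl) h2
          · exact Or.inr h1
      · rintro (rfl | hz)
        · left
          refine ⟨Or.inr rfl, ?_⟩
          rintro (h' | h')
          · exact hab h'.symm
          · exact hbH h'
        · right
          refine ⟨Or.inr hz, ?_⟩
          rintro (rfl | rfl)
          · exact haH hz
          · exact hbH hz
    rw [this] at htC
    exact isCodeSet_octad htC (by rw [Finset.card_insert_of_notMem hbH, h7])

end Cfsg.Agent.Lib.Helper93.OctadComplete
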