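/-
helper93: octads of an abstract Golay code: intersections, common disjoint octads, paths of length 3
in the disjointness graph.
-/
import Mathlib
import Cfsg.Agent.Lib.Helper93.GolayAbstract

set_option autoImplicit false
set_option linter.unusedSectionVars false

namespace Cfsg.Agent.Lib.Helper93

open Finset

section OctadGraph

variable {α : Type*} [Fintype α] [DecidableEq α] {C : Submodule (ZMod 2) (α → ZMod 2)}

/-- Distinct octads meet in 0, 2 or 4 points. -/
theorem IsGolayLike.octad_inter (h : IsGolayLike C) {c c' : α → ZMod 2} (hc : c ∈ C) (hc' : c' ∈ C)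
    (h8 : hammingNorm c = 8) (h8' : hammingNorm c' = 8) (hne : c ≠ c') :
    (supp c ∩ supp c').card = 0 ∨ (supp c ∩ supp c').card = 2 ∨ (supp c ∩ supp c').card = 4 := by
  have hsum := hammingNorm_add_eq c c'
  have hmem : c + c' ∈ C := C.add_mem hc hc'
  have hne0 : c + c' ≠ 0 := by
    intro e
    apply hne
    have : c = c + (c' + c') := by rw [add_self_zmod2, add_zero]
    rw [this, ← add_assoc, e, zero_add]
  have h1 := h.minwt _ hmem hne0
  obtain ⟨k, hk⟩ := h.doubly_even _ hmem
  omega

/-- The words of weight at most 4 in the coset of the indicator of `T`. -/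
noncomputable def lightCoset (C : Submodule (ZMod 2) (α → ZMod 2)) (T : Finset α) :
    Finset (α → ZMod 2) := by
  classical exact univ.filter (fun u => u - ind T ∈ C ∧ hammingNorm u ≤ 4)

theorem mem_lightCoset {T : Finset α} {u : α → ZMod 2} :
    u ∈ lightCoset C T ↔ u - ind T ∈ C ∧ hammingNorm u ≤ 4 := by
  classical
  unfold lightCoset
  simp

theorem IsGolayLike.lightCoset_spec (h : IsGolayLike C) {T : Finset α} (hT : T.card = 4) :
    ind T ∈ lightCoset C T ∧ (lightCoset C T).card = 6 ∧
      (∀ u ∈ lightCoset C T, hammingNorm u = 4) ∧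
      (∀ u ∈ lightCoset C T, ∀ u' ∈ lightCoset C T, u ≠ u' → Disjoint (supp u) (supp u')) ∧
      (lightCoset C T).biUnion supp = univ :=
  h.sextet_of_tetrad T hT (lightCoset C T) (fun _ => mem_lightCoset)

/-- Two distinct tetrads of a sextet make an octad. -/
theorem IsGolayLike.sextet_pair (h : IsGolayLike C) {T : Finset α} (hT : T.card = 4)
    {u u' : α → ZMod 2} (hu : u ∈ lightCoset C T) (hu' : u' ∈ lightCoset C T) (hne : u ≠ u') :
    u + u' ∈ C ∧ hammingNorm (u + u') = 8 ∧ supp (u + u') = supp u ∪ supp u' ∧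
      Disjoint (supp u) (supp u') := by
  obtain ⟨_, _, h4, hd, _⟩ := h.lightCoset_spec hT
  have hdis := hd u hu u' hu' hne
  have hmem : u + u' ∈ C := by
    have := C.sub_mem (mem_lightCoset.mp hu).1 (mem_lightCoset.mp hu').1
    have e : u - ind T - (u' - ind T) = u - u' := by abel
    rw [e, sub_eq_add_zmod2] at this
    exact this
  have hi : (supp u ∩ supp u').card = 0 := by
    rw [Finset.card_eq_zero, ← Finset.disjoint_iff_inter_eq_empty]; exact hdis
  have hsum := hammingNorm_add_eq u u'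
  rw [h4 u hu, h4 u' hu', hi] at hsum
  refine ⟨hmem, by omega, ?_, hdis⟩
  rw [supp_add]
  exact hdis.symmDiff_eq_sup

/-- If the tetrad `T` lies in an octad, the rest of the octad is a tetrad of the sextet of `T`. -/
theorem sdiff_mem_lightCoset {c : α → ZMod 2} (hc : c ∈ C) (h8 : hammingNorm c = 8)
    {T : Finset α} (hT : T.card = 4) (hTc : T ⊆ supp c) : ind (supp c \ T) ∈ lightCoset C T := by
  have e : ind (supp c \ T) = c + ind T := by
    apply supp_injective
    rw [supp_ind, supp_add, supp_ind]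
    have h1 : symmDiff (supp c) T = (supp c \ T) ∪ (T \ supp c) := rfl
    rw [h1, Finset.sdiff_eq_empty_iff_subset.mpr hTc, Finset.union_empty]
  rw [mem_lightCoset]
  constructor
  · rw [e]
    have : c + ind T - ind T = c := by abel
    rw [this]; exact hc
  · rw [hammingNorm_eq_card_supp, supp_ind, Finset.card_sdiff_of_subset hTc,
      ← hammingNorm_eq_card_supp, h8, hT]

theorem supp_ind_sdiff_union {s T : Finset α} (hTs : T ⊆ s) :
    s = supp (ind T) ∪ supp (ind (s \ T)) := by
  rw [supp_ind, supp_ind, Finset.union_sdiff_of_subset hTs]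

/-- Three elements can be removed from a six-element set leaving two distinct elements. -/
theorem exists_two_of_card_six {β : Type*} [DecidableEq β] {A : Finset β} (hA : A.card = 6)
    (x y z : β) : ∃ a ∈ A, ∃ b ∈ A, a ≠ b ∧ a ≠ x ∧ a ≠ y ∧ a ≠ z ∧ b ≠ x ∧ b ≠ y ∧ b ≠ z := by
  have h1 := Finset.pred_card_le_card_erase (s := A) (a := x)
  have h2 := Finset.pred_card_le_card_erase (s := A.erase x) (a := y)
  have h3 := Finset.pred_card_le_card_erase (s := (A.erase x).erase y) (a := z)
  have h4 : 1 < (((A.erase x).erase y).erase z).card := by omega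
  obtain ⟨a, ha, b, hb, hab⟩ := Finset.one_lt_card.mp h4
  simp only [Finset.mem_erase] at ha hb
  exact ⟨a, ha.2.2.2, b, hb.2.2.2, hab, ha.2.2.1, ha.2.1, ha.1, hb.2.2.1, hb.2.1, hb.1⟩

/-- Two octads meeting in four points have a common disjoint octad. -/
theorem IsGolayLike.exists_octad_disjoint_both (h : IsGolayLike C) {c c' : α → ZMod 2} (hc : c ∈ C)
    (hc' : c' ∈ C) (h8 : hammingNorm c = 8) (h8' : hammingNorm c' = 8)
    (h4 : (supp c ∩ supp c').card = 4) :
    ∃ d ∈ C, hammingNorm d = 8 ∧ Disjoint (supp d) (supp c) ∧ Disjoint (supp d) (supp c') := by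
  set T := supp c ∩ supp c' with hTdef
  have hTc : T ⊆ supp c := Finset.inter_subset_left
  have hTc' : T ⊆ supp c' := Finset.inter_subset_right
  obtain ⟨hmemT, h6, _, hd, _⟩ := h.lightCoset_spec h4
  have hu2 := sdiff_mem_lightCoset hc h8 h4 hTc
  have hu3 := sdiff_mem_lightCoset hc' h8' h4 hTc'
  obtain ⟨a, ha, b, hb, hab, ha1, ha2, ha3, hb1, hb2, hb3⟩ :=
    exists_two_of_card_six h6 (ind T) (ind (supp c \ T)) (ind (supp c' \ T))
  obtain ⟨hmem, hw, hsupp, _⟩ := h.sextet_pair h4 ha hb hab
  refine ⟨a + b, hmem, hw, ?_, ?_⟩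
  · rw [hsupp, supp_ind_sdiff_union hTc, Finset.disjoint_union_left, Finset.disjoint_union_right,
      Finset.disjoint_union_right]
    exact ⟨⟨hd a ha _ hmemT ha1, hd a ha _ hu2 ha2⟩, ⟨hd b hb _ hmemT hb1, hd b hb _ hu2 hb2⟩⟩
  · rw [hsupp, supp_ind_sdiff_union hTc', Finset.disjoint_union_left, Finset.disjoint_union_right,
      Finset.disjoint_union_right]
    exact ⟨⟨hd a ha _ hmemT ha1, hd a ha _ hu3 ha3⟩, ⟨hd b hb _ hmemT hb1, hd b hb _ hu3 hb3⟩⟩

theorem supp_one : supp (1 : α → ZMod 2) = univ := by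
  ext i
  simp [mem_supp]

/-- Two octads meeting in two points have no common disjoint octad. -/
theorem IsGolayLike.no_octad_disjoint_both (h : IsGolayLike C) (h1 : (1 : α → ZMod 2) ∈ C)
    {c c' : α → ZMod 2} (hc : c ∈ C) (hc' : c' ∈ C) (h8 : hammingNorm c = 8)
    (h8' : hammingNorm c' = 8) (h2 : (supp c ∩ supp c').card = 2) :
    ¬ ∃ d ∈ C, hammingNorm d = 8 ∧ Disjoint (supp d) (supp c) ∧ Disjoint (supp d) (supp c') := by
  rintro ⟨d, hd, hd8, hdc, hdc'⟩
  have hs1 := hammingNorm_add_eq c c'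
  have hsub : supp (c + c') ⊆ supp c ∪ supp c' := by
    rw [supp_add]
    intro i hi
    have h1 : symmDiff (supp c) (supp c') = (supp c \ supp c') ∪ (supp c' \ supp c) := rfl
    rw [h1] at hi
    simp only [Finset.mem_union, Finset.mem_sdiff] at hi ⊢
    tauto
  have hdis : Disjoint (supp (c + c')) (supp d) := by
    apply Disjoint.mono_left hsub
    rw [Finset.disjoint_union_left]
    exact ⟨hdc.symm, hdc'.symm⟩
  have hi : (supp (c + c') ∩ supp d).card = 0 := by
    rw [Finset.card_eq_zero, ← Finset.disjoint_iff_inter_eq_empty]; exact hdis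
  have hs2 := hammingNorm_add_eq (c + c') d
  have hs3 := hammingNorm_add_eq 1 (c + c' + d)
  rw [supp_one, Finset.univ_inter, ← hammingNorm_eq_card_supp] at hs3
  have h24 : hammingNorm (1 : α → ZMod 2) = 24 := by
    rw [hammingNorm_eq_card_supp, supp_one, Finset.card_univ, h.card_pts]
  have hw4 : hammingNorm (1 + (c + c' + d)) = 4 := by omega
  have hmem : 1 + (c + c' + d) ∈ C := C.add_mem h1 (C.add_mem (C.add_mem hc hc') hd)
  have hne : 1 + (c + c' + d) ≠ 0 := by
    intro e
    rw [e, hammingNorm_zero] at hw4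
    omega
  have := h.minwt _ hmem hne
  omega

/-- Two octads meeting in two points are joined by a path of length three in the disjointness
graph. -/
theorem IsGolayLike.exists_path_three (h : IsGolayLike C) {c c' : α → ZMod 2} (hc : c ∈ C)
    (hc' : c' ∈ C) (h8 : hammingNorm c = 8) (h8' : hammingNorm c' = 8)
    (h2 : (supp c ∩ supp c').card = 2) :
    ∃ a ∈ C, ∃ b ∈ C, hammingNorm a = 8 ∧ hammingNorm b = 8 ∧ Disjoint (supp c) (supp a) ∧
      Disjoint (supp a) (supp b) ∧ Disjoint (supp b) (supp c') := by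
  -- a tetrad inside `c' \ c`
  have h6 : 4 ≤ (supp c' \ supp c).card := by
    have := Finset.card_sdiff_add_card_inter (supp c') (supp c)
    rw [Finset.inter_comm, h2, ← hammingNorm_eq_card_supp, h8'] at this
    omega
  obtain ⟨T, hTsub, hT⟩ := Finset.exists_subset_card_eq h6
  have hTc' : T ⊆ supp c' := hTsub.trans Finset.sdiff_subset
  have hTc : Disjoint T (supp c) := by
    rw [Finset.disjoint_left]
    intro i hi
    exact (Finset.mem_sdiff.mp (hTsub hi)).2
  obtain ⟨hmemT, hA6, _, hd, hU⟩ := h.lightCoset_spec hT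
  have hu2 := sdiff_mem_lightCoset hc' h8' hT hTc'
  set A := lightCoset C T with hAdef
  -- the intersection numbers with `c`
  have hpart : ∑ u ∈ A, (supp c ∩ supp u).card = 8 := by
    have hpd : (A : Set (α → ZMod 2)).PairwiseDisjoint (fun u => supp c ∩ supp u) := by
      intro u hu u' hu' hne
      exact Disjoint.mono Finset.inter_subset_right Finset.inter_subset_right (hd u hu u' hu' hne)
    rw [← Finset.card_biUnion hpd, ← Finset.inter_biUnion, hU, Finset.inter_univ,
      ← hammingNorm_eq_card_supp, h8]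
  have heven : ∀ u ∈ A, u ≠ ind T → Even (supp c ∩ supp u).card := by
    intro u hu hne
    obtain ⟨hmem, _, hsupp, _⟩ := h.sextet_pair hT hu hmemT hne
    have hev := even_card_inter_of_dot_eq_zero (h.orth c hc _ hmem)
    rw [hsupp, supp_ind, Finset.inter_union_distrib_left] at hev
    have : supp c ∩ T = ∅ := by
      rw [← Finset.disjoint_iff_inter_eq_empty]; exact hTc.symm
    rwa [this, Finset.union_empty] at hev
  have hu2c : (supp c ∩ supp (ind (supp c' \ T))).card = 2 := by
    rw [supp_ind]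
    have : supp c ∩ (supp c' \ T) = supp c ∩ supp c' := by
      ext i
      simp only [Finset.mem_inter, Finset.mem_sdiff]
      constructor
      · rintro ⟨h1, h2, _⟩; exact ⟨h1, h2⟩
      · rintro ⟨h1, h2⟩
        exact ⟨h1, h2, fun hiT => (Finset.disjoint_left.mp hTc hiT) h1⟩
    rw [this, h2]
  have hex : ∃ u ∈ A, u ≠ ind T ∧ u ≠ ind (supp c' \ T) ∧ Disjoint (supp c) (supp u) := by
    by_contra hcon
    push Not at hcon
    have hge : ∀ u ∈ (A.erase (ind (supp c' \ T))).erase (ind T), 2 ≤ (supp c ∩ supp u).card := by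
      intro u hu
      simp only [Finset.mem_erase] at hu
      obtain ⟨k, hk⟩ := heven u hu.2.2 hu.1
      have hnd := hcon u hu.2.2 hu.1 hu.2.1
      rw [Finset.disjoint_iff_inter_eq_empty, ← Finset.card_eq_zero] at hnd
      omega
    have hc1 := Finset.pred_card_le_card_erase (s := A) (a := ind (supp c' \ T))
    have hc2 := Finset.pred_card_le_card_erase (s := A.erase (ind (supp c' \ T))) (a := ind T)
    have hsum1 := Finset.card_nsmul_le_sum _ (fun u => (supp c ∩ supp u).card) 2 hge
    have hsum2 : ∑ u ∈ (A.erase (ind (supp c' \ T))).erase (ind T), (supp c ∩ supp u).card ≤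
        ∑ u ∈ A.erase (ind (supp c' \ T)), (supp c ∩ supp u).card :=
      Finset.sum_le_sum_of_subset (Finset.erase_subset _ _)
    have hsum3 := Finset.add_sum_erase A (fun u => (supp c ∩ supp u).card) hu2
    simp only [smul_eq_mul] at hsum1
    rw [hu2c] at hsum3
    have : 4 ≤ ((A.erase (ind (supp c' \ T))).erase (ind T)).card := by omega
    nlinarith
  obtain ⟨u6, hu6, hu61, hu62, hu6c⟩ := hex
  obtain ⟨hamem, ha8, hasupp, _⟩ := h.sextet_pair hT hmemT hu6 (Ne.symm hu61)
  obtain ⟨x, hx, y, hy, hxy, hx1, hx2, hx3, hy1, hy2, hy3⟩ :=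
    exists_two_of_card_six hA6 (ind T) (ind (supp c' \ T)) u6
  obtain ⟨hbmem, hb8, hbsupp, _⟩ := h.sextet_pair hT hx hy hxy
  refine ⟨ind T + u6, hamem, x + y, hbmem, ha8, hb8, ?_, ?_, ?_⟩
  · rw [hasupp, supp_ind, Finset.disjoint_union_right]
    exact ⟨hTc.symm, hu6c⟩
  · rw [hasupp, hbsupp, Finset.disjoint_union_left, Finset.disjoint_union_right,
      Finset.disjoint_union_right]
    exact ⟨⟨hd _ hmemT x hx (Ne.symm hx1), hd _ hmemT y hy (Ne.symm hy1)⟩,
      ⟨hd _ hu6 x hx (Ne.symm hx3), hd _ hu6 y hy (Ne.symm hy3)⟩⟩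
  · rw [hbsupp, supp_ind_sdiff_union hTc', Finset.disjoint_union_left, Finset.disjoint_union_right,
      Finset.disjoint_union_right]
    exact ⟨⟨hd x hx _ hmemT hx1, hd x hx _ hu2 hx2⟩, ⟨hd y hy _ hmemT hy1, hd y hy _ hu2 hy2⟩⟩

end OctadGraph

end Cfsg.Agent.Lib.Helper93
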