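import Cfsg.Agent.Lib.Helper93.OctadPairs

/-!
# Orders of octad stabilizers and of joint stabilizers of two octads in `M24`
-/

set_option autoImplicit false
open scoped Pointwise
open Cfsg

namespace Cfsg.Agent.Lib.Helper93
open Cfsg.Agent.Lib.Helper7 Cfsg.Agent.Lib.Helper92

/-- The stabilizer of an octad in `M24` has order `322560`. -/
theorem card_stabilizer_octad {o : Finset GolayPt} (ho : o ∈ octads) :
    Nat.card ↥(MulAction.stabilizer M24 o) = 322560 := by
  have hfin : (octads : Set (Finset GolayPt)).Finite := Set.toFinite _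
  have h := card_eq_card_mul_card_inf_stabilizer (P := M24) (⊤ : Subgroup M24) o hfin.toFinset
    (fun g _ => (Set.Finite.mem_toFinset hfin).mpr (smul_mem_octads g.2 ho))
    (fun q hq => by
      obtain ⟨u, hu⟩ := exists_M24_smul_octad ((Set.Finite.mem_toFinset hfin).mp hq) ho
      exact ⟨u, Subgroup.mem_top _, hu⟩)
  rw [Subgroup.card_top, card_M24, top_inf_eq, ← Set.ncard_eq_toFinset_card _ hfin,
    Cfsg.Agent.Lib.Helper26.ncard_octads] at h
  omega

theorem codesK0_props : ∀ m ∈ rootK0 :: codesK0,
    (isOctadMask m = true ∧ pc (m &&& octO) = 0) ∧ m < 2 ^ 24 := by decide +kernel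
theorem codesK4_props : ∀ m ∈ rootK4 :: codesK4,
    (isOctadMask m = true ∧ pc (m &&& octO) = 4) ∧ m < 2 ^ 24 := by decide +kernel
theorem codesK2_props : ∀ m ∈ rootK2 :: codesK2,
    (isOctadMask m = true ∧ pc (m &&& octO) = 2) ∧ m < 2 ^ 24 := by decide +kernel

theorem codesK0_nodup : (rootK0 :: codesK0).Nodup ∧ (rootK0 :: codesK0).length = 30 := by
  decide +kernel
theorem codesK4_nodup : (rootK4 :: codesK4).Nodup ∧ (rootK4 :: codesK4).length = 280 := by
  decide +kernel
theorem codesK2_nodup : (rootK2 :: codesK2).Nodup ∧ (rootK2 :: codesK2).length = 448 := by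
  decide +kernel

/-- Orbit–stabilizer at the base octad, for one class of octads given by an explicit list. -/
theorem card_joint_base (k N root : ℕ) (codes : List ℕ)
    (hcomplete : ∀ c < 4096, pc (enc c) = 8 → pc (enc c &&& octO) = k →
      (enc c == root || codes.contains (enc c)) = true)
    (hprops : ∀ m ∈ root :: codes, (isOctadMask m = true ∧ pc (m &&& octO) = k) ∧ m < 2 ^ 24)
    (hnd : (root :: codes).Nodup ∧ (root :: codes).length = N)
    {o' : Finset GolayPt} (ho' : o' ∈ octads) (hk : (setOf octO ∩ o').card = k) :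
    322560 = N * Nat.card ↥(MulAction.stabilizer M24 (setOf octO) ⊓
      MulAction.stabilizer M24 o') := by
  have hO : setOf octO ∈ octads := setOf_mem_octads isOctadMask_octO
  have h := card_eq_card_mul_card_inf_stabilizer (P := M24)
    (MulAction.stabilizer M24 (setOf octO)) o' ((root :: codes).map Helper7.setOf).toFinset
    (by
      intro g hg
      have hgO : (g : Equiv.Perm GolayPt) • setOf octO = setOf octO :=
        MulAction.mem_stabilizer_iff.mp hg
      have hgo' : (g : Equiv.Perm GolayPt) • o' ∈ octads := smul_mem_octads g.2 ho'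
      obtain ⟨c, hc, h8, hceq⟩ := exists_enc_of_mem_octads hgo'
      have hkc : pc (enc c &&& octO) = k := by
        rw [← card_inter_setOf, ← hceq, Finset.inter_comm, ← hk]
        conv_lhs => rw [← hgO]
        rw [← smul_inter_finset, card_perm_smul_finset]
      have hmem := hcomplete c hc h8 hkc
      rw [List.mem_toFinset, List.mem_map]
      refine ⟨enc c, ?_, ?_⟩
      · simpa using hmem
      · rw [M24_smul_finset_def, hceq])
    (by
      intro q hq
      rw [List.mem_toFinset, List.mem_map] at hq
      obtain ⟨m, hm, rfl⟩ := hq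
      obtain ⟨⟨hoct, hkm⟩, _⟩ := hprops m hm
      have hq8 : setOf m ∈ octads := setOf_mem_octads hoct
      obtain ⟨u, hu, huO, huq⟩ := exists_stab_octO_map hq8 ho' (by
        rw [hk, Finset.inter_comm, card_inter_setOf, hkm])
      exact ⟨⟨u, hu⟩, MulAction.mem_stabilizer_iff.mpr huO, huq⟩)
  rw [card_stabilizer_octad hO, List.toFinset_card_of_nodup, List.length_map, hnd.2] at h
  · exact h
  · apply List.Nodup.map_on _ hnd.1
    intro a ha b hb hab
    exact setOf_injOn (hprops a ha).2 (hprops b hb).2 hab

/-- Joint stabilizers of two octads: the order depends only on the size of the intersection. -/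
theorem card_joint_stabilizer_congr {o o' : Finset GolayPt} (σ : M24) :
    Nat.card ↥(MulAction.stabilizer M24 (σ • o) ⊓ MulAction.stabilizer M24 (σ • o')) =
      Nat.card ↥(MulAction.stabilizer M24 o ⊓ MulAction.stabilizer M24 o') := by
  rw [MulAction.stabilizer_smul_eq_stabilizer_map_conj, MulAction.stabilizer_smul_eq_stabilizer_map_conj,
    ← Subgroup.map_inf _ _ _ (MulAut.conj σ).injective]
  exact Subgroup.card_map_of_injective (MulAut.conj σ).injective

/-- Orders of the joint stabilizers of two octads. -/
theorem card_joint_stabilizer {o o' : Finset GolayPt} (ho : o ∈ octads) (ho' : o' ∈ octads) :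
    ((o ∩ o').card = 0 → Nat.card ↥(MulAction.stabilizer M24 o ⊓ MulAction.stabilizer M24 o')
      = 10752) ∧
    ((o ∩ o').card = 4 → Nat.card ↥(MulAction.stabilizer M24 o ⊓ MulAction.stabilizer M24 o')
      = 1152) ∧
    ((o ∩ o').card = 2 → Nat.card ↥(MulAction.stabilizer M24 o ⊓ MulAction.stabilizer M24 o')
      = 720) := by
  obtain ⟨σ, hσ⟩ := exists_M24_smul_octad ho (setOf_mem_octads isOctadMask_octO)
  have hσo' : σ • o' ∈ octads := smul_mem_octads σ.2 ho'
  have hcard : (setOf octO ∩ σ • o').card = (o ∩ o').card := by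
    rw [← hσ, M24_smul_finset_def, M24_smul_finset_def, ← smul_inter_finset,
      card_perm_smul_finset]
  rw [← card_joint_stabilizer_congr σ, hσ]
  refine ⟨fun h0 => ?_, fun h4 => ?_, fun h2 => ?_⟩
  · have := card_joint_base 0 30 rootK0 codesK0 tourK0_complete codesK0_props codesK0_nodup hσo'
      (hcard.trans h0)
    omega
  · have := card_joint_base 4 280 rootK4 codesK4 tourK4_complete codesK4_props codesK4_nodup hσo'
      (hcard.trans h4)
    omega
  · have := card_joint_base 2 448 rootK2 codesK2 tourK2_complete codesK2_props codesK2_nodup hσo'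
      (hcard.trans h2)
    omega

end Cfsg.Agent.Lib.Helper93
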