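import Mathlib

/-!
# project OUT, module [QUOT] (helper69's sheet #4529): pure Mathlib
-/

set_option autoImplicit false

namespace Cfsg.Agent.Lib.Helper93.Aut

theorem card_quot_mul_card_inf {A : Type*} [Group A] [Finite A] (N K : Subgroup A) [N.Normal]
    (h : ∀ a : A, ∃ n ∈ N, ∃ k ∈ K, a = n * k) :
    Nat.card (A ⧸ N) * Nat.card ↥(K ⊓ N) = Nat.card ↥K := by
  set ψ : ↥K →* A ⧸ N := (QuotientGroup.mk' N).comp K.subtype with hψ
  have hsurj : Function.Surjective ψ := by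
    intro q
    obtain ⟨a, rfl⟩ := QuotientGroup.mk'_surjective N q
    obtain ⟨n, hn, k, hk, rfl⟩ := h a
    refine ⟨⟨k, hk⟩, ?_⟩
    show (QuotientGroup.mk' N) k = (QuotientGroup.mk' N) (n * k)
    rw [map_mul]
    have : (QuotientGroup.mk' N) n = 1 := (QuotientGroup.eq_one_iff n).mpr hn
    rw [this, one_mul]
  have hker : ψ.ker = N.subgroupOf K := by
    ext x
    rw [MonoidHom.mem_ker, Subgroup.mem_subgroupOf]
    show (QuotientGroup.mk' N) (x : A) = 1 ↔ (x : A) ∈ N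
    exact QuotientGroup.eq_one_iff _
  have h1 : Nat.card ↥K = Nat.card (↥K ⧸ ψ.ker) * Nat.card ↥ψ.ker :=
    Subgroup.card_eq_card_quotient_mul_card_subgroup ψ.ker
  have h2 : Nat.card (↥K ⧸ ψ.ker) = Nat.card (A ⧸ N) :=
    Nat.card_congr (QuotientGroup.quotientKerEquivOfSurjective ψ hsurj).toEquiv
  have h3 : Nat.card ↥ψ.ker = Nat.card ↥(K ⊓ N) := by
    rw [hker]
    have e : ↥(N.subgroupOf K) ≃ ↥(K ⊓ N) :=
      { toFun := fun x => ⟨(x : ↥K), (x : ↥K).2, Subgroup.mem_subgroupOf.mp x.2⟩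
        invFun := fun y => ⟨⟨(y : A), y.2.1⟩, Subgroup.mem_subgroupOf.mpr y.2.2⟩
        left_inv := fun x => rfl
        right_inv := fun y => rfl }
    exact Nat.card_congr e
  rw [h1, h2, h3]

end Cfsg.Agent.Lib.Helper93.Aut
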