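/-
helper93: S2286 module [LIFT] (sheet of helper53).
-/
import Mathlib
import Cfsg.Agent.Lib.Helper53.SL2Pres.Defs
import Cfsg.Agent.S2426

set_option autoImplicit false

namespace Cfsg.Agent.Lib.Helper93.SL2Pres

open Cfsg.Agent.Lib.Helper53 Cfsg.Agent.Lib.Helper53.Steinberg Cfsg.Agent.Lib.Helper53.SL2Pres

variable {G : Type*} [Group G] {K : Type*} [Field K]

/-- the relators of the rank-one Steinberg presentation (as in S2426). -/
def steinbergRels (K : Type*) [Field K] : Set (FreeGroup (Bool × K)) :=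
  {g : FreeGroup (Bool × K) | ∃ (b : Bool) (t u : K), g = FreeGroup.of (b, t) * FreeGroup.of (b, u) * (FreeGroup.of (b, t + u))⁻¹} ∪
    {g | ∃ (b : Bool) (t u : K), t ≠ 0 ∧
      g = (FreeGroup.of (b, t) * FreeGroup.of (!b, -t⁻¹) * FreeGroup.of (b, t)) * FreeGroup.of (b, u) *
            (FreeGroup.of (b, t) * FreeGroup.of (!b, -t⁻¹) * FreeGroup.of (b, t))⁻¹ * (FreeGroup.of (!b, -(t⁻¹ ^ 2 * u)))⁻¹}

/-- MODULE S2286-[LIFT] -/
theorem exists_hom_of_data [Finite K] {Γ : Type*} [Group Γ] {X Y : K → Γ} (d : Data X Y) :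
    ∃ Φ : Matrix.SpecialLinearGroup (Fin 2) K →* Γ, (∀ a, Φ (xM a) = X a) ∧ (∀ a, Φ (yM a) = Y a) := by
  classical
  obtain ⟨e, he1, he2⟩ : ∃ e : PresentedGroup (steinbergRels K) ≃* Matrix.SpecialLinearGroup (Fin 2) K,
      (∀ t : K, ((e (PresentedGroup.of (true, t)) : Matrix (Fin 2) (Fin 2) K)) = !![1, t; 0, 1]) ∧
      (∀ t : K, ((e (PresentedGroup.of (false, t)) : Matrix (Fin 2) (Fin 2) K)) = !![1, 0; t, 1]) :=
    Cfsg.Agent.S2426.result
  let f : Bool × K → Γ := fun p => if p.1 then X p.2 else Y p.2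
  have hf : ∀ r ∈ steinbergRels K, FreeGroup.lift f r = 1 := by
    intro r hr
    rcases hr with ⟨b, t, u, rfl⟩ | ⟨b, t, u, ht, rfl⟩
    · cases b
      · simp only [map_mul, map_inv, FreeGroup.lift_apply_of, f]
        simp only [Bool.false_eq_true, if_false]
        rw [d.addY, mul_inv_cancel]
      · simp only [map_mul, map_inv, FreeGroup.lift_apply_of, f]
        simp only [if_true]
        rw [d.addX, mul_inv_cancel]
    · cases b
      · simp only [map_mul, map_inv, FreeGroup.lift_apply_of, f, Bool.not_false]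
        simp only [Bool.false_eq_true, if_false, if_true]
        have h := d.relY t u ht
        rw [MulAut.conj_apply] at h
        unfold Steinberg.W at h
        rw [h, mul_inv_cancel]
      · simp only [map_mul, map_inv, FreeGroup.lift_apply_of, f, Bool.not_true]
        simp only [Bool.false_eq_true, if_false, if_true]
        have h := d.relX t u ht
        rw [MulAut.conj_apply] at h
        unfold Steinberg.W at h
        rw [h, mul_inv_cancel]
  refine ⟨(PresentedGroup.toGroup hf).comp e.symm.toMonoidHom, ?_, ?_⟩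
  · intro a
    have h1 : e (PresentedGroup.of (true, a)) = xM a := Subtype.ext (he1 a)
    have h2 : e.symm (xM a) = PresentedGroup.of (true, a) := by
      rw [← h1, MulEquiv.symm_apply_apply]
    show PresentedGroup.toGroup hf (e.symm (xM a)) = X a
    rw [h2, PresentedGroup.toGroup.of]
    simp [f]
  · intro a
    have h1 : e (PresentedGroup.of (false, a)) = yM a := Subtype.ext (he2 a)
    have h2 : e.symm (yM a) = PresentedGroup.of (false, a) := by
      rw [← h1, MulEquiv.symm_apply_apply]
    show PresentedGroup.toGroup hf (e.symm (yM a)) = Y a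
    rw [h2, PresentedGroup.toGroup.of]
    simp [f]

end Cfsg.Agent.Lib.Helper93.SL2Pres
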