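import Mathlib
import Cfsg.Agent.Lib.Helper93.ESDouble

/-!
# The groups `QU` and `LU` of a singular subgroup (helper93)
-/

set_option autoImplicit false

namespace Cfsg.Agent.Lib.Helper93

open Cfsg Cfsg.Agent.Lib.Helper90

variable {G : Type*} [Group G]

namespace SingSetting

variable {z : G} {U : Subgroup G}

/-- `QU`: the intersection of the `Q u`. -/
def QU (U : Subgroup G) : Subgroup G := ⨅ u ∈ ((U : Set G) \ {1}), QQ u

/-- `LU`: the join of the `Q u`. -/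
def LU (U : Subgroup G) : Subgroup G := ⨆ u ∈ ((U : Set G) \ {1}), QQ u

theorem QQ_le_LU {u : G} (hu : u ∈ U) (hu1 : u ≠ 1) : QQ u ≤ LU U :=
  le_iSup₂ (f := fun u (_ : u ∈ (U : Set G) \ {1}) => QQ u) u ⟨hu, hu1⟩

theorem QU_le_QQ {u : G} (hu : u ∈ U) (hu1 : u ≠ 1) : QU U ≤ QQ u :=
  iInf₂_le (f := fun u (_ : u ∈ (U : Set G) \ {1}) => QQ u) u ⟨hu, hu1⟩

theorem U_le_QU (h : SingSetting z U) : U ≤ QU U := by
  apply le_iInf₂
  intro u hu
  exact h.U_le_QQ hu.1 hu.2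

theorem QU_le_LU (hU : U ≠ ⊥) : QU U ≤ LU U := by
  obtain ⟨a, ha⟩ := Subgroup.ne_bot_iff_exists_ne_one.mp hU
  have hu : (a : G) ∈ U := a.2
  have hu1 : (a : G) ≠ 1 := fun e => ha (Subtype.ext e)
  exact le_trans (QU_le_QQ hu hu1) (QQ_le_LU hu hu1)

theorem QQ_le_normalizer (h : SingSetting z U) {u : G} (hu : u ∈ U) (hu1 : u ≠ 1) :
    QQ u ≤ Subgroup.normalizer (U : Set G) := by
  intro g hg
  rw [Subgroup.mem_normalizer_iff]
  intro v
  constructor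
  · exact h.conj_mem_U hu hu1 hg
  · intro hv
    have := h.conj_mem_U hu hu1 (Subgroup.inv_mem _ hg) hv
    have e : g⁻¹ * (g * v * g⁻¹) * g⁻¹⁻¹ = v := by group
    rwa [e] at this

theorem LU_le_normalizer (h : SingSetting z U) : LU U ≤ Subgroup.normalizer (U : Set G) := by
  apply iSup₂_le
  intro u hu
  exact h.QQ_le_normalizer hu.1 hu.2

/-- The subgroup of the normalizer of `U` acting trivially on `QU / U`. -/
def trivOn (U : Subgroup G) : Subgroup G where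
  carrier := {g | g ∈ Subgroup.normalizer (U : Set G) ∧ ∀ x ∈ QU U, g * x * g⁻¹ * x⁻¹ ∈ U}
  one_mem' := by
    refine ⟨Subgroup.one_mem _, ?_⟩
    intro x _
    have : (1 : G) * x * 1⁻¹ * x⁻¹ = 1 := by group
    rw [this]; exact U.one_mem
  mul_mem' := by
    rintro a b ⟨haN, ha⟩ ⟨hbN, hb⟩
    refine ⟨Subgroup.mul_mem _ haN hbN, ?_⟩
    intro x hx
    have e : a * b * x * (a * b)⁻¹ * x⁻¹ = (a * (b * x * b⁻¹ * x⁻¹) * a⁻¹) * (a * x * a⁻¹ * x⁻¹) := by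
      group
    rw [e]
    exact U.mul_mem ((Subgroup.mem_normalizer_iff.mp haN _).mp (hb x hx)) (ha x hx)
  inv_mem' := by
    rintro a ⟨haN, ha⟩
    refine ⟨Subgroup.inv_mem _ haN, ?_⟩
    intro x hx
    have e : a⁻¹ * x * a⁻¹⁻¹ * x⁻¹ = a⁻¹ * (a * x * a⁻¹ * x⁻¹)⁻¹ * a⁻¹⁻¹ := by group
    rw [e]
    exact (Subgroup.mem_normalizer_iff.mp (Subgroup.inv_mem _ haN) _).mp (U.inv_mem (ha x hx))

theorem LU_le_trivOn (h : SingSetting z U) : LU U ≤ trivOn U := by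
  apply iSup₂_le
  intro u hu g hg
  refine ⟨h.QQ_le_normalizer hu.1 hu.2 hg, ?_⟩
  intro x hx
  rcases (h.es hu.1 hu.2).comm g hg x (QU_le_QQ hu.1 hu.2 hx) with h1 | h1
  · rw [h1]; exact U.one_mem
  · rw [h1]; exact hu.1

/-- `LU` acts trivially on `QU / U`. -/
theorem comm_mem_U (h : SingSetting z U) {g x : G} (hg : g ∈ LU U) (hx : x ∈ QU U) :
    g * x * g⁻¹ * x⁻¹ ∈ U :=
  (h.LU_le_trivOn hg).2 x hx

/-- For `x ∈ QU \ U` and `u ∈ U` some element of `C_{LU}(U)` conjugates `x` to `x u`. -/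
theorem exists_conj_coset [Finite G] (h : SingSetting z U) {x u : G} (hx : x ∈ QU U) (hxU : x ∉ U)
    (hu : u ∈ U) : ∃ g ∈ LU U ⊓ Subgroup.centralizer (U : Set G), g * x * g⁻¹ = x * u := by
  by_cases hu1 : u = 1
  · refine ⟨1, Subgroup.one_mem _, ?_⟩
    rw [hu1]; group
  · obtain ⟨p, hpQ, hpU, hpx⟩ := es_exists_of_notMem (h.es hu hu1) U (h.U_le_QQ hu hu1) hu
      (QU_le_QQ hu hu1 hx) hxU
    refine ⟨p, Subgroup.mem_inf.mpr ⟨QQ_le_LU hu hu1 hpQ, ?_⟩, ?_⟩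
    · rw [Subgroup.mem_centralizer_iff]
      intro a ha
      exact (hpU a ha).symm
    · rw [hpx]
      exact (QQ_commute (QU_le_QQ hu hu1 hx)).symm

end SingSetting

end Cfsg.Agent.Lib.Helper93
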