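import Mathlib
import Cfsg.Agent.Lib.Helper93.SingularL

/-!
# `LU` induces the full automorphism group on a singular subgroup `U` (helper93)
-/

set_option autoImplicit false

namespace Cfsg.Agent.Lib.Helper93

open Cfsg Cfsg.Agent.Lib.Helper90

variable {G : Type*} [Group G]

namespace SingSetting

variable {z : G} {U : Subgroup G}

/-- Adjoining one element `s ∈ U` to a subgroup `W ≤ U` of the elementary abelian `U`. -/
theorem mem_sup_zpowers_iff (h : SingSetting z U) {W : Subgroup G} (hW : W ≤ U) {s : G} (hs : s ∈ U)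
    (y : G) : y ∈ W ⊔ Subgroup.zpowers s ↔ y ∈ W ∨ y * s ∈ W := by
  constructor
  · intro hy
    let K : Subgroup G :=
      { carrier := {y | y ∈ U ∧ (y ∈ W ∨ y * s ∈ W)}
        one_mem' := ⟨U.one_mem, Or.inl W.one_mem⟩
        mul_mem' := by
          rintro a b ⟨haU, ha⟩ ⟨hbU, hb⟩
          refine ⟨U.mul_mem haU hbU, ?_⟩
          have hbs : b * s = s * b := h.comm hbU hs
          rcases ha with ha | ha <;> rcases hb with hb | hb
          · exact Or.inl (W.mul_mem ha hb)
          · right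
            have : a * b * s = a * (b * s) := by group
            rw [this]; exact W.mul_mem ha hb
          · right
            have : a * b * s = (a * s) * b := by
              calc a * b * s = a * (b * s) := by group
                _ = a * (s * b) := by rw [hbs]
                _ = (a * s) * b := by group
            rw [this]; exact W.mul_mem ha hb
          · left
            have : a * b = (a * s) * (b * s) := by
              calc a * b = a * (s * s) * b := by rw [h.hU2 s hs]; group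
                _ = (a * s) * (s * b) := by group
                _ = (a * s) * (b * s) := by rw [hbs]
            rw [this]; exact W.mul_mem ha hb
        inv_mem' := by
          rintro a ⟨haU, ha⟩
          rw [h.inv_eq haU]
          exact ⟨haU, ha⟩ }
    have hle : W ⊔ Subgroup.zpowers s ≤ K := by
      apply sup_le
      · intro w hw
        exact ⟨hW hw, Or.inl hw⟩
      · rw [Subgroup.zpowers_le]
        refine ⟨hs, Or.inr ?_⟩
        rw [h.hU2 s hs]; exact W.one_mem
    exact (hle hy).2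
  · rintro (hy | hy)
    · exact (le_sup_left : W ≤ W ⊔ Subgroup.zpowers s) hy
    · have : y = (y * s) * s⁻¹ := by group
      rw [this]
      exact Subgroup.mul_mem _ ((le_sup_left : W ≤ W ⊔ Subgroup.zpowers s) hy)
        (Subgroup.inv_mem _ ((le_sup_right : Subgroup.zpowers s ≤ W ⊔ Subgroup.zpowers s)
          (Subgroup.mem_zpowers s)))

/-- Every automorphism of `U` can be undone on `W` by conjugation with an element of `LU`. -/
def Realizes (U W : Subgroup G) : Prop :=
  ∀ φ : ↥U ≃* ↥U, ∃ g ∈ LU U, ∀ w : ↥U, (w : G) ∈ W → g * ((φ w : ↥U) : G) * g⁻¹ = (w : G)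

theorem realizes_bot : Realizes U ⊥ := by
  intro φ
  refine ⟨1, Subgroup.one_mem _, ?_⟩
  intro w hw
  rw [Subgroup.mem_bot] at hw
  have hw1 : w = 1 := Subtype.ext hw
  rw [hw1, map_one]
  simp

theorem realizes_step [Finite G] (h : SingSetting z U) {W : Subgroup G} (hW : W ≤ U)
    (hP : Realizes U W) {s : G} (hs : s ∈ U) (hsW : s ∉ W) :
    Realizes U (W ⊔ Subgroup.zpowers s) := by
  intro φ
  obtain ⟨g0, hg0L, hg0⟩ := hP φ
  have hg0N := h.LU_le_normalizer hg0L
  -- the image of `s`
  set t : G := g0 * ((φ ⟨s, hs⟩ : ↥U) : G) * g0⁻¹ with ht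
  have htU : t ∈ U := (Subgroup.mem_normalizer_iff.mp hg0N _).mp (φ ⟨s, hs⟩).2
  have htW : t ∉ W := by
    intro htW
    have e1 := hg0 ⟨t, htU⟩ htW
    have e2 : ((φ ⟨t, htU⟩ : ↥U) : G) = ((φ ⟨s, hs⟩ : ↥U) : G) := by
      have : g0 * ((φ ⟨t, htU⟩ : ↥U) : G) * g0⁻¹ = g0 * ((φ ⟨s, hs⟩ : ↥U) : G) * g0⁻¹ := by
        rw [e1]
      calc ((φ ⟨t, htU⟩ : ↥U) : G) = g0⁻¹ * (g0 * ((φ ⟨t, htU⟩ : ↥U) : G) * g0⁻¹) * g0 := by group
        _ = g0⁻¹ * (g0 * ((φ ⟨s, hs⟩ : ↥U) : G) * g0⁻¹) * g0 := by rw [this]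
        _ = ((φ ⟨s, hs⟩ : ↥U) : G) := by group
    have e3 : (⟨t, htU⟩ : ↥U) = ⟨s, hs⟩ := φ.injective (Subtype.ext e2)
    have e4 : t = s := congrArg Subtype.val e3
    exact hsW (e4 ▸ htW)
  -- find `g` fixing `W` pointwise (after `φ`) and sending `φ s` to `s`
  have hex : ∃ g ∈ LU U, (∀ w : ↥U, (w : G) ∈ W → g * ((φ w : ↥U) : G) * g⁻¹ = (w : G)) ∧
      g * ((φ ⟨s, hs⟩ : ↥U) : G) * g⁻¹ = s := by
    by_cases hts : t = s
    · exact ⟨g0, hg0L, hg0, hts⟩
    · have hcU : t * s ∈ U := U.mul_mem htU hs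
      have hc1 : t * s ≠ 1 := by
        intro e
        apply hts
        calc t = (t * s) * s⁻¹ := by group
          _ = s := by rw [e, h.inv_eq hs, one_mul]
      have hAU : W ⊔ Subgroup.zpowers (t * s) ≤ U :=
        sup_le hW (by rw [Subgroup.zpowers_le]; exact hcU)
      have htA : t ∉ W ⊔ Subgroup.zpowers (t * s) := by
        rw [h.mem_sup_zpowers_iff hW hcU]
        rintro (h1 | h1)
        · exact htW h1
        · apply hsW
          have : t * (t * s) = s := by
            calc t * (t * s) = (t * t) * s := by group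
              _ = s := by rw [h.hU2 t htU, one_mul]
          rwa [this] at h1
      obtain ⟨p, hpQ, hpA, hpt⟩ := es_exists_of_notMem (h.es hcU hc1) (W ⊔ Subgroup.zpowers (t * s))
        (le_trans hAU (h.U_le_QQ hcU hc1))
        ((le_sup_right : Subgroup.zpowers (t * s) ≤ W ⊔ Subgroup.zpowers (t * s))
          (Subgroup.mem_zpowers _))
        (h.U_le_QQ hcU hc1 htU) htA
      have hpt' : p * t * p⁻¹ = s := by
        rw [hpt]
        calc t * s * t = t * (s * t) := by group
          _ = t * (t * s) := by rw [h.comm hs htU]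
          _ = (t * t) * s := by group
          _ = s := by rw [h.hU2 t htU, one_mul]
      refine ⟨p * g0, Subgroup.mul_mem _ (QQ_le_LU hcU hc1 hpQ) hg0L, ?_, ?_⟩
      · intro w hw
        have e1 := hg0 w hw
        have hpw : p * (w : G) = (w : G) * p :=
          hpA _ ((le_sup_left : W ≤ W ⊔ Subgroup.zpowers (t * s)) hw)
        calc p * g0 * ((φ w : ↥U) : G) * (p * g0)⁻¹
            = p * (g0 * ((φ w : ↥U) : G) * g0⁻¹) * p⁻¹ := by group
          _ = p * (w : G) * p⁻¹ := by rw [e1]
          _ = (w : G) * p * p⁻¹ := by rw [hpw]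
          _ = (w : G) := by group
      · calc p * g0 * ((φ ⟨s, hs⟩ : ↥U) : G) * (p * g0)⁻¹
            = p * (g0 * ((φ ⟨s, hs⟩ : ↥U) : G) * g0⁻¹) * p⁻¹ := by group
          _ = p * t * p⁻¹ := by rw [ht]
          _ = s := hpt'
  obtain ⟨g, hgL, hgW, hgs⟩ := hex
  refine ⟨g, hgL, ?_⟩
  intro w hw
  rw [h.mem_sup_zpowers_iff hW hs] at hw
  rcases hw with hw | hw
  · exact hgW w hw
  · have hwe : w = (⟨(w : G) * s, hW hw⟩ : ↥U) * ⟨s, hs⟩ := by
      apply Subtype.ext
      show (w : G) = (w : G) * s * s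
      calc (w : G) = (w : G) * (s * s) := by rw [h.hU2 s hs, mul_one]
        _ = (w : G) * s * s := by group
    have e1 := hgW ⟨(w : G) * s, hW hw⟩ hw
    calc g * ((φ w : ↥U) : G) * g⁻¹
        = g * ((φ ((⟨(w : G) * s, hW hw⟩ : ↥U) * ⟨s, hs⟩) : ↥U) : G) * g⁻¹ := by rw [← hwe]
      _ = g * (((φ ⟨(w : G) * s, hW hw⟩ : ↥U) : G) * ((φ ⟨s, hs⟩ : ↥U) : G)) * g⁻¹ := by
          rw [map_mul]; rfl
      _ = (g * ((φ ⟨(w : G) * s, hW hw⟩ : ↥U) : G) * g⁻¹) * (g * ((φ ⟨s, hs⟩ : ↥U) : G) * g⁻¹) := by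
          group
      _ = ((w : G) * s) * s := by rw [e1, hgs]
      _ = (w : G) * (s * s) := by group
      _ = (w : G) := by rw [h.hU2 s hs, mul_one]

theorem realizes_top [Finite G] (h : SingSetting z U) : Realizes U U := by
  have key : ∀ W : Subgroup G, W ≤ U → Realizes U W → Realizes U U := by
    intro W
    induction W using WellFoundedGT.induction with
    | _ W ih =>
      intro hW hP
      by_cases hWU : W = U
      · rw [hWU] at hP; exact hP
      · have hlt : W < U := lt_of_le_of_ne hW hWU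
        obtain ⟨s, hsU, hsW⟩ := SetLike.exists_of_lt hlt
        have hW' : W ⊔ Subgroup.zpowers s ≤ U :=
          sup_le hW (by rw [Subgroup.zpowers_le]; exact hsU)
        have hlt' : W < W ⊔ Subgroup.zpowers s := by
          apply lt_of_le_of_ne le_sup_left
          intro e
          apply hsW
          rw [e]
          exact (le_sup_right : Subgroup.zpowers s ≤ W ⊔ Subgroup.zpowers s) (Subgroup.mem_zpowers s)
        exact ih _ hlt' hW' (h.realizes_step hW hP hsU hsW)
  exact key ⊥ bot_le realizes_bot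

/-- Every automorphism of the singular subgroup `U` is induced by conjugation with an element
of `LU`. -/
theorem exists_conj_eq_aut [Finite G] (h : SingSetting z U) (φ : ↥U ≃* ↥U) :
    ∃ g ∈ LU U, ∀ u : ↥U, g * (u : G) * g⁻¹ = ((φ u : ↥U) : G) := by
  obtain ⟨g, hgL, hg⟩ := h.realizes_top φ
  refine ⟨g⁻¹, Subgroup.inv_mem _ hgL, ?_⟩
  intro u
  have := hg u u.2
  calc g⁻¹ * (u : G) * g⁻¹⁻¹ = g⁻¹ * (g * ((φ u : ↥U) : G) * g⁻¹) * g⁻¹⁻¹ := by rw [this]
    _ = ((φ u : ↥U) : G) := by group

end SingSetting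

end Cfsg.Agent.Lib.Helper93
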