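/-
helper93, project SPBN (helper13's sheet, S2545): monomial kit.
Own copies of the entry formulas of [M-MUL] (names primed / own namespace), and the leaves
[M-SYMP] `perm_iota_of_mem`, [M-CONJ] `conj_monoMat_apply`, [M-DIAG] `mem_Tsp_iff`, `mem_Tsp_of_isMono`.
-/
import Mathlib
import Cfsg.Agent.Lib.Helper13.SpBN.Defs

set_option autoImplicit false

namespace Cfsg.Agent.Lib.Helper93.SpBN

open Matrix Cfsg.Agent.Lib.Helper13.SpBN

variable {m : ℕ} {F : Type*} [Field F]

/-- entry formula (own copy of [M-MUL]) -/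
theorem mul_monoMat_apply (M : Matrix (Idx m) (Idx m) F) (π : Equiv.Perm (Idx m)) (ν : Idx m → F)
    (x y : Idx m) : (M * monoMat π ν) x y = M x (π y) * ν y := by
  rw [Matrix.mul_apply]
  simp only [monoMat, Matrix.of_apply, mul_ite, mul_zero]
  rw [Finset.sum_eq_single (π y)]
  · simp
  · intro b _ hb
    simp [hb]
  · intro h
    exact absurd (Finset.mem_univ _) h

/-- entry formula (own copy of [M-MUL]) -/
theorem monoMat_mul_apply (π : Equiv.Perm (Idx m)) (ν : Idx m → F) (M : Matrix (Idx m) (Idx m) F)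
    (x y : Idx m) : (monoMat π ν * M) x y = ν (π.symm x) * M (π.symm x) y := by
  rw [Matrix.mul_apply]
  simp only [monoMat, Matrix.of_apply, ite_mul, zero_mul]
  rw [Finset.sum_eq_single (π.symm x)]
  · simp
  · intro b _ hb
    have : x ≠ π b := by
      intro e
      apply hb
      rw [e]
      simp
    simp [this]
  · intro h
    exact absurd (Finset.mem_univ _) h

theorem monoMat_apply (π : Equiv.Perm (Idx m)) (ν : Idx m → F) (x y : Idx m) :
    monoMat π ν x y = if x = π y then ν y else 0 := rfl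

theorem monoMat_apply_perm (π : Equiv.Perm (Idx m)) (ν : Idx m → F) (y : Idx m) :
    monoMat π ν (π y) y = ν y := by
  simp [monoMat_apply]

/-- the product of two monomial matrices -/
theorem monoMat_mul_monoMat (π σ : Equiv.Perm (Idx m)) (ν μ : Idx m → F) :
    monoMat π ν * monoMat σ μ = monoMat (π * σ) (fun y => ν (σ y) * μ y) := by
  ext x y
  rw [mul_monoMat_apply, monoMat_apply, monoMat_apply]
  by_cases hx : x = π (σ y)
  · rw [if_pos hx, if_pos (by rw [Equiv.Perm.mul_apply]; exact hx)]
  · rw [if_neg hx, if_neg (by rw [Equiv.Perm.mul_apply]; exact hx), zero_mul]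

theorem monoMat_one : monoMat (1 : Equiv.Perm (Idx m)) (fun _ => (1 : F)) = 1 := by
  ext x y
  rw [monoMat_apply, Matrix.one_apply, Equiv.Perm.one_apply]

/-- the inverse of a monomial matrix -/
theorem monoMat_mul_inv (π : Equiv.Perm (Idx m)) (ν : Idx m → F) (hν : ∀ y, ν y ≠ 0) :
    monoMat π ν * monoMat π⁻¹ (fun y => (ν (π⁻¹ y))⁻¹) = 1 := by
  rw [monoMat_mul_monoMat]
  rw [← monoMat_one]
  congr 1
  · simp
  · funext y
    exact mul_inv_cancel₀ (hν _)

theorem J_apply_ne_zero_iff (x y : Idx m) :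
    (Matrix.J (Fin m) F) x y ≠ 0 ↔ y = iota x := by
  rcases x with i | i <;> rcases y with j | j <;>
    simp [Matrix.J, iota, Matrix.one_apply, eq_comm]

/-- [M-SYMP] -/
theorem perm_iota_of_mem {π : Equiv.Perm (Idx m)} {ν : Idx m → F}
    (h : monoMat π ν ∈ Matrix.symplecticGroup (Fin m) F) (c : Idx m) :
    π (iota c) = iota (π c) := by
  rw [SymplecticGroup.mem_iff] at h
  have key : ∀ x y : Idx m, ν (π.symm x) * (Matrix.J (Fin m) F) (π.symm x) (π.symm y) * ν (π.symm y)
      = (Matrix.J (Fin m) F) x y := by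
    intro x y
    have h1 := congrFun (congrFun h x) y
    rw [Matrix.mul_apply] at h1
    rw [← h1]
    rw [Finset.sum_eq_single (π.symm y)]
    · rw [monoMat_mul_apply, Matrix.transpose_apply, monoMat_apply]
      simp
    · intro b _ hb
      rw [Matrix.transpose_apply, monoMat_apply]
      have : y ≠ π b := by
        intro e
        apply hb
        rw [e]
        simp
      simp [this]
    · intro h'
      exact absurd (Finset.mem_univ _) h'
  have hsymm : ∀ x : Idx m, π.symm (iota x) = iota (π.symm x) := by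
    intro x
    have h2 := key x (iota x)
    have h3 : (Matrix.J (Fin m) F) x (iota x) ≠ 0 := (J_apply_ne_zero_iff x (iota x)).2 rfl
    rw [← h2] at h3
    have h4 : (Matrix.J (Fin m) F) (π.symm x) (π.symm (iota x)) ≠ 0 := by
      intro e
      apply h3
      rw [e]
      simp
    exact (J_apply_ne_zero_iff _ _).1 h4
  have := hsymm (π c)
  rw [Equiv.symm_apply_apply] at this
  rw [← this, Equiv.apply_symm_apply]

/-- [M-CONJ] -/
theorem conj_monoMat_apply (n g : SpG m F) {π : Equiv.Perm (Idx m)} {ν : Idx m → F}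
    (hν : ∀ y, ν y ≠ 0) (hn : (n : Matrix (Idx m) (Idx m) F) = monoMat π ν) (c d : Idx m) :
    ((n⁻¹ * g * n : SpG m F) : Matrix (Idx m) (Idx m) F) c d =
      (ν c)⁻¹ * ν d * (g : Matrix (Idx m) (Idx m) F) (π c) (π d) := by
  have h1 : (n : Matrix (Idx m) (Idx m) F) * ((n⁻¹ * g * n : SpG m F) : Matrix (Idx m) (Idx m) F)
      = (g : Matrix (Idx m) (Idx m) F) * (n : Matrix (Idx m) (Idx m) F) := by
    have : n * (n⁻¹ * g * n) = g * n := by group
    have h2 := congrArg (fun x : SpG m F => (x : Matrix (Idx m) (Idx m) F)) this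
    simpa using h2
  have h3 := congrFun (congrFun h1 (π c)) d
  rw [hn, monoMat_mul_apply, mul_monoMat_apply, Equiv.symm_apply_apply] at h3
  have h4 : ((n⁻¹ * g * n : SpG m F) : Matrix (Idx m) (Idx m) F) c d
      = (ν c)⁻¹ * (ν c * ((n⁻¹ * g * n : SpG m F) : Matrix (Idx m) (Idx m) F) c d) := by
    rw [inv_mul_cancel_left₀ (hν c)]
  rw [h4, h3]
  ring

theorem rk_injective : Function.Injective (rk : Idx m → ℕ) := by
  intro x y hxy
  rcases x with i | i <;> rcases y with j | j <;> simp only [rk] at hxy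
  · exact congrArg _ (Fin.ext hxy)
  · have := i.2; have := j.2; omega
  · have := i.2; have := j.2; omega
  · have := i.2; have := j.2
    exact congrArg _ (Fin.ext (by omega))

/-- [M-DIAG] -/
theorem mem_Tsp_iff {g : SpG m F} :
    g ∈ Tsp m F ↔ ∀ a b : Idx m, a ≠ b → (g : Matrix (Idx m) (Idx m) F) a b = 0 := by
  constructor
  · intro hg a b hab
    have hB : BlockTriangular (g : Matrix (Idx m) (Idx m) F) rk := (Subgroup.mem_inf.1 hg).1
    have hO : BlockTriangular (g : Matrix (Idx m) (Idx m) F)ᵀ rk := (Subgroup.mem_inf.1 hg).2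
    have hne : rk a ≠ rk b := fun e => hab (rk_injective e)
    rcases lt_or_gt_of_ne hne with h | h
    · have := hO h
      rwa [Matrix.transpose_apply] at this
    · exact hB h
  · intro h
    refine Subgroup.mem_inf.2 ⟨?_, ?_⟩
    · rw [mem_Bsp]
      intro i j hij
      exact h i j (fun e => by rw [e] at hij; exact lt_irrefl _ hij)
    · rw [mem_Bop]
      intro i j hij
      rw [Matrix.transpose_apply]
      exact h j i (fun e => by rw [e] at hij; exact lt_irrefl _ hij)

/-- [M-DIAG] -/
theorem mem_Tsp_of_isMono {g : SpG m F} (hB : g ∈ Bsp m F)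
    (hg : IsMono (g : Matrix (Idx m) (Idx m) F)) : g ∈ Tsp m F := by
  obtain ⟨π, ν, hν, hgm⟩ := hg
  rw [mem_Bsp] at hB
  have hle : ∀ y : Idx m, rk (π y) ≤ rk y := by
    intro y
    by_contra hlt
    rw [not_le] at hlt
    have := hB hlt
    rw [hgm, monoMat_apply_perm] at this
    exact hν y this
  have hsum : ∑ y : Idx m, rk (π y) = ∑ y : Idx m, rk y := Equiv.sum_comp π rk
  have heq : ∀ y : Idx m, rk (π y) = rk y := by
    intro y
    exact (Finset.sum_eq_sum_iff_of_le (fun i _ => hle i)).1 hsum y (Finset.mem_univ y)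
  have hπ : ∀ y : Idx m, π y = y := fun y => rk_injective (heq y)
  rw [mem_Tsp_iff]
  intro a b hab
  rw [hgm, monoMat_apply, hπ b, if_neg hab]

end Cfsg.Agent.Lib.Helper93.SpBN
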