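/-
helper93, project SPBN (helper13's sheet, S2545): leaf [M-GRP] in `_of` form:
the elements of `N = ⟨S⟩ T` are monomial matrices, given [E-SMAT] `sRef_coe` as a hypothesis.
-/
import Mathlib
import Cfsg.Agent.Lib.Helper13.SpBN.Defs
import Cfsg.Agent.Lib.Helper93.SpBNMKit

set_option autoImplicit false

namespace Cfsg.Agent.Lib.Helper93.SpBN

open Matrix Cfsg.Agent.Lib.Helper13.SpBN

variable {m : ℕ} {F : Type*} [Field F]

theorem isMono_one : IsMono (1 : Matrix (Idx m) (Idx m) F) :=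
  ⟨1, fun _ => 1, fun _ => one_ne_zero, monoMat_one.symm⟩

theorem isMono_mul {A B : Matrix (Idx m) (Idx m) F} (hA : IsMono A) (hB : IsMono B) :
    IsMono (A * B) := by
  obtain ⟨π, ν, hν, rfl⟩ := hA
  obtain ⟨σ, μ, hμ, rfl⟩ := hB
  exact ⟨π * σ, fun y => ν (σ y) * μ y, fun y => mul_ne_zero (hν _) (hμ _), monoMat_mul_monoMat π σ ν μ⟩

theorem isMono_inv {A : Matrix (Idx m) (Idx m) F} (hA : IsMono A) : IsMono A⁻¹ := by
  obtain ⟨π, ν, hν, rfl⟩ := hA
  refine ⟨π⁻¹, fun y => (ν (π⁻¹ y))⁻¹, fun y => inv_ne_zero (hν _), ?_⟩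
  exact Matrix.inv_eq_right_inv (monoMat_mul_inv π ν hν)

/-- the monomial matrices of `Sp` form a subgroup -/
def monoSubgroup (m : ℕ) (F : Type*) [Field F] : Subgroup (SpG m F) where
  carrier := {n | IsMono (n : Matrix (Idx m) (Idx m) F)}
  mul_mem' := fun {a b} ha hb => by
    show IsMono ((a : Matrix (Idx m) (Idx m) F) * (b : Matrix (Idx m) (Idx m) F))
    exact isMono_mul ha hb
  one_mem' := by
    show IsMono (1 : Matrix (Idx m) (Idx m) F)
    exact isMono_one
  inv_mem' := fun {a} ha => by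
    show IsMono ((a⁻¹ : SpG m F) : Matrix (Idx m) (Idx m) F)
    rw [SymplecticGroup.coe_inv']
    exact isMono_inv ha

theorem mem_monoSubgroup {n : SpG m F} :
    n ∈ monoSubgroup m F ↔ IsMono (n : Matrix (Idx m) (Idx m) F) := Iff.rfl

theorem sSign_ne_zero (k : Fin m) (c : Idx m) : (sSign k c : F) ≠ 0 := by
  unfold sSign
  split_ifs <;> simp

/-- a diagonal element of `Sp` is monomial -/
theorem isMono_of_mem_Tsp {g : SpG m F} (hg : g ∈ Tsp m F) :
    IsMono (g : Matrix (Idx m) (Idx m) F) := by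
  have hd := mem_Tsp_iff.1 hg
  have hd' := mem_Tsp_iff.1 ((Tsp m F).inv_mem hg)
  refine ⟨1, fun y => (g : Matrix (Idx m) (Idx m) F) y y, ?_, ?_⟩
  · intro y hy
    have hy : (g : Matrix (Idx m) (Idx m) F) y y = 0 := hy
    have h1 : (g : Matrix (Idx m) (Idx m) F) * ((g⁻¹ : SpG m F) : Matrix (Idx m) (Idx m) F) = 1 := by
      have h0 : g * g⁻¹ = 1 := mul_inv_cancel g
      have h2 : ((g * g⁻¹ : SpG m F) : Matrix (Idx m) (Idx m) F) = ((1 : SpG m F) : Matrix (Idx m) (Idx m) F) := by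
        rw [h0]
      exact h2
    have h3 := congrFun (congrFun h1 y) y
    rw [Matrix.mul_apply, Matrix.one_apply_eq] at h3
    rw [Finset.sum_eq_single y] at h3
    · rw [hy, zero_mul] at h3
      exact zero_ne_one h3
    · intro b _ hb
      rw [hd y b (Ne.symm hb), zero_mul]
    · intro h'
      exact absurd (Finset.mem_univ _) h'
  · ext x y
    rw [monoMat_apply, Equiv.Perm.one_apply]
    by_cases hxy : x = y
    · rw [if_pos hxy, hxy]
    · rw [if_neg hxy]
      exact hd x y hxy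

/-- [M-GRP] in `_of` form: `hS` is the statement of [E-SMAT] -/
theorem isMono_of_mem_Nsp_of
    (hS : ∀ k : Fin m, ((sRef k : SpG m F) : Matrix (Idx m) (Idx m) F) = monoMat (sPerm k) (sSign k))
    {n : SpG m F} (hn : n ∈ Nsp m F) :
    IsMono (n : Matrix (Idx m) (Idx m) F) := by
  have hle : Nsp m F ≤ monoSubgroup m F := by
    refine sup_le ?_ ?_
    · rw [Subgroup.closure_le]
      rintro _ ⟨k, rfl⟩
      exact ⟨sPerm k, sSign k, sSign_ne_zero k, hS k⟩
    · intro g hg
      exact isMono_of_mem_Tsp hg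
  exact hle hn

end Cfsg.Agent.Lib.Helper93.SpBN
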