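/-
helper93, project SPBN (helper13's sheet, S2545): leaves [R-C] `conj_dichotomy` and [AX-INJ] `sRef_inj`
in `_of` form (hypothesis `hS` = the statement of [E-SMAT] `sRef_coe`).
-/
import Mathlib
import Cfsg.Agent.Lib.Helper13.SpBN.Defs
import Cfsg.Agent.Lib.Helper93.SpBNMKit
import Cfsg.Agent.Lib.Helper93.SpBNMGrpOf

set_option autoImplicit false

namespace Cfsg.Agent.Lib.Helper93.SpBN

open Matrix Cfsg.Agent.Lib.Helper13.SpBN

variable {m : ℕ} {F : Type*} [Field F]

theorem bI_of_lt (k : Fin m) (h : k.val + 1 < m) : bI k = Sum.inl ⟨k.val + 1, h⟩ := by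
  unfold bI; rw [dif_pos h]

theorem bI_of_not_lt (k : Fin m) (h : ¬ k.val + 1 < m) : bI k = Sum.inr k := by
  unfold bI; rw [dif_neg h]

/-- own copy of [E-XMAT] -/
theorem xMat_eq' (k : Fin m) (t : F) :
    xMat k t = 1 + Matrix.single (aI k) (bI k) t -
      (if k.val + 1 < m then Matrix.single (iota (bI k)) (iota (aI k)) t else 0) := by
  by_cases h : k.val + 1 < m
  · rw [if_pos h, bI_of_lt k h]
    unfold xMat
    rw [dif_pos h]
    ext x y
    rcases x with i | i <;> rcases y with j | j <;>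
      simp [aI, iota, transvection, Matrix.single, Matrix.one_apply, Matrix.fromBlocks]
    split_ifs <;> ring
  · rw [if_neg h, bI_of_not_lt k h]
    unfold xMat
    rw [dif_neg h]
    ext x y
    rcases x with i | i <;> rcases y with j | j <;>
      simp [aI, Matrix.single, Matrix.one_apply, Matrix.fromBlocks]

/-- the off-diagonal entries of `x_k(t)` outside the positions `(a,b)` and `(ιb,ιa)` vanish -/
theorem xMat_apply_eq_zero (k : Fin m) (t : F) (x y : Idx m) (hxy : x ≠ y)
    (h1 : ¬ (x = aI k ∧ y = bI k)) (h2 : ¬ (x = iota (bI k) ∧ y = iota (aI k))) :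
    xMat k t x y = 0 := by
  rw [xMat_eq']
  rw [Matrix.sub_apply, Matrix.add_apply, Matrix.one_apply_ne hxy, Matrix.single_apply,
    if_neg (fun h => h1 ⟨h.1.symm, h.2.symm⟩), zero_add]
  split_ifs
  · rw [Matrix.single_apply, if_neg (fun h => h2 ⟨h.1.symm, h.2.symm⟩), sub_zero]
  · rw [Matrix.zero_apply, sub_zero]

theorem rk_lt (z : Idx m) : rk z < 2 * m := by
  rcases z with i | i <;> simp only [rk] <;> have := i.2 <;> omega

theorem rk_iota (z : Idx m) : rk (iota z) = 2 * m - 1 - rk z := by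
  rcases z with i | i <;> simp only [rk, iota, Sum.swap_inl, Sum.swap_inr] <;> have := i.2 <;> omega

theorem iota_iota (z : Idx m) : iota (iota z) = z := by
  rcases z with i | i <;> rfl

theorem aI_ne_bI (k : Fin m) : aI k ≠ bI k := by
  by_cases h : k.val + 1 < m
  · rw [bI_of_lt k h, aI]
    intro e
    have := congrArg Fin.val (Sum.inl.inj e)
    simp at this
  · rw [bI_of_not_lt k h, aI]
    exact Sum.inl_ne_inr

/-- the basic criterion: a monomial `n` (commuting with `ι`) conjugates `x_k(t)` into `B` as soon as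
`π⁻¹ a` comes before `π⁻¹ b` -/
theorem conj_xRoot_mem_Bsp (k : Fin m) (n : SpG m F) {π : Equiv.Perm (Idx m)} {ν : Idx m → F}
    (hν : ∀ y, ν y ≠ 0) (hn : (n : Matrix (Idx m) (Idx m) F) = monoMat π ν)
    (hlt : rk (π.symm (aI k)) < rk (π.symm (bI k))) (t : F) :
    n⁻¹ * xRoot k t * n ∈ Bsp m F := by
  have hι : ∀ c, π (iota c) = iota (π c) := by
    intro c
    apply perm_iota_of_mem (ν := ν)
    rw [← hn]
    exact n.2
  rw [mem_Bsp]
  intro c d hdc
  rw [conj_monoMat_apply n (xRoot k t) hν hn c d]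
  have hcd : c ≠ d := fun e => by rw [e] at hdc; exact lt_irrefl _ hdc
  have hx : xMat k t (π c) (π d) = 0 := by
    apply xMat_apply_eq_zero
    · exact fun e => hcd (π.injective e)
    · rintro ⟨h1, h2⟩
      have hc : c = π.symm (aI k) := by rw [← h1, Equiv.symm_apply_apply]
      have hd : d = π.symm (bI k) := by rw [← h2, Equiv.symm_apply_apply]
      rw [hc, hd] at hdc
      omega
    · rintro ⟨h1, h2⟩
      have hc : iota c = π.symm (bI k) := by
        rw [Equiv.eq_symm_apply, hι, h1, iota_iota]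
      have hd : iota d = π.symm (aI k) := by
        rw [Equiv.eq_symm_apply, hι, h2, iota_iota]
      rw [← hc, ← hd, rk_iota, rk_iota] at hlt
      have := rk_lt c
      have := rk_lt d
      omega
  show (ν c)⁻¹ * ν d * xMat k t (π c) (π d) = 0
  rw [hx, mul_zero]

theorem sPerm_symm_aI (k : Fin m) : (sPerm k).symm (aI k) = bI k := by
  rw [Equiv.symm_apply_eq]
  unfold sPerm
  by_cases h : k.val + 1 < m
  · rw [if_pos h, Equiv.Perm.mul_apply]
    have h1 : Equiv.swap (iota (aI k)) (iota (bI k)) (bI k) = bI k := by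
      apply Equiv.swap_apply_of_ne_of_ne
      · rw [bI_of_lt k h, aI, iota]; simp
      · rw [bI_of_lt k h, iota]; simp
    rw [h1, Equiv.swap_apply_right]
  · rw [if_neg h, Equiv.swap_apply_right]

theorem sPerm_symm_bI (k : Fin m) : (sPerm k).symm (bI k) = aI k := by
  rw [Equiv.symm_apply_eq]
  unfold sPerm
  by_cases h : k.val + 1 < m
  · rw [if_pos h, Equiv.Perm.mul_apply]
    have h1 : Equiv.swap (iota (aI k)) (iota (bI k)) (aI k) = aI k := by
      apply Equiv.swap_apply_of_ne_of_ne
      · rw [aI, iota]; simp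
      · rw [bI_of_lt k h, aI, iota]; simp
    rw [h1, Equiv.swap_apply_left]
  · rw [if_neg h, Equiv.swap_apply_left]

/-- [R-C] in `_of` form: `hS` is the statement of [E-SMAT] -/
theorem conj_dichotomy_of
    (hS : ∀ k : Fin m, ((sRef k : SpG m F) : Matrix (Idx m) (Idx m) F) = monoMat (sPerm k) (sSign k))
    (k : Fin m) {n : SpG m F} (hn : n ∈ Nsp m F) :
    (∀ t : F, n⁻¹ * xRoot k t * n ∈ Bsp m F) ∨
      (∀ t : F, (sRef k * n)⁻¹ * xRoot k t * (sRef k * n) ∈ Bsp m F) := by
  obtain ⟨π, ν, hν, hnm⟩ := isMono_of_mem_Nsp_of hS hn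
  have hne : rk (π.symm (aI k)) ≠ rk (π.symm (bI k)) := by
    intro e
    exact aI_ne_bI k (π.symm.injective (rk_injective e))
  rcases lt_or_gt_of_ne hne with h | h
  · left
    intro t
    exact conj_xRoot_mem_Bsp k n hν hnm h t
  · right
    intro t
    have hsn : ((sRef k * n : SpG m F) : Matrix (Idx m) (Idx m) F)
        = monoMat (sPerm k * π) (fun y => sSign k (π y) * ν y) := by
      show ((sRef k : SpG m F) : Matrix (Idx m) (Idx m) F) * (n : Matrix (Idx m) (Idx m) F) = _
      rw [hS k, hnm, monoMat_mul_monoMat]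
    apply conj_xRoot_mem_Bsp k (sRef k * n) (fun y => mul_ne_zero (sSign_ne_zero k _) (hν y)) hsn
    have e1 : (sPerm k * π).symm (aI k) = π.symm (bI k) := by
      show π.symm ((sPerm k).symm (aI k)) = _
      rw [sPerm_symm_aI]
    have e2 : (sPerm k * π).symm (bI k) = π.symm (aI k) := by
      show π.symm ((sPerm k).symm (bI k)) = _
      rw [sPerm_symm_bI]
    rw [e1, e2]
    exact h

/-- [AX-INJ] in `_of` form: `hS` is the statement of [E-SMAT] -/
theorem sRef_inj_of
    (hS : ∀ k : Fin m, ((sRef k : SpG m F) : Matrix (Idx m) (Idx m) F) = monoMat (sPerm k) (sSign k))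
    {k k' : Fin m} (h : (sRef k : SpG m F)⁻¹ * sRef k' ∈ Bsp m F) : k = k' := by
  -- the element is monomial with permutation `(sPerm k)⁻¹ * sPerm k'`
  have hmono : ((((sRef k : SpG m F)⁻¹ * sRef k' : SpG m F)) : Matrix (Idx m) (Idx m) F)
      = monoMat ((sPerm k)⁻¹ * sPerm k')
          (fun y => ((sSign k ((sPerm k)⁻¹ (sPerm k' y)) : F))⁻¹ * sSign k' y) := by
    show (((sRef k : SpG m F)⁻¹ : SpG m F) : Matrix (Idx m) (Idx m) F)
      * ((sRef k' : SpG m F) : Matrix (Idx m) (Idx m) F) = _
    rw [SymplecticGroup.coe_inv', hS k, hS k',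
      Matrix.inv_eq_right_inv (monoMat_mul_inv (sPerm k) (sSign k) (sSign_ne_zero k)),
      monoMat_mul_monoMat]
  have hν : ∀ y, ((sSign k ((sPerm k)⁻¹ (sPerm k' y)) : F))⁻¹ * sSign k' y ≠ 0 :=
    fun y => mul_ne_zero (inv_ne_zero (sSign_ne_zero k _)) (sSign_ne_zero k' y)
  have hT := mem_Tsp_of_isMono h ⟨_, _, hν, hmono⟩
  rw [mem_Tsp_iff] at hT
  have hfix : ∀ y, ((sPerm k)⁻¹ * sPerm k') y = y := by
    intro y
    by_contra hy
    have := hT _ _ hy
    rw [hmono, monoMat_apply_perm] at this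
    exact hν y this
  have hperm : ∀ y, sPerm k' y = sPerm k y := by
    intro y
    have := hfix y
    rw [Equiv.Perm.mul_apply, Equiv.Perm.inv_eq_iff_eq] at this
    exact this
  -- `sPerm j` fixes `inl i` for `i < j` and moves `inl j`
  have hmove : ∀ j : Fin m, sPerm j (aI j) ≠ aI j := by
    intro j e
    have h1 : (sPerm j).symm (aI j) = aI j := by rw [Equiv.symm_apply_eq, e]
    rw [sPerm_symm_aI] at h1
    exact aI_ne_bI j h1.symm
  have hfixlt : ∀ i j : Fin m, i.val < j.val → sPerm j (aI i) = aI i := by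
    intro i j hij
    unfold sPerm
    by_cases hj : j.val + 1 < m
    · rw [if_pos hj, Equiv.Perm.mul_apply]
      have h1 : Equiv.swap (iota (aI j)) (iota (bI j)) (aI i) = aI i := by
        apply Equiv.swap_apply_of_ne_of_ne
        · rw [aI, aI, iota]; simp
        · rw [bI_of_lt j hj, aI, iota]; simp
      rw [h1]
      apply Equiv.swap_apply_of_ne_of_ne
      · rw [aI, aI]
        intro e
        have := congrArg Fin.val (Sum.inl.inj e)
        omega
      · rw [bI_of_lt j hj, aI]
        intro e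
        have := congrArg Fin.val (Sum.inl.inj e)
        simp at this
        omega
    · rw [if_neg hj]
      apply Equiv.swap_apply_of_ne_of_ne
      · rw [aI, aI]
        intro e
        have := congrArg Fin.val (Sum.inl.inj e)
        omega
      · rw [bI_of_not_lt j hj, aI]
        exact Sum.inl_ne_inr
  by_contra hkk
  have hkk' : k.val ≠ k'.val := fun e => hkk (Fin.ext e)
  rcases lt_or_gt_of_ne hkk' with hlt | hlt
  · apply hmove k
    rw [← hperm]
    exact hfixlt k k' hlt
  · apply hmove k'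
    rw [hperm]
    exact hfixlt k' k hlt

end Cfsg.Agent.Lib.Helper93.SpBN
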