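/-
helper93: project S2281 (helper53), module S2281-[CONS]: the explicit regular unipotent `uMat n F` is symplectic,
unipotent, and `(uMat, aVec)` is a good pair.
-/
import Mathlib
import Cfsg.Agent.Lib.Helper53.SpReg.Defs
import Cfsg.Agent.Lib.Helper53.SpReg.Act
import Cfsg.Agent.Lib.Helper11.SpRegGram

set_option autoImplicit false

namespace Cfsg.Agent.Lib.Helper93.SpReg

open Matrix Cfsg.Agent.Lib.Helper53.SpReg Cfsg.Agent.Lib.Helper13

variable {n : ℕ} {F : Type*} [Field F]

local notation "Vn" => Fin n ⊕ Fin n → F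
local notation "Bf" => Cfsg.sympForm n F
local notation "Spn" => Matrix.symplecticGroup (Fin n) F

/-! ### sums against the rows of `Amat`, `Dmat`, `Cmat` -/

/-- `∑_j A_{kj} f_j = f_k + f_{k+1}` -/
theorem sum_Amat_row (k : Fin n) (f : Fin n → F) :
    ∑ j, Amat n F k j * f j = f k + if h : (k : ℕ) + 1 < n then f ⟨(k : ℕ) + 1, h⟩ else 0 := by
  have hA : ∀ j : Fin n, Amat n F k j * f j =
      (if k = j then f j else 0) + (if (k : ℕ) + 1 = j then f j else 0) := by
    intro j
    unfold Amat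
    rw [Matrix.of_apply]
    by_cases h1 : k = j
    · have h2 : ¬ ((k : ℕ) + 1 = j) := by
        rw [h1]
        omega
      rw [if_pos h1, if_pos h1, if_neg h2, one_mul, add_zero]
    · by_cases h2 : (k : ℕ) + 1 = j
      · rw [if_neg h1, if_pos h2, if_neg h1, if_pos h2, one_mul, zero_add]
      · rw [if_neg h1, if_neg h2, if_neg h1, if_neg h2, zero_mul, add_zero]
  rw [Finset.sum_congr rfl (fun j _ => hA j), Finset.sum_add_distrib, Finset.sum_ite_eq,
    if_pos (Finset.mem_univ k)]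
  congr 1
  by_cases h : (k : ℕ) + 1 < n
  · rw [dif_pos h]
    rw [Finset.sum_eq_single (⟨(k : ℕ) + 1, h⟩ : Fin n)]
    · rw [if_pos rfl]
    · intro j _ hj
      rw [if_neg]
      intro h2
      apply hj
      exact Fin.ext h2.symm
    · intro hn
      exact absurd (Finset.mem_univ _) hn
  · rw [dif_neg h]
    apply Finset.sum_eq_zero
    intro j _
    rw [if_neg]
    intro h2
    apply h
    rw [h2]
    exact j.2

theorem Dmat_apply (i j : Fin n) :
    Dmat n F i j = if (j : ℕ) ≤ i then (-1) ^ ((i : ℕ) - j) else 0 := rfl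

theorem Cmat_apply (i j : Fin n) :
    Cmat n F i j = if (j : ℕ) = 0 then (-1) ^ (n + (i : ℕ)) else 0 := rfl

/-- `D Aᵀ = 1` -/
theorem Dmat_mul_Amat_transpose : Dmat n F * (Amat n F)ᵀ = 1 := by
  ext i k
  rw [Matrix.mul_apply]
  have h1 : ∀ j : Fin n, Dmat n F i j * (Amat n F)ᵀ j k = Amat n F k j * Dmat n F i j := by
    intro j
    rw [Matrix.transpose_apply, mul_comm]
  rw [Finset.sum_congr rfl (fun j _ => h1 j), sum_Amat_row k (fun j => Dmat n F i j)]
  rw [Matrix.one_apply]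
  by_cases hik : i = k
  · subst hik
    rw [if_pos rfl, Dmat_apply, if_pos le_rfl, Nat.sub_self, pow_zero]
    by_cases h : (i : ℕ) + 1 < n
    · rw [dif_pos h, Dmat_apply, if_neg (by simp), add_zero]
    · rw [dif_neg h, add_zero]
  · rw [if_neg hik]
    have hik' : (i : ℕ) ≠ k := fun h => hik (Fin.ext h)
    by_cases hlt : (k : ℕ) < i
    · have h : (k : ℕ) + 1 < n := by omega
      rw [dif_pos h, Dmat_apply, Dmat_apply, if_pos hlt.le, if_pos (by simpa using hlt)]
      have e : (i : ℕ) - k = ((i : ℕ) - ((k : ℕ) + 1)) + 1 := by omega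
      simp only [e, pow_succ]
      ring
    · have hgt : (i : ℕ) < k := by omega
      rw [Dmat_apply, if_neg (by omega)]
      by_cases h : (k : ℕ) + 1 < n
      · rw [dif_pos h, Dmat_apply, if_neg (by simp; omega), add_zero]
      · rw [dif_neg h, add_zero]

/-- `A Dᵀ = 1` -/
theorem Amat_mul_Dmat_transpose : Amat n F * (Dmat n F)ᵀ = 1 := by
  have := congrArg Matrix.transpose (Dmat_mul_Amat_transpose (n := n) (F := F))
  rwa [Matrix.transpose_mul, Matrix.transpose_transpose, Matrix.transpose_one] at this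

/-- `(C Dᵀ)_{ik} = (-1)^(n+i+k)` -/
theorem Cmat_mul_Dmat_transpose_apply (i k : Fin n) :
    (Cmat n F * (Dmat n F)ᵀ) i k = (-1) ^ (n + (i : ℕ) + k) := by
  have hn : 0 < n := lt_of_le_of_lt (Nat.zero_le _) i.2
  rw [Matrix.mul_apply, Finset.sum_eq_single (⟨0, hn⟩ : Fin n)]
  · rw [Cmat_apply, if_pos rfl, Matrix.transpose_apply, Dmat_apply, if_pos (Nat.zero_le _)]
    simp only [Nat.sub_zero]
    rw [← pow_add]
  · intro j _ hj
    rw [Cmat_apply, if_neg, zero_mul]
    intro h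
    apply hj
    exact Fin.ext h
  · intro hn'
    exact absurd (Finset.mem_univ _) hn'

theorem Cmat_mul_Dmat_transpose_symm :
    Cmat n F * (Dmat n F)ᵀ = Dmat n F * (Cmat n F)ᵀ := by
  have h : (Cmat n F * (Dmat n F)ᵀ)ᵀ = Dmat n F * (Cmat n F)ᵀ := by
    rw [Matrix.transpose_mul, Matrix.transpose_transpose]
  rw [← h]
  ext i k
  rw [Matrix.transpose_apply, Cmat_mul_Dmat_transpose_apply, Cmat_mul_Dmat_transpose_apply]
  congr 1
  omega

theorem uMat_mem (n : ℕ) : uMat n F ∈ Matrix.symplecticGroup (Fin n) F := by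
  rw [SymplecticGroup.mem_iff]
  unfold uMat Matrix.J
  rw [Matrix.fromBlocks_transpose, Matrix.fromBlocks_multiply, Matrix.fromBlocks_multiply]
  simp only [Matrix.mul_zero, Matrix.zero_mul, Matrix.mul_one, Matrix.mul_neg, zero_add, add_zero,
    Matrix.transpose_zero, Matrix.neg_mul]
  rw [Amat_mul_Dmat_transpose, Dmat_mul_Amat_transpose, Cmat_mul_Dmat_transpose_symm, add_neg_cancel]

/-! ### nilpotency -/

/-- a strictly upper triangular `n × n` matrix has `M ^ n = 0` (Cayley–Hamilton) -/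
theorem pow_eq_zero_of_strictUpper (M : Matrix (Fin n) (Fin n) F) (h : M.IsUpperTriangular)
    (hd : ∀ i, M i i = 0) : M ^ n = 0 := by
  have hc : M.charpoly = Polynomial.X ^ n := by
    rw [Matrix.charpoly_of_isUpperTriangular M h]
    simp [hd]
  have h2 := Matrix.aeval_self_charpoly M
  rw [hc] at h2
  simpa using h2

theorem Amat_sub_one_pow : (Amat n F - 1) ^ n = 0 := by
  apply pow_eq_zero_of_strictUpper
  · intro i j hji
    have hji' : (j : ℕ) < i := hji
    rw [Matrix.sub_apply, Matrix.one_apply, if_neg (by intro h; rw [h] at hji'; omega)]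
    unfold Amat
    rw [Matrix.of_apply, if_neg (by intro h; rw [h] at hji'; omega), if_neg (by omega), sub_zero]
  · intro i
    rw [Matrix.sub_apply, Matrix.one_apply, if_pos rfl]
    unfold Amat
    rw [Matrix.of_apply, if_pos rfl, sub_self]

theorem Dmat_sub_one_pow : (Dmat n F - 1) ^ n = 0 := by
  have h : ((Dmat n F - 1)ᵀ) ^ n = 0 := by
    apply pow_eq_zero_of_strictUpper
    · intro i j hji
      have hji' : (j : ℕ) < i := hji
      rw [Matrix.transpose_apply, Matrix.sub_apply, Matrix.one_apply,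
        if_neg (by intro h; rw [h] at hji'; omega), Dmat_apply, if_neg (by omega), sub_zero]
    · intro i
      rw [Matrix.transpose_apply, Matrix.sub_apply, Matrix.one_apply, if_pos rfl, Dmat_apply,
        if_pos le_rfl, Nat.sub_self, pow_zero, sub_self]
  rw [← Matrix.transpose_pow] at h
  have := congrArg Matrix.transpose h
  rwa [Matrix.transpose_transpose, Matrix.transpose_zero] at this

/-- powers of a block lower triangular matrix -/
theorem fromBlocks_lower_pow (N C D : Matrix (Fin n) (Fin n) F) (k : ℕ) :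
    ∃ X : Matrix (Fin n) (Fin n) F,
      (Matrix.fromBlocks N 0 C D) ^ k = Matrix.fromBlocks (N ^ k) 0 X (D ^ k) := by
  induction k with
  | zero =>
    refine ⟨0, ?_⟩
    rw [pow_zero, pow_zero, pow_zero, Matrix.fromBlocks_one]
  | succ k ih =>
    obtain ⟨X, hX⟩ := ih
    refine ⟨X * N + D ^ k * C, ?_⟩
    rw [pow_succ, hX, Matrix.fromBlocks_multiply, pow_succ, pow_succ]
    simp only [Matrix.mul_zero, Matrix.zero_mul, add_zero, zero_add]

theorem uMat_nilp (n : ℕ) : IsNilpotent (uMat n F - 1) := by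
  have e : uMat n F - 1 = Matrix.fromBlocks (Amat n F - 1) 0 (Cmat n F) (Dmat n F - 1) := by
    unfold uMat
    rw [← Matrix.fromBlocks_one, sub_eq_add_neg, Matrix.fromBlocks_neg, Matrix.fromBlocks_add, neg_zero,
      add_zero, add_zero, ← sub_eq_add_neg, ← sub_eq_add_neg]
  obtain ⟨X, hX⟩ := fromBlocks_lower_pow (Amat n F - 1) (Cmat n F) (Dmat n F - 1) n
  refine ⟨n + n, ?_⟩
  rw [e, pow_add, hX, Amat_sub_one_pow, Dmat_sub_one_pow, Matrix.fromBlocks_multiply]
  simp only [Matrix.mul_zero, Matrix.zero_mul, add_zero]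
  exact Matrix.fromBlocks_zero

/-! ### the Gram conditions -/

theorem uMat_mulVec_inl (v : Vn) (i : Fin n) :
    (uMat n F *ᵥ v) (Sum.inl i) =
      v (Sum.inl i) + if h : (i : ℕ) + 1 < n then v (Sum.inl ⟨(i : ℕ) + 1, h⟩) else 0 := by
  unfold uMat
  rw [Matrix.fromBlocks_mulVec, Sum.elim_inl, Matrix.zero_mulVec, add_zero, Matrix.mulVec, dotProduct,
    sum_Amat_row i (fun j => (v ∘ Sum.inl) j)]
  rfl

theorem uMat_mulVec_inr (hn : 0 < n) (v : Vn) (hv : ∀ j, v (Sum.inr j) = 0) (i : Fin n) :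
    (uMat n F *ᵥ v) (Sum.inr i) = (-1) ^ (n + (i : ℕ)) * v (Sum.inl ⟨0, hn⟩) := by
  unfold uMat
  have h0 : v ∘ Sum.inr = 0 := by
    funext j
    exact hv j
  rw [Matrix.fromBlocks_mulVec, Sum.elim_inr, h0, Matrix.mulVec_zero, add_zero, Matrix.mulVec, dotProduct,
    Finset.sum_eq_single (⟨0, hn⟩ : Fin n)]
  · rw [Cmat_apply, if_pos rfl]
    rfl
  · intro j _ hj
    rw [Cmat_apply, if_neg, zero_mul]
    intro h
    apply hj
    exact Fin.ext h
  · intro hn'
    exact absurd (Finset.mem_univ _) hn'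

/-- the shape of `u^m a` for `m ≤ n - 1` -/
def Shape (m : ℕ) (v : Vn) : Prop :=
  (∀ i : Fin n, v (Sum.inr i) = 0) ∧ (∀ i : Fin n, (i : ℕ) + m + 1 < n → v (Sum.inl i) = 0) ∧
    ∀ i : Fin n, (i : ℕ) + m + 1 = n → v (Sum.inl i) = 1

theorem shape_aVec : Shape 0 (aVec n F) := by
  refine ⟨fun i => rfl, fun i hi => ?_, fun i hi => ?_⟩
  · show (if (i : ℕ) + 1 = n then (1 : F) else 0) = 0
    rw [if_neg (by omega)]
  · show (if (i : ℕ) + 1 = n then (1 : F) else 0) = 1
    rw [if_pos (by omega)]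

theorem shape_step (m : ℕ) (hm : m + 1 < n) (v : Vn) (hv : Shape m v) :
    Shape (m + 1) (uMat n F *ᵥ v) := by
  obtain ⟨h1, h2, h3⟩ := hv
  have hn : 0 < n := by omega
  refine ⟨fun i => ?_, fun i hi => ?_, fun i hi => ?_⟩
  · rw [uMat_mulVec_inr hn v h1, h2 ⟨0, hn⟩ (by simpa using hm), mul_zero]
  · have hi1 : (i : ℕ) + 1 < n := by omega
    rw [uMat_mulVec_inl, dif_pos hi1, h2 i (by omega), h2 ⟨(i : ℕ) + 1, hi1⟩ (by simp; omega), add_zero]
  · have hi1 : (i : ℕ) + 1 < n := by omega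
    rw [uMat_mulVec_inl, dif_pos hi1, h2 i (by omega), h3 ⟨(i : ℕ) + 1, hi1⟩ (by simp; omega), zero_add]

theorem shape_avec (m : ℕ) (hm : m < n) :
    Shape m (avec (⟨uMat n F, uMat_mem n⟩ : Spn) (aVec n F) (m : ℤ)) := by
  induction m with
  | zero =>
    rw [Nat.cast_zero, Cfsg.Agent.Lib.Helper11.SpReg.avec_zero]
    exact shape_aVec
  | succ m ih =>
    have h := shape_step m hm _ (ih (by omega))
    have e := Cfsg.Agent.Lib.Helper11.SpReg.avec_succ (⟨uMat n F, uMat_mem n⟩ : Spn) (aVec n F) (m : ℤ)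
    rw [Nat.cast_succ, ← e]
    exact h

theorem goodPair_uMat (hn : 1 ≤ n) : GoodPair (⟨uMat n F, uMat_mem n⟩ : Spn) (aVec n F) := by
  constructor
  · intro m _ hmn
    obtain ⟨h1, -, -⟩ := shape_avec (n := n) (F := F) m hmn
    rw [sympForm_eq_sum]
    apply Finset.sum_eq_zero
    intro i _
    rw [h1 i]
    show (0 : F) * _ - _ * 0 = 0
    ring
  · have hn0 : 0 < n := hn
    have hlt : n - 1 < n := by omega
    obtain ⟨h1, -, h3⟩ := shape_avec (n := n) (F := F) (n - 1) hlt
    have e := Cfsg.Agent.Lib.Helper11.SpReg.avec_succ (⟨uMat n F, uMat_mem n⟩ : Spn) (aVec n F)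
      ((n - 1 : ℕ) : ℤ)
    have hcast : (((n - 1 : ℕ) : ℤ) + 1) = (n : ℤ) := by
      have : ((n - 1 : ℕ) : ℤ) = (n : ℤ) - 1 := by
        rw [Nat.cast_sub hn, Nat.cast_one]
      rw [this]
      ring
    rw [hcast] at e
    rw [← e, sympForm_eq_sum, Finset.sum_eq_single (⟨n - 1, by omega⟩ : Fin n)]
    · show (0 : F) * _ - (if (n - 1) + 1 = n then (1 : F) else 0) * _ = 1
      rw [if_pos (by omega)]
      have h4 := uMat_mulVec_inr hn0 _ h1 (⟨n - 1, by omega⟩ : Fin n)
      have h5 := h3 ⟨0, hn0⟩ (by simp; omega)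
      rw [h5, mul_one] at h4
      have h6 : ((↑(⟨uMat n F, uMat_mem n⟩ : Spn) : Matrix (Fin n ⊕ Fin n) (Fin n ⊕ Fin n) F) *ᵥ
          avec (⟨uMat n F, uMat_mem n⟩ : Spn) (aVec n F) ((n - 1 : ℕ) : ℤ)) (Sum.inr ⟨n - 1, by omega⟩) =
          (-1) ^ (n + (n - 1)) := h4
      rw [h6]
      have hodd : Odd (n + (n - 1)) := by
        refine ⟨n - 1, ?_⟩
        omega
      rw [hodd.neg_one_pow]
      ring
    · intro i _ hi
      have hi' : (i : ℕ) + 1 ≠ n := by
        intro h
        apply hi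
        apply Fin.ext
        show (i : ℕ) = n - 1
        omega
      show (0 : F) * _ - (if (i : ℕ) + 1 = n then (1 : F) else 0) * _ = 0
      rw [if_neg hi']
      ring
    · intro hn'
      exact absurd (Finset.mem_univ _) hn'

end Cfsg.Agent.Lib.Helper93.SpReg
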