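import Mathlib
import Cfsg.Agent.Lib.Helper94.SPMD.Defs

/-!
# SPMD-[C-CASEB] (helper93, hedge): `card_stdPairs_le_of_aniso`

Route: `R₀ = {Q = 0}`; `V = F x₁ + F y₁ + R₀` by Chevalley-Warning (`card_R0_ge`);
`(q-1) #{Q = α} + #R₀ ≤ q^n` by scaling (`card_units_mul_le`);
for non-singular `x`: `#{y | B(x,y) = 1, Q y = β} q² ≤ 2 q^n` (`card_Y_le`, a quadratic has two roots).
-/

set_option autoImplicit false

namespace Cfsg.Agent.Lib.Helper94.SPMD.CCaseB

open Matrix Module

variable {F : Type*} [Field F] [Fintype F] {V : Type*} [AddCommGroup V] [Module F V]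

omit [Fintype F] in
theorem totalDegree_term (c : F) (i j : Fin 3) :
    (MvPolynomial.C c * (MvPolynomial.X i * MvPolynomial.X j) : MvPolynomial (Fin 3) F).totalDegree
      ≤ 2 := by
  refine (MvPolynomial.totalDegree_mul _ _).trans ?_
  rw [MvPolynomial.totalDegree_C, zero_add]
  refine (MvPolynomial.totalDegree_mul _ _).trans ?_
  rw [MvPolynomial.totalDegree_X, MvPolynomial.totalDegree_X]

/-- Chevalley–Warning for a ternary quadratic form in characteristic two -/
theorem exists_ternary_zero (h2 : (2 : F) = 0) (Q : QuadraticForm F V) (z₁ z₂ z₃ : V) :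
    ∃ a b c : F, (a ≠ 0 ∨ b ≠ 0 ∨ c ≠ 0) ∧ Q (a • z₁ + b • z₂ + c • z₃) = 0 := by
  classical
  have : CharP F 2 := CharTwo.of_one_ne_zero_of_two_eq_zero one_ne_zero h2
  let P : MvPolynomial (Fin 3) F :=
    MvPolynomial.C (Q z₁) * (MvPolynomial.X 0 * MvPolynomial.X 0) +
    MvPolynomial.C (Q z₂) * (MvPolynomial.X 1 * MvPolynomial.X 1) +
    MvPolynomial.C (Q z₃) * (MvPolynomial.X 2 * MvPolynomial.X 2) +
    MvPolynomial.C (QuadraticMap.polar Q z₁ z₂) * (MvPolynomial.X 0 * MvPolynomial.X 1) +
    MvPolynomial.C (QuadraticMap.polar Q z₁ z₃) * (MvPolynomial.X 0 * MvPolynomial.X 2) +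
    MvPolynomial.C (QuadraticMap.polar Q z₂ z₃) * (MvPolynomial.X 1 * MvPolynomial.X 2)
  have hdeg : P.totalDegree < Fintype.card (Fin 3) := by
    have : P.totalDegree ≤ 2 := by
      refine (MvPolynomial.totalDegree_add _ _).trans (max_le ?_ (totalDegree_term _ _ _))
      refine (MvPolynomial.totalDegree_add _ _).trans (max_le ?_ (totalDegree_term _ _ _))
      refine (MvPolynomial.totalDegree_add _ _).trans (max_le ?_ (totalDegree_term _ _ _))
      refine (MvPolynomial.totalDegree_add _ _).trans (max_le ?_ (totalDegree_term _ _ _))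
      refine (MvPolynomial.totalDegree_add _ _).trans (max_le ?_ (totalDegree_term _ _ _))
      exact totalDegree_term _ _ _
    simp only [Fintype.card_fin]
    omega
  have heval : ∀ w : Fin 3 → F, MvPolynomial.eval w P = Q (w 0 • z₁ + w 1 • z₂ + w 2 • z₃) := by
    intro w
    simp only [P, map_add, map_mul, MvPolynomial.eval_X, MvPolynomial.eval_C]
    rw [QuadraticMap.map_add Q, QuadraticMap.map_add Q, QuadraticMap.polar_add_left,
      QuadraticMap.map_smul, QuadraticMap.map_smul, QuadraticMap.map_smul,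
      QuadraticMap.polar_smul_left, QuadraticMap.polar_smul_right,
      QuadraticMap.polar_smul_left, QuadraticMap.polar_smul_right,
      QuadraticMap.polar_smul_left, QuadraticMap.polar_smul_right]
    simp only [smul_eq_mul]
    ring
  have hdvd := char_dvd_card_solutions 2 hdeg
  have h0 : MvPolynomial.eval (0 : Fin 3 → F) P = 0 := by
    rw [heval]
    simp
  have hpos : 0 < Fintype.card { x : Fin 3 → F // MvPolynomial.eval x P = 0 } :=
    Fintype.card_pos_iff.mpr ⟨⟨0, h0⟩⟩
  have h1lt : 1 < Fintype.card { x : Fin 3 → F // MvPolynomial.eval x P = 0 } := by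
    rcases hdvd with ⟨k, hk⟩
    omega
  obtain ⟨⟨w, hw⟩, hne⟩ := Fintype.exists_ne_of_one_lt_card h1lt ⟨0, h0⟩
  refine ⟨w 0, w 1, w 2, ?_, ?_⟩
  · by_contra hcon
    push Not at hcon
    apply hne
    apply Subtype.ext
    funext i
    fin_cases i
    · exact hcon.1
    · exact hcon.2.1
    · exact hcon.2.2
  · rw [← heval]; exact hw

section count
variable {n : ℕ}

open Classical in
/-- (I) `V = F x₁ + F y₁ + R₀` -/
theorem card_R0_ge (h2 : (2 : F) = 0) (Q : QuadraticForm F (Fin n → F))
    (hsing : ∀ x, Q x = 0 → ∀ y, QuadraticMap.polar Q x y = 0) (x₁ y₁ : Fin n → F)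
    (h1 : QuadraticMap.polar Q x₁ y₁ = 1) :
    Fintype.card F ^ n ≤ Fintype.card F ^ 2 *
      (Finset.univ.filter (fun v : Fin n → F => Q v = 0)).card := by
  have hxx : ∀ x : Fin n → F, QuadraticMap.polar Q x x = 0 := by
    intro x
    rw [QuadraticMap.polar_self, two_nsmul, ← two_mul, h2, zero_mul]
  have hsurj : Set.SurjOn (fun t : F × F × (Fin n → F) => t.1 • x₁ + t.2.1 • y₁ + t.2.2)
      ((Finset.univ ×ˢ Finset.univ ×ˢ Finset.univ.filter (fun v : Fin n → F => Q v = 0) :
        Finset (F × F × (Fin n → F))) : Set (F × F × (Fin n → F)))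
      ((Finset.univ : Finset (Fin n → F)) : Set (Fin n → F)) := by
    intro z _
    obtain ⟨a, b, c, hne, hv⟩ := exists_ternary_zero h2 Q x₁ y₁ z
    have hc : c ≠ 0 := by
      intro hc
      rw [hc, zero_smul, add_zero] at hv
      have ha : a = 0 := by
        have := hsing _ hv y₁
        rw [QuadraticMap.polar_add_left, QuadraticMap.polar_smul_left,
          QuadraticMap.polar_smul_left, h1, hxx, smul_eq_mul, smul_eq_mul, mul_one, mul_zero,
          add_zero] at this
        exact this
      have hb : b = 0 := by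
        have := hsing _ hv x₁
        rw [QuadraticMap.polar_add_left, QuadraticMap.polar_smul_left,
          QuadraticMap.polar_smul_left, hxx, QuadraticMap.polar_comm, h1, smul_eq_mul,
          smul_eq_mul, mul_one, mul_zero, zero_add] at this
        exact this
      rcases hne with h | h | h
      · exact h ha
      · exact h hb
      · exact h hc
    refine ⟨(-(c⁻¹ * a), -(c⁻¹ * b), c⁻¹ • (a • x₁ + b • y₁ + c • z)), ?_, ?_⟩
    · simp only [Finset.coe_product, Finset.coe_univ, Finset.coe_filter, Finset.mem_univ, true_and,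
        Set.mem_prod, Set.mem_univ, Set.mem_ofPred_eq]
      rw [QuadraticMap.map_smul, hv, smul_zero]
    · simp only [smul_add, smul_smul, neg_smul, inv_mul_cancel₀ hc, one_smul]
      abel
  have hle := Finset.card_le_card_of_surjOn _ hsurj
  rw [Finset.card_product, Finset.card_product, Finset.card_univ, Finset.card_univ,
    Fintype.card_fun, Fintype.card_fin] at hle
  calc Fintype.card F ^ n ≤ _ := hle
    _ = _ := by ring

open Classical in
/-- (II) scaling -/
theorem card_units_mul_le (h2 : (2 : F) = 0) (Q : QuadraticForm F (Fin n → F)) (α : F)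
    (hα : α ≠ 0) :
    (Fintype.card F - 1) * (Finset.univ.filter (fun v : Fin n → F => Q v = α)).card +
      (Finset.univ.filter (fun v : Fin n → F => Q v = 0)).card ≤ Fintype.card F ^ n := by
  have hinj : ((Finset.univ : Finset Fˣ) ×ˢ
      Finset.univ.filter (fun v : Fin n → F => Q v = α)).card ≤
      (Finset.univ.filter (fun v : Fin n → F => ¬ Q v = 0)).card := by
    apply Finset.card_le_card_of_injOn (fun t : Fˣ × (Fin n → F) => (t.1 : F) • t.2)
    · rintro ⟨c, v⟩ hcv
      simp only [Finset.coe_product, Finset.coe_univ, Finset.coe_filter, Finset.mem_univ, true_and,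
        Set.mem_prod, Set.mem_univ, Set.mem_ofPred_eq] at hcv
      simp only [Finset.coe_filter, Finset.mem_univ, true_and, Set.mem_ofPred_eq]
      rw [QuadraticMap.map_smul, hcv, smul_eq_mul]
      exact mul_ne_zero (mul_ne_zero c.ne_zero c.ne_zero) hα
    · rintro ⟨c, v⟩ hcv ⟨c', v'⟩ hcv' heq
      simp only [Finset.coe_product, Finset.coe_univ, Finset.coe_filter, Finset.mem_univ, true_and,
        Set.mem_prod, Set.mem_univ, Set.mem_ofPred_eq] at hcv hcv'
      simp only at heq
      have hQ := congrArg Q heq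
      rw [QuadraticMap.map_smul, QuadraticMap.map_smul, hcv, hcv', smul_eq_mul, smul_eq_mul] at hQ
      have hsq : (c : F) * c = c' * c' := mul_right_cancel₀ hα hQ
      have hcc : ((c : F) - c') * (c - c') = 0 := by
        have : ((c : F) - c') * (c - c') = c * c - c' * c' - (2 : F) * (c' * (c - c')) := by ring
        rw [this, hsq, h2]; ring
      have hc : (c : F) = c' := by
        rcases mul_self_eq_zero.mp hcc with h
        exact sub_eq_zero.mp h
      have hcu : c = c' := Units.ext hc
      subst hcu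
      have hv : v = v' := by
        have := congrArg (fun w => ((c⁻¹ : Fˣ) : F) • w) heq
        simpa [smul_smul] using this
      rw [hv]
  rw [Finset.card_product, Finset.card_univ, Fintype.card_units] at hinj
  have hsplit := Finset.card_filter_add_card_filter_not
    (s := (Finset.univ : Finset (Fin n → F))) (fun v : Fin n → F => Q v = 0)
  rw [Finset.card_univ, Fintype.card_fun, Fintype.card_fin] at hsplit
  omega

open Classical in
/-- (III) for `x` non-singular, at most `2 q^(n-2)` vectors `y` with `B(x,y) = 1`, `Q y = β` -/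
theorem card_Y_le (h2 : (2 : F) = 0) (Q : QuadraticForm F (Fin n → F)) (x : Fin n → F) (β : F)
    (hα : Q x ≠ 0) :
    (Finset.univ.filter (fun y : Fin n → F => QuadraticMap.polar Q x y = 1 ∧ Q y = β)).card *
      Fintype.card F ^ 2 ≤ 2 * Fintype.card F ^ n := by
  set Y := Finset.univ.filter (fun y : Fin n → F => QuadraticMap.polar Q x y = 1 ∧ Q y = β)
    with hY
  rcases Finset.eq_empty_or_nonempty Y with hemp | ⟨y₀, hy₀⟩
  · rw [hemp, Finset.card_empty, zero_mul]; exact Nat.zero_le _
  have hy₀' : QuadraticMap.polar Q x y₀ = 1 := by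
    rw [hY, Finset.mem_filter] at hy₀
    exact hy₀.2.1
  have hxx : QuadraticMap.polar Q x x = 0 := by
    rw [QuadraticMap.polar_self, two_nsmul, ← two_mul, h2, zero_mul]
  set T : Finset ((Fin n → F) × F × F) := Y ×ˢ Finset.univ ×ˢ Finset.univ with hT
  set g : (Fin n → F) × F × F → (Fin n → F) := fun e => e.1 + e.2.1 • x + e.2.2 • y₀ with hg
  have hfib : ∀ v ∈ T.image g, (T.filter fun e => g e = v).card ≤ 2 := by
    intro v _
    set t₀ : F := QuadraticMap.polar Q x v - 1 with ht₀
    set w : Fin n → F := v - t₀ • y₀ with hw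
    set p : Polynomial F := Polynomial.C (Q x) * Polynomial.X ^ 2 +
      Polynomial.C (-(QuadraticMap.polar Q w x)) * Polynomial.X + Polynomial.C (Q w - β) with hp
    have hp2 : p.natDegree = 2 := Polynomial.natDegree_quadratic hα
    have hp0 : p ≠ 0 := by
      intro h0
      rw [h0, Polynomial.natDegree_zero] at hp2
      exact absurd hp2 (by norm_num)
    -- facts about members of the fibre
    have hmem : ∀ e ∈ T.filter (fun e => g e = v),
        e.2.2 = t₀ ∧ e.1 = w - e.2.1 • x ∧ p.IsRoot e.2.1 := by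
      rintro ⟨y, c, t⟩ he
      rw [Finset.mem_filter, hT, Finset.mem_product, hY, Finset.mem_filter] at he
      obtain ⟨⟨⟨-, hy1, hyβ⟩, -⟩, hgv⟩ := he
      simp only [hg] at hgv
      have ht : t = t₀ := by
        rw [ht₀, ← hgv, QuadraticMap.polar_add_right, QuadraticMap.polar_add_right,
          QuadraticMap.polar_smul_right, QuadraticMap.polar_smul_right, hy1, hxx, hy₀']
        simp
      have hyw : y = w - c • x := by
        rw [hw, ← hgv, ht]; abel
      refine ⟨ht, hyw, ?_⟩
      simp only
      rw [Polynomial.IsRoot.def, hp]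
      simp only [Polynomial.eval_add, Polynomial.eval_mul, Polynomial.eval_C, Polynomial.eval_pow,
        Polynomial.eval_X]
      have hQy : Q y = Q w + c * c * Q x - c * QuadraticMap.polar Q w x := by
        rw [hyw, sub_eq_add_neg, ← neg_smul, QuadraticMap.map_add Q, QuadraticMap.map_smul,
          QuadraticMap.polar_smul_right, smul_eq_mul, smul_eq_mul]
        ring
      rw [hyβ] at hQy
      rw [hQy]; ring
    calc (T.filter fun e => g e = v).card ≤ p.roots.toFinset.card := by
          apply Finset.card_le_card_of_injOn (fun e => e.2.1)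
          · intro e he
            have := (hmem e he).2.2
            simp only [Finset.mem_coe, Multiset.mem_toFinset]
            exact (Polynomial.mem_roots hp0).mpr this
          · intro e he e' he' hcc
            simp only at hcc
            obtain ⟨h1, h2', -⟩ := hmem e he
            obtain ⟨h1', h2'', -⟩ := hmem e' he'
            refine Prod.ext ?_ (Prod.ext hcc ?_)
            · rw [h2', h2'', hcc]
            · rw [h1, h1']
      _ ≤ p.roots.card := Multiset.toFinset_card_le _
      _ ≤ p.natDegree := Polynomial.card_roots' p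
      _ = 2 := hp2
  have hcard := Finset.card_le_mul_card_image T 2 hfib
  have himg : (T.image g).card ≤ Fintype.card F ^ n := by
    calc (T.image g).card ≤ (Finset.univ : Finset (Fin n → F)).card :=
          Finset.card_le_card (Finset.subset_univ _)
      _ = Fintype.card F ^ n := by
          rw [Finset.card_univ, Fintype.card_fun, Fintype.card_fin]
  rw [hT, Finset.card_product, Finset.card_product, Finset.card_univ] at hcard
  calc Y.card * Fintype.card F ^ 2 = Y.card * (Fintype.card F * Fintype.card F) := by ring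
    _ ≤ 2 * (T.image g).card := hcard
    _ ≤ 2 * Fintype.card F ^ n := Nat.mul_le_mul_left _ himg

end count

theorem arith_aux (q m r N : ℕ) (hq : 2 ≤ q) (hmr : m ≤ r)
    (hII : (q - 1) * N + r ≤ m * q ^ 2) : N ≤ (q + 1) * m := by
  obtain ⟨k, rfl⟩ : ∃ k, q = k + 1 := ⟨q - 1, by omega⟩
  have hk : 1 ≤ k := by omega
  have h3 : k * N ≤ k * ((k + 1 + 1) * m) := by
    have : (k + 1 - 1) = k := by omega
    rw [this] at hII
    nlinarith
  exact Nat.le_of_mul_le_mul_left h3 (by omega)

end Cfsg.Agent.Lib.Helper94.SPMD.CCaseB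

namespace Cfsg.Agent.Lib.Helper94.SPMD

open Matrix Module

variable {F : Type*} [Field F] [Fintype F] {n : ℕ}

/-- **[C-CASEB]** Case B: every singular vector lies in the radical of the polar form -/
theorem card_stdPairs_le_of_aniso {q : ℕ} (hq : Fintype.card F = q) (h2 : (2 : F) = 0)
    (hn : 2 ≤ n) (Q : QuadraticForm F (Fin n → F))
    (hsing : ∀ x, Q x = 0 → ∀ y, QuadraticMap.polar Q x y = 0) (x₁ y₁ : Fin n → F)
    (h1 : QuadraticMap.polar Q x₁ y₁ = 1) :
    Nat.card (stdPairs Q (Q x₁) (Q y₁)) ≤ 2 * (q + 1) * q ^ (2 * (n - 2)) := by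
  classical
  subst hq
  set q := Fintype.card F with hqdef
  have hq2 : 2 ≤ q := Fintype.one_lt_card
  have hα : Q x₁ ≠ 0 := by
    intro h0
    have := hsing x₁ h0 y₁
    rw [h1] at this
    exact one_ne_zero this
  set m := q ^ (n - 2) with hm
  have hqn : q ^ n = m * q ^ 2 := by
    rw [hm, ← pow_add, Nat.sub_add_cancel hn]
  have hmpos : 0 < m := pow_pos (by omega) _
  set r := (Finset.univ.filter (fun v : Fin n → F => Q v = 0)).card with hr
  set N := (Finset.univ.filter (fun v : Fin n → F => Q v = Q x₁)).card with hN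
  have hI := CCaseB.card_R0_ge h2 Q hsing x₁ y₁ h1
  have hII := CCaseB.card_units_mul_le h2 Q (Q x₁) hα
  rw [← hqdef, ← hr] at hI
  rw [← hqdef, ← hr, ← hN] at hII
  -- `m ≤ r`
  have hmr : m ≤ r := by
    rw [hqn, mul_comm] at hI
    exact Nat.le_of_mul_le_mul_left hI (by positivity)
  -- `N ≤ (q+1) m`
  have hNle : N ≤ (q + 1) * m := by
    rw [hqn] at hII
    exact CCaseB.arith_aux q m r N hq2 hmr hII
  -- the count
  rw [Nat.card_eq_fintype_card, Fintype.card_subtype]
  set S := Finset.univ.filter (fun p : (Fin n → F) × (Fin n → F) => p ∈ stdPairs Q (Q x₁) (Q y₁))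
    with hS
  have hfib : ∀ x ∈ S.image Prod.fst, (S.filter fun p => p.1 = x).card ≤ 2 * m := by
    intro x hx
    rw [Finset.mem_image] at hx
    obtain ⟨p, hp, rfl⟩ := hx
    rw [hS, Finset.mem_filter, mem_stdPairs] at hp
    have hQp : Q p.1 ≠ 0 := by rw [hp.2.2.1]; exact hα
    have hIII := CCaseB.card_Y_le h2 Q p.1 (Q y₁) hQp
    rw [← hqdef, hqn] at hIII
    have hY : (Finset.univ.filter (fun y : Fin n → F =>
        QuadraticMap.polar Q p.1 y = 1 ∧ Q y = Q y₁)).card ≤ 2 * m := by
      have : (Finset.univ.filter (fun y : Fin n → F =>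
        QuadraticMap.polar Q p.1 y = 1 ∧ Q y = Q y₁)).card * q ^ 2 ≤ (2 * m) * q ^ 2 := by
        rw [mul_assoc]; exact hIII
      exact Nat.le_of_mul_le_mul_right this (by positivity)
    refine le_trans ?_ hY
    apply Finset.card_le_card_of_injOn Prod.snd
    · intro p' hp'
      rw [Finset.mem_coe, Finset.mem_filter, hS, Finset.mem_filter, mem_stdPairs] at hp'
      rw [Finset.mem_coe, Finset.mem_filter]
      refine ⟨Finset.mem_univ _, ?_, hp'.1.2.2.2⟩
      rw [← hp'.2]; exact hp'.1.2.1
    · intro p' hp' p'' hp'' heq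
      rw [Finset.mem_coe, Finset.mem_filter] at hp' hp''
      exact Prod.ext (hp'.2.trans hp''.2.symm) heq
  have hcard := Finset.card_le_mul_card_image S (2 * m) hfib
  have himg : (S.image Prod.fst).card ≤ N := by
    rw [hN]
    apply Finset.card_le_card
    intro x hx
    rw [Finset.mem_image] at hx
    obtain ⟨p, hp, rfl⟩ := hx
    rw [hS, Finset.mem_filter, mem_stdPairs] at hp
    rw [Finset.mem_filter]
    exact ⟨Finset.mem_univ _, hp.2.2.1⟩
  calc S.card ≤ 2 * m * (S.image Prod.fst).card := hcard
    _ ≤ 2 * m * ((q + 1) * m) := Nat.mul_le_mul_left _ (himg.trans hNle)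
    _ = 2 * (q + 1) * q ^ (2 * (n - 2)) := by
        rw [hm, mul_comm 2 (n - 2), pow_mul]; ring

end Cfsg.Agent.Lib.Helper94.SPMD
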