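import Cfsg.Agent.Lib.Helper93.S22Unique
import Cfsg.Agent.Lib.Helper93.OctadComplete

/-!
# Generic plumbing for extensions of Steiner systems

Lifting finsets of a subtype `{a // a ≠ p}` back to the ambient type, and the cardinality of the
intersection of the images of two restricted blocks.
-/

set_option autoImplicit false
set_option linter.unusedSectionVars false

namespace Cfsg.Agent.Lib.Helper93.SteinerExt
open Finset Cfsg Cfsg.Agent.Lib.Helper6 Cfsg.Agent.Lib.Helper93.S22Unique

universe u v
variable {α : Type u} [DecidableEq α]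

/-- Lift a finset of the subtype to the ambient type. -/
abbrev lift {p : α} (h : Finset {a : α // a ≠ p}) : Finset α :=
  h.map (Function.Embedding.subtype _)

theorem mem_lift {p : α} {h : Finset {a : α // a ≠ p}} {z : α} :
    z ∈ lift h ↔ ∃ hz : z ≠ p, (⟨z, hz⟩ : {a : α // a ≠ p}) ∈ h := by
  rw [Finset.mem_map]
  constructor
  · rintro ⟨w, hw, rfl⟩
    exact ⟨w.2, hw⟩
  · rintro ⟨hz, hw⟩
    exact ⟨⟨z, hz⟩, hw, rfl⟩

theorem coe_mem_lift {p : α} {h : Finset {a : α // a ≠ p}} {w : {a : α // a ≠ p}} :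
    (w : α) ∈ lift h ↔ w ∈ h := by
  rw [mem_lift]
  constructor
  · rintro ⟨_, hw⟩; exact hw
  · intro hw; exact ⟨w.2, hw⟩

theorem not_mem_lift {p : α} (h : Finset {a : α // a ≠ p}) : p ∉ lift h := by
  rw [mem_lift]
  rintro ⟨hz, _⟩
  exact hz rfl

theorem card_lift {p : α} (h : Finset {a : α // a ≠ p}) : (lift h).card = h.card :=
  Finset.card_map _

theorem res_lift {p : α} (h : Finset {a : α // a ≠ p}) : res p (lift h) = h := by
  ext w
  rw [mem_res, coe_mem_lift]

theorem lift_inter_res {p : α} (h : Finset {a : α // a ≠ p}) (o : Finset α) :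
    lift h ∩ o = lift (h ∩ res p o) := by
  ext z
  rw [Finset.mem_inter, mem_lift, mem_lift]
  constructor
  · rintro ⟨⟨hz, hw⟩, hzo⟩
    exact ⟨hz, Finset.mem_inter.mpr ⟨hw, mem_res.mpr hzo⟩⟩
  · rintro ⟨hz, hw⟩
    rw [Finset.mem_inter, mem_res] at hw
    exact ⟨⟨hz, hw.1⟩, hw.2⟩

theorem card_lift_inter {p : α} (h : Finset {a : α // a ≠ p}) (o : Finset α) :
    (lift h ∩ o).card = (h ∩ res p o).card := by
  rw [lift_inter_res, card_lift]

theorem lift_res_of_not_mem {p : α} {b : Finset α} (hp : p ∉ b) : lift (res p b) = b := by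
  ext z
  rw [mem_lift]
  constructor
  · rintro ⟨_, hw⟩
    exact mem_res.mp hw
  · intro hz
    exact ⟨fun h' => hp (h' ▸ hz), mem_res.mpr hz⟩

theorem card_image_inter_image {γ : Type u} {δ : Type v} [DecidableEq γ] [DecidableEq δ]
    (e : γ ≃ δ) (s t : Finset γ) : (s.image e ∩ t.image e).card = (s ∩ t).card := by
  rw [← Finset.image_inter _ _ e.injective, Finset.card_image_of_injective _ e.injective]

/-- The images of two restricted blocks, one of them off `p`, meet in as many points as the
blocks. -/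
theorem card_image_res_inter {δ : Type v} [DecidableEq δ] {p : α}
    (e : {a : α // a ≠ p} ≃ δ) {b c : Finset α} (hpb : p ∉ b) :
    ((res p b).image e ∩ (res p c).image e).card = (b ∩ c).card := by
  rw [card_image_inter_image, res_inter,
    card_res_of_not_mem (fun h => hpb (Finset.mem_inter.mp h).1)]

end Cfsg.Agent.Lib.Helper93.SteinerExt
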