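import Mathlib
import Cfsg.Agent.Lib.Helper29.ThreeInvGDefs

/-!
# S3117 module [TI-GAQ] (helper29's sheet): the squaring map `X/Z → Z/Z²` of a 2-group with central
squares and central involutions is an anisotropic quadratic map.
-/

set_option autoImplicit false

universe u

namespace Cfsg.Agent.Lib.Helper93.ThreeInv

open Cfsg.Agent.Lib.Helper29.ThreeInv

variable {X : Type u} [Group X]

/-- the commutator `a⁻¹ b a b⁻¹` is central when squares are central. -/
theorem comm_mem_center (h1 : SqCentral X) (a b : X) : a⁻¹ * b * a * b⁻¹ ∈ Subgroup.center X := by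
  rw [← piX_eq_zero_iff h1, piX_mul, piX_mul, piX_mul]
  have e1 : piX h1 a⁻¹ + piX h1 b + piX h1 a + piX h1 b⁻¹ =
      (piX h1 a⁻¹ + piX h1 a) + (piX h1 b + piX h1 b⁻¹) := by abel
  rw [e1, ← piX_mul, ← piX_mul, inv_mul_cancel, mul_inv_cancel, piX_one, add_zero]

/-- the commutator as an element of the centre. -/
def cZ (h1 : SqCentral X) (a b : X) : Subgroup.center X := ⟨a⁻¹ * b * a * b⁻¹, comm_mem_center h1 a b⟩

/-- the square as an element of the centre. -/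
def sqc (h1 : SqCentral X) (a : X) : Subgroup.center X := ⟨a ^ 2, h1 a⟩

theorem sqc_mul (h1 : SqCentral X) (a b : X) :
    sqc h1 (a * b) = sqc h1 a * sqc h1 b * cZ h1 a b := by
  apply Subtype.ext
  show (a * b) ^ 2 = a ^ 2 * b ^ 2 * (a⁻¹ * b * a * b⁻¹)
  have hc : b ^ 2 * (a⁻¹ * b * a * b⁻¹) = (a⁻¹ * b * a * b⁻¹) * b ^ 2 :=
    (Subgroup.mem_center_iff.mp (comm_mem_center h1 a b) (b ^ 2))
  rw [mul_assoc, hc, pow_two, pow_two, pow_two]
  group

theorem cZ_mul_left (h1 : SqCentral X) (a b w : X) :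
    cZ h1 (a * b) w = cZ h1 a w * cZ h1 b w := by
  apply Subtype.ext
  show (a * b)⁻¹ * w * (a * b) * w⁻¹ = (a⁻¹ * w * a * w⁻¹) * (b⁻¹ * w * b * w⁻¹)
  have hc : b⁻¹ * (a⁻¹ * w * a * w⁻¹) = (a⁻¹ * w * a * w⁻¹) * b⁻¹ :=
    (Subgroup.mem_center_iff.mp (comm_mem_center h1 a w) b⁻¹)
  calc (a * b)⁻¹ * w * (a * b) * w⁻¹ = (b⁻¹ * (a⁻¹ * w * a * w⁻¹)) * w * b * w⁻¹ := by group
    _ = ((a⁻¹ * w * a * w⁻¹) * b⁻¹) * w * b * w⁻¹ := by rw [hc]
    _ = (a⁻¹ * w * a * w⁻¹) * (b⁻¹ * w * b * w⁻¹) := by group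

theorem qX_piX' (h1 : SqCentral X) (x : X) : qX h1 (piX h1 x) = sigX (sqc h1 x) := qX_piX h1 x

/-- MODULE [TI-GAQ] -/
theorem aq_qX (h1 : SqCentral X) (h3 : ∀ x : X, x ^ 2 = 1 → x ∈ Subgroup.center X) :
    AQ (qX h1) where
  twoV := VX_two h1
  twoU := UX_two
  zero := by
    rw [← piX_one h1, qX_piX, sigX_eq_zero_iff]
    exact ⟨1, Subtype.ext (by simp)⟩
  aniso := by
    intro v hv
    obtain ⟨x, rfl⟩ := piX_surjective h1 v
    rw [qX_piX, sigX_eq_zero_iff] at hv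
    obtain ⟨s, hs⟩ := hv
    have hs' : (s : X) ^ 2 = x ^ 2 := by
      have := congrArg Subtype.val hs
      simpa using this
    rw [piX_eq_zero_iff]
    have hsc : ∀ g : X, g * (s : X) = (s : X) * g := fun g => Subgroup.mem_center_iff.mp s.2 g
    have hsq : (x * (s : X)⁻¹) ^ 2 = 1 := by
      have h4 : (s : X)⁻¹ * x = x * (s : X)⁻¹ := by
        have := hsc x
        calc (s : X)⁻¹ * x = (s : X)⁻¹ * (x * (s : X)) * (s : X)⁻¹ := by group
          _ = (s : X)⁻¹ * ((s : X) * x) * (s : X)⁻¹ := by rw [this]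
          _ = x * (s : X)⁻¹ := by group
      calc (x * (s : X)⁻¹) ^ 2 = x * ((s : X)⁻¹ * x) * (s : X)⁻¹ := by rw [pow_two]; group
        _ = x * (x * (s : X)⁻¹) * (s : X)⁻¹ := by rw [h4]
        _ = x ^ 2 * ((s : X) ^ 2)⁻¹ := by rw [pow_two, pow_two]; group
        _ = 1 := by rw [hs', mul_inv_cancel]
    have hmem := h3 _ hsq
    have : x = (x * (s : X)⁻¹) * (s : X) := by group
    rw [this]
    exact Subgroup.mul_mem _ hmem s.2
  seven := by
    intro a b c
    obtain ⟨x, rfl⟩ := piX_surjective h1 a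
    obtain ⟨y, rfl⟩ := piX_surjective h1 b
    obtain ⟨w, rfl⟩ := piX_surjective h1 c
    rw [← piX_mul, ← piX_mul, ← piX_mul, ← piX_mul, qX_piX', qX_piX', qX_piX', qX_piX', qX_piX',
      qX_piX', qX_piX']
    rw [sqc_mul h1 (x * y) w, sqc_mul h1 x y, sqc_mul h1 x w, sqc_mul h1 y w, cZ_mul_left]
    simp only [sigX_mul]
    set A := sigX (sqc h1 x)
    set B := sigX (sqc h1 y)
    set C := sigX (sqc h1 w)
    set D := sigX (cZ h1 x y)
    set E := sigX (cZ h1 x w)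
    set F := sigX (cZ h1 y w)
    have e : A + B + D + C + (E + F) + (A + B + D) + (A + C + E) + (B + C + F) + A + B + C =
        (A + A) + (A + A) + ((B + B) + (B + B)) + ((C + C) + (C + C)) + (D + D) + (E + E) +
          (F + F) := by abel
    rw [e]
    simp only [UX_two, add_zero]

end Cfsg.Agent.Lib.Helper93.ThreeInv
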