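import Mathlib

/-!
# Depth-first tours

A *tour* is a list of natural numbers read as moves of a depth-first walk with an explicit stack of
codes: the move `0` pops the stack; the move `x + 1` pushes the code `x / 8`, after checking (with a
Boolean function `chk`) that generator number `x % 8` leads from the code on top of the stack to it.
If the check is sound for a predicate `R` ("reachable"), every code pushed during a successful tour
satisfies `R`.
-/

set_option autoImplicit false

namespace Cfsg.Agent.Lib.Helper93

/-- Run a tour on a stack. -/
def tourRun (chk : ℕ → ℕ → ℕ → Bool) : List ℕ → List ℕ → Bool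
  | [], _ => true
  | x :: rest, st =>
    match st with
    | [] => false
    | top :: st' =>
      if x = 0 then tourRun chk rest st'
      else chk ((x - 1) % 8) top ((x - 1) / 8) &&
        tourRun chk rest (((x - 1) / 8) :: top :: st')

/-- The codes pushed by a tour. -/
def tourCodes (moves : List ℕ) : List ℕ :=
  moves.filterMap fun x => if x = 0 then none else some ((x - 1) / 8)

theorem tourRun_sound {chk : ℕ → ℕ → ℕ → Bool} {R : ℕ → Prop}
    (hchk : ∀ g a b, chk g a b = true → R a → R b) :
    ∀ (moves st : List ℕ), (∀ a ∈ st, R a) → tourRun chk moves st = true →
      ∀ b ∈ tourCodes moves, R b := by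
  intro moves
  induction moves with
  | nil => intro st _ _ b hb; simp [tourCodes] at hb
  | cons x rest ih =>
    intro st hst hrun b hb
    cases st with
    | nil => simp [tourRun] at hrun
    | cons top st' =>
      by_cases hx : x = 0
      · subst hx
        have hrun' : tourRun chk rest st' = true := by simpa [tourRun] using hrun
        have hb' : b ∈ tourCodes rest := by simpa [tourCodes] using hb
        exact ih st' (fun a ha => hst a (List.mem_cons_of_mem _ ha)) hrun' b hb'
      · have hrun' : chk ((x - 1) % 8) top ((x - 1) / 8) = true ∧
            tourRun chk rest (((x - 1) / 8) :: top :: st') = true := by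
          simpa [tourRun, hx] using hrun
        have hnew : R ((x - 1) / 8) :=
          hchk _ _ _ hrun'.1 (hst top List.mem_cons_self)
        have hb' : b = (x - 1) / 8 ∨ b ∈ tourCodes rest := by
          simpa [tourCodes, hx] using hb
        rcases hb' with rfl | hb'
        · exact hnew
        · refine ih _ ?_ hrun'.2 b hb'
          intro a ha
          rcases List.mem_cons.mp ha with rfl | ha
          · exact hnew
          · exact hst a ha

end Cfsg.Agent.Lib.Helper93
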